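import Groth.Prelude.Def_GrSeg
import Mathlib.Algebra.DirectSum.Decomposition
import Mathlib.Algebra.Module.GradedModule
import Mathlib.LinearAlgebra.TensorProduct.Basic
import Mathlib.RingTheory.GradedAlgebra.Basic
import Mathlib.RingTheory.TensorProduct.Basic
import Mathlib.RingTheory.Finiteness.Basic

/-!
# Helper library (helper98): graded modules with `AddSubgroup` pieces over a graded `k`-algebra,
diagonal projection on a tensor product, the action of `R ⊗ S` on `M ⊗ N` as a module structure.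
-/

set_option autoImplicit false
universe u
open scoped TensorProduct

namespace Groth.Agent.H98

section KStable

variable {k : Type u} [CommRing k] {R : Type u} [CommRing R] [Algebra k R]
  {M : Type u} [AddCommGroup M] [Module R M] [Module k M] [IsScalarTower k R M]
  (𝒜 : ℤ → Submodule k R) [GradedAlgebra 𝒜]
  {τ : Type*} [SetLike τ M] [AddSubgroupClass τ M]
  (ℳ : ℤ → τ) [SetLike.GradedSMul 𝒜 ℳ]

include 𝒜 in
theorem ksmul_mem (c : k) {n : ℤ} {x : M} (hx : x ∈ ℳ n) : c • x ∈ ℳ n := by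
  have h1 : (c • (1 : R)) ∈ 𝒜 0 := Submodule.smul_mem _ c (SetLike.one_mem_graded 𝒜)
  have h2 := SetLike.GradedSMul.smul_mem (A := 𝒜) (B := ℳ) h1 hx
  rw [vadd_eq_add, zero_add, smul_assoc, one_smul] at h2
  exact h2

omit [Module k M] [IsScalarTower k R M] [GradedAlgebra 𝒜] in
theorem gsmul_mem {i j : ℤ} {r : R} {x : M} (hr : r ∈ 𝒜 i) (hx : x ∈ ℳ j) :
    r • x ∈ ℳ (i + j) := by
  have h2 := SetLike.GradedSMul.smul_mem (A := 𝒜) (B := ℳ) hr hx
  rwa [vadd_eq_add] at h2

/-- The pieces of a graded module over a graded `k`-algebra, as `k`-submodules. -/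
def subPiece (n : ℤ) : Submodule k M where
  carrier := (ℳ n : Set M)
  add_mem' := add_mem
  zero_mem' := zero_mem _
  smul_mem' c _ hx := ksmul_mem 𝒜 ℳ c hx

theorem mem_subPiece {n : ℤ} {x : M} : x ∈ subPiece 𝒜 ℳ n ↔ x ∈ ℳ n := Iff.rfl

noncomputable instance subDecomp [DirectSum.Decomposition ℳ] :
    DirectSum.Decomposition (subPiece 𝒜 ℳ) :=
  { decompose' := DirectSum.decompose ℳ
    left_inv := fun _ ↦ (DirectSum.decompose ℳ).left_inv _
    right_inv := fun _ ↦ (DirectSum.decompose ℳ).right_inv _ }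

theorem subDecomp_apply [DirectSum.Decomposition ℳ] (x : M) (n : ℤ) :
    ((DirectSum.decompose (subPiece 𝒜 ℳ) x n : subPiece 𝒜 ℳ n) : M) =
      ((DirectSum.decompose ℳ x n : ℳ n) : M) := rfl

end KStable

section Proj

variable {k : Type u} [CommRing k] {M : Type u} [AddCommGroup M] [Module k M]
  (ℳ : ℤ → Submodule k M) [DirectSum.Decomposition ℳ]

/-- projection onto the `n`-th component. -/
noncomputable def gproj (n : ℤ) : M →ₗ[k] M :=
  (ℳ n).subtype ∘ₗ (DirectSum.component k ℤ (fun i => ℳ i) n) ∘ₗ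
    (DirectSum.decomposeLinearEquiv ℳ).toLinearMap

theorem gproj_apply (n : ℤ) (x : M) : gproj ℳ n x = ((DirectSum.decompose ℳ x) n : M) := rfl

theorem gproj_mem (n : ℤ) (x : M) : gproj ℳ n x ∈ ℳ n := by
  rw [gproj_apply]; exact SetLike.coe_mem _

theorem gproj_of_mem_same {n : ℤ} {x : M} (hx : x ∈ ℳ n) : gproj ℳ n x = x := by
  rw [gproj_apply, DirectSum.decompose_of_mem_same ℳ hx]

theorem gproj_of_mem_ne {m n : ℤ} {x : M} (hx : x ∈ ℳ m) (h : m ≠ n) : gproj ℳ n x = 0 := by
  rw [gproj_apply, DirectSum.decompose_of_mem_ne ℳ hx h]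

variable {N : Type u} [AddCommGroup N] [Module k N]
  (𝒩 : ℤ → Submodule k N) [DirectSum.Decomposition 𝒩]

/-- component maps `a ↦ (b ↦ a ⊗ b_n)` on the degree `n` part. -/
noncomputable def phiQ (n : ℤ) : ℳ n →ₗ[k] N →ₗ[k] M ⊗[k] N :=
  (LinearMap.lcomp k (M ⊗[k] N) (gproj 𝒩 n)) ∘ₗ (TensorProduct.mk k M N) ∘ₗ (ℳ n).subtype

/-- the bilinear map `(a, b) ↦ ∑ₙ aₙ ⊗ bₙ`. -/
noncomputable def betaQ : M →ₗ[k] N →ₗ[k] M ⊗[k] N :=
  (DirectSum.toModule k ℤ (N →ₗ[k] M ⊗[k] N) (phiQ ℳ 𝒩)) ∘ₗ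
    (DirectSum.decomposeLinearEquiv ℳ).toLinearMap

/-- the projection of `M ⊗ N` onto its diagonal part `⊕ₙ Mₙ ⊗ Nₙ`. -/
noncomputable def piQ : M ⊗[k] N →ₗ[k] M ⊗[k] N := TensorProduct.lift (betaQ ℳ 𝒩)

theorem piQ_tmul {m n : ℤ} {a : M} {b : N} (ha : a ∈ ℳ m) (hb : b ∈ 𝒩 n) :
    piQ ℳ 𝒩 (a ⊗ₜ[k] b) = if m = n then a ⊗ₜ[k] b else 0 := by
  have h1 : betaQ ℳ 𝒩 a = phiQ ℳ 𝒩 m ⟨a, ha⟩ := by
    unfold betaQ
    rw [LinearMap.comp_apply, LinearEquiv.coe_coe, DirectSum.decomposeLinearEquiv_apply,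
      DirectSum.decompose_of_mem ℳ ha, ← DirectSum.lof_eq_of k, DirectSum.toModule_lof]
  rw [piQ, TensorProduct.lift.tmul, h1]
  simp only [phiQ, LinearMap.comp_apply, LinearMap.lcomp_apply, Submodule.subtype_apply,
    TensorProduct.mk_apply]
  split_ifs with h
  · subst h; rw [gproj_of_mem_same 𝒩 hb]
  · rw [gproj_of_mem_ne 𝒩 hb (Ne.symm h), TensorProduct.tmul_zero]

theorem bihom_induction {P : M ⊗[k] N → Prop} (h0 : P 0) (hadd : ∀ x y, P x → P y → P (x + y))
    (hh : ∀ (m n : ℤ) (a : M) (b : N), a ∈ ℳ m → b ∈ 𝒩 n → P (a ⊗ₜ[k] b)) : ∀ y, P y := by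
  intro y
  induction y using TensorProduct.induction_on with
  | zero => exact h0
  | add x y hx hy => exact hadd x y hx hy
  | tmul a b =>
    refine DirectSum.Decomposition.inductionOn ℳ (motive := fun a => P (a ⊗ₜ[k] b)) ?_ ?_ ?_ a
    · rw [TensorProduct.zero_tmul]; exact h0
    · intro m a
      refine DirectSum.Decomposition.inductionOn 𝒩 (motive := fun b => P ((a : M) ⊗ₜ[k] b))
        ?_ ?_ ?_ b
      · rw [TensorProduct.tmul_zero]; exact h0
      · intro n b
        exact hh m n a b a.2 b.2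
      · intro b b' hb hb'
        rw [TensorProduct.tmul_add]; exact hadd _ _ hb hb'
    · intro a a' ha ha'
      rw [TensorProduct.add_tmul]; exact hadd _ _ ha ha'

/-- the diagonal generators. -/
def diag : Set (M ⊗[k] N) := {x | ∃ n : ℤ, ∃ a ∈ ℳ n, ∃ b ∈ 𝒩 n, x = a ⊗ₜ[k] b}

theorem piQ_eq_self_of_mem {x : M ⊗[k] N} (hx : x ∈ Submodule.span k (diag ℳ 𝒩)) :
    piQ ℳ 𝒩 x = x := by
  induction hx using Submodule.span_induction with
  | mem x hx =>
    obtain ⟨n, a, ha, b, hb, rfl⟩ := hx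
    rw [piQ_tmul ℳ 𝒩 ha hb, if_pos rfl]
  | zero => exact map_zero _
  | add x y _ _ hx hy => rw [map_add, hx, hy]
  | smul c x _ hx => rw [map_smul, hx]

theorem piQ_mem_span_diag (y : M ⊗[k] N) : piQ ℳ 𝒩 y ∈ Submodule.span k (diag ℳ 𝒩) := by
  refine bihom_induction ℳ 𝒩 (P := fun y => piQ ℳ 𝒩 y ∈ Submodule.span k (diag ℳ 𝒩)) ?_ ?_ ?_ y
  · rw [map_zero]; exact zero_mem _
  · intro x y hx hy
    rw [map_add]; exact add_mem hx hy
  · intro m n a b ha hb
    rw [piQ_tmul ℳ 𝒩 ha hb]
    by_cases h : m = n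
    · subst h
      rw [if_pos rfl]
      exact Submodule.subset_span ⟨m, a, ha, b, hb, rfl⟩
    · rw [if_neg h]; exact zero_mem _

end Proj

section Act

variable {k : Type u} [CommRing k] {R S : Type u} [CommRing R] [CommRing S] [Algebra k R]
  [Algebra k S] {M N : Type u} [AddCommGroup M] [Module R M] [Module k M] [IsScalarTower k R M]
  [AddCommGroup N] [Module S N] [Module k N] [IsScalarTower k S N]

theorem act_one (z : M ⊗[k] N) : GrSeg.act k R S M N 1 z = z := by
  induction z using TensorProduct.induction_on with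
  | zero => simp
  | add z z' hz hz' => rw [map_add, hz, hz']
  | tmul m n =>
    rw [Algebra.TensorProduct.one_def, GrSeg.act_tmul, one_smul, one_smul]

theorem act_mul (a b : R ⊗[k] S) (z : M ⊗[k] N) :
    GrSeg.act k R S M N (a * b) z = GrSeg.act k R S M N a (GrSeg.act k R S M N b z) := by
  induction z using TensorProduct.induction_on with
  | zero => simp
  | add z z' hz hz' => simp only [map_add, hz, hz']
  | tmul m n =>
    induction a using TensorProduct.induction_on with
    | zero => simp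
    | add a a' ha ha' =>
      rw [add_mul, map_add, LinearMap.add_apply, ha, ha', map_add, LinearMap.add_apply]
    | tmul r s =>
      induction b using TensorProduct.induction_on with
      | zero => simp
      | add b b' hb hb' =>
        rw [mul_add, map_add, LinearMap.add_apply, hb, hb', map_add, LinearMap.add_apply, map_add]
      | tmul r' s' =>
        rw [Algebra.TensorProduct.tmul_mul_tmul, GrSeg.act_tmul, GrSeg.act_tmul, GrSeg.act_tmul,
          mul_smul, mul_smul]

variable (k R S M N) in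
/-- `GrSeg.act` as a ring homomorphism into the endomorphism ring. -/
noncomputable def actRingHom : R ⊗[k] S →+* Module.End k (M ⊗[k] N) where
  toFun := GrSeg.act k R S M N
  map_one' := LinearMap.ext act_one
  map_mul' a b := LinearMap.ext (act_mul a b)
  map_zero' := map_zero _
  map_add' := map_add _

variable (k R S M N) in
/-- The module structure of `M ⊗ N` over `R ⊗ S` given by `GrSeg.act` (not an instance). -/
@[instance_reducible]
noncomputable def actModule : Module (R ⊗[k] S) (M ⊗[k] N) :=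
  Module.compHom (M ⊗[k] N) (actRingHom k R S M N)

theorem actModule_smul (a : R ⊗[k] S) (z : M ⊗[k] N) :
    letI := actModule k R S M N
    a • z = GrSeg.act k R S M N a z := rfl

theorem act_finite [Module.Finite R M] [Module.Finite S N] :
    @Module.Finite (R ⊗[k] S) (M ⊗[k] N) _ _ (actModule k R S M N) := by
  classical
  let _ := actModule k R S M N
  obtain ⟨sM, hsM⟩ := (Module.Finite.fg_top : (⊤ : Submodule R M).FG)
  obtain ⟨sN, hsN⟩ := (Module.Finite.fg_top : (⊤ : Submodule S N).FG)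
  refine ⟨⟨Finset.image₂ (fun m n => m ⊗ₜ[k] n) sM sN, ?_⟩⟩
  rw [eq_top_iff]
  rintro z -
  induction z using TensorProduct.induction_on with
  | zero => exact zero_mem _
  | add z z' hz hz' => exact add_mem hz hz'
  | tmul m n =>
    have hm : m ∈ Submodule.span R (sM : Set M) := by rw [hsM]; trivial
    have hn : n ∈ Submodule.span S (sN : Set N) := by rw [hsN]; trivial
    induction hm using Submodule.span_induction with
    | mem m hm =>
      induction hn using Submodule.span_induction with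
      | mem n hn =>
        exact Submodule.subset_span
          (Finset.mem_coe.mpr (Finset.mem_image₂.mpr ⟨m, hm, n, hn, rfl⟩))
      | zero => rw [TensorProduct.tmul_zero]; exact zero_mem _
      | add n n' _ _ h h' => rw [TensorProduct.tmul_add]; exact add_mem h h'
      | smul s n _ h =>
        have : m ⊗ₜ[k] (s • n) = ((1 : R) ⊗ₜ[k] s : R ⊗[k] S) • (m ⊗ₜ[k] n) := by
          change _ = GrSeg.act k R S M N _ _
          rw [GrSeg.act_tmul, one_smul]
        rw [this]; exact Submodule.smul_mem _ _ h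
    | zero => rw [TensorProduct.zero_tmul]; exact zero_mem _
    | add m m' _ _ h h' => rw [TensorProduct.add_tmul]; exact add_mem h h'
    | smul r m _ h =>
      have : (r • m) ⊗ₜ[k] n = (r ⊗ₜ[k] (1 : S) : R ⊗[k] S) • (m ⊗ₜ[k] n) := by
        change _ = GrSeg.act k R S M N _ _
        rw [GrSeg.act_tmul, one_smul]
      rw [this]; exact Submodule.smul_mem _ _ h

variable (𝒜 : ℤ → Submodule k R) [DirectSum.Decomposition 𝒜]
  (ℬ : ℤ → Submodule k S) [DirectSum.Decomposition ℬ]
  (ℳ : ℤ → Submodule k M) [DirectSum.Decomposition ℳ]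
  (𝒩 : ℤ → Submodule k N) [DirectSum.Decomposition 𝒩]

theorem piQ_act (hM : ∀ (i j : ℤ) (r : R) (x : M), r ∈ 𝒜 i → x ∈ ℳ j → r • x ∈ ℳ (i + j))
    (hN : ∀ (i j : ℤ) (s : S) (y : N), s ∈ ℬ i → y ∈ 𝒩 j → s • y ∈ 𝒩 (i + j))
    {w : M ⊗[k] N} (hw : w ∈ Submodule.span k (diag ℳ 𝒩)) (b : R ⊗[k] S) :
    piQ ℳ 𝒩 (GrSeg.act k R S M N b w) = GrSeg.act k R S M N (piQ 𝒜 ℬ b) w := by
  induction hw using Submodule.span_induction with
  | mem w hw =>
    obtain ⟨n, x, hx, y, hy, rfl⟩ := hw
    refine bihom_induction 𝒜 ℬ (P := fun b => piQ ℳ 𝒩 (GrSeg.act k R S M N b (x ⊗ₜ[k] y)) =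
      GrSeg.act k R S M N (piQ 𝒜 ℬ b) (x ⊗ₜ[k] y)) ?_ ?_ ?_ b
    · simp
    · intro b b' hb hb'
      rw [map_add, LinearMap.add_apply, map_add, hb, hb', map_add, map_add, LinearMap.add_apply]
    · intro i j r s hr hs
      rw [GrSeg.act_tmul, piQ_tmul ℳ 𝒩 (hM i n r x hr hx) (hN j n s y hs hy),
        piQ_tmul 𝒜 ℬ hr hs]
      by_cases h : i = j
      · subst h; rw [if_pos rfl, if_pos rfl, GrSeg.act_tmul]
      · rw [if_neg h, if_neg (by omega), map_zero, LinearMap.zero_apply]
  | zero => simp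
  | add w w' _ _ hw hw' => rw [map_add, map_add, hw, hw', map_add]
  | smul c w _ hw => rw [map_smul, map_smul, hw, map_smul]

end Act

end Groth.Agent.H98
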