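import Mathlib
import Groth.Agent.S0389
import Groth.Agent.H57.RelAssGen.Defs
import Groth.Agent.H51.RA_B1

/-!
# (P1) for helper57's S5872/S5873 squad: fibrewise injectivity of `M → ∏ M/Q` near the generic
point, for `⨅ Q = 0` (helper98).
-/

set_option autoImplicit false
universe u

open Groth.Agent.H57.RelAssGen
open TensorProduct

namespace Groth.Agent.H98.SU_P1

section Domain

variable {A B M : Type u} [CommRing A] [IsDomain A] [CommRing B] [Algebra A B]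
  [Algebra.FiniteType A B] [AddCommGroup M] [Module B M] [Module A M] [IsScalarTower A B M]
  [Module.Finite B M]

omit [IsDomain A] [Algebra.FiniteType A B] [Module.Finite B M] in
theorem algsmul_mem (Q : Submodule B M) (r : A) {x : M} (hx : x ∈ Q) : r • x ∈ Q := by
  rw [← algebraMap_smul B r x]
  exact Q.smul_mem _ hx

/-- two submodules: `(pM + Q₁) ∩ (pM + Q₂) ⊆ pM + Q₁ ∩ Q₂` up to a power of `a`. -/
theorem two (Q₁ Q₂ : Submodule B M) :
    ∃ a : A, a ≠ 0 ∧ ∀ (p : Ideal A) (x : M),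
      (∃ u ∈ p • (⊤ : Submodule A M), x - u ∈ Q₁) →
      (∃ u ∈ p • (⊤ : Submodule A M), x - u ∈ Q₂) →
      ∃ k : ℕ, ∃ u ∈ p • (⊤ : Submodule A M), a ^ k • x - u ∈ Q₁ ⊓ Q₂ := by
  let NB : Submodule B M := Q₁ ⊔ Q₂
  obtain ⟨a₂, ha₂, hfree₂, -, -, -⟩ := Groth.Agent.S0389.result (R := A) (S := B) (M := M ⧸ NB)
  let N : Submodule A M := NB.restrictScalars A
  have hflat : Module.Flat A (Localization.Away a₂ ⊗[A] (M ⧸ N)) := by
    haveI : Module.Flat A (Localization.Away a₂) := IsLocalization.flat _ (Submonoid.powers a₂)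
    have h1 : Module.Flat A (Localization.Away a₂ ⊗[A] (M ⧸ NB)) :=
      Module.Flat.trans A (Localization.Away a₂) _
    exact Module.Flat.of_linearEquiv
      (LinearEquiv.lTensor (Localization.Away a₂) (Submodule.Quotient.restrictScalarsEquiv A NB))
  refine ⟨a₂, ha₂, ?_⟩
  rintro p x ⟨u₁, hu₁, h₁⟩ ⟨u₂, hu₂, h₂⟩
  have hzN : u₂ - u₁ ∈ N := by
    have e : u₂ - u₁ = (x - u₁) - (x - u₂) := by abel
    rw [e]
    change _ ∈ NB
    exact sub_mem (Submodule.mem_sup_left h₁) (Submodule.mem_sup_right h₂)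
  obtain ⟨n, hn⟩ := Groth.Agent.H51.RA_B1.exists_pow_smul_mem_of_flat_quot N a₂ hflat p
    ⟨u₂ - u₁, hzN⟩ (sub_mem hu₂ hu₁)
  have hw : ∀ y ∈ p • (⊤ : Submodule A N), ∃ v₁ ∈ p • (⊤ : Submodule A M),
      ∃ v₂ ∈ p • (⊤ : Submodule A M), v₁ ∈ Q₁ ∧ v₂ ∈ Q₂ ∧ (y : M) = v₁ + v₂ := by
    intro y hy
    refine Submodule.smul_induction_on hy ?_ ?_
    · rintro r hr ⟨n', hn'⟩ _
      have hn'' : n' ∈ Q₁ ⊔ Q₂ := hn'
      obtain ⟨n₁, hn₁, n₂, hn₂, e⟩ := Submodule.mem_sup.mp hn''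
      refine ⟨r • n₁, Submodule.smul_mem_smul hr trivial, r • n₂,
        Submodule.smul_mem_smul hr trivial, algsmul_mem Q₁ r hn₁, algsmul_mem Q₂ r hn₂, ?_⟩
      change r • n' = _
      rw [← e, smul_add]
    · rintro y y' ⟨v₁, hv₁, v₂, hv₂, hq₁, hq₂, e⟩ ⟨v₁', hv₁', v₂', hv₂', hq₁', hq₂', e'⟩
      refine ⟨v₁ + v₁', add_mem hv₁ hv₁', v₂ + v₂', add_mem hv₂ hv₂', add_mem hq₁ hq₁',
        add_mem hq₂ hq₂', ?_⟩
      rw [Submodule.coe_add, e, e']
      abel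
  obtain ⟨v₁, hv₁, v₂, hv₂, hq₁, hq₂, e⟩ := hw _ hn
  have e' : a₂ ^ n • (u₂ - u₁) = v₁ + v₂ := e
  refine ⟨n, a₂ ^ n • u₁ + v₁, add_mem (Submodule.smul_mem _ _ hu₁) hv₁, ?_, ?_⟩
  · have e1 : a₂ ^ n • x - (a₂ ^ n • u₁ + v₁) = a₂ ^ n • (x - u₁) - v₁ := by
      rw [smul_sub]; abel
    rw [e1]
    exact sub_mem (algsmul_mem Q₁ _ h₁) hq₁
  · have e1 : a₂ ^ n • x - (a₂ ^ n • u₁ + v₁) = a₂ ^ n • (x - u₂) + v₂ := by
      have e2 : v₁ = a₂ ^ n • (u₂ - u₁) - v₂ := by rw [e']; abel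
      rw [e2, smul_sub, smul_sub]; abel
    rw [e1]
    exact add_mem (algsmul_mem Q₂ _ h₂) hq₂

/-- finitely many submodules. -/
theorem inter (t : Finset (Submodule B M)) :
    ∃ a : A, a ≠ 0 ∧ ∀ (p : Ideal A) (x : M),
      (∀ Q ∈ t, ∃ u ∈ p • (⊤ : Submodule A M), x - u ∈ Q) →
      ∃ k : ℕ, ∃ u ∈ p • (⊤ : Submodule A M), a ^ k • x - u ∈ t.inf id := by
  classical
  induction t using Finset.induction_on with
  | empty => exact ⟨1, one_ne_zero, fun p x _ => ⟨0, 0, zero_mem _, by simp⟩⟩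
  | insert Q t hQ ih =>
    obtain ⟨a', ha', h'⟩ := ih
    obtain ⟨a'', ha'', h''⟩ := two (A := A) Q (t.inf id)
    refine ⟨a' * a'', mul_ne_zero ha' ha'', fun p x hx => ?_⟩
    obtain ⟨k, u, hu, hk⟩ := h' p x (fun Q' hQ' => hx Q' (Finset.mem_insert_of_mem hQ'))
    obtain ⟨u₁, hu₁, h₁⟩ := hx Q (Finset.mem_insert_self _ _)
    obtain ⟨j, w, hw, hj⟩ := h'' p (a' ^ k • x)
      ⟨a' ^ k • u₁, Submodule.smul_mem _ _ hu₁, by
        rw [← smul_sub]; exact algsmul_mem Q _ h₁⟩ ⟨u, hu, hk⟩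
    refine ⟨j + k, (a' ^ j * a'' ^ k) • w, Submodule.smul_mem _ _ hw, ?_⟩
    rw [Finset.inf_insert, id]
    have e : (a' * a'') ^ (j + k) • x - (a' ^ j * a'' ^ k) • w =
        (a' ^ j * a'' ^ k) • (a'' ^ j • a' ^ k • x - w) := by
      rw [smul_sub, smul_smul, smul_smul]
      congr 2
      ring
    rw [e]
    exact algsmul_mem _ _ hj

omit [IsDomain A] [Algebra.FiniteType A B] [Module.Finite B M] [Module A M]
  [IsScalarTower A B M] in
theorem smul_top_quot (I : Ideal B) (Q : Submodule B M) :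
    I • (⊤ : Submodule B (M ⧸ Q)) = (I • (⊤ : Submodule B M)).map Q.mkQ := by
  rw [Submodule.map_smul'', Submodule.map_top, Submodule.range_mkQ]

/-- (P1) fibrewise injectivity of `M → ∏ M/Q` near the generic point, for `⨅ Q = 0`. -/
theorem exists_socAt_quotient_of_inf_eq_bot (t : Finset (Submodule B M)) (ht : t.inf id = ⊥) :
    ∃ a : A, a ≠ 0 ∧ ∀ q : Ideal B, q.IsPrime → algebraMap A B a ∉ q →
      SocAt (fibI A q) q M → ∃ Q ∈ t, SocAt (fibI A q) q (M ⧸ Q) := by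
  classical
  obtain ⟨a, ha, h⟩ := inter (A := A) t
  refine ⟨a, ha, fun q hq haq hsoc => ?_⟩
  obtain ⟨m, hm₁, hm₂⟩ := hsoc
  by_contra hcon
  push Not at hcon
  have key : ∀ Q ∈ t, ∃ s : B, s ∉ q ∧ ∃ u ∈ (fibI A q) • (⊤ : Submodule B M), s • m - u ∈ Q := by
    intro Q hQ
    by_contra hno
    push Not at hno
    apply hcon Q hQ
    refine ⟨Submodule.Quotient.mk m, ?_, ?_⟩
    · intro s hs hmem
      rw [smul_top_quot] at hmem
      obtain ⟨u, hu, hue⟩ := hmem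
      refine hno s hs u hu ?_
      have e : Q.mkQ (s • m - u) = 0 := by
        rw [map_sub, map_smul, hue]
        simp
      exact (Submodule.Quotient.mk_eq_zero Q).mp e
    · intro b hb
      obtain ⟨s, hs, hsm⟩ := hm₂ b hb
      refine ⟨s, hs, ?_⟩
      rw [smul_top_quot]
      exact ⟨(s * b) • m, hsm, rfl⟩
  choose! s hs u hu hsu using key
  have hS : (∏ Q ∈ t, s Q) ∉ q := by
    intro hmem
    obtain ⟨Q, hQ, hQq⟩ := (Ideal.IsPrime.prod_mem_iff).mp hmem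
    exact hs Q hQ hQq
  have hall : ∀ Q ∈ t, ∃ u' ∈ (q.comap (algebraMap A B)) • (⊤ : Submodule A M),
      (∏ Q ∈ t, s Q) • m - u' ∈ Q := by
    intro Q hQ
    have hSe : (∏ Q ∈ t, s Q) = (∏ Q' ∈ t.erase Q, s Q') * s Q :=
      (Finset.prod_erase_mul t s hQ).symm
    refine ⟨(∏ Q' ∈ t.erase Q, s Q') • u Q, ?_, ?_⟩
    · refine (Groth.Agent.H51.RA_B1.mem_map_smul_top_iff (B := B) _ _).mp ?_
      exact Submodule.smul_mem _ _ (hu Q hQ)
    · rw [hSe, mul_smul, ← smul_sub]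
      exact Q.smul_mem _ (hsu Q hQ)
  obtain ⟨k, u', hu', hk⟩ := h _ ((∏ Q ∈ t, s Q) • m) hall
  rw [ht, Submodule.mem_bot, sub_eq_zero] at hk
  apply hm₁ (algebraMap A B (a ^ k) * (∏ Q ∈ t, s Q))
  · intro hmem
    rcases hq.mem_or_mem hmem with h1 | h1
    · rw [map_pow] at h1
      exact haq (hq.mem_of_pow_mem _ h1)
    · exact hS h1
  · rw [mul_smul, algebraMap_smul, hk]
    exact (Groth.Agent.H51.RA_B1.mem_map_smul_top_iff (B := B) _ _).mpr hu'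

end Domain

end Groth.Agent.H98.SU_P1
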