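import Groth.Agent.H18.ProjSubDefs
import Groth.Agent.H18.ProjClosedImm
import Groth.Prelude.Def_CohB1

/-!
# (E1) for helper18's S3585 squad (helper98): the ideal `hIdeal ℐ x hx` is homogeneous and its
homogeneous elements vanish on the closed subscheme.
-/

set_option autoImplicit false
universe u
open CategoryTheory CategoryTheory.Limits AlgebraicGeometry HomogeneousIdeal
open Groth.Agent.H18 Groth.Agent.H18.ProjSub Groth.Agent.H18.Serre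

namespace Groth.Agent.H98.PSub_E1

variable {R A B : Type u} [CommRing R] [CommRing A] [Algebra R A] [CommRing B] [Algebra R B]
  {𝒜 : ℕ → Submodule R A} [GradedAlgebra 𝒜] {ℬ : ℕ → Submodule R B} [GradedAlgebra ℬ]

theorem fr_congr {g : A} (hg : g ∈ 𝒜 1) (d : ℕ) {a a' : A} (ha : a ∈ 𝒜 d) (ha' : a' ∈ 𝒜 d)
    (h : a = a') : fr 𝒜 hg d a ha = fr 𝒜 hg d a' ha' := by
  subst h; rfl

theorem fr_congr' {g : A} (hg : g ∈ 𝒜 1) {d d' : ℕ} (hd : d = d') {a a' : A} (ha : a ∈ 𝒜 d)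
    (ha' : a' ∈ 𝒜 d') (h : a = a') : fr 𝒜 hg d a ha = fr 𝒜 hg d' a' ha' := by
  subst hd; subst h; rfl

theorem fr_add {g : A} (hg : g ∈ 𝒜 1) (d : ℕ) {a a' : A} (ha : a ∈ 𝒜 d) (ha' : a' ∈ 𝒜 d) :
    fr 𝒜 hg d (a + a') (add_mem ha ha') = fr 𝒜 hg d a ha + fr 𝒜 hg d a' ha' :=
  (frac_add 𝒜 ha ha' _ _).symm

theorem fr_zero {g : A} (hg : g ∈ 𝒜 1) (d : ℕ) : fr 𝒜 hg d 0 (zero_mem _) = 0 :=
  frac_zero 𝒜 _ _

theorem fr_mul {g : A} (hg : g ∈ 𝒜 1) {j k : ℕ} {c a : A} (hc : c ∈ 𝒜 j) (ha : a ∈ 𝒜 k) :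
    fr 𝒜 hg (j + k) (c * a) (SetLike.mul_mem_graded hc ha) =
      fr 𝒜 hg j c hc * fr 𝒜 hg k a ha := by
  unfold fr
  rw [frac_mul]
  exact frac_eq_of 𝒜 _ _ _ _ _ _ (by rw [pow_add])

variable {ι : Type*} (ℐ : (Proj 𝒜).IdealSheafData) (x : ι → A) (hx : ∀ i, x i ∈ 𝒜 1)

theorem isHomogeneous_hIdeal : (hIdeal ℐ x hx).IsHomogeneous 𝒜 := by
  apply Ideal.homogeneous_span
  rintro a ⟨d, ha, -⟩
  exact ⟨d, ha⟩

/-- all homogeneous components vanish on the `i`-th chart -/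
def Q (i : ι) (a : A) : Prop :=
  ∀ d : ℕ, fr 𝒜 (hx i) d ((DirectSum.decompose 𝒜 a d : 𝒜 d) : A) (DirectSum.decompose 𝒜 a d).2 ∈
    ℐ.ideal (chartOpen 𝒜 (hx i))

theorem Q_zero (i : ι) : Q ℐ x hx i 0 := by
  intro d
  rw [fr_congr (hx i) d _ (zero_mem _) (by rw [DirectSum.decompose_zero]; rfl), fr_zero]
  exact zero_mem _

theorem Q_add (i : ι) {a b : A} (ha : Q ℐ x hx i a) (hb : Q ℐ x hx i b) : Q ℐ x hx i (a + b) := by
  intro d
  rw [fr_congr (hx i) d _ (add_mem (DirectSum.decompose 𝒜 a d).2 (DirectSum.decompose 𝒜 b d).2)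
    (by rw [DirectSum.decompose_add]; rfl),
    fr_add (hx i) d (DirectSum.decompose 𝒜 a d).2 (DirectSum.decompose 𝒜 b d).2]
  exact add_mem (ha d) (hb d)

theorem Q_sum (i : ι) {κ : Type*} (s : Finset κ) (f : κ → A) (h : ∀ k ∈ s, Q ℐ x hx i (f k)) :
    Q ℐ x hx i (∑ k ∈ s, f k) := by
  classical
  induction s using Finset.induction_on with
  | empty => rw [Finset.sum_empty]; exact Q_zero ℐ x hx i
  | insert k s hk ih =>
    rw [Finset.sum_insert hk]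
    exact Q_add ℐ x hx i (h k (Finset.mem_insert_self _ _))
      (ih fun k' hk' => h k' (Finset.mem_insert_of_mem hk'))

theorem Q_hmul (i : ι) {j : ℕ} {c : A} (hc : c ∈ 𝒜 j) {a : A} (ha : Q ℐ x hx i a) :
    Q ℐ x hx i (c * a) := by
  intro d
  by_cases hjd : j ≤ d
  · have e1 : ((DirectSum.decompose 𝒜 (c * a) d : 𝒜 d) : A) =
        c * ((DirectSum.decompose 𝒜 a (d - j) : 𝒜 (d - j)) : A) :=
      DirectSum.coe_decompose_mul_of_left_mem_of_le 𝒜 hc hjd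
    rw [fr_congr' (hx i) (Nat.add_sub_cancel' hjd).symm _
      (SetLike.mul_mem_graded hc (DirectSum.decompose 𝒜 a (d - j)).2) e1,
      fr_mul (hx i) hc (DirectSum.decompose 𝒜 a (d - j)).2]
    exact Ideal.mul_mem_left _ _ (ha (d - j))
  · have e1 : ((DirectSum.decompose 𝒜 (c * a) d : 𝒜 d) : A) = 0 :=
      DirectSum.coe_decompose_mul_of_left_mem_of_not_le 𝒜 hc hjd
    rw [fr_congr (hx i) d _ (zero_mem _) e1, fr_zero]
    exact zero_mem _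

theorem Q_mul (i : ι) (c : A) {a : A} (ha : Q ℐ x hx i a) : Q ℐ x hx i (c * a) := by
  classical
  rw [← DirectSum.sum_support_decompose 𝒜 c, Finset.sum_mul]
  exact Q_sum ℐ x hx i _ _ fun k _ => Q_hmul ℐ x hx i (DirectSum.decompose 𝒜 c k).2 ha

theorem Q_gens (i : ι) {a : A} (ha : a ∈ gens ℐ x hx) : Q ℐ x hx i a := by
  obtain ⟨e, hae, h⟩ := ha
  intro d
  by_cases hde : d = e
  · subst hde
    rw [fr_congr (hx i) d _ hae (DirectSum.decompose_of_mem_same 𝒜 hae)]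
    exact h i
  · rw [fr_congr (hx i) d _ (zero_mem _)
      (DirectSum.decompose_of_mem_ne 𝒜 hae (Ne.symm hde)), fr_zero]
    exact zero_mem _

theorem Q_of_mem (i : ι) {a : A} (h : a ∈ hIdeal ℐ x hx) : Q ℐ x hx i a := by
  refine Submodule.span_induction (p := fun a _ => Q ℐ x hx i a) ?_ ?_ ?_ ?_ h
  · intro a ha
    exact Q_gens ℐ x hx i ha
  · exact Q_zero ℐ x hx i
  · intro a b _ _ ha hb
    exact Q_add ℐ x hx i ha hb
  · intro c a _ ha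
    exact Q_mul ℐ x hx i c ha

theorem fr_mem_of_mem_hIdeal {d : ℕ} {a : A} (ha : a ∈ 𝒜 d) (h : a ∈ hIdeal ℐ x hx) (i : ι) :
    fr 𝒜 (hx i) d a ha ∈ ℐ.ideal (chartOpen 𝒜 (hx i)) := by
  have hq := Q_of_mem ℐ x hx i h d
  rwa [fr_congr (hx i) d _ ha (DirectSum.decompose_of_mem_same 𝒜 ha)] at hq

end Groth.Agent.H98.PSub_E1
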