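import Groth.Agent.H58.LCTors

/-!
# Helper library (helper98): local cohomology with support in a maximal ideal is Artinian

For a Noetherian ring `R`, a maximal ideal `I` and a finitely generated module `M`, every
`LocCoh.H I i M` is an Artinian `R`-module.  The proof is the classical one: the `I`-power torsion
of `M` has finite length; one passes to `M/Γ_I(M)`, picks a regular element `x ∈ I`, uses the long
exact sequence (helper58's `les_mod`) and Melkersson's lemma (an `x`-power torsion module whose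
`x`-socle is Artinian is Artinian).
-/

set_option autoImplicit false
universe u

open Groth.Agent.H58.LC

namespace Groth.Agent.H98.LCArt

variable {R : Type u} [CommRing R]

/-! ### Modules killed by a power of a maximal ideal -/

theorem isArtinianRing_quot_pow [IsNoetherianRing R] (I : Ideal R) [hI : I.IsMaximal] (t : ℕ) :
    IsArtinianRing (R ⧸ I ^ t) := by
  have hdim : Ring.KrullDimLE 0 (R ⧸ I ^ t) := by
    refine Ring.krullDimLE_zero_iff.mpr fun J hJ => ?_
    haveI := hJ
    have hc : (J.comap (Ideal.Quotient.mk (I ^ t))).IsPrime := Ideal.IsPrime.comap _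
    have hle : I ^ t ≤ J.comap (Ideal.Quotient.mk (I ^ t)) := by
      intro x hx
      rw [Ideal.mem_comap, Ideal.Quotient.eq_zero_iff_mem.2 hx]
      exact zero_mem _
    have hIle : I ≤ J.comap (Ideal.Quotient.mk (I ^ t)) := Ideal.IsPrime.le_of_pow_le hle
    have heq : I = J.comap (Ideal.Quotient.mk (I ^ t)) := hI.eq_of_le hc.ne_top hIle
    refine Ideal.isMaximal_of_isIntegral_of_isMaximal_comap (R := R) J ?_
    have h2 : J.comap (algebraMap R (R ⧸ I ^ t)) = I := heq.symm
    rw [h2]
    exact hI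
  exact IsNoetherianRing.isArtinianRing_of_krullDimLE_zero

theorem isArtinian_of_smul_eq_zero [IsNoetherianRing R] (I : Ideal R) [I.IsMaximal] (t : ℕ)
    (N : Type u) [AddCommGroup N] [Module R N] [Module.Finite R N]
    (h : ∀ a ∈ I ^ t, ∀ z : N, a • z = 0) : IsArtinian R N := by
  have htors : Module.IsTorsionBySet R N ((I ^ t : Ideal R) : Set R) := by
    intro z a
    exact h a.1 a.2 z
  letI : Module (R ⧸ I ^ t) N := htors.module
  haveI : IsScalarTower R (R ⧸ I ^ t) N := htors.isScalarTower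
  haveI : IsArtinianRing (R ⧸ I ^ t) := isArtinianRing_quot_pow I t
  haveI : Module.Finite (R ⧸ I ^ t) N := Module.Finite.of_restrictScalars_finite R _ _
  haveI : IsArtinian (R ⧸ I ^ t) N := isArtinian_of_fg_of_artinian'
  exact isArtinian_of_surjective_algebraMap (R := R ⧸ I ^ t) (S := R) Ideal.Quotient.mk_surjective

theorem exists_pow_kill_torsionSub [IsNoetherianRing R] (I : Ideal R) (M : Type u)
    [AddCommGroup M] [Module R M] [Module.Finite R M] :
    ∃ t : ℕ, ∀ a ∈ I ^ t, ∀ z ∈ DRing.torsionSub I M, a • z = 0 := by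
  classical
  haveI : IsNoetherian R M := isNoetherian_of_isNoetherianRing_of_finite R M
  obtain ⟨s, hs⟩ := (IsNoetherian.noetherian (DRing.torsionSub I M) : (DRing.torsionSub I M).FG)
  have hsT : ∀ z ∈ s, z ∈ DRing.torsionSub I M := fun z hz => by
    rw [← hs]
    exact Submodule.subset_span hz
  choose! n hn using
    (fun z (hz : z ∈ s) => (hsT z hz : ∃ n : ℕ, ∀ a ∈ I ^ n, a • z = 0))
  refine ⟨s.sup n, fun a ha z hz => ?_⟩
  rw [← hs] at hz
  induction hz using Submodule.span_induction with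
  | mem z hz => exact hn z hz a (Ideal.pow_le_pow_right (Finset.le_sup hz) ha)
  | zero => exact smul_zero a
  | add y z _ _ hy hz => rw [smul_add, hy, hz, add_zero]
  | smul r z _ hz => rw [smul_comm, hz, smul_zero]

theorem isArtinian_torsionSub [IsNoetherianRing R] (I : Ideal R) [I.IsMaximal] (M : Type u)
    [AddCommGroup M] [Module R M] [Module.Finite R M] :
    IsArtinian R (DRing.torsionSub I M) := by
  haveI : IsNoetherian R M := isNoetherian_of_isNoetherianRing_of_finite R M
  obtain ⟨t, ht⟩ := exists_pow_kill_torsionSub I M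
  exact isArtinian_of_smul_eq_zero I t _ (fun a ha z => Subtype.ext (ht a ha z.1 z.2))

theorem torsionSub_quot_eq_bot [IsNoetherianRing R] (I : Ideal R) (M : Type u)
    [AddCommGroup M] [Module R M] :
    DRing.torsionSub I (M ⧸ DRing.torsionSub I M) = ⊥ := by
  classical
  rw [eq_bot_iff]
  intro q hq
  obtain ⟨z, rfl⟩ := Submodule.Quotient.mk_surjective _ q
  obtain ⟨n, hn⟩ := hq
  have h1 : ∀ a ∈ I ^ n, a • z ∈ DRing.torsionSub I M := by
    intro a ha
    have h := hn a ha
    rw [← Submodule.Quotient.mk_smul, Submodule.Quotient.mk_eq_zero] at h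
    exact h
  obtain ⟨s, hs⟩ := (IsNoetherian.noetherian (I ^ n) : (I ^ n).FG)
  have hsI : ∀ a ∈ s, a ∈ I ^ n := fun a ha => by
    rw [← hs]
    exact Submodule.subset_span ha
  choose! k hk using
    (fun a (ha : a ∈ s) => (h1 a (hsI a ha) : ∃ k : ℕ, ∀ b ∈ I ^ k, b • (a • z) = 0))
  have h2 : ∀ a ∈ I ^ n, ∀ b ∈ I ^ (s.sup k), b • (a • z) = 0 := by
    intro a ha
    rw [← hs] at ha
    induction ha using Submodule.span_induction with
    | mem a ha => exact fun b hb => hk a ha b (Ideal.pow_le_pow_right (Finset.le_sup ha) hb)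
    | zero =>
      intro b _
      rw [zero_smul, smul_zero]
    | add a a' _ _ h h' =>
      intro b hb
      rw [add_smul, smul_add, h b hb, h' b hb, add_zero]
    | smul r a _ h =>
      intro b hb
      rw [smul_eq_mul, mul_smul, smul_comm b r, h b hb, smul_zero]
  have h3 : z ∈ DRing.torsionSub I M := by
    refine ⟨s.sup k + n, fun c hc => ?_⟩
    rw [pow_add] at hc
    refine Submodule.mul_induction_on hc ?_ ?_
    · intro b hb a ha
      rw [mul_smul]
      exact h2 a ha b hb
    · intro c c' h h'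
      rw [add_smul, h, h', add_zero]
  rw [Submodule.mem_bot]
  exact (Submodule.Quotient.mk_eq_zero _).2 h3

/-! ### Regular elements -/

theorem exists_regular_of_torsionSub_eq_bot [IsNoetherianRing R] (I : Ideal R) (M : Type u)
    [AddCommGroup M] [Module R M] [Module.Finite R M] (h : DRing.torsionSub I M = ⊥) :
    ∃ a ∈ I, IsSMulRegular M a := by
  by_contra hno
  have h1 : ¬ Subsingleton ((R ⧸ I) →ₗ[R] M) := by
    intro hs
    obtain ⟨r, hr, hreg⟩ := IsSMulRegular.subsingleton_linearMap_iff.mp hs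
    rw [Ideal.annihilator_quotient] at hr
    exact hno ⟨r, hr, hreg⟩
  rw [not_subsingleton_iff_nontrivial] at h1
  obtain ⟨f, hf⟩ := exists_ne (0 : (R ⧸ I) →ₗ[R] M)
  have hz : f (Ideal.Quotient.mk I 1) ∈ DRing.torsionSub I M := by
    refine ⟨1, fun a ha => ?_⟩
    rw [pow_one] at ha
    rw [← map_smul]
    have h2 : a • (Ideal.Quotient.mk I 1) = 0 := by
      rw [Algebra.smul_def, Ideal.Quotient.algebraMap_eq, ← map_mul, mul_one]
      exact Ideal.Quotient.eq_zero_iff_mem.mpr ha
    rw [h2, map_zero]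
  rw [h, Submodule.mem_bot] at hz
  apply hf
  apply LinearMap.ext
  intro q
  obtain ⟨r, rfl⟩ := Ideal.Quotient.mk_surjective q
  have h2 : Ideal.Quotient.mk I r = r • (Ideal.Quotient.mk I 1) := by
    rw [Algebra.smul_def, Ideal.Quotient.algebraMap_eq, ← map_mul, mul_one]
  rw [h2, map_smul, hz, smul_zero, LinearMap.zero_apply]

/-! ### Melkersson's lemma -/

section Melkersson

variable (x : R) (N : Type u) [AddCommGroup N] [Module R N]

theorem isArtinian_ker_pow (hker : IsArtinian R (LinearMap.ker (LinearMap.lsmul R N x))) :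
    ∀ k : ℕ, IsArtinian R (LinearMap.ker (LinearMap.lsmul R N (x ^ k))) := by
  intro k
  induction k with
  | zero =>
    have h0 : LinearMap.ker (LinearMap.lsmul R N (x ^ 0)) = ⊥ := by
      rw [eq_bot_iff]
      intro z hz
      rw [LinearMap.mem_ker, LinearMap.lsmul_apply, pow_zero, one_smul] at hz
      rw [Submodule.mem_bot]
      exact hz
    rw [h0]
    infer_instance
  | succ k ih =>
    haveI := ih
    haveI := hker
    have hle : LinearMap.ker (LinearMap.lsmul R N x) ≤
        LinearMap.ker (LinearMap.lsmul R N (x ^ (k + 1))) := by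
      intro z hz
      rw [LinearMap.mem_ker, LinearMap.lsmul_apply] at hz ⊢
      rw [pow_succ, mul_smul, hz, smul_zero]
    have hmaps : ∀ z ∈ LinearMap.ker (LinearMap.lsmul R N (x ^ (k + 1))),
        LinearMap.lsmul R N x z ∈ LinearMap.ker (LinearMap.lsmul R N (x ^ k)) := by
      intro z hz
      rw [LinearMap.mem_ker, LinearMap.lsmul_apply] at hz ⊢
      rw [LinearMap.lsmul_apply, ← mul_smul, ← pow_succ]
      exact hz
    refine isArtinian_of_range_eq_ker (Submodule.inclusion hle)
      ((LinearMap.lsmul R N x).restrict hmaps) ?_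
    ext ⟨z, hz⟩
    constructor
    · rintro ⟨⟨w, hw⟩, hwz⟩
      have hwz' : w = z := congrArg Subtype.val hwz
      subst hwz'
      rw [LinearMap.mem_ker]
      apply Subtype.ext
      exact hw
    · intro h
      rw [LinearMap.mem_ker] at h
      have h' : x • z = 0 := congrArg Subtype.val h
      exact ⟨⟨z, LinearMap.mem_ker.2 h'⟩, rfl⟩

/-- **Melkersson's lemma** (one element): a module all of whose elements are killed by a power of
`x`, and in which the elements killed by `x` form an Artinian submodule, is Artinian. -/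
theorem melkersson (htor : ∀ z : N, ∃ k : ℕ, x ^ k • z = 0)
    (hker : IsArtinian R (LinearMap.ker (LinearMap.lsmul R N x))) : IsArtinian R N := by
  classical
  rw [← monotone_stabilizes_iff_artinian]
  intro f
  obtain ⟨L, hLdef⟩ : ∃ L : ℕ → Submodule R N, ∀ n, L n = OrderDual.ofDual (f n) :=
    ⟨_, fun _ => rfl⟩
  have hL : ∀ n m, n ≤ m → L m ≤ L n := by
    intro n m hnm
    rw [hLdef, hLdef]
    exact f.monotone hnm
  suffices h : ∃ n, ∀ m, n ≤ m → L n = L m by
    obtain ⟨n, hn⟩ := h
    refine ⟨n, fun m hm => ?_⟩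
    have h1 := hn m hm
    rw [hLdef, hLdef] at h1
    exact OrderDual.ofDual.injective h1
  -- the family `Q i n = (0 :_N x) ∩ x^i L_n`, as submodules of `(0 :_N x)`
  obtain ⟨Q, hQ⟩ : ∃ Q : ℕ → ℕ → Submodule R (LinearMap.ker (LinearMap.lsmul R N x)),
      ∀ i n (w : LinearMap.ker (LinearMap.lsmul R N x)),
        w ∈ Q i n ↔ ∃ l ∈ L n, x ^ i • l = (w : N) :=
    ⟨fun i n => ((L n).map (LinearMap.lsmul R N (x ^ i))).comap
      (LinearMap.ker (LinearMap.lsmul R N x)).subtype, fun _ _ _ => Iff.rfl⟩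
  haveI := hker
  obtain ⟨P, ⟨⟨s, t⟩, rfl⟩, hmin⟩ := IsArtinian.set_has_minimal
    (Set.range fun p : ℕ × ℕ => Q p.1 p.2) ⟨_, ⟨(0, 0), rfl⟩⟩
  have hQmono : ∀ i n, s ≤ i → t ≤ n → Q i n ≤ Q s t := by
    intro i n hi hn w hw
    obtain ⟨l, hl, hlw⟩ := (hQ i n w).1 hw
    refine (hQ s t w).2 ⟨x ^ (i - s) • l, Submodule.smul_mem _ _ (hL t n hn hl), ?_⟩
    rw [← mul_smul, ← pow_add, Nat.add_sub_cancel' hi]
    exact hlw
  have hstar : ∀ i n, s ≤ i → t ≤ n → Q i n = Q s t := fun i n hi hn =>
    eq_of_le_of_not_lt (hQmono i n hi hn) (hmin _ ⟨(i, n), rfl⟩)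
  -- `x^s L_t ⊆ x^s L_n` for `n ≥ t`
  have hii : ∀ n, t ≤ n → ∀ k : ℕ, ∀ y : N, (∃ l ∈ L t, x ^ s • l = y) → x ^ k • y = 0 →
      ∃ l ∈ L n, x ^ s • l = y := by
    intro n hn k
    induction k with
    | zero =>
      rintro y - h0
      rw [pow_zero, one_smul] at h0
      exact ⟨0, zero_mem _, by rw [smul_zero, h0]⟩
    | succ k ih =>
      rintro y ⟨l, hl, rfl⟩ hk
      have hw1 : x • (x ^ k • (x ^ s • l)) = 0 := by
        rw [← mul_smul, ← pow_succ']
        exact hk
      have hwK : x ^ k • (x ^ s • l) ∈ LinearMap.ker (LinearMap.lsmul R N x) :=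
        LinearMap.mem_ker.2 hw1
      have hwQ : (⟨_, hwK⟩ : LinearMap.ker (LinearMap.lsmul R N x)) ∈ Q (s + k) t :=
        (hQ _ _ _).2 ⟨l, hl, by rw [add_comm, pow_add, mul_smul]⟩
      rw [hstar (s + k) t (Nat.le_add_right s k) le_rfl,
        ← hstar (s + k) n (Nat.le_add_right s k) hn] at hwQ
      obtain ⟨l', hl', hl'w⟩ := (hQ _ _ _).1 hwQ
      have hl'w' : x ^ (s + k) • l' = x ^ k • (x ^ s • l) := hl'w
      obtain ⟨l'', hl'', hl''eq⟩ := ih (x ^ s • l - x ^ s • l')
        ⟨l - l', sub_mem hl (hL t n hn hl'), by rw [smul_sub]⟩ (by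
          rw [smul_sub, ← hl'w', add_comm s k, pow_add, mul_smul, sub_self])
      exact ⟨l'' + l', add_mem hl'' hl', by rw [smul_add, hl''eq, sub_add_cancel]⟩
  -- the chain `L_n ∩ (0 :_N x^s)` stabilizes
  haveI := isArtinian_ker_pow x N hker s
  obtain ⟨n₀, hn₀⟩ := IsArtinian.monotone_stabilizes (R := R)
    (M := LinearMap.ker (LinearMap.lsmul R N (x ^ s)))
    ⟨fun n => OrderDual.toDual
      ((L n).comap (LinearMap.ker (LinearMap.lsmul R N (x ^ s))).subtype),
      fun n m hnm => Submodule.comap_mono (hL n m hnm)⟩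
  have hiii : ∀ m, n₀ ≤ m → ∀ z ∈ L n₀, x ^ s • z = 0 → z ∈ L m := by
    intro m hm z hz hz0
    have h2 : (L n₀).comap (LinearMap.ker (LinearMap.lsmul R N (x ^ s))).subtype =
        (L m).comap (LinearMap.ker (LinearMap.lsmul R N (x ^ s))).subtype :=
      OrderDual.toDual.injective (hn₀ m hm)
    have h3 : (⟨z, LinearMap.mem_ker.2 hz0⟩ : LinearMap.ker (LinearMap.lsmul R N (x ^ s))) ∈
        (L n₀).comap (LinearMap.ker (LinearMap.lsmul R N (x ^ s))).subtype := hz
    rw [h2] at h3
    exact h3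
  refine ⟨max t n₀, fun m hm => le_antisymm ?_ (hL _ _ hm)⟩
  intro l hl
  have htm : t ≤ m := le_trans (le_max_left _ _) hm
  have hnm : n₀ ≤ m := le_trans (le_max_right _ _) hm
  have hlt : l ∈ L t := hL t _ (le_max_left _ _) hl
  obtain ⟨k, hk⟩ := htor (x ^ s • l)
  obtain ⟨l', hl', hl'eq⟩ := hii m htm k (x ^ s • l) ⟨l, hlt, rfl⟩ hk
  have hd : l - l' ∈ L (max t n₀) := sub_mem hl (hL _ _ hm hl')
  have hd0 : x ^ s • (l - l') = 0 := by rw [smul_sub, hl'eq, sub_self]
  have h4 := add_mem (hiii m hnm (l - l') (hL n₀ _ (le_max_right _ _) hd) hd0) hl'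
  rwa [sub_add_cancel] at h4

end Melkersson

/-! ### The main theorem -/

theorem isArtinian_H [IsNoetherianRing R] (I : Ideal R) [I.IsMaximal] :
    ∀ (i : ℕ) (M : Type u) [AddCommGroup M] [Module R M] [Module.Finite R M],
      IsArtinian R (LocCoh.H I i M) := by
  intro i
  induction i with
  | zero =>
    intro M _ _ _
    haveI : IsArtinian R (DRing.torsionSub I M) := isArtinian_torsionSub I M
    exact isArtinian_of_linearEquiv (H0equiv I M).symm
  | succ i ih =>
    intro M _ _ _
    have hbij := Hmap_mkQ_torsionSub_bijective I M (i + 1) (Nat.succ_pos i)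
    suffices h : IsArtinian R (LocCoh.H I (i + 1) (M ⧸ DRing.torsionSub I M)) by
      haveI := h
      exact isArtinian_of_injective (Hmap I (i + 1) (DRing.torsionSub I M).mkQ) hbij.1
    obtain ⟨x, hxI, hxreg⟩ := exists_regular_of_torsionSub_eq_bot I
      (M ⧸ DRing.torsionSub I M) (torsionSub_quot_eq_bot I M)
    obtain ⟨δ, -, -, h3, -⟩ := les_mod I
      (LinearMap.lsmul R (M ⧸ DRing.torsionSub I M) x)
      (LinearMap.range (LinearMap.lsmul R (M ⧸ DRing.torsionSub I M) x)).mkQ
      (fun a b hab => hxreg hab) (Submodule.mkQ_surjective _)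
      (LinearMap.exact_map_mkQ_range _) i
    have hHx : Hmap I (i + 1) (LinearMap.lsmul R (M ⧸ DRing.torsionSub I M) x) =
        LinearMap.lsmul R (LocCoh.H I (i + 1) (M ⧸ DRing.torsionSub I M)) x := by
      have e : LinearMap.lsmul R (M ⧸ DRing.torsionSub I M) x =
          x • (LinearMap.id : (M ⧸ DRing.torsionSub I M) →ₗ[R] (M ⧸ DRing.torsionSub I M)) := by
        ext z
        rfl
      rw [e, Hmap_smul, Hmap_id]
      ext y
      rfl
    haveI : IsArtinian R (LocCoh.H I i ((M ⧸ DRing.torsionSub I M) ⧸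
        LinearMap.range (LinearMap.lsmul R (M ⧸ DRing.torsionSub I M) x))) := ih _
    have hker : LinearMap.ker
        (LinearMap.lsmul R (LocCoh.H I (i + 1) (M ⧸ DRing.torsionSub I M)) x) =
        LinearMap.range δ := by
      rw [← hHx]
      exact LinearMap.exact_iff.1 h3
    apply melkersson x
    · intro y
      obtain ⟨n, hn⟩ := isPowerTorsion_H I (i + 1) y
      exact ⟨n, hn _ (Ideal.pow_mem_pow hxI n)⟩
    · rw [hker]
      infer_instance

end Groth.Agent.H98.LCArt
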