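import Groth.Agent.H98.GrQuot

/-!
# Helper library (helper98): the quotient of a graded module by a homogeneous submodule as a
bundled graded module.
-/

set_option autoImplicit false
universe u

open DirectSum

namespace Groth.Agent.H98.GrCat

variable {ι : Type} [AddCommGroup ι] [DecidableEq ι]
variable {R : Type u} [CommRing R] (𝒜 : ι → AddSubgroup R) [GradedRing 𝒜]

section QuotG

variable {X : Type u} [AddCommGroup X] [Module R X] (𝓧 : ι → AddSubgroup X)
  [DirectSum.Decomposition 𝓧] [SetLike.GradedSMul 𝒜 𝓧] (B : Submodule R X)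

/-- the pieces of a quotient module: images of the pieces -/
def quotGr' (g : ι) : AddSubgroup (X ⧸ B) := (𝓧 g).map B.mkQ.toAddMonoidHom

omit [DecidableEq ι] [DirectSum.Decomposition 𝓧] in
theorem mem_quotGr' {g : ι} {h : X ⧸ B} : h ∈ quotGr' 𝓧 B g ↔ ∃ z ∈ 𝓧 g, B.mkQ z = h :=
  Iff.rfl

theorem quot_isInternal (hB : B.IsHomogeneous 𝓧) : DirectSum.IsInternal (quotGr' 𝓧 B) := by
  classical
  constructor
  · rw [injective_iff_map_eq_zero]
    intro y hy
    have hrep : ∀ g, ∃ z : X, z ∈ 𝓧 g ∧ B.mkQ z = (y g : X ⧸ B) :=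
      fun g => (mem_quotGr' 𝓧 B).1 (y g).2
    choose z hz hzy using hrep
    rw [DirectSum.coeAddMonoidHom_eq_dfinsuppSum, DFinsupp.sum] at hy
    have h1 : B.mkQ (∑ g ∈ y.support, z g) = 0 := by
      rw [map_sum, ← hy]
      exact Finset.sum_congr rfl fun g _ => hzy g
    have h2 : ∑ g ∈ y.support, z g ∈ B := (Submodule.Quotient.mk_eq_zero _).1 h1
    refine DFinsupp.ext fun g => ?_
    rw [DirectSum.zero_apply]
    by_cases hg : g ∈ y.support
    · have h3 := hB g h2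
      have h4 : ((decompose 𝓧 (∑ g' ∈ y.support, z g') g : 𝓧 g) : X) = z g := by
        rw [decompose_sum, DFinsupp.finsetSum_apply, AddSubmonoidClass.coe_finsetSum,
          Finset.sum_eq_single_of_mem g hg (fun j _ hj => decompose_of_mem_ne 𝓧 (hz j) hj),
          decompose_of_mem_same 𝓧 (hz g)]
      rw [h4] at h3
      apply Subtype.ext
      rw [ZeroMemClass.coe_zero, ← hzy g]
      exact (Submodule.Quotient.mk_eq_zero _).2 h3
    · exact DFinsupp.notMem_support_iff.1 hg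
  · intro h
    obtain ⟨x, rfl⟩ := B.mkQ_surjective h
    refine ⟨∑ g ∈ (decompose 𝓧 x).support, DirectSum.of (fun g => quotGr' 𝓧 B g) g
      ⟨B.mkQ (decompose 𝓧 x g : X), (mem_quotGr' 𝓧 B).2 ⟨_, SetLike.coe_mem _, rfl⟩⟩, ?_⟩
    rw [map_sum]
    simp only [DirectSum.coeAddMonoidHom_of]
    rw [← map_sum, sum_support_decompose]

omit [DecidableEq ι] [GradedRing 𝒜] [DirectSum.Decomposition 𝓧] in
theorem quotGSMul' : SetLike.GradedSMul 𝒜 (quotGr' 𝓧 B) where
  smul_mem := by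
    rintro i j r h hr ⟨z, hz, rfl⟩
    rw [vadd_eq_add]
    refine ⟨r • z, gsmul_mem 𝒜 𝓧 hr hz, ?_⟩
    exact map_smul B.mkQ r z

/-- the quotient by a homogeneous submodule as a bundled graded module -/
noncomputable def quotG (hB : B.IsHomogeneous 𝓧) : GrLC.GMod.{u} 𝒜 :=
  { carrier := X ⧸ B
    gr := quotGr' 𝓧 B
    dec := (quot_isInternal 𝓧 B hB).chooseDecomposition
    gsmul := quotGSMul' 𝒜 𝓧 B }

omit [DecidableEq ι] [GradedRing 𝒜] [DirectSum.Decomposition 𝓧] [SetLike.GradedSMul 𝒜 𝓧] in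
theorem mkQ_isGrHom : GrLC.IsGrHom 𝓧 (quotGr' 𝓧 B) B.mkQ :=
  fun _ z hz => ⟨z, hz, rfl⟩

end QuotG

end Groth.Agent.H98.GrCat
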