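import Groth.Agent.H98.GrHull

/-!
# Helper library (helper98): existence of *injective resolutions (via cofree graded modules).
-/

set_option autoImplicit false
universe u

open DirectSum

namespace Groth.Agent.H98.GrCat

noncomputable section

variable {ι : Type} [AddCommGroup ι] [DecidableEq ι]
variable {R : Type u} [CommRing R] (𝒜 : ι → AddSubgroup R) [GradedRing 𝒜]

section KerLift

variable {N : Type u} [AddCommGroup N] [Module R N]
variable {A : Type u} [AddCommGroup A] [Module R A] (𝒜A : ι → AddSubgroup A)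
  [DirectSum.Decomposition 𝒜A] [SetLike.GradedSMul 𝒜 𝒜A]

/-- the kernel of the adjoint map is the kernel of the original one, if that is homogeneous -/
theorem ker_cofLift (ψ : A →ₗ[R] N) (hψ : (LinearMap.ker ψ).IsHomogeneous 𝒜A) :
    LinearMap.ker (cofLift 𝒜 𝒜A ψ) = LinearMap.ker ψ := by
  ext a
  rw [LinearMap.mem_ker, LinearMap.mem_ker]
  constructor
  · intro h
    rw [← cofSigma_cofLift 𝒜 𝒜A ψ a, h, map_zero]
  · intro h
    show toCof 𝒜 N (liftAdd 𝒜A ψ a) = 0
    have h0 : liftAdd 𝒜A ψ a = 0 := by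
      refine Finsupp.ext fun g => ?_
      rw [liftAdd_apply, Finsupp.zero_apply]
      exact LinearMap.mem_ker.1 (hψ g (LinearMap.mem_ker.2 h))
    rw [h0]
    rfl

end KerLift

/-- an embedding of a module into an injective module, as data -/
structure InjEmb (Q : Type u) [AddCommGroup Q] [Module R Q] where
  /-- the injective module -/
  I : Type u
  [acg : AddCommGroup I]
  [mod : Module R I]
  [inj : Module.Injective R I]
  /-- the embedding -/
  e : Q →ₗ[R] I
  he : Function.Injective e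

instance (Q : Type u) [AddCommGroup Q] [Module R Q] (J : InjEmb (R := R) Q) :
    AddCommGroup J.I := J.acg
instance (Q : Type u) [AddCommGroup Q] [Module R Q] (J : InjEmb (R := R) Q) :
    Module R J.I := J.mod
instance (Q : Type u) [AddCommGroup Q] [Module R Q] (J : InjEmb (R := R) Q) :
    Module.Injective R J.I := J.inj

theorem nonempty_injEmb (Q : Type u) [AddCommGroup Q] [Module R Q] :
    Nonempty (InjEmb (R := R) Q) := by
  obtain ⟨I, i1, i2, i3, e, he⟩ := exists_injective_embedding (R := R) Q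
  exact ⟨{ I := I, e := e, he := he }⟩

/-- a chosen embedding into an injective module -/
def injEmb (Q : Type u) [AddCommGroup Q] [Module R Q] : InjEmb (R := R) Q :=
  Classical.choice (nonempty_injEmb Q)

/-- one stage of the construction: a *injective graded module with a homogeneous submodule
(the cycles) -/
structure Stage where
  /-- the graded module -/
  E : GrLC.GMod.{u} 𝒜
  /-- the submodule of cycles -/
  Z : Submodule R E.carrier
  hZ : Z.IsHomogeneous E.gr
  hE : GrLC.IsStarInj 𝒜 E.gr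

variable {𝒜}

/-- the map `E → J` killing exactly `Z`, with `J` injective -/
def Stage.quotEmb (s : Stage 𝒜) : s.E.carrier →ₗ[R] (injEmb (R := R) (s.E.carrier ⧸ s.Z)).I :=
  (injEmb (R := R) (s.E.carrier ⧸ s.Z)).e.comp s.Z.mkQ

theorem Stage.ker_quotEmb (s : Stage 𝒜) : LinearMap.ker s.quotEmb = s.Z := by
  ext x
  rw [LinearMap.mem_ker]
  unfold Stage.quotEmb
  rw [LinearMap.comp_apply]
  constructor
  · intro h
    have h1 : s.Z.mkQ x = 0 :=
      (injEmb (R := R) (s.E.carrier ⧸ s.Z)).he (by rw [h, map_zero])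
    exact (Submodule.Quotient.mk_eq_zero _).1 h1
  · intro h
    have h1 : s.Z.mkQ x = 0 := (Submodule.Quotient.mk_eq_zero _).2 h
    rw [h1, map_zero]

/-- the differential out of a stage -/
def Stage.dmap (s : Stage 𝒜) :
    s.E.carrier →ₗ[R] (cofG 𝒜 (injEmb (R := R) (s.E.carrier ⧸ s.Z)).I).carrier :=
  cofLift 𝒜 s.E.gr s.quotEmb

theorem Stage.dmap_grHom (s : Stage 𝒜) :
    GrLC.IsGrHom s.E.gr (cofG 𝒜 (injEmb (R := R) (s.E.carrier ⧸ s.Z)).I).gr s.dmap :=
  cofLift_isGrHom 𝒜 s.E.gr s.quotEmb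

theorem Stage.ker_dmap (s : Stage 𝒜) : LinearMap.ker s.dmap = s.Z := by
  unfold Stage.dmap
  rw [ker_cofLift 𝒜 s.E.gr s.quotEmb (by rw [s.ker_quotEmb]; exact s.hZ), s.ker_quotEmb]

/-- the next stage -/
def Stage.next (s : Stage 𝒜) : Stage 𝒜 where
  E := cofG 𝒜 (injEmb (R := R) (s.E.carrier ⧸ s.Z)).I
  Z := LinearMap.range s.dmap
  hZ := range_isHomogeneous s.E.gr _ s.dmap_grHom
  hE := cofG_isStarInj 𝒜 _

/-- the sequence of stages -/
def stages (s0 : Stage 𝒜) : ℕ → Stage 𝒜 := fun n => Nat.rec s0 (fun _ s => s.next) n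

variable {M : Type u} [AddCommGroup M] [Module R M] (ℳ : ι → AddSubgroup M)
  [DirectSum.Decomposition ℳ] [SetLike.GradedSMul 𝒜 ℳ]

/-- the initial stage for a graded module `M` -/
def stage0 : Stage 𝒜 where
  E := cofG 𝒜 (injEmb (R := R) M).I
  Z := LinearMap.range (cofLift 𝒜 ℳ (injEmb (R := R) M).e)
  hZ := range_isHomogeneous ℳ _ (cofLift_isGrHom 𝒜 ℳ _)
  hE := cofG_isStarInj 𝒜 _

variable (𝒜)

/-- *injective resolutions exist -/
def starInjRes : GrLC.StarInjRes 𝒜 ℳ where
  X := fun n => (stages (stage0 ℳ) n).E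
  d := fun n => (stages (stage0 ℳ) n).dmap
  ε := cofLift 𝒜 ℳ (injEmb (R := R) M).e
  d_grHom := fun n => (stages (stage0 ℳ) n).dmap_grHom
  ε_grHom := cofLift_isGrHom 𝒜 ℳ _
  ε_injective := cofLift_injective 𝒜 ℳ _ (injEmb (R := R) M).he
  exact_zero := (stages (stage0 ℳ) 0).ker_dmap
  exact_succ := fun n => (stages (stage0 ℳ) (n + 1)).ker_dmap
  starInj := fun n => (stages (stage0 ℳ) n).hE

end

end Groth.Agent.H98.GrCat
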