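import Groth.Agent.H98.GrArt

/-!
# Helper library (helper98): primes of a `ℤ`-graded ring and their homogeneous cores.
* `le_of_lt_of_core`: there is no prime strictly between a prime `P` and its homogeneous core `P*`
  other than `P*` itself (primes `P* ≤ Q < P` satisfy `Q = P*`).
* `height_le_core_add_one`: `ht P ≤ ht P* + 1` in a Noetherian `ℤ`-graded ring.
* `height_eq_ringKrullDim`: for a positively graded Noetherian *local ring `(R, m)`,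
  `ht m = dim R`.
-/

set_option autoImplicit false
universe u

open DirectSum

namespace Groth.Agent.H98.GrHt

section Key

variable {R : Type u} [CommRing R] (𝒜 : ℤ → AddSubgroup R) [GradedRing 𝒜]

/-- the homogeneous component -/
noncomputable def cp (f : R) (i : ℤ) : R := ((DirectSum.decompose 𝒜 f i : 𝒜 i) : R)

theorem cp_mem (f : R) (i : ℤ) : cp 𝒜 f i ∈ 𝒜 i := SetLike.coe_mem _

theorem cp_add (f g : R) (i : ℤ) : cp 𝒜 (f + g) i = cp 𝒜 f i + cp 𝒜 g i := by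
  unfold cp
  rw [DirectSum.decompose_add, DirectSum.add_apply, AddSubgroup.coe_add]

theorem cp_sub (f g : R) (i : ℤ) : cp 𝒜 (f - g) i = cp 𝒜 f i - cp 𝒜 g i := by
  unfold cp
  rw [DirectSum.decompose_sub, DirectSum.sub_apply, AddSubgroup.coe_sub]

theorem cp_zero (i : ℤ) : cp 𝒜 0 i = 0 := by
  unfold cp
  rw [DirectSum.decompose_zero]
  rfl

theorem cp_mul_left {s : R} {e : ℤ} (hs : s ∈ 𝒜 e) (f : R) (j : ℤ) :
    cp 𝒜 (s * f) j = s * cp 𝒜 f (j - e) := by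
  have h := DirectSum.coe_decompose_mul_add_of_left_mem 𝒜 (i := e) (j := j - e) (b := f) hs
  have e1 : e + (j - e) = j := by ring
  rw [e1] at h
  exact h

theorem cp_of_mem {s : R} {e : ℤ} (hs : s ∈ 𝒜 e) (j : ℤ) :
    cp 𝒜 s j = if j = e then s else 0 := by
  unfold cp
  split_ifs with h
  · subst h
    rw [DirectSum.decompose_of_mem_same 𝒜 hs]
  · rw [DirectSum.decompose_of_mem_ne 𝒜 hs (fun h' => h h'.symm)]

theorem mem_iff_cp {𝔭 : Ideal R} (hh : 𝔭.IsHomogeneous 𝒜) (f : R) :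
    f ∈ 𝔭 ↔ ∀ i, cp 𝒜 f i ∈ 𝔭 := by
  classical
  constructor
  · intro hf i
    exact hh i hf
  · intro h
    rw [← DirectSum.sum_support_decompose 𝒜 f]
    exact Ideal.sum_mem _ (fun i _ => h i)

theorem cp_finset_sum (s : Finset ℤ) (g : ℤ → R) (j : ℤ) :
    cp 𝒜 (∑ i ∈ s, g i) j = ∑ i ∈ s, cp 𝒜 (g i) j := by
  classical
  induction s using Finset.induction_on with
  | empty => simp [cp_zero]
  | insert a s ha ih => rw [Finset.sum_insert ha, Finset.sum_insert ha, cp_add, ih]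

theorem cp_mul [∀ (i : ℤ) (x : 𝒜 i), Decidable (x ≠ 0)] (x y : R) (j : ℤ) :
    cp 𝒜 (x * y) j =
      ∑ i ∈ (DirectSum.decompose 𝒜 x).support, cp 𝒜 x i * cp 𝒜 y (j - i) := by
  have h1 : x * y = ∑ i ∈ (DirectSum.decompose 𝒜 x).support, cp 𝒜 x i * y := by
    rw [← Finset.sum_mul]
    congr 1
    exact (DirectSum.sum_support_decompose 𝒜 x).symm
  conv_lhs => rw [h1]
  rw [cp_finset_sum]
  refine Finset.sum_congr rfl (fun i _ => ?_)
  exact cp_mul_left 𝒜 (cp_mem 𝒜 x i) y j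

/-- the support of `f` modulo `𝔭` lies in `[lo, hi]` -/
def Bd (𝔭 : Ideal R) (f : R) (lo hi : ℤ) : Prop := ∀ i, cp 𝒜 f i ∉ 𝔭 → lo ≤ i ∧ i ≤ hi

/-- the support of `f` modulo `𝔭` has width at most `w` -/
def Wd (𝔭 : Ideal R) (w : ℕ) (f : R) : Prop := ∃ l : ℤ, Bd 𝒜 𝔭 f l (l + w)

theorem exists_exact {𝔭 : Ideal R} (hh : 𝔭.IsHomogeneous 𝒜) {f : R} (hf : f ∉ 𝔭) :
    ∃ lo hi, Bd 𝒜 𝔭 f lo hi ∧ cp 𝒜 f lo ∉ 𝔭 ∧ cp 𝒜 f hi ∉ 𝔭 := by
  classical
  obtain ⟨S, hS⟩ : ∃ S : Finset ℤ, S =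
      (DirectSum.decompose 𝒜 f).support.filter (fun i => cp 𝒜 f i ∉ 𝔭) := ⟨_, rfl⟩
  have hmemS : ∀ i, i ∈ S ↔ cp 𝒜 f i ∉ 𝔭 := by
    intro i
    rw [hS, Finset.mem_filter, DFinsupp.mem_support_iff]
    constructor
    · exact fun h => h.2
    · intro h
      refine ⟨fun h0 => h ?_, h⟩
      unfold cp
      rw [h0, ZeroMemClass.coe_zero]
      exact 𝔭.zero_mem
  have hne : S.Nonempty := by
    by_contra hemp
    rw [Finset.not_nonempty_iff_eq_empty] at hemp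
    apply hf
    rw [mem_iff_cp 𝒜 hh]
    intro i
    by_contra hi
    have h1 := (hmemS i).2 hi
    rw [hemp] at h1
    exact absurd h1 (Finset.notMem_empty i)
  refine ⟨S.min' hne, S.max' hne, ?_, (hmemS _).1 (S.min'_mem hne), (hmemS _).1 (S.max'_mem hne)⟩
  intro i hi
  exact ⟨S.min'_le i ((hmemS i).2 hi), S.le_max' i ((hmemS i).2 hi)⟩

theorem wd_of_bd {𝔭 : Ideal R} {f : R} {lo hi : ℤ} (hb : Bd 𝒜 𝔭 f lo hi) (hlo : cp 𝒜 f lo ∉ 𝔭) :
    Wd 𝒜 𝔭 (hi - lo).toNat f := by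
  refine ⟨lo, fun i hi' => ?_⟩
  have h1 := hb i hi'
  have h2 := hb lo hlo
  rw [Int.toNat_of_nonneg (by omega)]
  omega

/-- the division step -/
theorem division {𝔭 : Ideal R} (h𝔭 : 𝔭.IsPrime) (b : R) (lb hb : ℤ)
    (hbd : Bd 𝒜 𝔭 b lb hb) (hbtop : cp 𝒜 b hb ∉ 𝔭) :
    ∀ (w : ℕ) (a : R) (la ha : ℤ), Bd 𝒜 𝔭 a la ha → ha - la < w →
      ∃ (s : R) (e : ℤ) (cc : R), s ∈ 𝒜 e ∧ s ∉ 𝔭 ∧
        ∃ l : ℤ, Bd 𝒜 𝔭 (s * a - cc * b) l (l + (hb - lb) - 1) := by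
  have h1𝔭 : (1 : R) ∉ 𝔭 := fun h => h𝔭.ne_top ((Ideal.eq_top_iff_one _).2 h)
  intro w
  induction w with
  | zero =>
    intro a la ha hbda hw
    refine ⟨1, 0, 0, SetLike.GradedOne.one_mem, h1𝔭, 0, ?_⟩
    intro i hi
    rw [one_mul, zero_mul, sub_zero] at hi
    have h1 := hbda i hi
    have hw' : ha - la < 0 := by exact_mod_cast hw
    omega
  | succ w ih =>
    intro a la ha hbda hw
    have hw' : ha - la < (w : ℤ) + 1 := by exact_mod_cast hw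
    by_cases hlt : ha - la < hb - lb
    · refine ⟨1, 0, 0, SetLike.GradedOne.one_mem, h1𝔭, la, ?_⟩
      intro i hi
      rw [one_mul, zero_mul, sub_zero] at hi
      have h1 := hbda i hi
      omega
    · have hbd' : Bd 𝒜 𝔭 (cp 𝒜 b hb * a - cp 𝒜 a ha * b) (la + hb) (ha + hb - 1) := by
        intro i hi
        rw [cp_sub, cp_mul_left 𝒜 (cp_mem 𝒜 b hb), cp_mul_left 𝒜 (cp_mem 𝒜 a ha)] at hi
        have hne : i ≠ ha + hb := by
          rintro rfl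
          apply hi
          have e1 : ha + hb - hb = ha := by ring
          have e2 : ha + hb - ha = hb := by ring
          rw [e1, e2, mul_comm, sub_self]
          exact 𝔭.zero_mem
        by_cases h1 : cp 𝒜 a (i - hb) ∈ 𝔭
        · by_cases h2 : cp 𝒜 b (i - ha) ∈ 𝔭
          · exact absurd (𝔭.sub_mem (𝔭.mul_mem_left _ h1) (𝔭.mul_mem_left _ h2)) hi
          · have hb2 := hbd _ h2
            omega
        · have ha1 := hbda _ h1
          omega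
      obtain ⟨s', e', cc', hs', hs'𝔭, l, hl⟩ :=
        ih _ (la + hb) (ha + hb - 1) hbd' (by omega)
      refine ⟨s' * cp 𝒜 b hb, e' + hb, s' * cp 𝒜 a ha + cc',
        SetLike.GradedMul.mul_mem hs' (cp_mem 𝒜 b hb), ?_, l, ?_⟩
      · intro h
        rcases h𝔭.mem_or_mem h with h | h
        · exact hs'𝔭 h
        · exact hbtop h
      · have e : s' * cp 𝒜 b hb * a - (s' * cp 𝒜 a ha + cc') * b =
            s' * (cp 𝒜 b hb * a - cp 𝒜 a ha * b) - cc' * b := by ring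
        rw [e]
        exact hl

theorem cp_mul_notMem {𝔭 : Ideal R} (h𝔭 : 𝔭.IsPrime) (x y : R) (tx ty : ℤ)
    (hxy : ∀ i j, i + j = tx + ty → i ≠ tx → cp 𝒜 x i ∈ 𝔭 ∨ cp 𝒜 y j ∈ 𝔭)
    (hx : cp 𝒜 x tx ∉ 𝔭) (hy : cp 𝒜 y ty ∉ 𝔭) : cp 𝒜 (x * y) (tx + ty) ∉ 𝔭 := by
  classical
  intro hmem
  rw [cp_mul] at hmem
  have htx : tx ∈ (DirectSum.decompose 𝒜 x).support := by
    rw [DFinsupp.mem_support_iff]
    intro h0
    apply hx
    unfold cp
    rw [h0, ZeroMemClass.coe_zero]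
    exact 𝔭.zero_mem
  rw [← Finset.add_sum_erase _ _ htx] at hmem
  have hrest : ∑ i ∈ (DirectSum.decompose 𝒜 x).support.erase tx,
      cp 𝒜 x i * cp 𝒜 y (tx + ty - i) ∈ 𝔭 := by
    refine Ideal.sum_mem _ (fun i hi => ?_)
    rcases hxy i (tx + ty - i) (by ring) (Finset.ne_of_mem_erase hi) with h | h
    · exact 𝔭.mul_mem_right _ h
    · exact 𝔭.mul_mem_left _ h
  have h1 : cp 𝒜 x tx * cp 𝒜 y (tx + ty - tx) ∈ 𝔭 := by
    have h2 := 𝔭.sub_mem hmem hrest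
    rwa [add_sub_cancel_right] at h2
  rw [add_sub_cancel_left] at h1
  rcases h𝔭.mem_or_mem h1 with h | h
  · exact hx h
  · exact hy h

theorem mem_of_bd_single {𝔭 P : Ideal R} (hh : 𝔭.IsHomogeneous 𝒜) (h𝔭P : 𝔭 ≤ P)
    (hcore : ∀ (e : ℤ) (s : R), s ∈ 𝒜 e → s ∈ P → s ∈ 𝔭) {f : R} (hf : f ∈ P) {l : ℤ}
    (hbd : Bd 𝒜 𝔭 f l l) : f ∈ 𝔭 := by
  have h1 : f - cp 𝒜 f l ∈ 𝔭 := by
    rw [mem_iff_cp 𝒜 hh]
    intro i
    rw [cp_sub, cp_of_mem 𝒜 (cp_mem 𝒜 f l)]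
    split_ifs with h
    · rw [h, sub_self]
      exact 𝔭.zero_mem
    · rw [sub_zero]
      by_contra hi
      have h2 := hbd i hi
      omega
  have h2 : cp 𝒜 f l ∈ P := by
    have h3 := P.sub_mem hf (h𝔭P h1)
    rwa [sub_sub_cancel] at h3
  have h3 := hcore l _ (cp_mem 𝒜 f l) h2
  have h4 := 𝔭.add_mem h1 h3
  rwa [sub_add_cancel] at h4

/-- **no prime strictly between a prime and its homogeneous core**: if `𝔭` is a homogeneous prime
containing every homogeneous element of the prime `P`, and `Q` is a prime with `𝔭 ≤ Q < P`, then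
`Q ≤ 𝔭`. -/
theorem le_of_lt_of_core {𝔭 P Q : Ideal R} (h𝔭 : 𝔭.IsPrime) (hh : 𝔭.IsHomogeneous 𝒜)
    (hP : P.IsPrime) (hQ : Q.IsPrime) (h𝔭Q : 𝔭 ≤ Q) (hQP : Q < P)
    (hcore : ∀ (e : ℤ) (s : R), s ∈ 𝒜 e → s ∈ P → s ∈ 𝔭) : Q ≤ 𝔭 := by
  classical
  by_contra hnot
  obtain ⟨f0, hf0Q, hf0⟩ := SetLike.not_le_iff_exists.1 hnot
  have h𝔭P : 𝔭 ≤ P := h𝔭Q.trans hQP.le
  have h1𝔭 : (1 : R) ∉ 𝔭 := fun h => h𝔭.ne_top ((Ideal.eq_top_iff_one _).2 h)
  -- minimal width in `P`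
  have hexP : ∃ w, ∃ h, h ∈ P ∧ h ∉ 𝔭 ∧ Wd 𝒜 𝔭 w h := by
    obtain ⟨lo, hi, hb, hlo, _⟩ := exists_exact 𝒜 hh hf0
    exact ⟨_, f0, hQP.le hf0Q, hf0, wd_of_bd 𝒜 hb hlo⟩
  obtain ⟨w', hw'⟩ : ∃ w' : ℕ, w' = Nat.find hexP := ⟨_, rfl⟩
  obtain ⟨h, hhP, hh𝔭, lh, hbdh⟩ := Nat.find_spec hexP
  rw [← hw'] at hbdh
  have hminP : ∀ w, w < w' → ∀ g, g ∈ P → Wd 𝒜 𝔭 w g → g ∈ 𝔭 := by
    intro w hw g hgP hgW
    by_contra hg
    rw [hw'] at hw
    exact Nat.find_min hexP hw ⟨g, hgP, hg, hgW⟩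
  have hw'pos : 1 ≤ w' := by
    by_contra hlt
    have h0 : w' = 0 := by omega
    rw [h0] at hbdh
    apply hh𝔭
    refine mem_of_bd_single 𝒜 hh h𝔭P hcore hhP (l := lh) ?_
    simpa using hbdh
  obtain ⟨lo, hi, hbd, hlo, hhi⟩ := exists_exact 𝒜 hh hh𝔭
  have hlohi : hi - lo = w' := by
    have h1 := hbdh lo hlo
    have h2 := hbdh hi hhi
    have h3 := hbd lo hlo
    have hge : ¬ (hi - lo).toNat < w' := by
      intro hlt
      exact hh𝔭 (hminP _ hlt h hhP (wd_of_bd 𝒜 hbd hlo))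
    omega
  -- Claim 1
  have claim1 : ∀ a, a ∈ P → ∃ (s : R) (e : ℤ) (cc : R), s ∈ 𝒜 e ∧ s ∉ 𝔭 ∧
      s * a - cc * h ∈ 𝔭 := by
    intro a haP
    by_cases ha : a ∈ 𝔭
    · refine ⟨1, 0, 0, SetLike.GradedOne.one_mem, h1𝔭, ?_⟩
      rw [one_mul, zero_mul, sub_zero]
      exact ha
    · obtain ⟨la, ha', hbda, hla, _⟩ := exists_exact 𝒜 hh ha
      have hla' := hbda la hla
      obtain ⟨s, e, cc, hs, hs𝔭, l, hl⟩ := division 𝒜 h𝔭 h lo hi hbd hhi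
        ((ha' - la).toNat + 1) a la ha' hbda (by
          push_cast
          rw [Int.toNat_of_nonneg (by omega)]
          omega)
      refine ⟨s, e, cc, hs, hs𝔭, ?_⟩
      have hrP : s * a - cc * h ∈ P := P.sub_mem (P.mul_mem_left _ haP) (P.mul_mem_left _ hhP)
      refine hminP (w' - 1) (by omega) _ hrP ⟨l, ?_⟩
      intro i hi'
      have h1 := hl i hi'
      have h2 : ((w' - 1 : ℕ) : ℤ) = (w' : ℤ) - 1 := by omega
      omega
  have hsQ : ∀ (e : ℤ) (s : R), s ∈ 𝒜 e → s ∉ 𝔭 → s ∉ Q :=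
    fun e s hs hs𝔭 hsQ => hs𝔭 (hcore e s hs (hQP.le hsQ))
  -- Claim 2
  have hhQ : h ∉ Q := by
    intro hhQ
    apply not_le_of_gt hQP
    intro a haP
    obtain ⟨s, e, cc, hs, hs𝔭, hr⟩ := claim1 a haP
    have h1 : s * a ∈ Q := by
      have h2 := Q.add_mem (h𝔭Q hr) (Q.mul_mem_left cc hhQ)
      rwa [sub_add_cancel] at h2
    exact (hQ.mem_or_mem h1).resolve_left (hsQ e s hs hs𝔭)
  -- minimal width in `Q`
  have hexQ : ∃ w, ∃ f, f ∈ Q ∧ f ∉ 𝔭 ∧ Wd 𝒜 𝔭 w f := by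
    obtain ⟨lo0, hi0, hb, hlo0, _⟩ := exists_exact 𝒜 hh hf0
    exact ⟨_, f0, hf0Q, hf0, wd_of_bd 𝒜 hb hlo0⟩
  obtain ⟨w, hw⟩ : ∃ w : ℕ, w = Nat.find hexQ := ⟨_, rfl⟩
  obtain ⟨f, hfQ, hf𝔭, lf, hbdf⟩ := Nat.find_spec hexQ
  rw [← hw] at hbdf
  have hminQ : ∀ v, v < w → ∀ g, g ∈ Q → Wd 𝒜 𝔭 v g → g ∈ 𝔭 := by
    intro v hv g hgQ hgW
    by_contra hg
    rw [hw] at hv
    exact Nat.find_min hexQ hv ⟨g, hgQ, hg, hgW⟩
  obtain ⟨s, e, cc, hs, hs𝔭, hr⟩ := claim1 f (hQP.le hfQ)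
  have hccQ : cc ∈ Q := by
    have h1 : cc * h ∈ Q := by
      have h2 := Q.sub_mem (Q.mul_mem_left s hfQ) (h𝔭Q hr)
      rwa [sub_sub_cancel] at h2
    exact (hQ.mem_or_mem h1).resolve_right hhQ
  have hcc𝔭 : cc ∉ 𝔭 := by
    intro hcc
    have h1 : s * f ∈ 𝔭 := by
      have h2 := 𝔭.add_mem hr (𝔭.mul_mem_right h hcc)
      rwa [sub_add_cancel] at h2
    exact (h𝔭.mem_or_mem h1).elim hs𝔭 hf𝔭
  obtain ⟨lc, hc, hbdc, hlc, hhc⟩ := exists_exact 𝒜 hh hcc𝔭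
  have hwc : (w : ℤ) ≤ hc - lc := by
    have h3 := hbdc lc hlc
    by_contra hlt
    apply hcc𝔭
    exact hminQ (hc - lc).toNat (by omega) cc hccQ (wd_of_bd 𝒜 hbdc hlc)
  have htop : cp 𝒜 (cc * h) (hc + hi) ∉ 𝔭 := by
    refine cp_mul_notMem 𝒜 h𝔭 cc h hc hi ?_ hhc hhi
    intro i j hij hne
    by_cases h1 : cp 𝒜 cc i ∈ 𝔭
    · exact Or.inl h1
    · right
      by_contra h2
      have h3 := hbdc i h1
      have h4 := hbd j h2
      omega
  have hbot : cp 𝒜 (cc * h) (lc + lo) ∉ 𝔭 := by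
    refine cp_mul_notMem 𝒜 h𝔭 cc h lc lo ?_ hlc hlo
    intro i j hij hne
    by_cases h1 : cp 𝒜 cc i ∈ 𝔭
    · exact Or.inl h1
    · right
      by_contra h2
      have h3 := hbdc i h1
      have h4 := hbd j h2
      omega
  have htr : ∀ j, cp 𝒜 (cc * h) j ∉ 𝔭 → lf ≤ j - e ∧ j - e ≤ lf + w := by
    intro j hj
    have h1 : cp 𝒜 (s * f) j ∉ 𝔭 := by
      intro h2
      apply hj
      have h3 := (mem_iff_cp 𝒜 hh _).1 hr j
      rw [cp_sub] at h3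
      have h4 := 𝔭.sub_mem h2 h3
      rwa [sub_sub_cancel] at h4
    rw [cp_mul_left 𝒜 hs] at h1
    have h2 : cp 𝒜 f (j - e) ∉ 𝔭 := fun h3 => h1 (𝔭.mul_mem_left _ h3)
    exact hbdf _ h2
  have h1 := htr _ htop
  have h2 := htr _ hbot
  omega

end Key

section Height

variable {R : Type u} [CommRing R] (𝒜 : ℤ → AddSubgroup R) [GradedRing 𝒜]

/-- `ht P ≤ ht P* + 1` -/
theorem height_le_core_add_one [IsNoetherianRing R] : ∀ (n : ℕ) (P : Ideal R) [P.IsPrime],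
    P.height ≤ n → P.height ≤ (P.homogeneousCore 𝒜).toIdeal.height + 1 := by
  intro n
  induction n with
  | zero =>
    intro P _ hP
    exact hP.trans (by rw [Nat.cast_zero]; exact zero_le)
  | succ n ih =>
    intro P hPp hP
    have hcp : (P.homogeneousCore 𝒜).toIdeal.IsPrime := Ideal.IsPrime.homogeneousCore hPp
    have hfin : (P.homogeneousCore 𝒜).toIdeal.height ≠ ⊤ := Ideal.height_ne_top hcp.ne_top
    obtain ⟨k, hk⟩ := ENat.ne_top_iff_exists.1 hfin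
    rw [← hk]
    have e1 : ((k : ℕ∞) + 1) = ((k + 1 : ℕ) : ℕ∞) := by push_cast; rfl
    rw [e1, Ideal.height_le_iff]
    intro Q hQ hQP
    have hQn : Q.height ≤ n := by
      have h1 : Q.height < P.height := Ideal.height_strict_mono_of_isPrime hQP
      have h2 : Q.height < ((n + 1 : ℕ) : ℕ∞) := lt_of_lt_of_le h1 hP
      have h3 : Q.height ≠ ⊤ := Ideal.height_ne_top hQ.ne_top
      obtain ⟨q, hq⟩ := ENat.ne_top_iff_exists.1 h3
      rw [← hq] at h2 ⊢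
      have h4 : q < n + 1 := by exact_mod_cast h2
      exact_mod_cast Nat.lt_succ_iff.1 h4
    have ih' := ih Q hQn
    have hcQ : (Q.homogeneousCore 𝒜).toIdeal.IsPrime := Ideal.IsPrime.homogeneousCore hQ
    have hmono : (Q.homogeneousCore 𝒜).toIdeal ≤ (P.homogeneousCore 𝒜).toIdeal :=
      Ideal.homogeneousCore_mono 𝒜 hQP.le
    have hQk : Q.height ≤ k := by
      rw [hk]
      by_cases heq : (Q.homogeneousCore 𝒜).toIdeal = (P.homogeneousCore 𝒜).toIdeal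
      · have hQle : Q ≤ (P.homogeneousCore 𝒜).toIdeal :=
          le_of_lt_of_core 𝒜 hcp (P.homogeneousCore 𝒜).isHomogeneous hPp hQ
            (heq ▸ Ideal.toIdeal_homogeneousCore_le 𝒜 Q) hQP
            (fun e s hs hsP => Ideal.mem_homogeneousCore_of_homogeneous_of_mem ⟨e, hs⟩ hsP)
        exact Ideal.height_mono hQle
      · have hlt : (Q.homogeneousCore 𝒜).toIdeal < (P.homogeneousCore 𝒜).toIdeal :=
          lt_of_le_of_ne hmono heq
        exact ih'.trans (Ideal.height_add_one_le_of_lt_of_isPrime hlt)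
    exact lt_of_le_of_lt hQk (by exact_mod_cast Nat.lt_succ_self k)

/-- every proper homogeneous ideal of a Noetherian *local graded ring lies in the *maximal ideal -/
theorem le_of_isStarLocal [IsNoetherianRing R] (m : HomogeneousIdeal 𝒜)
    (hm : GrLC.IsStarLocal 𝒜 m) (J : HomogeneousIdeal 𝒜) (hJ : J ≠ ⊤) : J ≤ m := by
  have hwf : WellFounded (fun K L : HomogeneousIdeal 𝒜 => K.toIdeal > L.toIdeal) :=
    InvImage.wf HomogeneousIdeal.toIdeal (wellFounded_gt : WellFounded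
      ((· > ·) : Ideal R → Ideal R → Prop))
  obtain ⟨K, ⟨hJK, hK⟩, hKmax⟩ := hwf.has_min {K : HomogeneousIdeal 𝒜 | J ≤ K ∧ K ≠ ⊤}
    ⟨J, le_rfl, hJ⟩
  have hcoatom : IsCoatom K := by
    refine ⟨hK, fun L hKL => ?_⟩
    by_contra hL
    refine hKmax L ⟨hJK.trans hKL.le, hL⟩ ?_
    exact ⟨hKL.le, fun h => not_le_of_gt hKL h⟩
  rw [← hm.2 K hcoatom]
  exact hJK

/-- the irrelevant ideal of a positively graded ring lies in every *maximal ideal -/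
theorem mem_of_pos_degree (hpos : ∀ n : ℤ, n < 0 → 𝒜 n = ⊥) (m : HomogeneousIdeal 𝒜)
    (hm : IsCoatom m) {k : ℤ} (hk : 0 < k) {y : R} (hy : y ∈ 𝒜 k) : y ∈ m.toIdeal := by
  classical
  haveI hmax : m.toIdeal.IsMaximal := Groth.Agent.H98.GrCat.isMaximal_of_isCoatom 𝒜 hpos m hm
  by_contra hym
  obtain ⟨r, μ, hμ, hr⟩ := hmax.exists_inv hym
  -- compare the components of degree `0`
  have h0 : cp 𝒜 (r * y + μ) 0 = 1 := by
    rw [hr]
    rw [cp_of_mem 𝒜 (SetLike.GradedOne.one_mem (A := 𝒜)), if_pos rfl]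
  rw [cp_add, mul_comm, cp_mul_left 𝒜 hy] at h0
  have h1 : cp 𝒜 r (0 - k) = 0 := by
    have h2 := cp_mem 𝒜 r (0 - k)
    rw [hpos (0 - k) (by omega)] at h2
    exact AddSubgroup.mem_bot.1 h2
  rw [h1, mul_zero, zero_add] at h0
  have h2 : cp 𝒜 μ 0 ∈ m.toIdeal := m.isHomogeneous 0 hμ
  rw [h0] at h2
  exact hmax.ne_top ((Ideal.eq_top_iff_one _).2 h2)

/-- **`ht m = dim R`** for a positively graded Noetherian *local ring `(R, m)` -/
theorem height_eq_ringKrullDim [IsNoetherianRing R] (hpos : ∀ n : ℤ, n < 0 → 𝒜 n = ⊥)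
    (m : HomogeneousIdeal 𝒜) (hm : GrLC.IsStarLocal 𝒜 m) :
    (m.toIdeal.height : WithBot ℕ∞) = ringKrullDim R := by
  haveI hmax : m.toIdeal.IsMaximal := Groth.Agent.H98.GrCat.isMaximal_of_isCoatom 𝒜 hpos m hm.1
  apply le_antisymm (Ideal.height_le_ringKrullDim_of_ne_top hmax.ne_top)
  rw [ringKrullDim_le_iff_height_le]
  intro P hP
  have hcp : (P.homogeneousCore 𝒜).toIdeal.IsPrime := Ideal.IsPrime.homogeneousCore hP
  have hle : P.homogeneousCore 𝒜 ≤ m := le_of_isStarLocal 𝒜 m hm _ (fun h => hcp.ne_top (by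
    rw [h]
    rfl))
  have hPfin : P.height ≠ ⊤ := Ideal.height_ne_top hP.ne_top
  have key : P.height ≤ m.toIdeal.height := by
    by_cases heq : (P.homogeneousCore 𝒜).toIdeal = m.toIdeal
    · have h1 : m.toIdeal ≤ P := heq ▸ Ideal.toIdeal_homogeneousCore_le 𝒜 P
      have h2 : m.toIdeal = P := hmax.eq_of_le hP.ne_top h1
      rw [h2]
    · have hlt : (P.homogeneousCore 𝒜).toIdeal < m.toIdeal := lt_of_le_of_ne hle heq
      obtain ⟨n, hn⟩ := ENat.ne_top_iff_exists.1 hPfin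
      have h1 := height_le_core_add_one 𝒜 n P (le_of_eq hn.symm)
      exact h1.trans (Ideal.height_add_one_le_of_lt_of_isPrime hlt)
  exact_mod_cast key

end Height

end Groth.Agent.H98.GrHt
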