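import Groth.Agent.H98.GrExt
import Mathlib.LinearAlgebra.Isomorphisms

/-!
# Helper library (helper98): the comparison theorem for *injective resolutions (lifting of maps
to chain maps, null-homotopies), in the hand-rolled setting of `GrLC.StarInjRes`.
-/

set_option autoImplicit false
universe u

open DirectSum

namespace Groth.Agent.H98.GrCat

variable {ι : Type} [AddCommGroup ι] [DecidableEq ι]
variable {R : Type u} [CommRing R] (𝒜 : ι → AddSubgroup R) [GradedRing 𝒜]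

section ExtLemma

variable {I : Type u} [AddCommGroup I] [Module R I] (𝓘 : ι → AddSubgroup I)
  [DirectSum.Decomposition 𝓘] [SetLike.GradedSMul 𝒜 𝓘]

/-- extension along a not necessarily injective homogeneous map, given the kernel condition -/
theorem exists_extension_gr (hI : GrLC.IsStarInj 𝒜 𝓘) (A B : GrLC.GMod.{u} 𝒜)
    (j : A.carrier →ₗ[R] B.carrier) (hj : GrLC.IsGrHom A.gr B.gr j)
    (g : A.carrier →ₗ[R] I) (hg : GrLC.IsGrHom A.gr 𝓘 g) (hker : ∀ a, j a = 0 → g a = 0) :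
    ∃ h : B.carrier →ₗ[R] I, GrLC.IsGrHom B.gr 𝓘 h ∧ ∀ a, h (j a) = g a := by
  classical
  have hK : (LinearMap.range j).IsHomogeneous B.gr := range_isHomogeneous A.gr B.gr hj
  have hle : LinearMap.ker j ≤ LinearMap.ker g := fun a ha =>
    LinearMap.mem_ker.2 (hker a (LinearMap.mem_ker.1 ha))
  obtain ⟨g'₀, hg'₀⟩ : ∃ g'₀ : ↥(LinearMap.range j) →ₗ[R] I,
      ∀ (a : A.carrier) (h : j a ∈ LinearMap.range j), g'₀ ⟨j a, h⟩ = g a := by
    refine ⟨((LinearMap.ker j).liftQ g hle).comp j.quotKerEquivRange.symm.toLinearMap,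
      fun a h => ?_⟩
    rw [LinearMap.comp_apply, LinearEquiv.coe_coe]
    have h1 : j.quotKerEquivRange.symm ⟨j a, h⟩ = Submodule.Quotient.mk a := by
      rw [LinearEquiv.symm_apply_eq]
      rfl
    rw [h1]
    rfl
  obtain ⟨g', hg'e⟩ : ∃ g' : (subG 𝒜 B.gr (LinearMap.range j) hK).carrier →ₗ[R] I,
      ∀ y, g' y = g'₀ y := ⟨g'₀, fun _ => rfl⟩
  have hg' : ∀ (a : A.carrier) (h : j a ∈ LinearMap.range j), g' ⟨j a, h⟩ = g a :=
    fun a h => (hg'e _).trans (hg'₀ a h)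
  have hg'gr : GrLC.IsGrHom (subG 𝒜 B.gr (LinearMap.range j) hK).gr 𝓘 g' := by
    intro k y hy
    have hyk : subI 𝒜 B.gr hK y ∈ B.gr k := hy
    have hyr : subI 𝒜 B.gr hK y ∈ LinearMap.range j :=
      SetLike.coe_mem (show ↥(LinearMap.range j) from y)
    obtain ⟨a, ha⟩ := hyr
    have h1 : j ((decompose A.gr a k : A.gr k) : A.carrier) = subI 𝒜 B.gr hK y := by
      rw [← grHom_comp A.gr B.gr hj a k, ha, decompose_of_mem_same B.gr hyk]
    have h2 : y = ⟨j ((decompose A.gr a k : A.gr k) : A.carrier), ⟨_, rfl⟩⟩ :=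
      subI_injective 𝒜 B.gr hK h1.symm
    rw [h2, hg']
    exact hg k _ (SetLike.coe_mem _)
  obtain ⟨h, hh, hhf⟩ := hI (subG 𝒜 B.gr (LinearMap.range j) hK) B (subI 𝒜 B.gr hK)
    (subI_isGrHom 𝒜 B.gr hK) (subI_injective 𝒜 B.gr hK) g' hg'gr
  refine ⟨h, hh, fun a => ?_⟩
  have h3 : h (subI 𝒜 B.gr hK ⟨j a, ⟨a, rfl⟩⟩) = g' ⟨j a, ⟨a, rfl⟩⟩ :=
    LinearMap.congr_fun hhf _
  rw [hg'] at h3
  exact h3

/-- the same for maps homogeneous of a given degree -/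
theorem exists_extension_deg (hI : GrLC.IsStarInj 𝒜 𝓘) (e : ι) (A B : GrLC.GMod.{u} 𝒜)
    (j : A.carrier →ₗ[R] B.carrier) (hj : GrLC.IsGrHom A.gr B.gr j)
    (g : A.carrier →ₗ[R] I) (hg : GrLC.IsGrHomDeg A.gr 𝓘 g e) (hker : ∀ a, j a = 0 → g a = 0) :
    ∃ h : B.carrier →ₗ[R] I, GrLC.IsGrHomDeg B.gr 𝓘 h e ∧ ∀ a, h (j a) = g a := by
  obtain ⟨g', hg'⟩ : ∃ g' : A.carrier →ₗ[R] (shiftG 𝒜 𝓘 e).carrier, ∀ a, g' a = g a :=
    ⟨g, fun _ => rfl⟩
  obtain ⟨h, hh, hhj⟩ := exists_extension_gr 𝒜 (shiftG 𝒜 𝓘 e).gr (isStarInj_shift 𝒜 𝓘 hI e) A B j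
    hj g' (fun k a ha => by
      show g' a ∈ 𝓘 (k + e)
      rw [hg']
      exact hg k a ha) (fun a ha => by rw [hg']; exact hker a ha)
  exact ⟨h, fun k b hb => hh k b hb, fun a => (hhj a).trans (hg' a)⟩

end ExtLemma

section Comparison

variable {M : Type u} [AddCommGroup M] [Module R M] {ℳ : ι → AddSubgroup M}
  [DirectSum.Decomposition ℳ] [SetLike.GradedSMul 𝒜 ℳ]
variable {N : Type u} [AddCommGroup N] [Module R N] {𝒩 : ι → AddSubgroup N}
  [DirectSum.Decomposition 𝒩] [SetLike.GradedSMul 𝒜 𝒩]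
variable {𝒜}
variable (F : GrLC.StarInjRes 𝒜 𝒩) (E : GrLC.StarInjRes 𝒜 ℳ) (e : ι)

theorem StarInjRes_d_d (n : ℕ) (x : (E.X n).carrier) : E.d (n + 1) (E.d n x) = 0 := by
  have h1 : E.d n x ∈ LinearMap.ker (E.d (n + 1)) := by
    rw [E.exact_succ n]
    exact ⟨x, rfl⟩
  exact LinearMap.mem_ker.1 h1

theorem StarInjRes_d_ε (x : M) : E.d 0 (E.ε x) = 0 := by
  have h1 : E.ε x ∈ LinearMap.ker (E.d 0) := by
    rw [E.exact_zero]
    exact ⟨x, rfl⟩
  exact LinearMap.mem_ker.1 h1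

/-- the state of the recursive construction of a lift -/
structure LiftSt (n : ℕ) where
  /-- the map -/
  φ : (F.X n).carrier →ₗ[R] (E.X n).carrier
  hdeg : GrLC.IsGrHomDeg (F.X n).gr (E.X n).gr φ e
  hker : ∀ x, F.d n x = 0 → E.d n (φ x) = 0

variable {F E e}

theorem LiftSt.exists_next {n : ℕ} (s : LiftSt F E e n) :
    ∃ t : LiftSt F E e (n + 1), ∀ x, t.φ (F.d n x) = E.d n (s.φ x) := by
  obtain ⟨h, hh, hhj⟩ := exists_extension_deg 𝒜 (E.X (n + 1)).gr (E.starInj (n + 1)) e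
    (F.X n) (F.X (n + 1)) (F.d n) (F.d_grHom n) ((E.d n).comp s.φ)
    (fun k a ha => E.d_grHom n _ _ (s.hdeg k a ha)) (fun a ha => s.hker a ha)
  refine ⟨⟨h, hh, fun x hx => ?_⟩, fun x => hhj x⟩
  have h1 : x ∈ LinearMap.range (F.d n) := by
    rw [← F.exact_succ n]
    exact LinearMap.mem_ker.2 hx
  obtain ⟨y, rfl⟩ := h1
  rw [hhj y, LinearMap.comp_apply]
  exact StarInjRes_d_d E n _

/-- the next state -/
noncomputable def LiftSt.next {n : ℕ} (s : LiftSt F E e n) : LiftSt F E e (n + 1) :=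
  Classical.choose s.exists_next

theorem LiftSt.next_spec {n : ℕ} (s : LiftSt F E e n) (x : (F.X n).carrier) :
    s.next.φ (F.d n x) = E.d n (s.φ x) :=
  Classical.choose_spec s.exists_next x

/-- the sequence of states -/
noncomputable def liftSeq (s0 : LiftSt F E e 0) : ∀ n, LiftSt F E e n :=
  fun n => Nat.rec s0 (fun _ s => s.next) n

variable (F E e)

/-- lifting of a homogeneous map of degree `e` to a chain map of *injective resolutions -/
theorem exists_lift (u : N →ₗ[R] M) (hu : GrLC.IsGrHomDeg 𝒩 ℳ u e) :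
    ∃ φ : ∀ n, (F.X n).carrier →ₗ[R] (E.X n).carrier,
      (∀ n, GrLC.IsGrHomDeg (F.X n).gr (E.X n).gr (φ n) e) ∧
      (∀ x, φ 0 (F.ε x) = E.ε (u x)) ∧ ∀ n x, φ (n + 1) (F.d n x) = E.d n (φ n x) := by
  obtain ⟨h, hh, hhj⟩ : ∃ h : (F.X 0).carrier →ₗ[R] (E.X 0).carrier,
      GrLC.IsGrHomDeg (F.X 0).gr (E.X 0).gr h e ∧ ∀ a : N, h (F.ε a) = E.ε (u a) := by
    obtain ⟨ε', hε'⟩ : ∃ ε' : (GrLC.GMod.of 𝒜 N 𝒩).carrier →ₗ[R] (F.X 0).carrier,
        ∀ a : N, ε' a = F.ε a := ⟨F.ε, fun _ => rfl⟩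
    obtain ⟨g', hg'⟩ : ∃ g' : (GrLC.GMod.of 𝒜 N 𝒩).carrier →ₗ[R] (E.X 0).carrier,
        ∀ a : N, g' a = E.ε (u a) := ⟨E.ε.comp u, fun _ => rfl⟩
    obtain ⟨h, hh, hhj⟩ := exists_extension_deg 𝒜 (E.X 0).gr (E.starInj 0) e
      (GrLC.GMod.of 𝒜 N 𝒩) (F.X 0) ε' (fun k a ha => by
        have h1 : ε' a = F.ε a := hε' a
        rw [h1]
        exact F.ε_grHom k a ha) g'
      (fun k a ha => by
        have h1 : g' a = E.ε (u a) := hg' a
        rw [h1]
        exact E.ε_grHom _ _ (hu k a ha)) (fun a ha => by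
        have h1 : ε' a = F.ε a := hε' a
        have h2 : g' a = E.ε (u a) := hg' a
        have h3 : F.ε a = F.ε 0 := by rw [← h1, ha, map_zero]
        have h0 : (a : N) = (0 : N) := F.ε_injective h3
        have h4 : ∀ b : N, b = 0 → E.ε (u b) = 0 := fun b hb => by
          rw [hb, map_zero, map_zero]
        exact h2.trans (h4 a h0))
    refine ⟨h, hh, fun a => ?_⟩
    have h1 := hhj a
    rw [hε' a, hg' a] at h1
    exact h1
  have hker : ∀ x, F.d 0 x = 0 → E.d 0 (h x) = 0 := by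
    intro x hx
    have h1 : x ∈ LinearMap.range F.ε := by
      rw [← F.exact_zero]
      exact LinearMap.mem_ker.2 hx
    obtain ⟨y, rfl⟩ := h1
    rw [hhj y]
    exact StarInjRes_d_ε E _
  refine ⟨fun n => (liftSeq (⟨h, hh, hker⟩ : LiftSt F E e 0) n).φ,
    fun n => (liftSeq (⟨h, hh, hker⟩ : LiftSt F E e 0) n).hdeg, fun x => hhj x, fun n x => ?_⟩
  exact (liftSeq (⟨h, hh, hker⟩ : LiftSt F E e 0) n).next_spec x

/-- the state of the recursive construction of a null-homotopy -/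
structure HtpySt (w : ∀ n, (F.X n).carrier →ₗ[R] (E.X n).carrier) (n : ℕ) where
  /-- the homotopy map -/
  s : (F.X (n + 1)).carrier →ₗ[R] (E.X n).carrier
  hgr : GrLC.IsGrHom (F.X (n + 1)).gr (E.X n).gr s
  hQ : ∀ y, E.d n (s (F.d n y)) = E.d n (w n y)

variable {F E}
variable {w : ∀ n, (F.X n).carrier →ₗ[R] (E.X n).carrier}

theorem HtpySt.exists_next (hw : ∀ n, GrLC.IsGrHom (F.X n).gr (E.X n).gr (w n))
    (hcomm : ∀ n x, w (n + 1) (F.d n x) = E.d n (w n x)) {n : ℕ} (t : HtpySt F E w n) :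
    ∃ t' : HtpySt F E w (n + 1),
      ∀ x, w (n + 1) x = E.d n (t.s x) + t'.s (F.d (n + 1) x) := by
  obtain ⟨h, hh, hhj⟩ := exists_extension_gr 𝒜 (E.X (n + 1)).gr (E.starInj (n + 1))
    (F.X (n + 1)) (F.X (n + 1 + 1)) (F.d (n + 1)) (F.d_grHom (n + 1))
    (w (n + 1) - (E.d n).comp t.s)
    (fun k a ha => sub_mem (hw (n + 1) k a ha) (E.d_grHom n _ _ (t.hgr k a ha)))
    (fun a ha => by
      have h1 : a ∈ LinearMap.range (F.d n) := by
        rw [← F.exact_succ n]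
        exact LinearMap.mem_ker.2 ha
      obtain ⟨y, rfl⟩ := h1
      rw [LinearMap.sub_apply, LinearMap.comp_apply, hcomm, t.hQ, sub_self])
  refine ⟨⟨h, hh, fun y => ?_⟩, fun x => ?_⟩
  · rw [hhj, LinearMap.sub_apply, LinearMap.comp_apply, map_sub, StarInjRes_d_d E n, sub_zero]
  · rw [hhj, LinearMap.sub_apply, LinearMap.comp_apply]
    abel

/-- the next state -/
noncomputable def HtpySt.next (hw : ∀ n, GrLC.IsGrHom (F.X n).gr (E.X n).gr (w n))
    (hcomm : ∀ n x, w (n + 1) (F.d n x) = E.d n (w n x)) {n : ℕ} (t : HtpySt F E w n) :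
    HtpySt F E w (n + 1) :=
  Classical.choose (t.exists_next hw hcomm)

theorem HtpySt.next_spec (hw : ∀ n, GrLC.IsGrHom (F.X n).gr (E.X n).gr (w n))
    (hcomm : ∀ n x, w (n + 1) (F.d n x) = E.d n (w n x)) {n : ℕ} (t : HtpySt F E w n)
    (x : (F.X (n + 1)).carrier) :
    w (n + 1) x = E.d n (t.s x) + (t.next hw hcomm).s (F.d (n + 1) x) :=
  Classical.choose_spec (t.exists_next hw hcomm) x

/-- the sequence of states -/
noncomputable def htpySeq (hw : ∀ n, GrLC.IsGrHom (F.X n).gr (E.X n).gr (w n))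
    (hcomm : ∀ n x, w (n + 1) (F.d n x) = E.d n (w n x)) (t0 : HtpySt F E w 0) :
    ∀ n, HtpySt F E w n :=
  fun n => Nat.rec t0 (fun _ t => t.next hw hcomm) n

variable (F E)

/-- a homogeneous chain map of *injective resolutions lifting zero is null-homotopic -/
theorem exists_homotopy (w : ∀ n, (F.X n).carrier →ₗ[R] (E.X n).carrier)
    (hw : ∀ n, GrLC.IsGrHom (F.X n).gr (E.X n).gr (w n))
    (hcomm : ∀ n x, w (n + 1) (F.d n x) = E.d n (w n x)) (h0 : ∀ x, w 0 (F.ε x) = 0) :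
    ∃ s : ∀ n, (F.X (n + 1)).carrier →ₗ[R] (E.X n).carrier,
      (∀ x, w 0 x = s 0 (F.d 0 x)) ∧
      ∀ n x, w (n + 1) x = E.d n (s n x) + s (n + 1) (F.d (n + 1) x) := by
  obtain ⟨h, hh, hhj⟩ := exists_extension_gr 𝒜 (E.X 0).gr (E.starInj 0) (F.X 0) (F.X (0 + 1))
    (F.d 0) (F.d_grHom 0) (w 0) (hw 0) (fun a ha => by
      have h1 : a ∈ LinearMap.range F.ε := by
        rw [← F.exact_zero]
        exact LinearMap.mem_ker.2 ha
      obtain ⟨y, rfl⟩ := h1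
      exact h0 y)
  refine ⟨fun n => (htpySeq hw hcomm (⟨h, hh, fun y => by rw [hhj]⟩ : HtpySt F E w 0) n).s,
    fun x => (hhj x).symm, fun n x => ?_⟩
  exact (htpySeq hw hcomm (⟨h, hh, fun y => by rw [hhj]⟩ : HtpySt F E w 0) n).next_spec hw hcomm x

end Comparison

end Groth.Agent.H98.GrCat
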