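import Groth.Agent.H58.LCMod
import Groth.Agent.H98.GrQuotG
import Groth.Agent.H98.GrComp

/-!
# Helper library (helper98): graded local cohomology computed from a *injective resolution agrees
with Mathlib's local cohomology (with the grading forgotten).
*Injective graded modules over a Noetherian graded ring are acyclic for `Γ_a` (`a` homogeneous);
dimension shifting along the kernels of a *injective resolution.
Uses helper58's description of `localCohomology` as a filtered colimit of `Abelian.Ext`.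
-/

set_option autoImplicit false
universe u

open DirectSum

namespace Groth.Agent.H98.GrCat

open Groth.Agent.H58.LC

variable {ι : Type} [AddCommGroup ι] [DecidableEq ι]
variable {R : Type u} [CommRing R] (𝒜 : ι → AddSubgroup R) [GradedRing 𝒜]

section Acyclic

variable {I : Type u} [AddCommGroup I] [Module R I] (ℐ : ι → AddSubgroup I)
  [DirectSum.Decomposition ℐ] [SetLike.GradedSMul 𝒜 ℐ]

/-- *injective graded modules are acyclic for local cohomology with support in a homogeneous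
ideal -/
theorem locCoh_subsingleton_of_isStarInj [IsNoetherianRing R] (a : HomogeneousIdeal 𝒜)
    (hI : GrLC.IsStarInj 𝒜 ℐ) (j : ℕ) : Subsingleton (LocCoh.H a.toIdeal (j + 1) I) := by
  have h0 : ∀ y : LocCoh.H a.toIdeal (j + 1) I, y = 0 := by
    intro y
    obtain ⟨n, x, rfl⟩ := exists_rep a.toIdeal (j + 1) (ModuleCat.of R I) y
    haveI hsub : Subsingleton (CategoryTheory.Abelian.Ext.{u}
        (ModuleCat.of R (R ⧸ a.toIdeal ^ n)) (ModuleCat.of R I) (j + 1)) :=
      ext_succ_subsingleton 𝒜 ℐ hI j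
        (quotG 𝒜 𝒜 (a.toIdeal ^ n) (pow_isHomogeneous 𝒜 a n))
        (inferInstance : Module.Finite R (R ⧸ a.toIdeal ^ n))
    rw [Subsingleton.elim x 0, map_zero]
  exact ⟨fun y z => by rw [h0 y, h0 z]⟩

end Acyclic

section Bridge

variable {𝒜}
variable {M : Type u} [AddCommGroup M] [Module R M] {ℳ : ι → AddSubgroup M}
  [DirectSum.Decomposition ℳ] [SetLike.GradedSMul 𝒜 ℳ]
variable (E : GrLC.StarInjRes 𝒜 ℳ) (a : HomogeneousIdeal 𝒜)

/-- the kernels of the differentials -/
def Kr (n : ℕ) : Submodule R (E.X n).carrier := LinearMap.ker (E.d n)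

/-- the differential, as a map onto the next kernel -/
def gK (n : ℕ) : (E.X n).carrier →ₗ[R] ↥(Kr E (n + 1)) :=
  (E.d n).codRestrict (Kr E (n + 1)) (fun x => LinearMap.mem_ker.2 (StarInjRes_d_d E n x))

theorem gK_coe (n : ℕ) (x : (E.X n).carrier) : ((gK E n x : ↥(Kr E (n + 1))) :
    (E.X (n + 1)).carrier) = E.d n x := rfl

theorem gK_surjective (n : ℕ) : Function.Surjective (gK E n) := by
  rintro ⟨z, hz⟩
  have h1 : z ∈ LinearMap.range (E.d n) := by
    rw [← E.exact_succ n]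
    exact hz
  obtain ⟨x, rfl⟩ := h1
  exact ⟨x, Subtype.ext rfl⟩

theorem exact_K (n : ℕ) : Function.Exact (Kr E n).subtype (gK E n) := by
  intro x
  constructor
  · intro h
    have h1 : E.d n x = 0 := congrArg Subtype.val h
    exact ⟨⟨x, LinearMap.mem_ker.2 h1⟩, rfl⟩
  · rintro ⟨k, rfl⟩
    exact Subtype.ext (LinearMap.mem_ker.1 k.2)

variable [IsNoetherianRing R]

/-- dimension shifting, one step -/
theorem nonempty_shift (n j : ℕ) :
    Nonempty (LocCoh.H a.toIdeal (j + 1) ↥(Kr E (n + 1)) ≃ₗ[R]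
      LocCoh.H a.toIdeal (j + 1 + 1) ↥(Kr E n)) := by
  obtain ⟨δ, -, h2, h3, -⟩ := les_mod a.toIdeal (Kr E n).subtype (gK E n)
    Subtype.val_injective (gK_surjective E n) (exact_K E n) (j + 1)
  haveI h0 := locCoh_subsingleton_of_isStarInj 𝒜 (E.X n).gr a (E.starInj n) j
  haveI h1 := locCoh_subsingleton_of_isStarInj 𝒜 (E.X n).gr a (E.starInj n) (j + 1)
  refine ⟨LinearEquiv.ofBijective δ ⟨?_, ?_⟩⟩
  · rw [injective_iff_map_eq_zero]
    intro y hy
    obtain ⟨w, rfl⟩ := (h2 y).1 hy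
    rw [Subsingleton.elim w 0, map_zero]
  · intro z
    exact (h3 z).1 (Subsingleton.elim _ _)

/-- dimension shifting, iterated -/
theorem nonempty_iter (k : ℕ) : ∀ n m, m = n + k →
    Nonempty (LocCoh.H a.toIdeal (k + 1) ↥(Kr E n) ≃ₗ[R] LocCoh.H a.toIdeal 1 ↥(Kr E m)) := by
  induction k with
  | zero =>
    intro n m hm
    subst hm
    exact ⟨LinearEquiv.refl _ _⟩
  | succ k ih =>
    intro n m hm
    obtain ⟨e1⟩ := nonempty_shift E a n k
    obtain ⟨e2⟩ := ih (n + 1) m (by omega)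
    exact ⟨e1.symm.trans e2⟩

/-- cocycles as torsion elements of the kernel -/
def tauK (n : ℕ) : ↥(E.cocyc a n) →ₗ[R] ↥(DRing.torsionSub a.toIdeal ↥(Kr E n)) :=
  LinearMap.codRestrict (DRing.torsionSub a.toIdeal ↥(Kr E n))
    (LinearMap.codRestrict (Kr E n) (E.cocyc a n).subtype (fun z => z.2.2))
    (fun z => by
      obtain ⟨k, hk⟩ := z.2.1
      exact ⟨k, fun r hr => Subtype.ext (hk r hr)⟩)

theorem tauK_coe (n : ℕ) (z : ↥(E.cocyc a n)) :
    (((tauK E a n z : ↥(DRing.torsionSub a.toIdeal ↥(Kr E n))) : ↥(Kr E n)) :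
      (E.X n).carrier) = (z : (E.X n).carrier) := rfl

theorem tauK_surjective (n : ℕ) : Function.Surjective (tauK E a n) := by
  rintro ⟨⟨x, hxK⟩, ⟨k, hk⟩⟩
  refine ⟨⟨x, ⟨⟨k, fun r hr => congrArg Subtype.val (hk r hr)⟩, hxK⟩⟩, ?_⟩
  exact Subtype.ext (Subtype.ext rfl)

/-- the base of the dimension shifting: `H^{n+1}(Γ_a E) ≃ H^1_a(ker d_n)` -/
theorem nonempty_base (n : ℕ) :
    Nonempty (E.H a (n + 1) ≃ₗ[R] LocCoh.H a.toIdeal 1 ↥(Kr E n)) := by
  obtain ⟨δ, -, h2, h3, -⟩ := les_mod a.toIdeal (Kr E n).subtype (gK E n)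
    Subtype.val_injective (gK_surjective E n) (exact_K E n) 0
  haveI h0 := locCoh_subsingleton_of_isStarInj 𝒜 (E.X n).gr a (E.starInj n) 0
  have hδsurj : Function.Surjective δ := fun z => (h3 z).1 (Subsingleton.elim _ _)
  obtain ⟨Θ, hΘ⟩ : ∃ Θ : ↥(E.cocyc a (n + 1)) →ₗ[R] LocCoh.H a.toIdeal (0 + 1) ↥(Kr E n),
      ∀ z, Θ z = δ ((H0equiv a.toIdeal ↥(Kr E (n + 1))).symm (tauK E a (n + 1) z)) :=
    ⟨δ.comp ((H0equiv a.toIdeal ↥(Kr E (n + 1))).symm.toLinearMap.comp (tauK E a (n + 1))),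
      fun _ => rfl⟩
  have hΘsurj : Function.Surjective Θ := by
    intro y
    obtain ⟨w, rfl⟩ := hδsurj y
    obtain ⟨z, hz⟩ := tauK_surjective E a (n + 1) (H0equiv a.toIdeal ↥(Kr E (n + 1)) w)
    refine ⟨z, ?_⟩
    rw [hΘ, hz, LinearEquiv.symm_apply_apply]
  have hker : LinearMap.ker Θ = (E.cobdy a (n + 1)).comap (E.cocyc a (n + 1)).subtype := by
    ext z
    rw [LinearMap.mem_ker, hΘ, h2]
    constructor
    · rintro ⟨w, hw⟩
      have h4 := congrArg (H0equiv a.toIdeal ↥(Kr E (n + 1))) hw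
      rw [LinearEquiv.apply_symm_apply] at h4
      have h5 := H0equiv_natural a.toIdeal (gK E n) w
      rw [h4] at h5
      have h6 : (z : (E.X (n + 1)).carrier) =
          E.d n ((H0equiv a.toIdeal (E.X n).carrier w : (E.X n).carrier)) := by
        have h7 := congrArg Subtype.val h5
        rw [gK_coe] at h7
        exact h7
      refine ⟨(H0equiv a.toIdeal (E.X n).carrier w : (E.X n).carrier), ?_, h6.symm⟩
      exact (H0equiv a.toIdeal (E.X n).carrier w).2
    · rintro ⟨t, ht, htz⟩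
      refine ⟨(H0equiv a.toIdeal (E.X n).carrier).symm ⟨t, ht⟩, ?_⟩
      apply (H0equiv a.toIdeal ↥(Kr E (n + 1))).injective
      rw [LinearEquiv.apply_symm_apply]
      apply Subtype.ext
      rw [H0equiv_natural, LinearEquiv.apply_symm_apply]
      exact Subtype.ext htz
  exact ⟨(Submodule.quotEquivOfEq _ _ hker.symm).trans (Θ.quotKerEquivOfSurjective hΘsurj)⟩

omit [IsNoetherianRing R] in
/-- degree zero -/
theorem nonempty_zero : Nonempty (E.H a 0 ≃ₗ[R] LocCoh.H a.toIdeal 0 M) := by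
  -- `Γ_a(M) ≃ cocycles of degree 0`
  obtain ⟨φ, hφ⟩ : ∃ φ : ↥(DRing.torsionSub a.toIdeal M) →ₗ[R] ↥(E.cocyc a 0),
      ∀ m, ((φ m : ↥(E.cocyc a 0)) : (E.X 0).carrier) = E.ε (m : M) :=
    ⟨LinearMap.codRestrict (E.cocyc a 0) (E.ε.comp (DRing.torsionSub a.toIdeal M).subtype)
      (fun m => ⟨by
        obtain ⟨k, hk⟩ := m.2
        exact ⟨k, fun r hr => by
          show r • E.ε (m : M) = 0
          rw [← map_smul, hk r hr, map_zero]⟩,
        LinearMap.mem_ker.2 (StarInjRes_d_ε E _)⟩), fun _ => rfl⟩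
  have hφbij : Function.Bijective φ := by
    constructor
    · intro m m' h
      have h1 := congrArg Subtype.val h
      rw [hφ, hφ] at h1
      exact Subtype.ext (E.ε_injective h1)
    · rintro ⟨z, ⟨⟨k, hk⟩, hzK⟩⟩
      have h1 : z ∈ LinearMap.range E.ε := by
        rw [← E.exact_zero]
        exact hzK
      obtain ⟨m, rfl⟩ := h1
      refine ⟨⟨m, ⟨k, fun r hr => E.ε_injective ?_⟩⟩, Subtype.ext (hφ _)⟩
      rw [map_smul, map_zero]
      exact hk r hr
  have hbot : (E.cobdy a 0).comap (E.cocyc a 0).subtype = ⊥ := by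
    rw [eq_bot_iff]
    intro z hz
    have h1 : (z : (E.X 0).carrier) = 0 := hz
    exact (Submodule.mem_bot R).2 (Subtype.ext h1)
  exact ⟨(Submodule.quotEquivOfEqBot _ hbot).trans
    ((LinearEquiv.ofBijective φ hφbij).symm.trans (H0equiv a.toIdeal M).symm)⟩

/-- the augmentation as an isomorphism onto the first kernel -/
theorem nonempty_eps : Nonempty (M ≃ₗ[R] ↥(Kr E 0)) := by
  refine ⟨LinearEquiv.ofBijective (E.ε.codRestrict (Kr E 0)
    (fun m => LinearMap.mem_ker.2 (StarInjRes_d_ε E m))) ⟨?_, ?_⟩⟩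
  · intro m m' h
    exact E.ε_injective (congrArg Subtype.val h)
  · rintro ⟨z, hz⟩
    have h1 : z ∈ LinearMap.range E.ε := by
      rw [← E.exact_zero]
      exact hz
    obtain ⟨m, rfl⟩ := h1
    exact ⟨m, Subtype.ext rfl⟩

/-- graded local cohomology computed from a *injective resolution agrees with local cohomology -/
theorem nonempty_H_equiv (i : ℕ) : Nonempty (E.H a i ≃ₗ[R] LocCoh.H a.toIdeal i M) := by
  cases i with
  | zero => exact nonempty_zero E a
  | succ n =>
    obtain ⟨e0⟩ := nonempty_eps E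
    obtain ⟨e1⟩ := nonempty_iter E a n 0 n (by omega)
    obtain ⟨e2⟩ := nonempty_base E a n
    exact ⟨e2.trans (e1.symm.trans (Hcongr a.toIdeal (n + 1) e0).symm)⟩

end Bridge

end Groth.Agent.H98.GrCat
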