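import Groth.Agent.H98.GrComp
import Groth.Agent.H98.GrRes

/-!
# Helper library (helper98): torsion *injective resolutions over a Noetherian graded ring.
*Essential extensions of `a`-torsion graded modules are `a`-torsion; an `a`-torsion graded module
has a *injective resolution by `a`-torsion modules; consequently the higher graded local
cohomology of an `a`-torsion module vanishes (for every *injective resolution).
-/

set_option autoImplicit false
universe u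

open DirectSum

namespace Groth.Agent.H98.GrCat

variable {ι : Type} [AddCommGroup ι] [DecidableEq ι]
variable {R : Type u} [CommRing R] (𝒜 : ι → AddSubgroup R) [GradedRing 𝒜]

section Tor

theorem gam_map (a : Ideal R) {A B : Type u} [AddCommGroup A] [Module R A]
    [AddCommGroup B] [Module R B] (φ : A →ₗ[R] B) {x : A} (hx : x ∈ GrLC.gam a A) :
    φ x ∈ GrLC.gam a B := by
  obtain ⟨n, hn⟩ := hx
  exact ⟨n, fun r hr => by rw [← map_smul, hn r hr, map_zero]⟩

variable {I : Type u} [AddCommGroup I] [Module R I] (ℐ : ι → AddSubgroup I)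
  [DirectSum.Decomposition ℐ] [SetLike.GradedSMul 𝒜 ℐ]

/-- a homogeneous element of `a` acts locally nilpotently on a *essential extension of an
`a`-torsion module (Noetherian case) -/
theorem ess_exists_pow_smul_eq_zero [IsNoetherianRing R] (a : Ideal R) {N₀ X : Submodule R I}
    (hess : EssIn ℐ N₀ X) (hN : N₀ ≤ GrLC.gam a I) {c : ι} {t : R} (htc : t ∈ 𝒜 c) (hta : t ∈ a)
    {g : ι} {x : I} (hxX : x ∈ X) (hxg : x ∈ ℐ g) : ∃ k : ℕ, t ^ k • x = 0 := by
  have hmono : Monotone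
      (fun k : ℕ => LinearMap.ker (LinearMap.toSpanSingleton R I (t ^ k • x))) := by
    refine monotone_nat_of_le_succ fun k s hs => ?_
    rw [LinearMap.mem_ker, LinearMap.toSpanSingleton_apply] at hs ⊢
    rw [pow_succ', mul_smul, smul_comm s t, hs, smul_zero]
  obtain ⟨n, hn⟩ := monotone_stabilizes_iff_noetherian.2 (inferInstance : IsNoetherian R R)
    ⟨_, hmono⟩
  refine ⟨n, ?_⟩
  by_contra hx0
  have hmem : t ^ n • x ∈ ℐ (n • c + g) := gsmul_mem 𝒜 ℐ (SetLike.pow_mem_graded n htc) hxg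
  obtain ⟨s, hsN, hs0⟩ := hess (t ^ n • x) (X.smul_mem _ hxX) _ hmem hx0
  obtain ⟨k, hk⟩ := hN hsN
  have h1 : s ∈ LinearMap.ker (LinearMap.toSpanSingleton R I (t ^ (n + k) • x)) := by
    rw [LinearMap.mem_ker, LinearMap.toSpanSingleton_apply, pow_add, mul_comm, mul_smul,
      smul_comm s (t ^ k)]
    exact hk _ (Ideal.pow_mem_pow hta k)
  have h2 : LinearMap.ker (LinearMap.toSpanSingleton R I (t ^ n • x)) =
      LinearMap.ker (LinearMap.toSpanSingleton R I (t ^ (n + k) • x)) :=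
    hn (n + k) (Nat.le_add_right n k)
  rw [← h2, LinearMap.mem_ker, LinearMap.toSpanSingleton_apply] at h1
  exact hs0 h1

/-- *essential extensions of torsion modules are torsion (Noetherian case) -/
theorem ess_le_gam [IsNoetherianRing R] (a : HomogeneousIdeal 𝒜) {N₀ X : Submodule R I}
    (hX : X.IsHomogeneous ℐ) (hess : EssIn ℐ N₀ X) (hN : N₀ ≤ GrLC.gam a.toIdeal I) :
    X ≤ GrLC.gam a.toIdeal I := by
  classical
  have hhom : ∀ g x, x ∈ X → x ∈ ℐ g → x ∈ GrLC.gam a.toIdeal I := by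
    intro g x hxX hxg
    have hrad : a.toIdeal ≤ Ideal.radical (LinearMap.ker (LinearMap.toSpanSingleton R I x)) := by
      intro t ht
      have h1 := sum_support_decompose 𝒜 t
      rw [← h1]
      refine Ideal.sum_mem _ fun c _ => ?_
      obtain ⟨k, hk⟩ := ess_exists_pow_smul_eq_zero 𝒜 ℐ a.toIdeal hess hN
        (SetLike.coe_mem (decompose 𝒜 t c)) (a.isHomogeneous c ht) hxX hxg
      refine Ideal.mem_radical_iff.2 ⟨k, ?_⟩
      rw [LinearMap.mem_ker, LinearMap.toSpanSingleton_apply]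
      exact hk
    obtain ⟨n, hn⟩ := Ideal.exists_pow_le_of_le_radical_of_fg hrad
      (IsNoetherian.noetherian a.toIdeal)
    refine ⟨n, fun r hr => ?_⟩
    have h1 := hn hr
    rwa [LinearMap.mem_ker, LinearMap.toSpanSingleton_apply] at h1
  intro x hx
  have h1 := sum_support_decompose ℐ x
  rw [← h1]
  exact Submodule.sum_mem _ fun g _ => hhom g _ (hX g hx) (SetLike.coe_mem _)

end Tor

section Step

/-- one step of the torsion resolution: a homogeneous map with prescribed homogeneous kernel from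
a torsion graded module into a torsion *injective graded module -/
theorem exists_torsion_step [IsNoetherianRing R] (a : HomogeneousIdeal 𝒜) (A : GrLC.GMod.{u} 𝒜)
    (hA : GrLC.gam a.toIdeal A.carrier = ⊤) (Z : Submodule R A.carrier)
    (hZ : Z.IsHomogeneous A.gr) :
    ∃ (T : GrLC.GMod.{u} 𝒜) (d : A.carrier →ₗ[R] T.carrier), GrLC.IsGrHom A.gr T.gr d ∧
      LinearMap.ker d = Z ∧ GrLC.IsStarInj 𝒜 T.gr ∧ GrLC.gam a.toIdeal T.carrier = ⊤ := by
  classical
  obtain ⟨J⟩ := nonempty_injEmb (R := R) (A.carrier ⧸ Z)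
  obtain ⟨ψ₀, hψ₀⟩ : ∃ ψ₀ : A.carrier →ₗ[R] J.I, ∀ x, ψ₀ x = J.e (Z.mkQ x) :=
    ⟨J.e.comp Z.mkQ, fun _ => rfl⟩
  have hkerψ₀ : LinearMap.ker ψ₀ = Z := by
    ext x
    rw [LinearMap.mem_ker, hψ₀]
    constructor
    · intro h
      have h1 : Z.mkQ x = 0 := J.he (by rw [h, map_zero])
      exact (Submodule.Quotient.mk_eq_zero _).1 h1
    · intro h
      have h1 : Z.mkQ x = 0 := (Submodule.Quotient.mk_eq_zero _).2 h
      rw [h1, map_zero]
  obtain ⟨ψ, hψ⟩ : ∃ ψ : A.carrier →ₗ[R] (cofG 𝒜 J.I).carrier, ψ = cofLift 𝒜 A.gr ψ₀ :=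
    ⟨_, rfl⟩
  have hψgr : GrLC.IsGrHom A.gr (cofG 𝒜 J.I).gr ψ := by
    rw [hψ]
    exact cofLift_isGrHom 𝒜 A.gr ψ₀
  have hkerψ : LinearMap.ker ψ = Z := by
    rw [hψ, ker_cofLift 𝒜 A.gr ψ₀ (by rw [hkerψ₀]; exact hZ), hkerψ₀]
  have hN : (LinearMap.range ψ).IsHomogeneous (cofG 𝒜 J.I).gr :=
    range_isHomogeneous A.gr _ hψgr
  obtain ⟨X, hNX, hX, hess, hXinj, _, _⟩ :=
    exists_hull_in (cofG_isStarInj 𝒜 J.I) (LinearMap.range ψ) hN
  have hNtor : LinearMap.range ψ ≤ GrLC.gam a.toIdeal (cofG 𝒜 J.I).carrier := by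
    rintro _ ⟨x, rfl⟩
    exact gam_map a.toIdeal ψ (by rw [hA]; exact Submodule.mem_top)
  have hXtor := ess_le_gam 𝒜 (cofG 𝒜 J.I).gr a hX hess hNtor
  have hle : ∀ x, ψ x ∈ X := fun x => hNX ⟨x, rfl⟩
  refine ⟨subG 𝒜 (cofG 𝒜 J.I).gr X hX, codR 𝒜 (cofG 𝒜 J.I).gr hX ψ hle, ?_, ?_, hXinj, ?_⟩
  · intro g x hx
    exact hψgr g x hx
  · ext x
    have hx : x ∈ Z ↔ ψ x = 0 := by rw [← LinearMap.mem_ker, hkerψ]
    rw [LinearMap.mem_ker, hx]
    constructor
    · intro h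
      have h1 := congrArg (subI 𝒜 (cofG 𝒜 J.I).gr hX) h
      rwa [subI_codR, map_zero] at h1
    · intro h
      apply subI_injective 𝒜 (cofG 𝒜 J.I).gr hX
      rw [subI_codR, map_zero]
      exact h
  · rw [eq_top_iff]
    intro y _
    have hyX : subI 𝒜 (cofG 𝒜 J.I).gr hX y ∈ X := SetLike.coe_mem (show ↥X from y)
    obtain ⟨n, hn⟩ := hXtor hyX
    refine ⟨n, fun r hr => ?_⟩
    apply subI_injective 𝒜 (cofG 𝒜 J.I).gr hX
    rw [map_smul, map_zero]
    exact hn r hr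

end Step

section TorRes

variable [IsNoetherianRing R] (a : HomogeneousIdeal 𝒜)

/-- a stage of the torsion resolution: a torsion graded module with a homogeneous submodule -/
structure TStage where
  /-- the graded module -/
  E : GrLC.GMod.{u} 𝒜
  /-- the submodule of cycles -/
  Z : Submodule R E.carrier
  hZ : Z.IsHomogeneous E.gr
  htor : GrLC.gam a.toIdeal E.carrier = ⊤

/-- a step out of a stage -/
structure TStep (s : TStage 𝒜 a) where
  /-- the target -/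
  T : GrLC.GMod.{u} 𝒜
  /-- the map -/
  d : s.E.carrier →ₗ[R] T.carrier
  hgr : GrLC.IsGrHom s.E.gr T.gr d
  hker : LinearMap.ker d = s.Z
  hinj : GrLC.IsStarInj 𝒜 T.gr
  htor : GrLC.gam a.toIdeal T.carrier = ⊤

theorem nonempty_tstep (s : TStage 𝒜 a) : Nonempty (TStep 𝒜 a s) := by
  obtain ⟨T, d, h1, h2, h3, h4⟩ := exists_torsion_step 𝒜 a s.E s.htor s.Z s.hZ
  exact ⟨⟨T, d, h1, h2, h3, h4⟩⟩

/-- a chosen step -/
noncomputable def TStage.step (s : TStage 𝒜 a) : TStep 𝒜 a s :=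
  Classical.choice (nonempty_tstep 𝒜 a s)

/-- the next stage -/
noncomputable def TStage.next (s : TStage 𝒜 a) : TStage 𝒜 a where
  E := (s.step 𝒜 a).T
  Z := LinearMap.range (s.step 𝒜 a).d
  hZ := range_isHomogeneous s.E.gr _ (s.step 𝒜 a).hgr
  htor := (s.step 𝒜 a).htor

/-- the sequence of stages -/
noncomputable def tstages (s0 : TStage 𝒜 a) : ℕ → TStage 𝒜 a :=
  fun n => Nat.rec s0 (fun _ s => s.next 𝒜 a) n

variable {N : Type u} [AddCommGroup N] [Module R N] (𝒩 : ι → AddSubgroup N)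
  [DirectSum.Decomposition 𝒩] [SetLike.GradedSMul 𝒜 𝒩] (hN : GrLC.gam a.toIdeal N = ⊤)

/-- the initial stage: the module itself with zero cycles -/
noncomputable def tstageM : TStage 𝒜 a where
  E := GrLC.GMod.of 𝒜 N 𝒩
  Z := ⊥
  hZ := bot_isHomogeneous 𝒩
  htor := hN

/-- a torsion graded module has a *injective resolution by torsion modules -/
noncomputable def torRes : GrLC.StarInjRes 𝒜 𝒩 where
  X := fun n => (tstages 𝒜 a ((tstageM 𝒜 a 𝒩 hN).next 𝒜 a) n).E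
  d := fun n => ((tstages 𝒜 a ((tstageM 𝒜 a 𝒩 hN).next 𝒜 a) n).step 𝒜 a).d
  ε := ((tstageM 𝒜 a 𝒩 hN).step 𝒜 a).d
  d_grHom := fun n => ((tstages 𝒜 a ((tstageM 𝒜 a 𝒩 hN).next 𝒜 a) n).step 𝒜 a).hgr
  ε_grHom := ((tstageM 𝒜 a 𝒩 hN).step 𝒜 a).hgr
  ε_injective := LinearMap.ker_eq_bot.1 ((tstageM 𝒜 a 𝒩 hN).step 𝒜 a).hker
  exact_zero := ((tstages 𝒜 a ((tstageM 𝒜 a 𝒩 hN).next 𝒜 a) 0).step 𝒜 a).hker
  exact_succ := fun n => ((tstages 𝒜 a ((tstageM 𝒜 a 𝒩 hN).next 𝒜 a) (n + 1)).step 𝒜 a).hker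
  starInj := fun n => by
    cases n with
    | zero => exact ((tstageM 𝒜 a 𝒩 hN).step 𝒜 a).hinj
    | succ n => exact ((tstages 𝒜 a ((tstageM 𝒜 a 𝒩 hN).next 𝒜 a) n).step 𝒜 a).hinj

theorem torRes_tor (n : ℕ) : GrLC.gam a.toIdeal ((torRes 𝒜 a 𝒩 hN).X n).carrier = ⊤ :=
  (tstages 𝒜 a ((tstageM 𝒜 a 𝒩 hN).next 𝒜 a) n).htor

end TorRes

section Vanish

variable {𝒜}
variable {M : Type u} [AddCommGroup M] [Module R M] {ℳ : ι → AddSubgroup M}
  [DirectSum.Decomposition ℳ] [SetLike.GradedSMul 𝒜 ℳ]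

/-- if `M` has a *injective resolution by `a`-torsion modules, then the higher local cohomology
computed from any *injective resolution vanishes -/
theorem H_subsingleton_of_torsion_res (E F : GrLC.StarInjRes 𝒜 ℳ) (a : HomogeneousIdeal 𝒜)
    (hF : ∀ n, GrLC.gam a.toIdeal (F.X n).carrier = ⊤) (q : ℕ) (hq : 1 ≤ q) :
    Subsingleton (E.H a q) := by
  obtain ⟨φ, hφdeg, hφ0, hφc⟩ := exists_lift E F 0 LinearMap.id
    (fun g x hx => by rw [add_zero]; exact hx)
  obtain ⟨ψ, hψdeg, hψ0, hψc⟩ := exists_lift F E 0 LinearMap.id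
    (fun g x hx => by rw [add_zero]; exact hx)
  obtain ⟨w, hw⟩ : ∃ w : ∀ n, (E.X n).carrier →ₗ[R] (E.X n).carrier,
      ∀ n x, w n x = ψ n (φ n x) - x :=
    ⟨fun n => (ψ n).comp (φ n) - LinearMap.id, fun n x => rfl⟩
  have hwgr : ∀ n, GrLC.IsGrHom (E.X n).gr (E.X n).gr (w n) := by
    intro n k x hx
    rw [hw]
    refine sub_mem ?_ hx
    have h1 := hφdeg n k x hx
    rw [add_zero] at h1
    have h2 := hψdeg n k _ h1
    rw [add_zero] at h2
    exact h2
  have hwcomm : ∀ n x, w (n + 1) (E.d n x) = E.d n (w n x) := by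
    intro n x
    rw [hw, hw, map_sub, hφc, hψc]
  have hw0 : ∀ x, w 0 (E.ε x) = 0 := by
    intro x
    rw [hw, hφ0, LinearMap.id_apply, hψ0, LinearMap.id_apply, sub_self]
  obtain ⟨s, -, hsn⟩ := exists_homotopy E E w hwgr hwcomm hw0
  obtain ⟨n, rfl⟩ : ∃ n, q = n + 1 := ⟨q - 1, by omega⟩
  rw [Submodule.Quotient.subsingleton_iff, eq_top_iff]
  intro z _
  show (z : (E.X (n + 1)).carrier) ∈ E.cobdy a (n + 1)
  have hz1 : (z : (E.X (n + 1)).carrier) ∈ GrLC.gam a.toIdeal (E.X (n + 1)).carrier := z.2.1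
  have hz2 : E.d (n + 1) z = 0 := LinearMap.mem_ker.1 z.2.2
  have h1 : φ (n + 1) z ∈ LinearMap.range (F.d n) := by
    rw [← F.exact_succ n, LinearMap.mem_ker, ← hφc, hz2, map_zero]
  obtain ⟨y, hy⟩ := h1
  have h2 := hsn n z
  rw [hw, hz2, map_zero, add_zero, ← hy, hψc] at h2
  refine ⟨ψ n y - s n z, ?_, ?_⟩
  · exact sub_mem (gam_map a.toIdeal (ψ n) (by rw [hF n]; exact Submodule.mem_top))
      (gam_map a.toIdeal (s n) hz1)
  · rw [map_sub, ← h2]
    abel

end Vanish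

end Groth.Agent.H98.GrCat
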