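import Groth.Prelude.Def_GrLC
import Mathlib.Algebra.DirectSum.Decomposition
import Mathlib.Algebra.Module.GradedModule
import Mathlib.RingTheory.GradedAlgebra.Basic
import Mathlib.RingTheory.GradedAlgebra.Homogeneous.Submodule
import Mathlib.Order.Zorn

/-!
# Helper library (helper98): the graded category over a graded ring with an arbitrary grading group
(`Def_GrLC`): components, homogeneous submodules, sub-objects and shifts as bundled graded modules,
essential extensions in element form.
-/

set_option autoImplicit false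
universe u

open DirectSum

namespace Groth.Agent.H98.GrCat

variable {ι : Type} [AddCommGroup ι] [DecidableEq ι]
variable {R : Type u} [CommRing R] (𝒜 : ι → AddSubgroup R) [GradedRing 𝒜]

section Basic

variable {M : Type u} [AddCommGroup M] [Module R M] (ℳ : ι → AddSubgroup M)
  [DirectSum.Decomposition ℳ] [SetLike.GradedSMul 𝒜 ℳ]

omit [DecidableEq ι] [GradedRing 𝒜] [DirectSum.Decomposition ℳ] in
theorem gsmul_mem {i j : ι} {r : R} {x : M} (hr : r ∈ 𝒜 i) (hx : x ∈ ℳ j) :
    r • x ∈ ℳ (i + j) := by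
  have h2 := SetLike.GradedSMul.smul_mem (A := 𝒜) (B := ℳ) hr hx
  rwa [vadd_eq_add] at h2

/-- the `i`-th component as an additive endomorphism -/
def compHom (i : ι) : M →+ M where
  toFun x := (decompose ℳ x i : M)
  map_zero' := by rw [decompose_zero, DirectSum.zero_apply, ZeroMemClass.coe_zero]
  map_add' x y := by rw [decompose_add, DirectSum.add_apply, AddMemClass.coe_add]

omit [Module R M] in
theorem compHom_apply (i : ι) (x : M) : compHom ℳ i x = (decompose ℳ x i : M) := rfl

omit [GradedRing 𝒜] in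
/-- component of `r • x` for homogeneous `r`. -/
theorem comp_smul {c : ι} {r : R} (hr : r ∈ 𝒜 c) (j : ι) (x : M) :
    ((decompose ℳ (r • x) j : ℳ j) : M) = r • ((decompose ℳ x (j - c) : ℳ (j - c)) : M) := by
  classical
  induction x using DirectSum.Decomposition.inductionOn ℳ with
  | zero => simp
  | @homogeneous i x =>
    have hmem : r • (x : M) ∈ ℳ (c + i) := gsmul_mem 𝒜 ℳ hr x.2
    by_cases h : i = j - c
    · subst h
      have h2 : c + (j - c) = j := by abel
      rw [h2] at hmem
      rw [decompose_of_mem_same ℳ hmem, decompose_of_mem_same ℳ x.2]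
    · have h' : c + i ≠ j := fun h2 => h (by rw [← h2]; abel)
      rw [decompose_of_mem_ne ℳ hmem h', decompose_of_mem_ne ℳ x.2 h, smul_zero]
  | add x y hx hy =>
    simp only [smul_add, decompose_add, DirectSum.add_apply, AddMemClass.coe_add, hx, hy]

/-- component of `r • x` for homogeneous `x`. -/
theorem comp_smul_hom {g : ι} {x : M} (hx : x ∈ ℳ g) (r : R) (d : ι) :
    ((decompose ℳ (r • x) d : ℳ d) : M) = ((decompose 𝒜 r (d - g) : 𝒜 (d - g)) : R) • x := by
  classical
  induction r using DirectSum.Decomposition.inductionOn 𝒜 with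
  | zero => simp
  | @homogeneous c r =>
    rw [comp_smul 𝒜 ℳ r.2 d x]
    by_cases h : c = d - g
    · subst h
      have h2 : d - (d - g) = g := by abel
      rw [h2, decompose_of_mem_same ℳ hx, decompose_of_mem_same 𝒜 r.2]
    · have h' : g ≠ d - c := fun h2 => h (by rw [h2]; abel)
      rw [decompose_of_mem_ne ℳ hx h', decompose_of_mem_ne 𝒜 r.2 h, smul_zero, zero_smul]
  | add r r' hr hr' =>
    simp only [add_smul, decompose_add, DirectSum.add_apply, AddMemClass.coe_add, hr, hr']

omit [Module R M] in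
theorem exists_comp_ne_zero {x : M} (hx : x ≠ 0) : ∃ g, ((decompose ℳ x g : ℳ g) : M) ≠ 0 := by
  by_contra h
  push_neg at h
  apply hx
  apply (decompose ℳ).injective
  rw [decompose_zero]
  exact DFinsupp.ext fun i => Subtype.ext (by rw [h i]; rfl)

include 𝒜 in
theorem span_singleton_isHomogeneous {g : ι} {x : M} (hx : x ∈ ℳ g) :
    (Submodule.span R {x}).IsHomogeneous ℳ := by
  intro d y hy
  obtain ⟨r, rfl⟩ := Submodule.mem_span_singleton.1 hy
  rw [comp_smul_hom 𝒜 ℳ hx r d]
  exact Submodule.smul_mem _ _ (Submodule.mem_span_singleton_self x)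

variable {N : Type u} [AddCommGroup N] [Module R N] (𝒩 : ι → AddSubgroup N)
  [DirectSum.Decomposition 𝒩]

omit [SetLike.GradedSMul 𝒜 ℳ] in
/-- homogeneous maps commute with taking components -/
theorem grHom_comp {f : M →ₗ[R] N} (hf : GrLC.IsGrHom ℳ 𝒩 f) (x : M) (g : ι) :
    ((decompose 𝒩 (f x) g : 𝒩 g) : N) = f ((decompose ℳ x g : ℳ g) : M) := by
  classical
  induction x using DirectSum.Decomposition.inductionOn ℳ with
  | zero => simp
  | @homogeneous i x =>
    have hmem : f (x : M) ∈ 𝒩 i := hf i x x.2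
    by_cases h : i = g
    · subst h
      rw [decompose_of_mem_same 𝒩 hmem, decompose_of_mem_same ℳ x.2]
    · rw [decompose_of_mem_ne 𝒩 hmem h, decompose_of_mem_ne ℳ x.2 h, map_zero]
  | add x y hx hy =>
    simp only [map_add, decompose_add, DirectSum.add_apply, AddMemClass.coe_add, hx, hy]

omit [SetLike.GradedSMul 𝒜 ℳ] in
theorem ker_isHomogeneous {f : M →ₗ[R] N} (hf : GrLC.IsGrHom ℳ 𝒩 f) :
    (LinearMap.ker f).IsHomogeneous ℳ := by
  intro i x hx
  rw [LinearMap.mem_ker] at hx ⊢
  rw [← grHom_comp ℳ 𝒩 hf x i, hx, decompose_zero, DirectSum.zero_apply, ZeroMemClass.coe_zero]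

omit [SetLike.GradedSMul 𝒜 ℳ] in
theorem range_isHomogeneous {f : M →ₗ[R] N} (hf : GrLC.IsGrHom ℳ 𝒩 f) :
    (LinearMap.range f).IsHomogeneous 𝒩 := by
  rintro i _ ⟨x, rfl⟩
  rw [grHom_comp ℳ 𝒩 hf x i]
  exact ⟨_, rfl⟩

omit [SetLike.GradedSMul 𝒜 ℳ] in
/-- a bijective homogeneous map has a homogeneous inverse -/
theorem grHom_symm (e : M ≃ₗ[R] N) (he : GrLC.IsGrHom ℳ 𝒩 e.toLinearMap) :
    GrLC.IsGrHom 𝒩 ℳ e.symm.toLinearMap := by
  intro g y hy
  have h1 : ∀ j, j ≠ g → ((decompose ℳ (e.symm y) j : ℳ j) : M) = 0 := by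
    intro j hj
    have h2 := grHom_comp ℳ 𝒩 he (e.symm y) j
    rw [LinearEquiv.coe_coe, LinearEquiv.apply_symm_apply,
      decompose_of_mem_ne 𝒩 hy (Ne.symm hj)] at h2
    exact e.injective (by rw [← h2, map_zero])
  classical
  have h3 := sum_support_decompose ℳ (e.symm y)
  rw [Finset.sum_eq_single g (fun j _ hj => h1 j hj) (fun hg => by
    rw [DFinsupp.notMem_support_iff.1 hg]; rfl)] at h3
  show e.symm y ∈ ℳ g
  rw [← h3]
  exact SetLike.coe_mem _

end Basic

/-! ### A constructor for decompositions -/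

section DecompOfProj

variable {N : Type u} [AddCommGroup N] (𝒩 : ι → AddSubgroup N)
  (π : ι → N →+ N) (s : N → Finset ι)
  (hmem : ∀ i x, π i x ∈ 𝒩 i)
  (hs : ∀ x i, i ∉ s x → π i x = 0)
  (hsum : ∀ x, ∑ i ∈ s x, π i x = x)
  (hself : ∀ i x, x ∈ 𝒩 i → π i x = x)
  (hother : ∀ i j x, i ≠ j → x ∈ 𝒩 j → π i x = 0)

include hs hsum hself hother in
/-- a decomposition from a family of additive "component" maps -/
def decompOfProj : DirectSum.Decomposition 𝒩 where
  decompose' x := ∑ i ∈ s x, DirectSum.of (fun i => 𝒩 i) i ⟨π i x, hmem i x⟩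
  left_inv x := by
    rw [map_sum]
    simp only [DirectSum.coeAddMonoidHom_of]
    exact hsum x
  right_inv y := by
    have key : ∀ (y : ⨁ i, 𝒩 i) (j : ι),
        π j (DirectSum.coeAddMonoidHom 𝒩 y) = ((y j : 𝒩 j) : N) := by
      intro y j
      induction y using DirectSum.induction_on with
      | zero => simp
      | of i x =>
        rw [DirectSum.coeAddMonoidHom_of, DirectSum.coe_of_apply]
        by_cases hij : i = j
        · subst hij
          rw [if_pos rfl, hself i x x.2]
        · rw [if_neg hij, hother j i x (Ne.symm hij) x.2]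
          rfl
      | add x y hx hy =>
        rw [map_add, map_add, hx, hy, DirectSum.add_apply, AddMemClass.coe_add]
    show (∑ i ∈ s (DirectSum.coeAddMonoidHom 𝒩 y), DirectSum.of (fun i => 𝒩 i) i
      ⟨π i (DirectSum.coeAddMonoidHom 𝒩 y), hmem i (DirectSum.coeAddMonoidHom 𝒩 y)⟩) = y
    refine DFinsupp.ext fun j => Subtype.ext ?_
    rw [← key y j, DFinsupp.finsetSum_apply, AddSubmonoidClass.coe_finsetSum]
    by_cases hjs : j ∈ s (DirectSum.coeAddMonoidHom 𝒩 y)
    · rw [Finset.sum_eq_single_of_mem j hjs]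
      · rw [DirectSum.coe_of_apply, if_pos rfl]
      · intro i _ hij
        rw [DirectSum.coe_of_apply, if_neg hij]
        rfl
    · rw [hs _ j hjs]
      refine Finset.sum_eq_zero fun i hi => ?_
      have hij : i ≠ j := fun h => hjs (h ▸ hi)
      rw [DirectSum.coe_of_apply, if_neg hij]
      rfl

end DecompOfProj

/-! ### Homogeneous submodules as graded modules -/

section Sub

variable {M : Type u} [AddCommGroup M] [Module R M] (ℳ : ι → AddSubgroup M)
  [DirectSum.Decomposition ℳ] [SetLike.GradedSMul 𝒜 ℳ]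
  (P : Submodule R M)

/-- the pieces of a submodule -/
def subGr (g : ι) : AddSubgroup P := (ℳ g).comap P.subtype.toAddMonoidHom

omit [DecidableEq ι] [DirectSum.Decomposition ℳ] in
theorem mem_subGr {g : ι} {y : P} : y ∈ subGr ℳ P g ↔ (y : M) ∈ ℳ g := Iff.rfl

variable (hP : P.IsHomogeneous ℳ)

/-- components inside a homogeneous submodule -/
def subComp (i : ι) : P →+ P where
  toFun y := ⟨(decompose ℳ (y : M) i : M), hP i y.2⟩
  map_zero' := Subtype.ext (by
    show ((decompose ℳ ((0 : P) : M) i : ℳ i) : M) = 0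
    rw [ZeroMemClass.coe_zero, decompose_zero, DirectSum.zero_apply, ZeroMemClass.coe_zero])
  map_add' x y := Subtype.ext (by
    show ((decompose ℳ ((x + y : P) : M) i : ℳ i) : M) = _
    rw [Submodule.coe_add, decompose_add, DirectSum.add_apply, AddMemClass.coe_add]
    rfl)

open Classical in
/-- the decomposition of a homogeneous submodule -/
noncomputable def subDec : DirectSum.Decomposition (subGr ℳ P) :=
  decompOfProj (subGr ℳ P) (subComp ℳ P hP) (fun y => (decompose ℳ (y : M)).support)
    (fun i y => (mem_subGr ℳ P).2 (decompose ℳ (y : M) i).2)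
    (fun y i hi => Subtype.ext (by
      show ((decompose ℳ (y : M) i : ℳ i) : M) = 0
      rw [DFinsupp.notMem_support_iff.1 hi]; rfl))
    (fun y => Subtype.ext (by
      rw [Submodule.coe_sum]
      exact sum_support_decompose ℳ (y : M)))
    (fun i y hy => Subtype.ext (decompose_of_mem_same ℳ ((mem_subGr ℳ P).1 hy)))
    (fun i j y hij hy => Subtype.ext (by
      show ((decompose ℳ (y : M) i : ℳ i) : M) = 0
      rw [decompose_of_mem_ne ℳ ((mem_subGr ℳ P).1 hy) (Ne.symm hij)]))

omit [DecidableEq ι] [GradedRing 𝒜] [DirectSum.Decomposition ℳ] in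
theorem subGSMul : SetLike.GradedSMul 𝒜 (subGr ℳ P) where
  smul_mem := by
    intro i j r y hr hy
    rw [vadd_eq_add]
    show ((r • y : P) : M) ∈ ℳ (i + j)
    rw [Submodule.coe_smul]
    exact gsmul_mem 𝒜 ℳ hr hy

/-- a homogeneous submodule as a bundled graded module -/
noncomputable def subG : GrLC.GMod.{u} 𝒜 :=
  { carrier := P
    gr := subGr ℳ P
    dec := subDec ℳ P hP
    gsmul := subGSMul 𝒜 ℳ P }

omit [DecidableEq ι] [GradedRing 𝒜] [DirectSum.Decomposition ℳ] [SetLike.GradedSMul 𝒜 ℳ] in
theorem subtype_isGrHom : GrLC.IsGrHom (subGr ℳ P) ℳ P.subtype := fun _ _ hy => hy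

end Sub

/-! ### Shifts -/

section Shift

variable {M : Type u} [AddCommGroup M] [Module R M] (ℳ : ι → AddSubgroup M)
  [DirectSum.Decomposition ℳ] [SetLike.GradedSMul 𝒜 ℳ] (g : ι)

/-- the shifted family of pieces -/
def shiftGr : ι → AddSubgroup M := fun j => ℳ (j + g)

open Classical in
/-- the decomposition of the shifted family -/
noncomputable def shiftDec : DirectSum.Decomposition (shiftGr ℳ g) :=
  decompOfProj (shiftGr ℳ g) (fun j => compHom ℳ (j + g))
    (fun x => (decompose ℳ x).support.image (fun i => i - g))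
    (fun j x => SetLike.coe_mem _)
    (fun x j hj => by
      rw [compHom_apply]
      have : j + g ∉ (decompose ℳ x).support := fun h =>
        hj (Finset.mem_image.2 ⟨j + g, h, by abel⟩)
      rw [DFinsupp.notMem_support_iff.1 this]; rfl)
    (fun x => by
      rw [Finset.sum_image (fun a _ b _ h => sub_left_injective h)]
      have : ∀ i, compHom ℳ (i - g + g) x = ((decompose ℳ x i : ℳ i) : M) := by
        intro i
        rw [sub_add_cancel, compHom_apply]
      simp only [this]
      exact sum_support_decompose ℳ x)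
    (fun j x hx => decompose_of_mem_same ℳ hx)
    (fun i j x hij hx => decompose_of_mem_ne ℳ hx (fun h => hij (add_right_cancel h).symm))

omit [DecidableEq ι] [GradedRing 𝒜] [DirectSum.Decomposition ℳ] in
theorem shiftGSMul : SetLike.GradedSMul 𝒜 (shiftGr ℳ g) where
  smul_mem := by
    intro i j r y hr hy
    rw [vadd_eq_add]
    show r • y ∈ ℳ (i + j + g)
    rw [add_assoc]
    exact gsmul_mem 𝒜 ℳ hr hy

/-- the shifted graded module -/
noncomputable def shiftG : GrLC.GMod.{u} 𝒜 :=
  { carrier := M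
    gr := shiftGr ℳ g
    dec := shiftDec ℳ g
    gsmul := shiftGSMul 𝒜 ℳ g }

end Shift

end Groth.Agent.H98.GrCat
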