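import Groth.Agent.H98.GrVan
import Mathlib.RingTheory.GradedAlgebra.Radical
import Mathlib.RingTheory.Ideal.AssociatedPrime.Finiteness

/-!
# Helper library (helper98): homogeneous prime avoidance in positively ℤ-graded rings, and the
existence of homogeneous regular elements of positive degree on finitely generated modules
without torsion for the irrelevant ideal.
-/

set_option autoImplicit false
universe u

open DirectSum

namespace Groth.Agent.H98.GrCat

variable {R : Type u} [CommRing R] (𝒜 : ℤ → AddSubgroup R) [GradedRing 𝒜]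

theorem exists_homog_notMem_of_not_le {q p : Ideal R} (hq : q.IsHomogeneous 𝒜) (h : ¬ q ≤ p) :
    ∃ (d : ℤ) (t : R), t ∈ 𝒜 d ∧ t ∈ q ∧ t ∉ p := by
  classical
  obtain ⟨r, hrq, hrp⟩ := SetLike.not_le_iff_exists.1 h
  by_contra hall
  push_neg at hall
  apply hrp
  rw [← DirectSum.sum_support_decompose 𝒜 r]
  exact Ideal.sum_mem _ fun i _ => hall i _ (SetLike.coe_mem _) (hq i hrq)

theorem exists_pos_homog_notMem (a : HomogeneousIdeal 𝒜)
    (ha : a.toIdeal = Ideal.span (⋃ n ∈ Set.Ioi (0 : ℤ), (𝒜 n : Set R))) {p : Ideal R}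
    (h : ¬ a.toIdeal ≤ p) : ∃ (d : ℤ) (t : R), 0 < d ∧ t ∈ 𝒜 d ∧ t ∉ p := by
  by_contra hall
  push_neg at hall
  apply h
  rw [ha]
  refine Ideal.span_le.2 fun t ht => ?_
  obtain ⟨n, hn, htn⟩ := Set.mem_iUnion₂.1 ht
  exact hall n t hn htn

/-- **homogeneous prime avoidance**: in a positively graded ring, finitely many homogeneous primes
none of which contains the irrelevant ideal are avoided by a homogeneous element of positive
degree -/
theorem homog_prime_avoidance (hpos : ∀ n : ℤ, n < 0 → 𝒜 n = ⊥) (a : HomogeneousIdeal 𝒜)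
    (ha : a.toIdeal = Ideal.span (⋃ n ∈ Set.Ioi (0 : ℤ), (𝒜 n : Set R))) :
    ∀ (k : ℕ) (S : Finset (Ideal R)), S.card = k →
      (∀ p ∈ S, p.IsPrime ∧ p.IsHomogeneous 𝒜 ∧ ¬ a.toIdeal ≤ p) →
      ∃ (e : ℤ) (x : R), 0 < e ∧ x ∈ 𝒜 e ∧ ∀ p ∈ S, x ∉ p := by
  classical
  intro k
  induction k with
  | zero =>
    intro S hS _
    rw [Finset.card_eq_zero] at hS
    subst hS
    exact ⟨1, 0, one_pos, zero_mem _, fun p hp => absurd hp (Finset.notMem_empty p)⟩
  | succ k ih =>
    intro S hS hprop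
    have hne : S.Nonempty := Finset.card_pos.1 (by omega)
    obtain ⟨p, hpS, hpmin⟩ := S.exists_minimal hne
    obtain ⟨hpprime, hphom, hpa⟩ := hprop p hpS
    obtain ⟨e, y, he, hy, hyS⟩ := ih (S.erase p) (by rw [Finset.card_erase_of_mem hpS, hS]; rfl)
      (fun q hq => hprop q (Finset.mem_of_mem_erase hq))
    by_cases hyp : y ∈ p
    · -- homogeneous elements of the other primes outside `p`
      have hex : ∀ q : Ideal R, q ∈ S.erase p → ∃ (d : ℤ) (t : R), t ∈ 𝒜 d ∧ t ∈ q ∧ t ∉ p := by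
        intro q hq
        refine exists_homog_notMem_of_not_le 𝒜 (hprop q (Finset.mem_of_mem_erase hq)).2.1 ?_
        intro hle
        have hpq : p ≤ q := hpmin (Finset.mem_of_mem_erase hq) hle
        exact (Finset.ne_of_mem_erase hq) (le_antisymm hle hpq)
      choose! d t ht using hex
      obtain ⟨d₀, t₀, hd₀, ht₀, ht₀p⟩ := exists_pos_homog_notMem 𝒜 a ha hpa
      have hdnn : ∀ q ∈ S.erase p, 0 ≤ d q := by
        intro q hq
        by_contra hneg
        push_neg at hneg
        apply (ht q hq).2.2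
        rw [eq_zero_of_mem_of_eq_bot (hpos _ hneg) (ht q hq).1]
        exact zero_mem _
      have hprodp : ∏ q ∈ S.erase p, t q ∉ p := by
        intro hmem
        obtain ⟨q, hq, hqp⟩ := (Ideal.IsPrime.prod_mem_iff (hp := hpprime)).1 hmem
        exact (ht q hq).2.2 hqp
      have hzp : t₀ * ∏ q ∈ S.erase p, t q ∉ p := by
        intro hmem
        rcases hpprime.mem_or_mem hmem with h | h
        · exact ht₀p h
        · exact hprodp h
      have hzdeg : t₀ * ∏ q ∈ S.erase p, t q ∈ 𝒜 (d₀ + ∑ q ∈ S.erase p, d q) :=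
        SetLike.mul_mem_graded ht₀
          (SetLike.prod_mem_graded 𝒜 d t (fun q hq => (ht q hq).1))
      have hzq : ∀ q ∈ S.erase p, t₀ * ∏ q ∈ S.erase p, t q ∈ q := by
        intro q hq
        refine q.mul_mem_left _ ?_
        rw [← Finset.mul_prod_erase (S.erase p) t hq]
        exact q.mul_mem_right _ (ht q hq).2.1
      have hdzpos : 0 < d₀ + ∑ q ∈ S.erase p, d q := by
        have h5 : 0 ≤ ∑ q ∈ S.erase p, d q := Finset.sum_nonneg hdnn
        omega
      obtain ⟨dz, hdz⟩ : ∃ dz : ℤ, dz = d₀ + ∑ q ∈ S.erase p, d q := ⟨_, rfl⟩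
      obtain ⟨z, hz⟩ : ∃ z : R, z = t₀ * ∏ q ∈ S.erase p, t q := ⟨_, rfl⟩
      rw [← hdz] at hdzpos hzdeg
      rw [← hz] at hzp hzdeg hzq
      have h1 : y ^ dz.toNat ∈ 𝒜 (dz * e) := by
        have h6 := SetLike.pow_mem_graded dz.toNat hy
        rw [nsmul_eq_mul, Int.toNat_of_nonneg hdzpos.le] at h6
        exact h6
      have h2 : z ^ e.toNat ∈ 𝒜 (dz * e) := by
        have h6 := SetLike.pow_mem_graded e.toNat hzdeg
        rw [nsmul_eq_mul, Int.toNat_of_nonneg he.le, mul_comm] at h6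
        exact h6
      have hdzN : 0 < dz.toNat := by omega
      have heN : 0 < e.toNat := by omega
      refine ⟨dz * e, y ^ dz.toNat + z ^ e.toNat, mul_pos hdzpos he, add_mem h1 h2, ?_⟩
      intro q hq hxq
      by_cases hqp : q = p
      · subst hqp
        have h7 : y ^ dz.toNat ∈ q := Ideal.pow_mem_of_mem q hyp _ hdzN
        have h8 : z ^ e.toNat ∈ q := by
          have h9 := q.sub_mem hxq h7
          rwa [add_sub_cancel_left] at h9
        exact hzp (hpprime.mem_of_pow_mem _ h8)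
      · have hq' : q ∈ S.erase p := Finset.mem_erase.2 ⟨hqp, hq⟩
        have hqprime : q.IsPrime := (hprop q hq).1
        have h7 : z ^ e.toNat ∈ q := Ideal.pow_mem_of_mem q (hzq q hq') _ heN
        have h8 : y ^ dz.toNat ∈ q := by
          have h9 := q.sub_mem hxq h7
          rwa [add_sub_cancel_right] at h9
        exact hyS q hq' (hqprime.mem_of_pow_mem _ h8)
    · refine ⟨e, y, he, hy, fun q hq => ?_⟩
      by_cases hqp : q = p
      · rw [hqp]
        exact hyp
      · exact hyS q (Finset.mem_erase.2 ⟨hqp, hq⟩)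

/-- a finitely generated module without torsion for the irrelevant ideal admits a homogeneous
regular element of positive degree -/
theorem exists_homog_regular [IsNoetherianRing R] (hpos : ∀ n : ℤ, n < 0 → 𝒜 n = ⊥)
    (a : HomogeneousIdeal 𝒜)
    (ha : a.toIdeal = Ideal.span (⋃ n ∈ Set.Ioi (0 : ℤ), (𝒜 n : Set R)))
    (M : Type u) [AddCommGroup M] [Module R M] [Module.Finite R M]
    (htor : DRing.torsionSub a.toIdeal M = ⊥) :
    ∃ (e : ℤ) (x : R), 0 < e ∧ x ∈ 𝒜 e ∧ IsSMulRegular M x := by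
  classical
  obtain ⟨S, hSdef⟩ : ∃ S : Finset (Ideal R), S = (associatedPrimes.finite R M).toFinset.image
      (fun p => (p.homogeneousCore 𝒜).toIdeal) := ⟨_, rfl⟩
  have hS : ∀ p ∈ S, p.IsPrime ∧ p.IsHomogeneous 𝒜 ∧ ¬ a.toIdeal ≤ p := by
    intro p hp
    rw [hSdef] at hp
    obtain ⟨p₀, hp₀, rfl⟩ := Finset.mem_image.1 hp
    rw [Set.Finite.mem_toFinset] at hp₀
    have hprime : p₀.IsPrime := hp₀.isPrime
    refine ⟨Ideal.IsPrime.homogeneousCore hprime, (p₀.homogeneousCore 𝒜).isHomogeneous, ?_⟩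
    intro hle
    have hle' : a.toIdeal ≤ p₀ := hle.trans (Ideal.toIdeal_homogeneousCore_le 𝒜 p₀)
    obtain ⟨_, z, hz⟩ := isAssociatedPrime_iff.1 hp₀
    have hzt : z ∈ DRing.torsionSub a.toIdeal M := ⟨1, fun r hr => by
      rw [pow_one] at hr
      have h5 : r ∈ (⊥ : Submodule R M).colon {z} := by
        rw [← hz]
        exact hle' hr
      rw [Submodule.mem_colon_singleton, Submodule.mem_bot] at h5
      exact h5⟩
    rw [htor, Submodule.mem_bot] at hzt
    apply hprime.ne_top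
    rw [hz, hzt, eq_top_iff]
    intro r _
    rw [Submodule.mem_colon_singleton, smul_zero]
    exact zero_mem _
  obtain ⟨e, x, he, hx, hxS⟩ := homog_prime_avoidance 𝒜 hpos a ha S.card S rfl hS
  refine ⟨e, x, he, hx, ?_⟩
  by_contra hreg
  have h5 : x ∈ ({r : R | IsSMulRegular M r}ᶜ : Set R) := hreg
  rw [← biUnion_associatedPrimes_eq_compl_regular R M] at h5
  obtain ⟨p₀, hp₀, hxp⟩ := Set.mem_iUnion₂.1 h5
  have h6 : (p₀.homogeneousCore 𝒜).toIdeal ∈ S := by
    rw [hSdef]
    exact Finset.mem_image.2 ⟨p₀, (Set.Finite.mem_toFinset _).2 hp₀, rfl⟩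
  exact hxS (p₀.homogeneousCore 𝒜).toIdeal h6 (HomogeneousIdeal.mem_iff.2
    (Ideal.mem_homogeneousCore_of_homogeneous_of_mem ⟨e, hx⟩ hxp))

end Groth.Agent.H98.GrCat
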