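import Groth.Agent.H98.GrLes2
import Groth.Agent.H98.GrHPA
import Groth.Agent.H98.GrTor
import Groth.Agent.H98.GrQuotG

/-!
# Helper library (helper98): the pieces of graded local cohomology with support in the irrelevant
ideal of a positively graded Noetherian ring are finitely generated over the degree-zero subring
and vanish in large degrees (finitely generated graded modules).
-/

set_option autoImplicit false
universe u

open DirectSum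

namespace Groth.Agent.H98.GrCat

/-- the middle term of a sequence exact in the middle with Noetherian ends is Noetherian -/
theorem isNoetherian_of_ker_le_range {S : Type*} [Ring S] {P₁ P₂ P₃ : Type*} [AddCommGroup P₁]
    [AddCommGroup P₂] [AddCommGroup P₃] [Module S P₁] [Module S P₂] [Module S P₃]
    [IsNoetherian S P₁] [IsNoetherian S P₃] (f : P₁ →ₗ[S] P₂) (g : P₂ →ₗ[S] P₃)
    (h : LinearMap.ker g ≤ LinearMap.range f) : IsNoetherian S P₂ := by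
  haveI : IsNoetherian S (LinearMap.range f) := inferInstance
  haveI : IsNoetherian S (LinearMap.ker g) := isNoetherian_of_le h
  haveI : IsNoetherian S (LinearMap.range g) := inferInstance
  exact isNoetherian_of_range_eq_ker (LinearMap.ker g).subtype g.rangeRestrict
    (by rw [Submodule.range_subtype, LinearMap.ker_rangeRestrict])

section Ind

variable {ι : Type} [AddCommGroup ι] [DecidableEq ι]
variable {R : Type u} [CommRing R] {𝒜 : ι → AddSubgroup R} [GradedRing 𝒜]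
variable {M₁ M₂ M₃ : Type u} [AddCommGroup M₁] [Module R M₁] [AddCommGroup M₂] [Module R M₂]
  [AddCommGroup M₃] [Module R M₃]
  {ℳ₁ : ι → AddSubgroup M₁} [DirectSum.Decomposition ℳ₁] [SetLike.GradedSMul 𝒜 ℳ₁]
  {ℳ₂ : ι → AddSubgroup M₂} [DirectSum.Decomposition ℳ₂] [SetLike.GradedSMul 𝒜 ℳ₂]
  {ℳ₃ : ι → AddSubgroup M₃} [DirectSum.Decomposition ℳ₃] [SetLike.GradedSMul 𝒜 ℳ₃]

/-- vanishing of the piece of degree `n` of graded local cohomology, in cocycle form -/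
def Vn (E : GrLC.StarInjRes 𝒜 ℳ₁) (a : HomogeneousIdeal 𝒜) (i : ℕ) (n : ι) : Prop :=
  ∀ c, c ∈ E.cocyc a i → c ∈ (E.X i).gr n → c ∈ E.cobdy a i

theorem Hcomp_eq_bot_of_vn {E : GrLC.StarInjRes 𝒜 ℳ₁} {a : HomogeneousIdeal 𝒜} {i : ℕ} {n : ι}
    (h : Vn E a i n) : E.Hcomp a i n = ⊥ := by
  rw [eq_bot_iff]
  rintro y ⟨z, hzn, rfl⟩
  rw [Submodule.mem_bot]
  exact (Submodule.Quotient.mk_eq_zero _).2 (h z z.2 hzn)

theorem vn_of_Hgr_eq_bot {E : GrLC.StarInjRes 𝒜 ℳ₁} {a : HomogeneousIdeal 𝒜} {i : ℕ} {n : ι}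
    (h : E.Hgr a i n = ⊥) : Vn E a i n := by
  intro c hc hcn
  have hmem : E.toH a i ⟨c, hc⟩ ∈ E.Hgr a i n := ⟨⟨c, hc⟩, hcn, rfl⟩
  have h0 := eq_zero_of_mem_of_eq_bot h hmem
  have h5 : (⟨c, hc⟩ : E.cocyc a i) ∈ (E.cobdy a i).comap (E.cocyc a i).subtype :=
    (Submodule.Quotient.mk_eq_zero _).1 h0
  exact h5

/-- graded local cohomology is torsion -/
theorem H_mem_torsionSub (E : GrLC.StarInjRes 𝒜 ℳ₁) (a : HomogeneousIdeal 𝒜) (i : ℕ)
    (z : E.H a i) : z ∈ DRing.torsionSub a.toIdeal (E.H a i) := by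
  obtain ⟨c, rfl⟩ := Submodule.mkQ_surjective _ z
  obtain ⟨n, hn⟩ := c.2.1
  refine ⟨n, fun r hr => ?_⟩
  rw [← map_smul]
  have h0 : r • c = 0 := Subtype.ext (hn r hr)
  rw [h0, map_zero]

/-- the map induced on graded local cohomology by a linear map between terms of resolutions
which respects cocycles and coboundaries -/
noncomputable def Hind (E₁ : GrLC.StarInjRes 𝒜 ℳ₁) (E₂ : GrLC.StarInjRes 𝒜 ℳ₂)
    (a : HomogeneousIdeal 𝒜) (i j : ℕ) (κ : (E₁.X i).carrier →ₗ[R] (E₂.X j).carrier)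
    (hz : ∀ c, c ∈ E₁.cocyc a i → κ c ∈ E₂.cocyc a j)
    (hb : ∀ c, c ∈ E₁.cobdy a i → κ c ∈ E₂.cobdy a j) : E₁.H a i →ₗ[R] E₂.H a j :=
  Submodule.mapQ _ _ (κ.restrict hz) (fun z hz' => hb _ hz')

theorem Hind_toH (E₁ : GrLC.StarInjRes 𝒜 ℳ₁) (E₂ : GrLC.StarInjRes 𝒜 ℳ₂)
    (a : HomogeneousIdeal 𝒜) (i j : ℕ) (κ : (E₁.X i).carrier →ₗ[R] (E₂.X j).carrier)
    (hz : ∀ c, c ∈ E₁.cocyc a i → κ c ∈ E₂.cocyc a j)
    (hb : ∀ c, c ∈ E₁.cobdy a i → κ c ∈ E₂.cobdy a j) (z : E₁.cocyc a i) :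
    Hind E₁ E₂ a i j κ hz hb (E₁.toH a i z) = E₂.toH a j ⟨κ z, hz z z.2⟩ := rfl

theorem Hind_mem_Hcomp (E₁ : GrLC.StarInjRes 𝒜 ℳ₁) (E₂ : GrLC.StarInjRes 𝒜 ℳ₂)
    (a : HomogeneousIdeal 𝒜) (i j : ℕ) (κ : (E₁.X i).carrier →ₗ[R] (E₂.X j).carrier)
    (hz : ∀ c, c ∈ E₁.cocyc a i → κ c ∈ E₂.cocyc a j)
    (hb : ∀ c, c ∈ E₁.cobdy a i → κ c ∈ E₂.cobdy a j) {n n' : ι}
    (hg : ∀ c, c ∈ (E₁.X i).gr n → κ c ∈ (E₂.X j).gr n') {y : E₁.H a i}
    (hy : y ∈ E₁.Hcomp a i n) : Hind E₁ E₂ a i j κ hz hb y ∈ E₂.Hcomp a j n' := by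
  obtain ⟨z, hzn, rfl⟩ := hy
  exact ⟨⟨κ z, hz z z.2⟩, hg _ hzn, rfl⟩

/-- Noetherianity of a piece of graded local cohomology from exactness, in cocycle form, of a
sequence of three pieces with Noetherian ends -/
theorem isNoetherian_Hcomp_of_exact (E₁ : GrLC.StarInjRes 𝒜 ℳ₁) (E₂ : GrLC.StarInjRes 𝒜 ℳ₂)
    (E₃ : GrLC.StarInjRes 𝒜 ℳ₃) (a : HomogeneousIdeal 𝒜) (i₁ i₂ i₃ : ℕ) (n₁ n₂ n₃ : ι)
    (κ₁ : (E₁.X i₁).carrier →ₗ[R] (E₂.X i₂).carrier)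
    (κ₂ : (E₂.X i₂).carrier →ₗ[R] (E₃.X i₃).carrier)
    (h1z : ∀ c, c ∈ E₁.cocyc a i₁ → κ₁ c ∈ E₂.cocyc a i₂)
    (h1b : ∀ c, c ∈ E₁.cobdy a i₁ → κ₁ c ∈ E₂.cobdy a i₂)
    (h1g : ∀ c, c ∈ (E₁.X i₁).gr n₁ → κ₁ c ∈ (E₂.X i₂).gr n₂)
    (h2z : ∀ c, c ∈ E₂.cocyc a i₂ → κ₂ c ∈ E₃.cocyc a i₃)
    (h2b : ∀ c, c ∈ E₂.cobdy a i₂ → κ₂ c ∈ E₃.cobdy a i₃)
    (h2g : ∀ c, c ∈ (E₂.X i₂).gr n₂ → κ₂ c ∈ (E₃.X i₃).gr n₃)
    (hex : ∀ b, b ∈ E₂.cocyc a i₂ → b ∈ (E₂.X i₂).gr n₂ → κ₂ b ∈ E₃.cobdy a i₃ →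
      ∃ c, c ∈ E₁.cocyc a i₁ ∧ c ∈ (E₁.X i₁).gr n₁ ∧ b - κ₁ c ∈ E₂.cobdy a i₂)
    [IsNoetherian (GrLC.deg0 𝒜) (E₁.Hcomp a i₁ n₁)]
    [IsNoetherian (GrLC.deg0 𝒜) (E₃.Hcomp a i₃ n₃)] :
    IsNoetherian (GrLC.deg0 𝒜) (E₂.Hcomp a i₂ n₂) := by
  obtain ⟨f, hf⟩ : ∃ f : E₁.Hcomp a i₁ n₁ →ₗ[GrLC.deg0 𝒜] E₂.Hcomp a i₂ n₂,
      ∀ y, ((f y : E₂.Hcomp a i₂ n₂) : E₂.H a i₂) =
        Hind E₁ E₂ a i₁ i₂ κ₁ h1z h1b (y : E₁.H a i₁) :=
    ⟨((Hind E₁ E₂ a i₁ i₂ κ₁ h1z h1b).restrictScalars (GrLC.deg0 𝒜)).restrict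
      (fun y hy => Hind_mem_Hcomp E₁ E₂ a i₁ i₂ κ₁ h1z h1b h1g hy), fun _ => rfl⟩
  obtain ⟨g, hg⟩ : ∃ g : E₂.Hcomp a i₂ n₂ →ₗ[GrLC.deg0 𝒜] E₃.Hcomp a i₃ n₃,
      ∀ y, ((g y : E₃.Hcomp a i₃ n₃) : E₃.H a i₃) =
        Hind E₂ E₃ a i₂ i₃ κ₂ h2z h2b (y : E₂.H a i₂) :=
    ⟨((Hind E₂ E₃ a i₂ i₃ κ₂ h2z h2b).restrictScalars (GrLC.deg0 𝒜)).restrict
      (fun y hy => Hind_mem_Hcomp E₂ E₃ a i₂ i₃ κ₂ h2z h2b h2g hy), fun _ => rfl⟩
  refine isNoetherian_of_ker_le_range f g ?_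
  intro y hy
  obtain ⟨z, hzn, hzy⟩ := y.2
  have h0 : Hind E₂ E₃ a i₂ i₃ κ₂ h2z h2b (y : E₂.H a i₂) = 0 := by
    rw [← hg, LinearMap.mem_ker.1 hy]
    rfl
  rw [← hzy, Hind_toH] at h0
  have h1' : (⟨κ₂ z, h2z z z.2⟩ : E₃.cocyc a i₃) ∈
      (E₃.cobdy a i₃).comap (E₃.cocyc a i₃).subtype := (Submodule.Quotient.mk_eq_zero _).1 h0
  have h1 : κ₂ z ∈ E₃.cobdy a i₃ := h1'
  obtain ⟨c, hc, hcn, hcb⟩ := hex z z.2 hzn h1
  refine ⟨⟨E₁.toH a i₁ ⟨c, hc⟩, ⟨⟨c, hc⟩, hcn, rfl⟩⟩, ?_⟩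
  apply Subtype.ext
  rw [hf, ← hzy]
  show Hind E₁ E₂ a i₁ i₂ κ₁ h1z h1b (E₁.toH a i₁ ⟨c, hc⟩) = E₂.toH a i₂ z
  rw [Hind_toH]
  refine (Submodule.Quotient.eq _).2 ?_
  show κ₁ c - z ∈ E₂.cobdy a i₂
  have h2 := neg_mem hcb
  rwa [neg_sub] at h2

end Ind

section Base

variable {R : Type u} [CommRing R] (𝒜 : ℤ → AddSubgroup R) [GradedRing 𝒜]
variable {X : Type u} [AddCommGroup X] [Module R X] (𝓧 : ℤ → AddSubgroup X)
  [DirectSum.Decomposition 𝓧] [SetLike.GradedSMul 𝒜 𝓧]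

/-- the homogeneous pieces of a Noetherian graded module are Noetherian over the degree-zero
subring -/
theorem isNoetherian_piece_of_isNoetherian [IsNoetherian R X] (n : ℤ)
    (P : Submodule (GrLC.deg0 𝒜) X) (hP : ∀ y, y ∈ P ↔ y ∈ 𝓧 n) :
    IsNoetherian (GrLC.deg0 𝒜) P := by
  classical
  obtain ⟨φ, hφ⟩ : ∃ φ : Submodule (GrLC.deg0 𝒜) P → Submodule R X,
      ∀ Q, φ Q = Submodule.span R ((fun w : P => (w : X)) '' (Q : Set P)) := ⟨_, fun _ => rfl⟩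
  have key : ∀ (Q : Submodule (GrLC.deg0 𝒜) P) (w : P), (w : X) ∈ φ Q → w ∈ Q := by
    intro Q w hw
    rw [hφ] at hw
    obtain ⟨c, f, g, hsum⟩ := Submodule.mem_span_set'.1 hw
    have hg : ∀ j, ∃ p : P, p ∈ Q ∧ (p : X) = (g j : X) := by
      intro j
      obtain ⟨p, hp, hpe⟩ := (g j).2
      exact ⟨p, hp, hpe⟩
    choose p hpQ hpe using hg
    have hdeg : ∀ j, (g j : X) ∈ 𝓧 n := fun j => by
      rw [← hpe j]
      exact (hP _).1 (p j).2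
    have h3 := comp_sum_smul_same 𝒜 𝓧 f (fun j => (g j : X)) n hdeg
    rw [hsum, decompose_of_mem_same 𝓧 ((hP _).1 w.2)] at h3
    have h4 : w = ∑ j, (⟨((decompose 𝒜 (f j) 0 : 𝒜 0) : R), SetLike.coe_mem _⟩ :
        GrLC.deg0 𝒜) • p j := by
      apply Subtype.ext
      rw [h3, Submodule.coe_sum]
      refine Finset.sum_congr rfl fun j _ => ?_
      rw [Submodule.coe_smul, hpe j]
      rfl
    rw [h4]
    exact Submodule.sum_mem _ fun j _ => Submodule.smul_mem _ _ (hpQ j)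
  have hmono : StrictMono φ := by
    intro Q Q' hlt
    refine lt_of_le_of_ne ?_ ?_
    · rw [hφ, hφ]
      exact Submodule.span_mono (Set.image_mono (SetLike.coe_subset_coe.2 hlt.le))
    · intro heq
      apply not_le_of_gt hlt
      intro w hw
      apply key Q w
      rw [heq, hφ]
      exact Submodule.subset_span ⟨w, hw, rfl⟩
  haveI : WellFoundedGT (Submodule R X) := isNoetherian_iff'.1 inferInstance
  exact isNoetherian_iff'.2 hmono.wellFoundedGT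

/-- over a positively graded Noetherian ring, pieces of large degree lie in a given power of the
irrelevant ideal -/
theorem exists_deg_bound [IsNoetherianRing R] (a : HomogeneousIdeal 𝒜)
    (ha : a.toIdeal = Ideal.span (⋃ n ∈ Set.Ioi (0 : ℤ), (𝒜 n : Set R))) :
    ∃ D : ℤ, 1 ≤ D ∧ ∀ (t : ℕ) (j : ℤ), (t : ℤ) * D ≤ j → ∀ y ∈ 𝒜 j, y ∈ a.toIdeal ^ t := by
  classical
  have hfg : (Submodule.span R (⋃ n ∈ Set.Ioi (0 : ℤ), (𝒜 n : Set R))).FG := by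
    have h := IsNoetherian.noetherian a.toIdeal
    rw [ha] at h
    exact h
  obtain ⟨s, hsub, hspan⟩ := (Submodule.fg_span_iff_fg_span_finset_subset _).1 hfg
  have hk : ∀ g : R, ∃ k : ℤ, 0 < k ∧ (g ∈ s → g ∈ 𝒜 k) := by
    intro g
    by_cases hg : g ∈ s
    · obtain ⟨k, hk, hgk⟩ := Set.mem_iUnion₂.1 (hsub (Finset.mem_coe.2 hg))
      exact ⟨k, hk, fun _ => hgk⟩
    · exact ⟨1, one_pos, fun h => absurd h hg⟩
  choose k hkpos hkmem using hk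
  obtain ⟨D₀, hD₀⟩ := Finset.exists_le (s.image k)
  obtain ⟨D, hD1, hDk⟩ : ∃ D : ℤ, 1 ≤ D ∧ ∀ g ∈ s, k g ≤ D :=
    ⟨max D₀ 1, le_max_right _ _, fun g hg =>
      (hD₀ _ (Finset.mem_image_of_mem k hg)).trans (le_max_left _ _)⟩
  refine ⟨D, hD1, ?_⟩
  intro t
  induction t with
  | zero =>
    intro j _ y _
    rw [pow_zero, Ideal.one_eq_top]
    trivial
  | succ t ih =>
    intro j hj y hy
    rw [Nat.cast_succ, add_mul, one_mul] at hj
    have htD : (0 : ℤ) ≤ (t : ℤ) * D := mul_nonneg (Int.natCast_nonneg t) (by linarith)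
    have hjpos : (0 : ℤ) < j := by linarith
    have hya : y ∈ Submodule.span R (s : Set R) := by
      rw [← hspan]
      exact Submodule.subset_span (Set.mem_biUnion (Set.mem_Ioi.2 hjpos) hy)
    obtain ⟨c, f, g, hsum⟩ := Submodule.mem_span_set'.1 hya
    have hgs : ∀ l, (g l : R) ∈ s := fun l => Finset.mem_coe.1 (g l).2
    have h3 := comp_sum_smul 𝒜 𝒜 f (fun l => (g l : R)) (fun l => k (g l : R))
      (fun l => hkmem _ (hgs l)) j
    rw [hsum, decompose_of_mem_same 𝒜 hy] at h3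
    rw [h3, pow_succ]
    refine Ideal.sum_mem _ fun l _ => ?_
    rw [smul_eq_mul]
    refine Ideal.mul_mem_mul (ih (j - k (g l : R)) ?_ _ (SetLike.coe_mem _)) ?_
    · have h5 := hDk _ (hgs l)
      linarith
    · rw [ha]
      exact Ideal.subset_span (Set.mem_biUnion (Set.mem_Ioi.2 (hkpos _)) (hkmem _ (hgs l)))

/-- a finitely generated graded module over a positively graded Noetherian ring which is torsion
for the irrelevant ideal vanishes in large degrees -/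
theorem eventually_bot_of_torsion' [IsNoetherianRing R] (a : HomogeneousIdeal 𝒜)
    (ha : a.toIdeal = Ideal.span (⋃ n ∈ Set.Ioi (0 : ℤ), (𝒜 n : Set R))) [Module.Finite R X]
    (htor : ∀ z : X, z ∈ DRing.torsionSub a.toIdeal X) : ∃ n₀ : ℤ, ∀ n, n₀ ≤ n → 𝓧 n = ⊥ := by
  classical
  obtain ⟨D, hD1, hD⟩ := exists_deg_bound 𝒜 a ha
  obtain ⟨t, ht⟩ := LCArt.exists_pow_kill_torsionSub a.toIdeal X
  obtain ⟨s, hs⟩ := (Module.Finite.fg_top : (⊤ : Submodule R X).FG)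
  obtain ⟨D₁, hD₁⟩ := Finset.exists_le (s.biUnion fun g => (decompose 𝓧 g).support)
  have key : ∀ z : X, ∀ (r : R) (n : ℤ), D₁ + (t : ℤ) * D ≤ n →
      ((decompose 𝓧 (r • z) n : 𝓧 n) : X) = 0 := by
    intro z
    have hz : z ∈ Submodule.span R (s : Set X) := by
      rw [hs]
      trivial
    induction hz using Submodule.span_induction with
    | mem g hg =>
      intro r n hn
      have e : r • g = ∑ d ∈ (decompose 𝓧 g).support, r • ((decompose 𝓧 g d : 𝓧 d) : X) := by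
        rw [← Finset.smul_sum, DirectSum.sum_support_decompose 𝓧 g]
      rw [e, ← compHom_apply, map_sum]
      refine Finset.sum_eq_zero fun d hd => ?_
      rw [compHom_apply, comp_smul_hom 𝒜 𝓧 (SetLike.coe_mem _) r n]
      have hdD : d ≤ D₁ := hD₁ d (Finset.mem_biUnion.2 ⟨g, hg, hd⟩)
      exact ht _ (hD t (n - d) (by linarith) _ (SetLike.coe_mem _)) _ (htor _)
    | zero =>
      intro r n _
      rw [smul_zero, decompose_zero, DirectSum.zero_apply, ZeroMemClass.coe_zero]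
    | add y z _ _ hy hz =>
      intro r n hn
      rw [smul_add, decompose_add, DirectSum.add_apply, AddMemClass.coe_add, hy r n hn,
        hz r n hn, add_zero]
    | smul c z _ hz =>
      intro r n hn
      rw [smul_smul]
      exact hz (r * c) n hn
  refine ⟨D₁ + (t : ℤ) * D, fun n hn => ?_⟩
  rw [eq_bot_iff]
  intro z hz
  rw [AddSubgroup.mem_bot, ← decompose_of_mem_same 𝓧 hz]
  have h1 := key z 1 n hn
  rwa [one_smul] at h1

end Base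

section Main

variable {R : Type u} [CommRing R] [IsNoetherianRing R] (𝒜 : ℤ → AddSubgroup R) [GradedRing 𝒜]

/-- finiteness and vanishing in large degrees of the pieces of the `i`-th graded local cohomology
of all finitely generated graded modules -/
def FV (a : HomogeneousIdeal 𝒜) (i : ℕ) : Prop :=
  ∀ (M : Type u) [AddCommGroup M] [Module R M] [Module.Finite R M] (ℳ : ℤ → AddSubgroup M)
    [DirectSum.Decomposition ℳ] [SetLike.GradedSMul 𝒜 ℳ] (E : GrLC.StarInjRes 𝒜 ℳ),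
    (∀ n, IsNoetherian (GrLC.deg0 𝒜) (E.Hcomp a i n)) ∧ ∃ r : ℤ, ∀ n, r ≤ n → Vn E a i n

theorem isNoetherian_H_zero {M : Type u} [AddCommGroup M] [Module R M] [Module.Finite R M]
    {ℳ : ℤ → AddSubgroup M} [DirectSum.Decomposition ℳ] [SetLike.GradedSMul 𝒜 ℳ]
    (E : GrLC.StarInjRes 𝒜 ℳ) (a : HomogeneousIdeal 𝒜) : IsNoetherian R (E.H a 0) := by
  haveI : IsNoetherian R M := isNoetherian_of_isNoetherianRing_of_finite R M
  haveI : IsNoetherian R (LinearMap.range E.ε) := inferInstance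
  have hle : E.cocyc a 0 ≤ LinearMap.range E.ε := by
    intro c hc
    rw [← E.exact_zero]
    exact hc.2
  haveI : IsNoetherian R (E.cocyc a 0) := isNoetherian_of_le hle
  infer_instance

theorem fv_zero (a : HomogeneousIdeal 𝒜)
    (ha : a.toIdeal = Ideal.span (⋃ n ∈ Set.Ioi (0 : ℤ), (𝒜 n : Set R))) : FV 𝒜 a 0 := by
  intro M _ _ _ ℳ _ _ E
  letI : DirectSum.Decomposition (E.Hgr a 0) := HDec E a 0
  haveI : SetLike.GradedSMul 𝒜 (E.Hgr a 0) := HGSMul E a 0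
  haveI : IsNoetherian R (E.H a 0) := isNoetherian_H_zero 𝒜 E a
  refine ⟨fun n => ?_, ?_⟩
  · exact isNoetherian_piece_of_isNoetherian 𝒜 (E.Hgr a 0) n (E.Hcomp a 0 n) (fun y => Iff.rfl)
  · obtain ⟨n₀, hn₀⟩ := eventually_bot_of_torsion' 𝒜 (E.Hgr a 0) a ha (H_mem_torsionSub E a 0)
    exact ⟨n₀, fun n hn => vn_of_Hgr_eq_bot (hn₀ n hn)⟩

/-- the inductive step for modules without torsion for the irrelevant ideal -/
theorem fv_succ_of_torsionFree (hpos : ∀ n : ℤ, n < 0 → 𝒜 n = ⊥) (a : HomogeneousIdeal 𝒜)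
    (ha : a.toIdeal = Ideal.span (⋃ n ∈ Set.Ioi (0 : ℤ), (𝒜 n : Set R))) (i : ℕ)
    (hFV : FV 𝒜 a i) (M : Type u) [AddCommGroup M] [Module R M] [Module.Finite R M]
    (ℳ : ℤ → AddSubgroup M) [DirectSum.Decomposition ℳ] [SetLike.GradedSMul 𝒜 ℳ]
    (htor : DRing.torsionSub a.toIdeal M = ⊥) (E : GrLC.StarInjRes 𝒜 ℳ) :
    (∀ n, IsNoetherian (GrLC.deg0 𝒜) (E.Hcomp a (i + 1) n)) ∧
      ∃ r : ℤ, ∀ n, r ≤ n → Vn E a (i + 1) n := by
  classical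
  obtain ⟨e, x, he, hx, hreg⟩ := exists_homog_regular 𝒜 hpos a ha M htor
  have hxa : x ∈ a.toIdeal := by
    rw [ha]
    exact Ideal.subset_span (Set.mem_biUnion (Set.mem_Ioi.2 he) hx)
  -- the short exact sequence `0 → M(-e) → M → M/xM → 0`
  obtain ⟨f, hfdef⟩ : ∃ f : (shiftG 𝒜 ℳ (-e)).carrier →ₗ[R] M, ∀ v, f v = x • (v : M) :=
    ⟨LinearMap.lsmul R M x, fun _ => rfl⟩
  have hf : GrLC.IsGrHom (shiftG 𝒜 ℳ (-e)).gr ℳ f := by
    intro k v hv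
    rw [hfdef]
    have h := gsmul_mem 𝒜 ℳ hx (show (v : M) ∈ ℳ (k + -e) from hv)
    have e' : e + (k + -e) = k := by ring
    rwa [e'] at h
  have hfinj : Function.Injective f := by
    intro u v huv
    rw [hfdef, hfdef] at huv
    exact hreg huv
  have hB : (LinearMap.range f).IsHomogeneous ℳ :=
    range_isHomogeneous (shiftG 𝒜 ℳ (-e)).gr ℳ hf
  obtain ⟨g, hgdef⟩ : ∃ g : M →ₗ[R] (quotG 𝒜 ℳ (LinearMap.range f) hB).carrier,
      ∀ v, g v = (LinearMap.range f).mkQ v := ⟨(LinearMap.range f).mkQ, fun _ => rfl⟩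
  have hg : GrLC.IsGrHom ℳ (quotG 𝒜 ℳ (LinearMap.range f) hB).gr g :=
    fun k z hz => ⟨z, hz, (hgdef z).symm⟩
  have hgsurj : Function.Surjective g := by
    intro q
    obtain ⟨v, hv⟩ := (LinearMap.range f).mkQ_surjective q
    exact ⟨v, by rw [hgdef]; exact hv⟩
  have hex : ∀ b, g b = 0 → ∃ a', f a' = b := by
    intro b hb
    rw [hgdef] at hb
    exact (Submodule.Quotient.mk_eq_zero _).1 hb
  have hgf : ∀ a', g (f a') = 0 := by
    intro a'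
    rw [hgdef]
    exact (Submodule.Quotient.mk_eq_zero _).2 ⟨a', rfl⟩
  obtain ⟨G, -⟩ : ∃ G : GrLC.StarInjRes 𝒜 (quotG 𝒜 ℳ (LinearMap.range f) hB).gr, True :=
    ⟨starInjRes 𝒜 _, trivial⟩
  obtain ⟨ψ, hψdeg, hψ0, hψc⟩ := exists_lift E G 0 g
    (fun k z hz => by rw [add_zero]; exact hg k z hz)
  have hψgr : ∀ n, GrLC.IsGrHom (E.X n).gr (G.X n).gr (ψ n) := by
    intro n k z hz
    have h := hψdeg n k z hz
    rwa [add_zero] at h
  obtain ⟨φ, hφdef⟩ : ∃ φ : ∀ n, ((shiftRes E (-e)).X n).carrier →ₗ[R] (E.X n).carrier,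
      ∀ n v, φ n v = x • (v : (E.X n).carrier) :=
    ⟨fun n => LinearMap.lsmul R (E.X n).carrier x, fun _ _ => rfl⟩
  have hφgr : ∀ n, GrLC.IsGrHom ((shiftRes E (-e)).X n).gr (E.X n).gr (φ n) := by
    intro n k v hv
    rw [hφdef]
    have h := gsmul_mem 𝒜 (E.X n).gr hx (show (v : (E.X n).carrier) ∈ (E.X n).gr (k + -e) from hv)
    have e' : e + (k + -e) = k := by ring
    rwa [e'] at h
  obtain ⟨θ, hθgr, hθz, hθb, -, -, hA⟩ := les_core (F := shiftRes E (-e)) (G := G) hf hg hfinj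
    hgsurj hex hgf a E φ hφgr
    (fun n v => by
      rw [hφdef, hφdef]
      exact (map_smul (E.d n) x v).symm)
    (fun v => by
      rw [hφdef, hfdef]
      exact (map_smul E.ε x v).symm)
    ψ hψgr hψc hψ0
  -- everything in terms of `E` and `G`
  obtain ⟨θE, hθEg, hθEz, hθEb, hA'⟩ :
      ∃ θE : ∀ i, (G.X i).carrier →ₗ[R] (E.X (i + 1)).carrier,
      (∀ i n c, c ∈ (G.X i).gr n → θE i c ∈ (E.X (i + 1)).gr (n + -e)) ∧
      (∀ i c, c ∈ G.cocyc a i → θE i c ∈ E.cocyc a (i + 1)) ∧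
      (∀ i c, c ∈ G.cobdy a i → θE i c ∈ E.cobdy a (i + 1)) ∧
      (∀ i n a₀, a₀ ∈ E.cocyc a (i + 1) → a₀ ∈ (E.X (i + 1)).gr (n + -e) →
        x • a₀ ∈ E.cobdy a (i + 1) →
        ∃ c, c ∈ G.cocyc a i ∧ c ∈ (G.X i).gr n ∧ a₀ - θE i c ∈ E.cobdy a (i + 1)) :=
    ⟨θ, fun i n c hc => hθgr i n c hc, hθz, hθb, fun i n a₀ h1 h2 h3 =>
      hA i n a₀ h1 h2 (by rw [hφdef]; exact h3)⟩
  haveI : Module.Finite R (quotG 𝒜 ℳ (LinearMap.range f) hB).carrier :=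
    inferInstanceAs (Module.Finite R (M ⧸ LinearMap.range f))
  obtain ⟨hfinC, rC, hrC⟩ := hFV (quotG 𝒜 ℳ (LinearMap.range f) hB).carrier
    (quotG 𝒜 ℳ (LinearMap.range f) hB).gr G
  -- vanishing
  have hvan : ∀ t : ℕ, ∀ n : ℤ, rC - e ≤ n → ∀ a₀, a₀ ∈ E.cocyc a (i + 1) →
      a₀ ∈ (E.X (i + 1)).gr n → x ^ t • a₀ ∈ E.cobdy a (i + 1) → a₀ ∈ E.cobdy a (i + 1) := by
    intro t
    induction t with
    | zero =>
      intro n _ a₀ _ _ h
      rwa [pow_zero, one_smul] at h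
    | succ t ih =>
      intro n hn a₀ ha₀ ha₀n h
      have h1 : x • a₀ ∈ E.cobdy a (i + 1) := by
        refine ih (e + n) (by omega) (x • a₀) ((E.cocyc a (i + 1)).smul_mem x ha₀)
          (gsmul_mem 𝒜 (E.X (i + 1)).gr hx ha₀n) ?_
        rw [smul_smul, ← pow_succ]
        exact h
      obtain ⟨c, hc, hcn, hcob⟩ := hA' i (n + e) a₀ ha₀
        (by rw [add_neg_cancel_right]; exact ha₀n) h1
      have h2 := hθEb i c (hrC (n + e) (by omega) c hc hcn)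
      have h3 := add_mem hcob h2
      rwa [sub_add_cancel] at h3
  have hV : ∀ n, rC - e ≤ n → Vn E a (i + 1) n := by
    intro n hn c hc hcn
    obtain ⟨t, ht⟩ := hc.1
    have h0 := ht (x ^ t) (Ideal.pow_mem_pow hxa t)
    exact hvan t n hn c hc hcn (by rw [h0]; exact zero_mem _)
  -- finiteness
  obtain ⟨μ, hμ⟩ : ∃ μ : (E.X (i + 1)).carrier →ₗ[R] (E.X (i + 1)).carrier,
      ∀ c, μ c = x • c := ⟨LinearMap.lsmul R _ x, fun _ => rfl⟩
  have hfin : ∀ k : ℕ, ∀ j : ℤ, rC - e ≤ j + (k : ℤ) * e →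
      IsNoetherian (GrLC.deg0 𝒜) (E.Hcomp a (i + 1) j) := by
    intro k
    induction k with
    | zero =>
      intro j hj
      rw [Nat.cast_zero, zero_mul, add_zero] at hj
      rw [Hcomp_eq_bot_of_vn (hV j hj)]
      infer_instance
    | succ k ih =>
      intro j hj
      haveI := hfinC (j + e)
      haveI := ih (j + e) (by
        rw [Nat.cast_succ, add_mul, one_mul] at hj
        linarith)
      exact isNoetherian_Hcomp_of_exact G E E a i (i + 1) (i + 1) (j + e) j (j + e) (θE i) μ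
        (hθEz i) (hθEb i)
        (fun c hc => by
          have h := hθEg i (j + e) c hc
          rwa [add_neg_cancel_right] at h)
        (fun c hc => by rw [hμ]; exact (E.cocyc a (i + 1)).smul_mem x hc)
        (fun c hc => by rw [hμ]; exact (E.cobdy a (i + 1)).smul_mem x hc)
        (fun c hc => by
          rw [hμ]
          have h := gsmul_mem 𝒜 (E.X (i + 1)).gr hx hc
          rwa [add_comm e j] at h)
        (fun b hb hbn hxb => hA' i (j + e) b hb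
          (by rw [add_neg_cancel_right]; exact hbn) (by rw [← hμ]; exact hxb))
  refine ⟨fun j => ?_, rC - e, hV⟩
  refine hfin (rC - e - j).toNat j ?_
  have h5 := Int.self_le_toNat (rC - e - j)
  have h6 : ((rC - e - j).toNat : ℤ) ≤ ((rC - e - j).toNat : ℤ) * e :=
    le_mul_of_one_le_right (Int.natCast_nonneg _) (by omega)
  linarith

/-- the inductive step -/
theorem fv_succ (hpos : ∀ n : ℤ, n < 0 → 𝒜 n = ⊥) (a : HomogeneousIdeal 𝒜)
    (ha : a.toIdeal = Ideal.span (⋃ n ∈ Set.Ioi (0 : ℤ), (𝒜 n : Set R))) (i : ℕ)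
    (hFV : FV 𝒜 a i) : FV 𝒜 a (i + 1) := by
  intro M _ _ _ ℳ _ _ E
  classical
  have hT : (GrLC.gam a.toIdeal M).IsHomogeneous ℳ := gam_isHomogeneous 𝒜 ℳ a
  obtain ⟨f, hfdef⟩ : ∃ f : (subG 𝒜 ℳ (GrLC.gam a.toIdeal M) hT).carrier →ₗ[R] M,
      ∀ v, f v = (GrLC.gam a.toIdeal M).subtype v := ⟨(GrLC.gam a.toIdeal M).subtype, fun _ => rfl⟩
  have hf : GrLC.IsGrHom (subG 𝒜 ℳ (GrLC.gam a.toIdeal M) hT).gr ℳ f := by
    intro k v hv
    rw [hfdef]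
    exact hv
  have hfinj : Function.Injective f := by
    intro u v huv
    rw [hfdef, hfdef] at huv
    exact Subtype.ext huv
  have hN : GrLC.gam a.toIdeal (subG 𝒜 ℳ (GrLC.gam a.toIdeal M) hT).carrier = ⊤ := by
    rw [eq_top_iff]
    intro y _
    have hy : f y ∈ GrLC.gam a.toIdeal M := by
      rw [hfdef]
      exact Subtype.property _
    obtain ⟨n, hn⟩ := hy
    refine ⟨n, fun r hr => hfinj ?_⟩
    rw [map_smul, hn r hr, map_zero]
  obtain ⟨g, hgdef⟩ : ∃ g : M →ₗ[R] (quotG 𝒜 ℳ (GrLC.gam a.toIdeal M) hT).carrier,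
      ∀ v, g v = (GrLC.gam a.toIdeal M).mkQ v := ⟨(GrLC.gam a.toIdeal M).mkQ, fun _ => rfl⟩
  have hg : GrLC.IsGrHom ℳ (quotG 𝒜 ℳ (GrLC.gam a.toIdeal M) hT).gr g :=
    fun k z hz => ⟨z, hz, (hgdef z).symm⟩
  have hgsurj : Function.Surjective g := by
    intro q
    obtain ⟨v, hv⟩ := (GrLC.gam a.toIdeal M).mkQ_surjective q
    exact ⟨v, by rw [hgdef]; exact hv⟩
  have hex : ∀ b, g b = 0 → ∃ a', f a' = b := by
    intro b hb
    rw [hgdef] at hb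
    have hb' : b ∈ GrLC.gam a.toIdeal M := (Submodule.Quotient.mk_eq_zero _).1 hb
    exact ⟨⟨b, hb'⟩, by rw [hfdef]; rfl⟩
  have hgf : ∀ a', g (f a') = 0 := by
    intro a'
    rw [hgdef, hfdef]
    exact (Submodule.Quotient.mk_eq_zero _).2 (Subtype.property _)
  obtain ⟨F, hFtor⟩ : ∃ F : GrLC.StarInjRes 𝒜 (subG 𝒜 ℳ (GrLC.gam a.toIdeal M) hT).gr,
      ∀ n, GrLC.gam a.toIdeal (F.X n).carrier = ⊤ :=
    ⟨torRes 𝒜 a _ hN, torRes_tor 𝒜 a _ hN⟩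
  obtain ⟨G, -⟩ : ∃ G : GrLC.StarInjRes 𝒜 (quotG 𝒜 ℳ (GrLC.gam a.toIdeal M) hT).gr, True :=
    ⟨starInjRes 𝒜 _, trivial⟩
  obtain ⟨φ, hφdeg, hφ0, hφc⟩ := exists_lift F E 0 f
    (fun k z hz => by rw [add_zero]; exact hf k z hz)
  have hφgr : ∀ n, GrLC.IsGrHom (F.X n).gr (E.X n).gr (φ n) := by
    intro n k z hz
    have h := hφdeg n k z hz
    rwa [add_zero] at h
  obtain ⟨ψ, hψdeg, hψ0, hψc⟩ := exists_lift E G 0 g
    (fun k z hz => by rw [add_zero]; exact hg k z hz)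
  have hψgr : ∀ n, GrLC.IsGrHom (E.X n).gr (G.X n).gr (ψ n) := by
    intro n k z hz
    have h := hψdeg n k z hz
    rwa [add_zero] at h
  obtain ⟨θ, -, -, -, hBs, -, -⟩ := les_core (F := F) (G := G) hf hg hfinj hgsurj hex hgf a E
    φ hφgr hφc hφ0 ψ hψgr hψc hψ0
  haveI : Subsingleton (F.H a (i + 1)) :=
    H_subsingleton_of_torsion_res F F a hFtor (i + 1) (by omega)
  have hFV' : ∀ n, Vn F a (i + 1) n := by
    intro n c hc _
    have h0 : F.toH a (i + 1) ⟨c, hc⟩ = 0 := Subsingleton.elim _ _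
    have h5 : (⟨c, hc⟩ : F.cocyc a (i + 1)) ∈
        (F.cobdy a (i + 1)).comap (F.cocyc a (i + 1)).subtype :=
      (Submodule.Quotient.mk_eq_zero _).1 h0
    exact h5
  have hinj : ∀ n b, b ∈ E.cocyc a (i + 1) → b ∈ (E.X (i + 1)).gr n →
      ψ (i + 1) b ∈ G.cobdy a (i + 1) → b ∈ E.cobdy a (i + 1) := by
    intro n b hb hbn hψb
    obtain ⟨a', ha', ha'n, hcob⟩ := hBs (i + 1) n b hb hbn hψb
    have h2 := chain_cobdy F E a φ hφc (hFV' n a' ha' ha'n)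
    have h3 := add_mem hcob h2
    rwa [sub_add_cancel] at h3
  have htorC : DRing.torsionSub a.toIdeal (quotG 𝒜 ℳ (GrLC.gam a.toIdeal M) hT).carrier = ⊥ :=
    LCArt.torsionSub_quot_eq_bot a.toIdeal M
  haveI : Module.Finite R (quotG 𝒜 ℳ (GrLC.gam a.toIdeal M) hT).carrier :=
    inferInstanceAs (Module.Finite R (M ⧸ GrLC.gam a.toIdeal M))
  obtain ⟨hfinG, rG, hrG⟩ := fv_succ_of_torsionFree 𝒜 hpos a ha i hFV
    (quotG 𝒜 ℳ (GrLC.gam a.toIdeal M) hT).carrier (quotG 𝒜 ℳ (GrLC.gam a.toIdeal M) hT).gr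
    htorC G
  refine ⟨fun n => ?_, rG, fun n hn c hc hcn => ?_⟩
  · haveI := hfinG n
    haveI : IsNoetherian (GrLC.deg0 𝒜) (F.Hcomp a (i + 1) n) := by
      rw [Hcomp_eq_bot_of_vn (hFV' n)]
      infer_instance
    exact isNoetherian_Hcomp_of_exact F E G a (i + 1) (i + 1) (i + 1) n n n (φ (i + 1))
      (ψ (i + 1)) (fun c hc => chain_cocyc F E a φ hφc hc) (fun c hc => chain_cobdy F E a φ hφc hc)
      (hφgr (i + 1) n) (fun c hc => chain_cocyc E G a ψ hψc hc)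
      (fun c hc => chain_cobdy E G a ψ hψc hc) (hψgr (i + 1) n) (hBs (i + 1) n)
  · exact hinj n c hc hcn
      (hrG n hn _ (chain_cocyc E G a ψ hψc hc) (hψgr (i + 1) n c hcn))

/-- **finiteness and vanishing** of the pieces of graded local cohomology with support in the
irrelevant ideal -/
theorem fv (hpos : ∀ n : ℤ, n < 0 → 𝒜 n = ⊥) (a : HomogeneousIdeal 𝒜)
    (ha : a.toIdeal = Ideal.span (⋃ n ∈ Set.Ioi (0 : ℤ), (𝒜 n : Set R))) (i : ℕ) : FV 𝒜 a i := by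
  induction i with
  | zero => exact fv_zero 𝒜 a ha
  | succ i ih => exact fv_succ 𝒜 hpos a ha i ih

end Main

end Groth.Agent.H98.GrCat
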