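import Groth.Agent.H98.GrKos
import Groth.Prelude.Def_GrSyz

/-!
# Helper library (helper98): passing from gradings by arbitrary additive-subgroup-like pieces
(e.g. `Submodule k`) to gradings by `AddSubgroup`s, for graded rings, graded modules, *injective
resolutions and homogeneous ideals; the standard grading of a polynomial ring.
-/

set_option autoImplicit false
universe u

open DirectSum

namespace Groth.Agent.H98.GrConv

open Groth.Agent.H98.GrCat

variable {ι : Type} [AddCommGroup ι] [DecidableEq ι]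
variable {R : Type u} [CommRing R] {σ : Type u} [SetLike σ R] [AddSubgroupClass σ R]

section Fam

variable {M : Type u} [AddCommGroup M] {τ : Type u} [SetLike τ M] [AddSubgroupClass τ M]
  (ℳ : ι → τ)

/-- the pieces as additive subgroups -/
def toAS : ι → AddSubgroup M := fun i => AddSubgroup.ofClass (ℳ i)

omit [AddCommGroup ι] [DecidableEq ι] in
theorem mem_toAS {i : ι} {x : M} : x ∈ toAS ℳ i ↔ x ∈ ℳ i := Iff.rfl

variable [DirectSum.Decomposition ℳ]

/-- the component maps -/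
def compH (i : ι) : M →+ M :=
  AddMonoidHom.mk' (fun x => ((decompose ℳ x i : ℳ i) : M)) (fun x y => by
    rw [decompose_add, DirectSum.add_apply, AddMemClass.coe_add])

omit [AddCommGroup ι] in
theorem compH_apply (i : ι) (x : M) : compH ℳ i x = ((decompose ℳ x i : ℳ i) : M) := rfl

open Classical in
/-- the decomposition for the pieces as additive subgroups -/
noncomputable instance toASDec : DirectSum.Decomposition (toAS ℳ) :=
  decompOfProj (toAS ℳ) (compH ℳ) (fun x => (decompose ℳ x).support)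
    (fun i x => SetLike.coe_mem (decompose ℳ x i))
    (fun x i hi => by
      rw [compH_apply, DFinsupp.notMem_support_iff.1 hi]
      rfl)
    (fun x => sum_support_decompose ℳ x)
    (fun i x hx => decompose_of_mem_same ℳ hx)
    (fun i j x hij hx => decompose_of_mem_ne ℳ hx (Ne.symm hij))

theorem decompose_toAS (x : M) (i : ι) :
    ((decompose (toAS ℳ) x i : toAS ℳ i) : M) = ((decompose ℳ x i : ℳ i) : M) := by
  classical
  induction x using DirectSum.Decomposition.inductionOn ℳ with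
  | zero =>
    rw [decompose_zero, decompose_zero, DirectSum.zero_apply, DirectSum.zero_apply,
      ZeroMemClass.coe_zero, ZeroMemClass.coe_zero]
  | @homogeneous j y =>
    have hy : (y : M) ∈ toAS ℳ j := y.2
    by_cases h : j = i
    · subst h
      rw [decompose_of_mem_same (toAS ℳ) hy, decompose_of_mem_same ℳ y.2]
    · rw [decompose_of_mem_ne (toAS ℳ) hy h, decompose_of_mem_ne ℳ y.2 h]
  | add x y hx hy =>
    rw [decompose_add, decompose_add, DirectSum.add_apply, DirectSum.add_apply,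
      AddMemClass.coe_add, AddMemClass.coe_add, hx, hy]

end Fam

section Ring

variable (𝒜 : ι → σ) [GradedRing 𝒜]

noncomputable instance toASGradedRing : GradedRing (toAS 𝒜) :=
  { toDecomposition := toASDec 𝒜
    one_mem := SetLike.GradedOne.one_mem (A := 𝒜)
    mul_mem := fun _ _ _ _ ha hb => SetLike.GradedMul.mul_mem (A := 𝒜) ha hb }

variable {M : Type u} [AddCommGroup M] [Module R M]

instance toASGSMul {τ : Type u} [SetLike τ M] [AddSubgroupClass τ M] (ℳ : ι → τ)
    [SetLike.GradedSMul 𝒜 ℳ] : SetLike.GradedSMul (toAS 𝒜) (toAS ℳ) where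
  smul_mem := fun _ _ _ _ hr hx => SetLike.GradedSMul.smul_mem (A := 𝒜) (B := ℳ) hr hx

theorem gsmul_conv (𝒳 : ι → AddSubgroup M) [SetLike.GradedSMul 𝒜 𝒳] :
    SetLike.GradedSMul (toAS 𝒜) 𝒳 where
  smul_mem := fun _ _ _ _ hr hx => SetLike.GradedSMul.smul_mem (A := 𝒜) (B := 𝒳) hr hx

theorem gsmul_unconv (𝒳 : ι → AddSubgroup M) [SetLike.GradedSMul (toAS 𝒜) 𝒳] :
    SetLike.GradedSMul 𝒜 𝒳 where
  smul_mem := fun _ _ _ _ hr hx => SetLike.GradedSMul.smul_mem (A := toAS 𝒜) (B := 𝒳) hr hx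

variable {𝒜}

/-- a graded module over the converted ring -/
noncomputable def convG (X : GrLC.GMod.{u} 𝒜) : GrLC.GMod.{u} (toAS 𝒜) :=
  { carrier := X.carrier
    gr := X.gr
    gsmul := gsmul_conv 𝒜 X.gr }

/-- a graded module over the original ring -/
noncomputable def unconvG (Y : GrLC.GMod.{u} (toAS 𝒜)) : GrLC.GMod.{u} 𝒜 :=
  { carrier := Y.carrier
    gr := Y.gr
    gsmul := gsmul_unconv 𝒜 Y.gr }

theorem isStarInj_conv (𝒳 : ι → AddSubgroup M) [DirectSum.Decomposition 𝒳]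
    [SetLike.GradedSMul 𝒜 𝒳] [SetLike.GradedSMul (toAS 𝒜) 𝒳] (h : GrLC.IsStarInj 𝒜 𝒳) :
    GrLC.IsStarInj (toAS 𝒜) 𝒳 := by
  intro A B f hf hinj g hg
  exact h (unconvG A) (unconvG B) f hf hinj g hg

variable {τ : Type u} [SetLike τ M] [AddSubgroupClass τ M] {ℳ : ι → τ}
  [DirectSum.Decomposition ℳ] [SetLike.GradedSMul 𝒜 ℳ]

/-- the converted *injective resolution: same complex -/
noncomputable def convRes (E : GrLC.StarInjRes 𝒜 ℳ) : GrLC.StarInjRes (toAS 𝒜) (toAS ℳ) where
  X := fun n => convG (E.X n)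
  d := E.d
  ε := E.ε
  d_grHom := E.d_grHom
  ε_grHom := E.ε_grHom
  ε_injective := E.ε_injective
  exact_zero := E.exact_zero
  exact_succ := E.exact_succ
  starInj := fun n => by
    haveI : SetLike.GradedSMul (toAS 𝒜) (E.X n).gr := gsmul_conv 𝒜 (E.X n).gr
    exact isStarInj_conv (𝒜 := 𝒜) (E.X n).gr (E.starInj n)

/-- the converted homogeneous ideal: same ideal -/
noncomputable def convI (a : HomogeneousIdeal 𝒜) : HomogeneousIdeal (toAS 𝒜) :=
  ⟨a.toIdeal, fun i r hr => by
    rw [decompose_toAS]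
    exact a.isHomogeneous i hr⟩

theorem convI_toIdeal (a : HomogeneousIdeal 𝒜) : (convI a).toIdeal = a.toIdeal := rfl

theorem vn_conv_iff (E : GrLC.StarInjRes 𝒜 ℳ) (a : HomogeneousIdeal 𝒜) (i : ℕ) (n : ι) :
    Vn (convRes E) (convI a) i n ↔
      ∀ c, c ∈ E.cocyc a i → c ∈ (E.X i).gr n → c ∈ E.cobdy a i := by
  cases i with
  | zero => exact Iff.rfl
  | succ i => exact Iff.rfl

theorem Hcomp_eq_bot_iff (E : GrLC.StarInjRes 𝒜 ℳ) (a : HomogeneousIdeal 𝒜) (i : ℕ) (n : ι) :
    E.Hcomp a i n = ⊥ ↔ ∀ c, c ∈ E.cocyc a i → c ∈ (E.X i).gr n → c ∈ E.cobdy a i := by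
  constructor
  · intro h c hc hcn
    have hmem : E.toH a i ⟨c, hc⟩ ∈ E.Hcomp a i n := ⟨⟨c, hc⟩, hcn, rfl⟩
    rw [h, Submodule.mem_bot] at hmem
    have h5 : (⟨c, hc⟩ : E.cocyc a i) ∈ (E.cobdy a i).comap (E.cocyc a i).subtype :=
      (Submodule.Quotient.mk_eq_zero _).1 hmem
    exact h5
  · intro h
    rw [eq_bot_iff]
    rintro y ⟨z, hzn, rfl⟩
    rw [Submodule.mem_bot]
    exact (Submodule.Quotient.mk_eq_zero _).2 (h z z.2 hzn)

theorem Hcomp_eq_bot_iff_vn (E : GrLC.StarInjRes 𝒜 ℳ) (a : HomogeneousIdeal 𝒜) (i : ℕ) (n : ι) :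
    E.Hcomp a i n = ⊥ ↔ Vn (convRes E) (convI a) i n :=
  (Hcomp_eq_bot_iff E a i n).trans (vn_conv_iff E a i n).symm

theorem Hgr_eq_bot_iff_vn (E : GrLC.StarInjRes 𝒜 ℳ) (a : HomogeneousIdeal 𝒜) (i : ℕ) (n : ι) :
    E.Hgr a i n = ⊥ ↔ Vn (convRes E) (convI a) i n := by
  rw [← Hcomp_eq_bot_iff_vn]
  constructor
  · intro h
    rw [eq_bot_iff]
    intro y hy
    have hy' : y ∈ E.Hgr a i n := hy
    rw [h, AddSubgroup.mem_bot] at hy'
    rw [Submodule.mem_bot]
    exact hy'
  · intro h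
    rw [eq_bot_iff]
    intro y hy
    have hy' : y ∈ E.Hcomp a i n := hy
    rw [h, Submodule.mem_bot] at hy'
    rw [AddSubgroup.mem_bot]
    exact hy'

end Ring

end Groth.Agent.H98.GrConv
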