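import Groth.Agent.H98.GrTor

/-!
# Helper library (helper98): binary products of bundled graded modules; products of *injective
modules are *injective; `Γ_a` of a product.
-/

set_option autoImplicit false
universe u

open DirectSum

namespace Groth.Agent.H98.GrCat

variable {ι : Type} [AddCommGroup ι] [DecidableEq ι]
variable {R : Type u} [CommRing R] (𝒜 : ι → AddSubgroup R) [GradedRing 𝒜]

section Prod

variable (X Y : GrLC.GMod.{u} 𝒜)

/-- the pieces of a product -/
def prodGr (g : ι) : AddSubgroup (X.carrier × Y.carrier) := (X.gr g).prod (Y.gr g)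

theorem mem_prodGr {g : ι} {p : X.carrier × Y.carrier} :
    p ∈ prodGr 𝒜 X Y g ↔ p.1 ∈ X.gr g ∧ p.2 ∈ Y.gr g := Iff.rfl

/-- the component maps of a product -/
def prodComp (i : ι) : X.carrier × Y.carrier →+ X.carrier × Y.carrier :=
  (compHom X.gr i).prodMap (compHom Y.gr i)

theorem prodComp_apply (i : ι) (p : X.carrier × Y.carrier) :
    prodComp 𝒜 X Y i p = (((decompose X.gr p.1 i : X.gr i) : X.carrier),
      ((decompose Y.gr p.2 i : Y.gr i) : Y.carrier)) := rfl

open Classical in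
/-- the decomposition of a product -/
noncomputable def prodDec : DirectSum.Decomposition (prodGr 𝒜 X Y) :=
  decompOfProj (prodGr 𝒜 X Y) (prodComp 𝒜 X Y)
    (fun p => (decompose X.gr p.1).support ∪ (decompose Y.gr p.2).support)
    (fun i p => ⟨SetLike.coe_mem _, SetLike.coe_mem _⟩)
    (fun p i hi => by
      rw [Finset.mem_union, not_or] at hi
      rw [prodComp_apply, DFinsupp.notMem_support_iff.1 hi.1, DFinsupp.notMem_support_iff.1 hi.2]
      rfl)
    (fun p => by
      refine Prod.ext ?_ ?_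
      · rw [Prod.fst_sum]
        show ∑ c ∈ _, ((decompose X.gr p.1 c : X.gr c) : X.carrier) = p.1
        rw [← Finset.sum_subset Finset.subset_union_left (fun i _ hi => by
          rw [DFinsupp.notMem_support_iff.1 hi]; rfl)]
        exact sum_support_decompose X.gr p.1
      · rw [Prod.snd_sum]
        show ∑ c ∈ _, ((decompose Y.gr p.2 c : Y.gr c) : Y.carrier) = p.2
        rw [← Finset.sum_subset Finset.subset_union_right (fun i _ hi => by
          rw [DFinsupp.notMem_support_iff.1 hi]; rfl)]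
        exact sum_support_decompose Y.gr p.2)
    (fun i p hp => Prod.ext (decompose_of_mem_same X.gr hp.1) (decompose_of_mem_same Y.gr hp.2))
    (fun i j p hij hp => Prod.ext (decompose_of_mem_ne X.gr hp.1 (Ne.symm hij))
      (decompose_of_mem_ne Y.gr hp.2 (Ne.symm hij)))

theorem prodGSMul : SetLike.GradedSMul 𝒜 (prodGr 𝒜 X Y) where
  smul_mem := by
    intro i j r p hr hp
    rw [vadd_eq_add]
    exact ⟨gsmul_mem 𝒜 X.gr hr hp.1, gsmul_mem 𝒜 Y.gr hr hp.2⟩

/-- the product of two bundled graded modules -/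
noncomputable def prodG : GrLC.GMod.{u} 𝒜 :=
  { carrier := X.carrier × Y.carrier
    gr := prodGr 𝒜 X Y
    dec := prodDec 𝒜 X Y
    gsmul := prodGSMul 𝒜 X Y }

variable {X Y}

/-- a product of *injective modules is *injective -/
theorem prodG_isStarInj (hX : GrLC.IsStarInj 𝒜 X.gr) (hY : GrLC.IsStarInj 𝒜 Y.gr) :
    GrLC.IsStarInj 𝒜 (prodG 𝒜 X Y).gr := by
  intro A B f hf hfinj G hG
  obtain ⟨G1, hG1⟩ : ∃ G1 : A.carrier →ₗ[R] X.carrier, ∀ x, G1 x = (G x).1 :=
    ⟨(LinearMap.fst R X.carrier Y.carrier).comp G, fun _ => rfl⟩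
  obtain ⟨G2, hG2⟩ : ∃ G2 : A.carrier →ₗ[R] Y.carrier, ∀ x, G2 x = (G x).2 :=
    ⟨(LinearMap.snd R X.carrier Y.carrier).comp G, fun _ => rfl⟩
  obtain ⟨h1, hh1, hf1⟩ := hX A B f hf hfinj G1 (fun g a ha => by
    rw [hG1]; exact (hG g a ha).1)
  obtain ⟨h2, hh2, hf2⟩ := hY A B f hf hfinj G2 (fun g a ha => by
    rw [hG2]; exact (hG g a ha).2)
  refine ⟨h1.prod h2, fun g b hb => ⟨hh1 g b hb, hh2 g b hb⟩, LinearMap.ext fun x => ?_⟩
  refine Prod.ext ?_ ?_
  · exact (LinearMap.congr_fun hf1 x).trans (hG1 x)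
  · exact (LinearMap.congr_fun hf2 x).trans (hG2 x)

end Prod

section GamProd

theorem gam_prod_iff (a : Ideal R) {A B : Type u} [AddCommGroup A] [Module R A] [AddCommGroup B]
    [Module R B] (p : A × B) :
    p ∈ GrLC.gam a (A × B) ↔ p.1 ∈ GrLC.gam a A ∧ p.2 ∈ GrLC.gam a B := by
  constructor
  · intro h
    exact ⟨gam_map a (LinearMap.fst R A B) h, gam_map a (LinearMap.snd R A B) h⟩
  · rintro ⟨h1, h2⟩
    have h3 : p = LinearMap.inl R A B p.1 + LinearMap.inr R A B p.2 := by
      refine Prod.ext ?_ ?_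
      · show p.1 = p.1 + 0
        rw [add_zero]
      · show p.2 = 0 + p.2
        rw [zero_add]
    rw [h3]
    exact add_mem (gam_map a (LinearMap.inl R A B) h1) (gam_map a (LinearMap.inr R A B) h2)

end GamProd

end Groth.Agent.H98.GrCat
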