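import Groth.Agent.H98.GrFin
import Groth.Agent.H98.GrProd

/-!
# Helper library (helper98): vanishing of a piece of graded local cohomology as a property of a
bundled graded module (independent of the *injective resolution), and its behaviour in short
exact sequences, shifts, products and for torsion modules.
-/

set_option autoImplicit false
universe u

open DirectSum

namespace Groth.Agent.H98.GrCat

variable {ι : Type} [AddCommGroup ι] [DecidableEq ι]
variable {R : Type u} [CommRing R] {𝒜 : ι → AddSubgroup R} [GradedRing 𝒜]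

/-- vanishing of a piece of graded local cohomology does not depend on the resolution -/
theorem vn_indep {M : Type u} [AddCommGroup M] [Module R M] {ℳ : ι → AddSubgroup M}
    [DirectSum.Decomposition ℳ] [SetLike.GradedSMul 𝒜 ℳ] (E E' : GrLC.StarInjRes 𝒜 ℳ)
    (a : HomogeneousIdeal 𝒜) (i : ℕ) (n : ι) (h : Vn E a i n) : Vn E' a i n := by
  have hdeg0 : GrLC.IsGrHomDeg ℳ ℳ (LinearMap.id : M →ₗ[R] M) 0 := by
    intro k x hx
    rw [add_zero]
    exact hx
  obtain ⟨φ, hφdeg, hφ0, hφc⟩ := exists_lift E' E 0 LinearMap.id hdeg0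
  obtain ⟨ψ, hψdeg, hψ0, hψc⟩ := exists_lift E E' 0 LinearMap.id hdeg0
  have hφgr : ∀ k, GrLC.IsGrHom (E'.X k).gr (E.X k).gr (φ k) := by
    intro k j x hx
    have h1 := hφdeg k j x hx
    rwa [add_zero] at h1
  have hψgr : ∀ k, GrLC.IsGrHom (E.X k).gr (E'.X k).gr (ψ k) := by
    intro k j x hx
    have h1 := hψdeg k j x hx
    rwa [add_zero] at h1
  obtain ⟨w, hw⟩ : ∃ w : ∀ k, (E'.X k).carrier →ₗ[R] (E'.X k).carrier,
      ∀ k x, w k x = ψ k (φ k x) - x :=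
    ⟨fun k => (ψ k).comp (φ k) - LinearMap.id, fun _ _ => rfl⟩
  obtain ⟨s, hs0, hsn⟩ := exists_homotopy E' E' w
    (fun k j x hx => by
      rw [hw]
      exact sub_mem (hψgr k j _ (hφgr k j x hx)) hx)
    (fun k x => by rw [hw, hw, map_sub, hφc, hψc])
    (fun x => by
      rw [hw, hφ0, LinearMap.id_apply, hψ0, LinearMap.id_apply, sub_self])
  intro c hc hcn
  have h1 := htpy_cobdy E' E' a w s hs0 hsn hc
  rw [hw] at h1
  have h2 : φ i c ∈ E.cobdy a i := h _ (chain_cocyc E' E a φ hφc hc) (hφgr i n c hcn)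
  have h3 := chain_cobdy E E' a ψ hψc h2
  have h4 := sub_mem h3 h1
  rwa [sub_sub_cancel] at h4

/-- the piece of degree `n` of the `i`-th graded local cohomology of the graded module `A`
vanishes (for every *injective resolution) -/
def HV (a : HomogeneousIdeal 𝒜) (A : GrLC.GMod.{u} 𝒜) (i : ℕ) (n : ι) : Prop :=
  ∀ E : GrLC.StarInjRes 𝒜 A.gr, Vn E a i n

theorem hv_of_vn {a : HomogeneousIdeal 𝒜} {A : GrLC.GMod.{u} 𝒜} {i : ℕ} {n : ι}
    (E : GrLC.StarInjRes 𝒜 A.gr) (h : Vn E a i n) : HV a A i n :=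
  fun E' => vn_indep E E' a i n h

section SES

variable {A B C : GrLC.GMod.{u} 𝒜} (f : A.carrier →ₗ[R] B.carrier)
  (g : B.carrier →ₗ[R] C.carrier)
  (hf : GrLC.IsGrHom A.gr B.gr f) (hg : GrLC.IsGrHom B.gr C.gr g)
  (hfinj : Function.Injective f) (hgsurj : Function.Surjective g)
  (hex : ∀ b, g b = 0 → ∃ a', f a' = b) (hgf : ∀ a', g (f a') = 0)
  (a : HomogeneousIdeal 𝒜) (i : ℕ) (n : ι)

include hf hg hfinj hgsurj hex hgf in
/-- vanishing for the middle term of a short exact sequence -/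
theorem hv_mid (hA : HV a A i n) (hC : HV a C i n) : HV a B i n := by
  intro EB
  obtain ⟨F, -⟩ : ∃ F : GrLC.StarInjRes 𝒜 A.gr, True := ⟨starInjRes 𝒜 _, trivial⟩
  obtain ⟨G, -⟩ : ∃ G : GrLC.StarInjRes 𝒜 C.gr, True := ⟨starInjRes 𝒜 _, trivial⟩
  obtain ⟨φ, hφdeg, hφ0, hφc⟩ := exists_lift F EB 0 f
    (fun k z hz => by rw [add_zero]; exact hf k z hz)
  have hφgr : ∀ k, GrLC.IsGrHom (F.X k).gr (EB.X k).gr (φ k) := by
    intro k j z hz
    have h := hφdeg k j z hz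
    rwa [add_zero] at h
  obtain ⟨ψ, hψdeg, hψ0, hψc⟩ := exists_lift EB G 0 g
    (fun k z hz => by rw [add_zero]; exact hg k z hz)
  have hψgr : ∀ k, GrLC.IsGrHom (EB.X k).gr (G.X k).gr (ψ k) := by
    intro k j z hz
    have h := hψdeg k j z hz
    rwa [add_zero] at h
  obtain ⟨θ, -, -, -, hBs, -, -⟩ := les_core (F := F) (G := G) hf hg hfinj hgsurj hex hgf a EB
    φ hφgr hφc hφ0 ψ hψgr hψc hψ0
  intro b hb hbn
  obtain ⟨a', ha', ha'n, hcob⟩ := hBs i n b hb hbn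
    (hC G _ (chain_cocyc EB G a ψ hψc hb) (hψgr i n b hbn))
  have h2 := chain_cobdy F EB a φ hφc (hA F a' ha' ha'n)
  have h3 := add_mem hcob h2
  rwa [sub_add_cancel] at h3

include hf hg hfinj hgsurj hex hgf in
/-- vanishing for the right-hand term of a short exact sequence -/
theorem hv_right (hB : HV a B i n) (hA : HV a A (i + 1) n) : HV a C i n := by
  intro G
  obtain ⟨F, -⟩ : ∃ F : GrLC.StarInjRes 𝒜 A.gr, True := ⟨starInjRes 𝒜 _, trivial⟩
  obtain ⟨EB, -⟩ : ∃ EB : GrLC.StarInjRes 𝒜 B.gr, True := ⟨starInjRes 𝒜 _, trivial⟩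
  obtain ⟨φ, hφdeg, hφ0, hφc⟩ := exists_lift F EB 0 f
    (fun k z hz => by rw [add_zero]; exact hf k z hz)
  have hφgr : ∀ k, GrLC.IsGrHom (F.X k).gr (EB.X k).gr (φ k) := by
    intro k j z hz
    have h := hφdeg k j z hz
    rwa [add_zero] at h
  obtain ⟨ψ, hψdeg, hψ0, hψc⟩ := exists_lift EB G 0 g
    (fun k z hz => by rw [add_zero]; exact hg k z hz)
  have hψgr : ∀ k, GrLC.IsGrHom (EB.X k).gr (G.X k).gr (ψ k) := by
    intro k j z hz
    have h := hψdeg k j z hz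
    rwa [add_zero] at h
  obtain ⟨θ, hθgr, hθz, -, -, hCs, -⟩ := les_core (F := F) (G := G) hf hg hfinj hgsurj hex hgf a
    EB φ hφgr hφc hφ0 ψ hψgr hψc hψ0
  intro c hc hcn
  obtain ⟨b, hb, hbn, hcob⟩ := hCs i n c hc hcn
    (hA F _ (hθz i c hc) (hθgr i n c hcn))
  have h2 := chain_cobdy EB G a ψ hψc (hB EB b hb hbn)
  have h3 := add_mem hcob h2
  rwa [sub_add_cancel] at h3

include hf hg hfinj hgsurj hex hgf in
/-- vanishing for the left-hand term of a short exact sequence -/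
theorem hv_left (hC : HV a C i n) (hB : HV a B (i + 1) n) : HV a A (i + 1) n := by
  intro F
  obtain ⟨G, -⟩ : ∃ G : GrLC.StarInjRes 𝒜 C.gr, True := ⟨starInjRes 𝒜 _, trivial⟩
  obtain ⟨EB, -⟩ : ∃ EB : GrLC.StarInjRes 𝒜 B.gr, True := ⟨starInjRes 𝒜 _, trivial⟩
  obtain ⟨φ, hφdeg, hφ0, hφc⟩ := exists_lift F EB 0 f
    (fun k z hz => by rw [add_zero]; exact hf k z hz)
  have hφgr : ∀ k, GrLC.IsGrHom (F.X k).gr (EB.X k).gr (φ k) := by
    intro k j z hz
    have h := hφdeg k j z hz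
    rwa [add_zero] at h
  obtain ⟨ψ, hψdeg, hψ0, hψc⟩ := exists_lift EB G 0 g
    (fun k z hz => by rw [add_zero]; exact hg k z hz)
  have hψgr : ∀ k, GrLC.IsGrHom (EB.X k).gr (G.X k).gr (ψ k) := by
    intro k j z hz
    have h := hψdeg k j z hz
    rwa [add_zero] at h
  obtain ⟨θ, -, -, hθb, -, -, hAs⟩ := les_core (F := F) (G := G) hf hg hfinj hgsurj hex hgf a
    EB φ hφgr hφc hφ0 ψ hψgr hψc hψ0
  intro a' ha' ha'n
  obtain ⟨c, hc, hcn, hcob⟩ := hAs i n a' ha' ha'n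
    (hB EB _ (chain_cocyc F EB a φ hφc ha') (hφgr (i + 1) n a' ha'n))
  have h2 := hθb i c (hC G c hc hcn)
  have h3 := add_mem hcob h2
  rwa [sub_add_cancel] at h3

end SES

/-- the higher graded local cohomology of a torsion module vanishes -/
theorem hv_torsion [IsNoetherianRing R] (a : HomogeneousIdeal 𝒜) (A : GrLC.GMod.{u} 𝒜)
    (hA : GrLC.gam a.toIdeal A.carrier = ⊤) (i : ℕ) (hi : 1 ≤ i) (n : ι) : HV a A i n := by
  intro E
  haveI : Subsingleton (E.H a i) :=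
    H_subsingleton_of_torsion_res E (torRes 𝒜 a A.gr hA) a (torRes_tor 𝒜 a A.gr hA) i hi
  intro c hc _
  have h0 : E.toH a i ⟨c, hc⟩ = 0 := Subsingleton.elim _ _
  have h5 : (⟨c, hc⟩ : E.cocyc a i) ∈ (E.cobdy a i).comap (E.cocyc a i).subtype :=
    (Submodule.Quotient.mk_eq_zero _).1 h0
  exact h5

theorem hv_subsingleton [IsNoetherianRing R] (a : HomogeneousIdeal 𝒜) (A : GrLC.GMod.{u} 𝒜)
    [Subsingleton A.carrier] (i : ℕ) (hi : 1 ≤ i) (n : ι) : HV a A i n := by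
  refine hv_torsion a A ?_ i hi n
  rw [eq_top_iff]
  intro y _
  rw [Subsingleton.elim y 0]
  exact zero_mem _

/-- shifts -/
theorem hv_shift (a : HomogeneousIdeal 𝒜) (A : GrLC.GMod.{u} 𝒜) (i : ℕ) (n g : ι)
    (h : HV a A i (n + g)) : HV a (shiftG 𝒜 A.gr g) i n := by
  obtain ⟨E, -⟩ : ∃ E : GrLC.StarInjRes 𝒜 A.gr, True := ⟨starInjRes 𝒜 _, trivial⟩
  refine hv_of_vn (shiftRes E g) ?_
  intro c hc hcn
  cases i with
  | zero => exact h E c hc hcn
  | succ i => exact h E c hc hcn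

/-- products -/
theorem hv_prod (a : HomogeneousIdeal 𝒜) (A B : GrLC.GMod.{u} 𝒜) (i : ℕ) (n : ι)
    (hA : HV a A i n) (hB : HV a B i n) : HV a (prodG 𝒜 A B) i n := by
  obtain ⟨f, hfdef⟩ : ∃ f : A.carrier →ₗ[R] (prodG 𝒜 A B).carrier,
      ∀ u, f u = ((u, 0) : A.carrier × B.carrier) :=
    ⟨LinearMap.inl R A.carrier B.carrier, fun _ => rfl⟩
  obtain ⟨g, hgdef⟩ : ∃ g : (prodG 𝒜 A B).carrier →ₗ[R] B.carrier,
      ∀ p, g p = (p : A.carrier × B.carrier).2 :=
    ⟨LinearMap.snd R A.carrier B.carrier, fun _ => rfl⟩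
  refine hv_mid f g ?_ ?_ ?_ ?_ ?_ ?_ a i n hA hB
  · intro k u hu
    rw [hfdef]
    exact ⟨hu, zero_mem _⟩
  · intro k p hp
    rw [hgdef]
    exact hp.2
  · intro u v huv
    rw [hfdef, hfdef] at huv
    exact (Prod.ext_iff.1 huv).1
  · intro v
    exact ⟨((0, v) : A.carrier × B.carrier), by rw [hgdef]⟩
  · intro p hp
    rw [hgdef] at hp
    refine ⟨(p : A.carrier × B.carrier).1, ?_⟩
    rw [hfdef]
    exact Prod.ext rfl hp.symm
  · intro u
    rw [hgdef, hfdef]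

end Groth.Agent.H98.GrCat
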