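import Groth.Agent.H98.GrHt
import Groth.Agent.H98.GrHV
import Groth.Agent.H58.LCDepth
import Groth.Agent.H58.LCFG
import Groth.Agent.H29.DepthFinite
import Groth.Agent.H15.FibreCM
import Groth.Prelude.Def_CAlg

/-!
# Helper library (helper98): vanishing of graded local cohomology of a Cohen–Macaulay positively
graded *local ring below the dimension, and of any graded module above the dimension.
-/

set_option autoImplicit false
universe u

open DirectSum

namespace Groth.Agent.H98.GrHt

open Groth.Agent.H98.GrCat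

section Depth

variable {R : Type u} [CommRing R]

/-- in a Cohen–Macaulay ring the depth of a maximal ideal is at least its height -/
theorem height_le_idealDepth_of_cm [LocCoh.IsCohenMacaulayRing R] (m : Ideal R)
    [hm : m.IsMaximal] : m.height ≤ LocCoh.idealDepth m R := by
  rw [Groth.Agent.H29.LocQuot.idealDepth_eq_iInf]
  refine le_iInf₂ (fun p hp => ?_)
  have hpm : m = p.asIdeal := hm.eq_of_le p.2.ne_top hp
  have hcm : LocCoh.IsCohenMacaulayLocalRing (Localization.AtPrime p.asIdeal) :=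
    LocCoh.IsCohenMacaulayRing.isCohenMacaulayLocalRing_localization p.asIdeal
  have h1 := (Groth.Agent.H15.FibreCM.isCM_iff_height_eq_depth
    (Localization.AtPrime p.asIdeal)).1 hcm
  have h2 : LocCoh.depth (Localization.AtPrime p.asIdeal)
      (LocalizedModule p.asIdeal.primeCompl R) =
      LocCoh.depth (Localization.AtPrime p.asIdeal) (Localization.AtPrime p.asIdeal) :=
    Groth.Agent.H29.CM.idealDepth_congr
      (Groth.Agent.H29.DepthFinite.selfEquiv p.asIdeal.primeCompl)
  rw [h2, ← h1, hpm]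
  have h3 := IsLocalization.AtPrime.ringKrullDim_eq_height p.asIdeal
    (Localization.AtPrime p.asIdeal)
  have h4 := IsLocalRing.maximalIdeal_height_eq_ringKrullDim
    (R := Localization.AtPrime p.asIdeal)
  rw [← h4] at h3
  exact le_of_eq (WithBot.coe_injective h3).symm

end Depth

section Van

variable {R : Type u} [CommRing R] {𝒜 : ℤ → AddSubgroup R} [GradedRing 𝒜]

/-- every cocycle is a coboundary when the cohomology module is trivial -/
theorem vn_of_subsingleton {M : Type u} [AddCommGroup M] [Module R M] {ℳ : ℤ → AddSubgroup M}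
    [DirectSum.Decomposition ℳ] [SetLike.GradedSMul 𝒜 ℳ] (E : GrLC.StarInjRes 𝒜 ℳ)
    (a : HomogeneousIdeal 𝒜) (i : ℕ) (h : Subsingleton (E.H a i)) (n : ℤ) : Vn E a i n := by
  intro c hc _
  have h0 : E.toH a i ⟨c, hc⟩ = 0 := Subsingleton.elim _ _
  have h5 : (⟨c, hc⟩ : E.cocyc a i) ∈ (E.cobdy a i).comap (E.cocyc a i).subtype :=
    (Submodule.Quotient.mk_eq_zero _).1 h0
  exact h5

/-- Grothendieck vanishing in graded form -/
theorem vn_of_dim_lt [IsNoetherianRing R] (d : ℕ) (hd : ringKrullDim R = d)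
    {M : Type u} [AddCommGroup M] [Module R M] {ℳ : ℤ → AddSubgroup M}
    [DirectSum.Decomposition ℳ] [SetLike.GradedSMul 𝒜 ℳ] (E : GrLC.StarInjRes 𝒜 ℳ)
    (a : HomogeneousIdeal 𝒜) (i : ℕ) (hi : d < i) (n : ℤ) : Vn E a i n := by
  obtain ⟨e⟩ := nonempty_H_equiv E a i
  have hs : Subsingleton (LocCoh.H a.toIdeal i M) := by
    apply Groth.Agent.H58.LC.subsingleton_H_of_supportDim_lt
    refine lt_of_le_of_lt (Module.supportDim_le_ringKrullDim (R := R) (M := M)) ?_
    rw [hd]
    exact_mod_cast hi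
  exact vn_of_subsingleton E a i e.toEquiv.subsingleton n

/-- vanishing below the dimension for a Cohen–Macaulay positively graded *local ring -/
theorem vn_of_cm [LocCoh.IsCohenMacaulayRing R] (hpos : ∀ n : ℤ, n < 0 → 𝒜 n = ⊥)
    (m : HomogeneousIdeal 𝒜) (hm : GrLC.IsStarLocal 𝒜 m) (d : ℕ) (hd : ringKrullDim R = d)
    (E : GrLC.StarInjRes 𝒜 𝒜) (i : ℕ) (hi : i < d) (n : ℤ) : Vn E m i n := by
  haveI hmax : m.toIdeal.IsMaximal := isMaximal_of_isCoatom 𝒜 hpos m hm.1
  have hht := height_eq_ringKrullDim 𝒜 hpos m hm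
  rw [hd] at hht
  have hht' : m.toIdeal.height = (d : ℕ∞) := by exact_mod_cast hht
  have hdep : ((d : ℕ) : ℕ∞) ≤ LocCoh.idealDepth m.toIdeal R := by
    rw [← hht']
    exact height_le_idealDepth_of_cm m.toIdeal
  have hIM : m.toIdeal • (⊤ : Submodule R R) ≠ ⊤ := by
    rw [smul_eq_mul, Ideal.mul_top]
    exact hmax.ne_top
  obtain ⟨e⟩ := nonempty_H_equiv E m i
  have hs : Subsingleton (LocCoh.H m.toIdeal i R) :=
    Groth.Agent.H58.LC.subsingleton_H_of_lt_idealDepth m.toIdeal R d hdep hIM i hi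
  exact vn_of_subsingleton E m i e.toEquiv.subsingleton n

end Van

end Groth.Agent.H98.GrHt
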