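import Groth.Agent.H98.GrEnd

/-!
# Helper library (helper98): the end of the top graded local cohomology of the quotient of a graded
ring by a homogeneous regular sequence: `a(R/(f_1..f_t)) = a(R) + Σ deg f_i`, given the vanishing
of the lower local cohomology of `R`.
-/

set_option autoImplicit false
universe u

open DirectSum

namespace Groth.Agent.H98.GrCat

section Seq

variable {R : Type u} [CommRing R] {𝒜 : ℤ → AddSubgroup R} [GradedRing 𝒜]

theorem endDeg_congr {M N : Type u} [AddCommGroup M] [Module R M] [AddCommGroup N] [Module R N]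
    {ℳ : ℤ → AddSubgroup M} [DirectSum.Decomposition ℳ] [SetLike.GradedSMul 𝒜 ℳ]
    {𝒩 : ℤ → AddSubgroup N} [DirectSum.Decomposition 𝒩] [SetLike.GradedSMul 𝒜 𝒩]
    (E : GrLC.StarInjRes 𝒜 ℳ) (F : GrLC.StarInjRes 𝒜 𝒩) (a : HomogeneousIdeal 𝒜) (i i' : ℕ)
    (h : ∀ j, Vn E a i j ↔ Vn F a i' j) :
    GrLC.endDeg (E.Hgr a i) = GrLC.endDeg (F.Hgr a i') := by
  apply le_antisymm
  · refine iSup₂_le (fun j hj => ?_)
    have h1 : F.Hgr a i' j ≠ ⊥ := (hgr_ne_bot_iff F a i' j).2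
      (fun hV => (hgr_ne_bot_iff E a i j).1 hj ((h j).2 hV))
    exact le_iSup₂ (f := fun (m : ℤ) (_ : F.Hgr a i' m ≠ ⊥) =>
      ((m : WithTop ℤ) : WithBot (WithTop ℤ))) j h1
  · refine iSup₂_le (fun j hj => ?_)
    have h1 : E.Hgr a i j ≠ ⊥ := (hgr_ne_bot_iff E a i j).2
      (fun hV => (hgr_ne_bot_iff F a i' j).1 hj ((h j).1 hV))
    exact le_iSup₂ (f := fun (m : ℤ) (_ : E.Hgr a i m ≠ ⊥) =>
      ((m : WithTop ℤ) : WithBot (WithTop ℤ))) j h1

/-- the submodule `(l_0, …, l_{s-1}) R` of `R` -/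
def Bq (l : List R) (s : ℕ) : Submodule R R := Ideal.ofList (l.take s) • ⊤

theorem bq_eq (l : List R) (s : ℕ) : Bq l s = Ideal.ofList (l.take s) := by
  unfold Bq
  rw [smul_eq_mul, Ideal.mul_top]

theorem bq_isHomogeneous (l : List R) (hl : ∀ r ∈ l, ∃ j, r ∈ 𝒜 j) (s : ℕ) :
    (Bq l s).IsHomogeneous 𝒜 := by
  rw [bq_eq]
  exact Ideal.homogeneous_span 𝒜 _ (fun r hr => hl r (List.mem_of_mem_take hr))

theorem mem_bq_succ (l : List R) (s : ℕ) (hs : s < l.length) (r : R) :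
    r ∈ Bq l (s + 1) ↔ ∃ b ∈ Bq l s, ∃ c, b + c * l[s] = r := by
  rw [bq_eq, bq_eq, List.take_succ_eq_append_getElem hs, Ideal.ofList_append,
    Ideal.ofList_singleton]
  constructor
  · intro h
    obtain ⟨b, hb, y, hy, rfl⟩ := Submodule.mem_sup.1 h
    obtain ⟨c, rfl⟩ := Ideal.mem_span_singleton'.1 hy
    exact ⟨b, hb, c, rfl⟩
  · rintro ⟨b, hb, c, rfl⟩
    exact Submodule.mem_sup.2 ⟨b, hb, _, Ideal.mem_span_singleton'.2 ⟨c, rfl⟩, rfl⟩

/-- **the `a`-invariant of the quotient by a homogeneous regular sequence** -/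
theorem endDeg_quot_seq (hpos : ∀ n : ℤ, n < 0 → 𝒜 n = ⊥) (m : HomogeneousIdeal 𝒜)
    (I : GrLC.StarInjRes 𝒜 𝒜) (n : ℕ) (hvan : ∀ i, i < n → ∀ j, Vn I m i j)
    (t : ℕ) (htn : t ≤ n) (f : Fin t → R) (deg : Fin t → ℤ) (hfdeg : ∀ i, f i ∈ 𝒜 (deg i))
    (hfm : ∀ i, f i ∈ m.toIdeal) (hreg : RingTheory.Sequence.IsRegular R (List.ofFn f))
    {N : Type u} [AddCommGroup N] [Module R N] {𝒩 : ℤ → AddSubgroup N}
    [DirectSum.Decomposition 𝒩] [SetLike.GradedSMul 𝒜 𝒩] (π : R →ₗ[R] N)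
    (hπ : GrLC.IsGrHom 𝒜 𝒩 π) (hπs : Function.Surjective π)
    (hπk : LinearMap.ker π = Ideal.span (Set.range f)) (F : GrLC.StarInjRes 𝒜 𝒩) :
    GrLC.endDeg (F.Hgr m (n - t)) = GrLC.endDeg (I.Hgr m n) +
      ((((Finset.univ : Finset (Fin t)).sum deg : ℤ) : WithTop ℤ) : WithBot (WithTop ℤ)) := by
  classical
  obtain ⟨l, hl⟩ : ∃ l : List R, l = List.ofFn f := ⟨_, rfl⟩
  have hlen : l.length = t := by rw [hl, List.length_ofFn]
  have hget : ∀ (s : ℕ) (hs : s < t) (hs' : s < l.length), l[s] = f ⟨s, hs⟩ := by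
    intro s hs hs'
    subst hl
    exact List.getElem_ofFn hs'
  rw [← hl] at hreg
  have hlhom : ∀ r ∈ l, ∃ j, r ∈ 𝒜 j := by
    intro r hr
    rw [hl] at hr
    obtain ⟨i, rfl⟩ := List.mem_ofFn.1 hr
    exact ⟨deg i, hfdeg i⟩
  have hB := bq_isHomogeneous (𝒜 := 𝒜) l hlhom
  obtain ⟨D, hD⟩ : ∃ D : ℕ → ℤ, ∀ s, D s =
      ∑ j ∈ Finset.range s, (if h : j < t then deg ⟨j, h⟩ else 0) := ⟨_, fun _ => rfl⟩
  have key : ∀ s : ℕ, s ≤ t → ∀ E : GrLC.StarInjRes 𝒜 (quotG 𝒜 𝒜 (Bq l s) (hB s)).gr,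
      (∀ i, i < n - s → ∀ j, Vn E m i j) ∧
      GrLC.endDeg (E.Hgr m (n - s)) = GrLC.endDeg (I.Hgr m n) +
        (((D s : ℤ) : WithTop ℤ) : WithBot (WithTop ℤ)) := by
    intro s
    induction s with
    | zero =>
      intro _ E
      have hB0 : Bq l 0 = ⊥ := by
        rw [bq_eq, List.take_zero, Ideal.ofList_nil]
      obtain ⟨e, he⟩ : ∃ e : R ≃ₗ[R] (quotG 𝒜 𝒜 (Bq l 0) (hB 0)).carrier,
          ∀ r, e r = (Bq l 0).mkQ r :=
        ⟨(Submodule.quotEquivOfEqBot _ hB0).symm, fun r => rfl⟩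
      have heg : GrLC.IsGrHom 𝒜 (quotG 𝒜 𝒜 (Bq l 0) (hB 0)).gr e.toLinearMap := by
        intro j r hr
        show e r ∈ _
        rw [he]
        exact (mem_quotGr' 𝒜 (Bq l 0)).2 ⟨r, hr, rfl⟩
      have heg' := grHom_symm 𝒜 (quotG 𝒜 𝒜 (Bq l 0) (hB 0)).gr e heg
      constructor
      · intro i hi j
        exact vn_of_equiv e heg I E m i j (hvan i (by omega) j)
      · rw [hD, Finset.range_zero, Finset.sum_empty, WithTop.coe_zero, WithBot.coe_zero, add_zero]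
        refine endDeg_congr E I m (n - 0) n (fun j => ?_)
        rw [Nat.sub_zero]
        exact ⟨vn_of_equiv e.symm heg' E I m n j, vn_of_equiv e heg I E m n j⟩
    | succ s ih =>
      intro hs1 E'
      have hs : s < t := hs1
      have hs' : s < l.length := by rw [hlen]; exact hs
      obtain ⟨E, -⟩ : ∃ E : GrLC.StarInjRes 𝒜 (quotG 𝒜 𝒜 (Bq l s) (hB s)).gr, True :=
        ⟨starInjRes 𝒜 _, trivial⟩
      obtain ⟨ihV, ihE⟩ := ih (by omega) E
      obtain ⟨x, hx⟩ : ∃ x : R, x = l[s] := ⟨_, rfl⟩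
      have hxf : x = f ⟨s, hs⟩ := by rw [hx]; exact hget s hs hs'
      have hxk : x ∈ 𝒜 (deg ⟨s, hs⟩) := hxf ▸ hfdeg _
      have hxm : x ∈ m.toIdeal := hxf ▸ hfm _
      have hxreg : IsSMulRegular (quotG 𝒜 𝒜 (Bq l s) (hB s)).carrier x := by
        rw [hx]
        exact hreg.toIsWeaklyRegular.regular_mod_prev s hs'
      have hle : Bq l s ≤ Bq l (s + 1) := by
        intro r hr
        exact (mem_bq_succ l s hs' r).2 ⟨r, hr, 0, by rw [zero_mul, add_zero]⟩
      obtain ⟨π', hπ'⟩ : ∃ π' : (quotG 𝒜 𝒜 (Bq l s) (hB s)).carrier →ₗ[R]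
          (quotG 𝒜 𝒜 (Bq l (s + 1)) (hB (s + 1))).carrier,
          ∀ r : R, π' ((Bq l s).mkQ r) = (Bq l (s + 1)).mkQ r :=
        ⟨Submodule.mapQ (Bq l s) (Bq l (s + 1)) LinearMap.id hle, fun r => rfl⟩
      have hπ's : Function.Surjective π' := by
        intro y
        obtain ⟨r, rfl⟩ := (Bq l (s + 1)).mkQ_surjective y
        exact ⟨(Bq l s).mkQ r, hπ' r⟩
      have hπ'g : GrLC.IsGrHom (quotG 𝒜 𝒜 (Bq l s) (hB s)).gr
          (quotG 𝒜 𝒜 (Bq l (s + 1)) (hB (s + 1))).gr π' := by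
        intro j y hy
        obtain ⟨z, hz, rfl⟩ := (mem_quotGr' 𝒜 (Bq l s)).1 hy
        rw [hπ']
        exact (mem_quotGr' 𝒜 (Bq l (s + 1))).2 ⟨z, hz, rfl⟩
      have hker : ∀ y, π' y = 0 → ∃ z, x • z = y := by
        intro y hy
        obtain ⟨r, rfl⟩ := (Bq l s).mkQ_surjective y
        rw [hπ'] at hy
        have h1 : r ∈ Bq l (s + 1) := (Submodule.Quotient.mk_eq_zero _).1 hy
        obtain ⟨b, hb, c, hc⟩ := (mem_bq_succ l s hs' r).1 h1
        refine ⟨(Bq l s).mkQ c, ?_⟩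
        have h5 : x • ((Bq l s).mkQ c : R ⧸ Bq l s) = (Bq l s).mkQ r := by
          rw [← LinearMap.map_smul]
          refine (Submodule.Quotient.eq _).2 ?_
          rw [← hc, ← hx, smul_eq_mul]
          have e1 : x * c - (b + c * x) = -b := by ring
          rw [e1]
          exact neg_mem hb
        exact h5
      have hker' : ∀ z, π' (x • z) = 0 := by
        intro z
        obtain ⟨c, rfl⟩ := (Bq l s).mkQ_surjective z
        rw [map_smul, hπ']
        have h5 : x • ((Bq l (s + 1)).mkQ c : R ⧸ Bq l (s + 1)) = 0 := by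
          rw [← LinearMap.map_smul]
          refine (Submodule.Quotient.mk_eq_zero _).2 ?_
          exact (mem_bq_succ l s hs' _).2 ⟨0, zero_mem _, c, by
            rw [zero_add, ← hx, smul_eq_mul, mul_comm]⟩
        exact h5
      have hk : 0 ≤ deg ⟨s, hs⟩ := by
        by_contra hneg
        have hx0 : x = 0 := by
          have h1 := hxk
          rw [hpos _ (by omega)] at h1
          exact AddSubgroup.mem_bot.1 h1
        have h1 : (Bq l s).mkQ (1 : R) = 0 := by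
          apply hxreg
          show x • _ = x • _
          rw [hx0, zero_smul, zero_smul]
        have h2 : (1 : R) ∈ Bq l s := (Submodule.Quotient.mk_eq_zero _).1 h1
        apply hreg.top_ne_smul
        symm
        rw [eq_top_iff]
        intro r _
        have h3 : (1 : R) ∈ (Ideal.ofList l • ⊤ : Submodule R R) := by
          rw [smul_eq_mul, Ideal.mul_top]
          rw [bq_eq] at h2
          exact Ideal.span_mono (fun y hy => List.mem_of_mem_take hy) h2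
        have h4 := Submodule.smul_mem _ r h3
        have h5 : r • (1 : R) = r := by rw [smul_eq_mul, mul_one]
        rw [← h5]
        exact h4
      constructor
      · intro i hi j
        exact (mulx_les m x (deg ⟨s, hs⟩) hxk hxreg π' hπ's hπ'g hker hker' E E' i).2 j
          (ihV i (by omega) j) (ihV (i + 1) (by omega) _)
      · have hEq := endDeg_quot_regular m x (deg ⟨s, hs⟩) hk hxk hxm hxreg π' hπ's hπ'g hker
          hker' E E' (n - (s + 1)) (fun j => ihV _ (by omega) j)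
        have e : n - (s + 1) + 1 = n - s := by omega
        rw [e] at hEq
        rw [hEq, ihE, add_assoc, ← WithBot.coe_add, ← WithTop.coe_add, hD (s + 1),
          Finset.sum_range_succ, dif_pos hs, ← hD s]
  obtain ⟨Et, -⟩ : ∃ E : GrLC.StarInjRes 𝒜 (quotG 𝒜 𝒜 (Bq l t) (hB t)).gr, True :=
    ⟨starInjRes 𝒜 _, trivial⟩
  obtain ⟨-, hEt⟩ := key t le_rfl Et
  have hDt : D t = Finset.univ.sum deg := by
    rw [hD, Finset.sum_range]
    refine Finset.sum_congr rfl (fun i _ => ?_)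
    rw [dif_pos i.2]
  rw [← hDt, ← hEt]
  have htake : l.take t = l := by rw [← hlen, List.take_length]
  have hBt : Bq l t = LinearMap.ker π := by
    rw [hπk, bq_eq, htake, hl]
    show Ideal.span {r | r ∈ List.ofFn f} = _
    congr 1
    ext r
    exact List.mem_ofFn' f r
  obtain ⟨e, he⟩ : ∃ e : (quotG 𝒜 𝒜 (Bq l t) (hB t)).carrier ≃ₗ[R] N,
      ∀ r : R, e ((Bq l t).mkQ r) = π r :=
    ⟨(Submodule.quotEquivOfEq _ _ hBt).trans (LinearMap.quotKerEquivOfSurjective π hπs),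
      fun r => rfl⟩
  have heg : GrLC.IsGrHom (quotG 𝒜 𝒜 (Bq l t) (hB t)).gr 𝒩 e.toLinearMap := by
    intro j y hy
    obtain ⟨z, hz, rfl⟩ := (mem_quotGr' 𝒜 (Bq l t)).1 hy
    show e _ ∈ _
    rw [he]
    exact hπ j z hz
  have heg' := grHom_symm (quotG 𝒜 𝒜 (Bq l t) (hB t)).gr 𝒩 e heg
  exact endDeg_congr F Et m (n - t) (n - t)
    (fun j => ⟨vn_of_equiv e.symm heg' F Et m _ j, vn_of_equiv e heg Et F m _ j⟩)

end Seq

end Groth.Agent.H98.GrCat
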