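import Groth.Agent.H98.GrQR

/-!
# Helper library (helper98): quasi-regular linear forms on finitely generated graded modules over a
standard graded polynomial ring over a field, in terms of vanishing of pieces of graded local
cohomology for the converted (`AddSubgroup`) gradings.
-/

set_option autoImplicit false
universe u

open DirectSum

namespace Groth.Agent.H98.GrConv

open Groth.Agent.H98.GrCat

section

variable (k : Type u) [Field k] (r : ℕ)
  (M : Type u) [AddCommGroup M] [Module k M] [Module (MvPolynomial (Fin (r + 1)) k) M]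
  (ℳ : ℤ → Submodule k M) [DirectSum.Decomposition ℳ]
  [SetLike.GradedSMul (GrSyz.stdGr k (Fin (r + 1))) ℳ]
  (x : MvPolynomial (Fin (r + 1)) k) (hx : x ∈ GrSyz.stdGr k (Fin (r + 1)) 1)
  (hq : IsFiniteLength (MvPolynomial (Fin (r + 1)) k)
    ↥(Submodule.torsionBy (MvPolynomial (Fin (r + 1)) k) M x))
  (N : Type u) [AddCommGroup N] [Module k N] [Module (MvPolynomial (Fin (r + 1)) k) N]
  (𝒩 : ℤ → Submodule k N) [DirectSum.Decomposition 𝒩]
  [SetLike.GradedSMul (GrSyz.stdGr k (Fin (r + 1))) 𝒩]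
  (π : M →ₗ[MvPolynomial (Fin (r + 1)) k] N) (hπ : Function.Surjective π)
  (hπg : GrLC.IsGrHom ℳ 𝒩 π)
  (hker : LinearMap.ker π =
    LinearMap.range (x • (LinearMap.id : M →ₗ[MvPolynomial (Fin (r + 1)) k] M)))

include hx hq hπ hπg hker in
theorem std_qr :
    (∀ (i : ℕ) (n : ℤ),
      HV (convI (GrSyz.irrel (GrSyz.stdGr k (Fin (r + 1)))))
        (GrLC.GMod.of (toAS (GrSyz.stdGr k (Fin (r + 1)))) M (toAS ℳ)) i n →
      HV (convI (GrSyz.irrel (GrSyz.stdGr k (Fin (r + 1)))))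
        (GrLC.GMod.of (toAS (GrSyz.stdGr k (Fin (r + 1)))) M (toAS ℳ)) (i + 1) (n + -1) →
      HV (convI (GrSyz.irrel (GrSyz.stdGr k (Fin (r + 1)))))
        (GrLC.GMod.of (toAS (GrSyz.stdGr k (Fin (r + 1)))) N (toAS 𝒩)) i n) ∧
    (∀ (i : ℕ) (n : ℤ),
      HV (convI (GrSyz.irrel (GrSyz.stdGr k (Fin (r + 1)))))
        (GrLC.GMod.of (toAS (GrSyz.stdGr k (Fin (r + 1)))) N (toAS 𝒩)) i n →
      HV (convI (GrSyz.irrel (GrSyz.stdGr k (Fin (r + 1)))))
        (GrLC.GMod.of (toAS (GrSyz.stdGr k (Fin (r + 1)))) M (toAS ℳ)) (i + 1) n →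
      HV (convI (GrSyz.irrel (GrSyz.stdGr k (Fin (r + 1)))))
        (GrLC.GMod.of (toAS (GrSyz.stdGr k (Fin (r + 1)))) M (toAS ℳ)) (i + 1) (n + -1)) := by
  have hx' : x ∈ toAS (GrSyz.stdGr k (Fin (r + 1))) 1 := hx
  have e : Submodule.torsionBy (MvPolynomial (Fin (r + 1)) k) M x =
      LinearMap.ker (LinearMap.lsmul (MvPolynomial (Fin (r + 1)) k) M x) := by
    ext z
    rw [Submodule.mem_torsionBy_iff, LinearMap.mem_ker]
    rfl
  rw [e] at hq
  haveI : IsArtinian (MvPolynomial (Fin (r + 1)) k)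
      ↥(LinearMap.ker (LinearMap.lsmul (MvPolynomial (Fin (r + 1)) k) M x)) :=
    (isFiniteLength_iff_isNoetherian_isArtinian.1 hq).2
  have hK : ∀ z : M, x • z = 0 →
      z ∈ GrLC.gam (convI (GrSyz.irrel (GrSyz.stdGr k (Fin (r + 1))))).toIdeal M := by
    intro z hz
    exact gam_of_isArtinian_sub (toAS ℳ) (stdGr_neg k (Fin (r + 1)))
      (convI (GrSyz.irrel (GrSyz.stdGr k (Fin (r + 1))))) (stdGr_hhom k (Fin (r + 1)))
      (LinearMap.ker (LinearMap.lsmul (MvPolynomial (Fin (r + 1)) k) M x))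
      (ker_smul_isHomogeneous (toAS ℳ) x hx') z (LinearMap.mem_ker.2 hz)
  exact qr_core (convI (GrSyz.irrel (GrSyz.stdGr k (Fin (r + 1))))) (toAS ℳ) (toAS 𝒩) x hx' hK π hπ
    hπg hker

end

/-- the end of a graded object is at most `d` iff all pieces above `d` vanish -/
theorem endDeg_le_iff {X : Type u} [AddCommGroup X] (𝒢 : ℤ → AddSubgroup X) (d : ℤ) :
    GrLC.endDeg 𝒢 ≤ ((d : WithTop ℤ) : WithBot (WithTop ℤ)) ↔ ∀ e : ℤ, d < e → 𝒢 e = ⊥ := by
  constructor
  · intro h e he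
    by_contra hne
    have h1 : ((e : WithTop ℤ) : WithBot (WithTop ℤ)) ≤ GrLC.endDeg 𝒢 :=
      le_iSup₂ (f := fun (m : ℤ) (_ : 𝒢 m ≠ ⊥) => ((m : WithTop ℤ) : WithBot (WithTop ℤ))) e hne
    have h2 := h1.trans h
    rw [WithBot.coe_le_coe, WithTop.coe_le_coe] at h2
    omega
  · intro h
    refine iSup₂_le fun n hn => ?_
    rw [WithBot.coe_le_coe, WithTop.coe_le_coe]
    by_contra hlt
    exact hn (h n (by omega))

end Groth.Agent.H98.GrConv

namespace Groth.Agent.H98.GrCat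

/-- `d`-regularity of `M` versus `d`-regularity of `N = M/xM` for a quasi-regular linear form, in
abstract form -/
theorem dreg_iff {R : Type u} [CommRing R] [IsNoetherianRing R] {𝒜 : ℤ → AddSubgroup R}
    [GradedRing 𝒜] (a : HomogeneousIdeal 𝒜)
    (hhom : a.toIdeal = Ideal.span ((𝒜 1 : AddSubgroup R) : Set R)) (AM AN : GrLC.GMod.{u} 𝒜)
    (hQR1 : ∀ (i : ℕ) (n : ℤ), HV a AM i n → HV a AM (i + 1) (n + -1) → HV a AN i n)
    (hQR2 : ∀ (i : ℕ) (n : ℤ), HV a AN i n → HV a AM (i + 1) n → HV a AM (i + 1) (n + -1))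
    (hfv : ∀ j : ℕ, ∃ r : ℤ, ∀ n : ℤ, r ≤ n → HV a AM j n) (d : ℤ) :
    ((∀ e : ℤ, d < e → HV a AM 0 e) ∧ ∀ i : ℕ, 0 < i → HV a AM i (d - (i : ℤ) + 1)) ↔
      (((∀ e : ℤ, d < e → HV a AN 0 e) ∧ ∀ i : ℕ, 0 < i → HV a AN i (d - (i : ℤ) + 1)) ∧
        ∀ e : ℤ, d < e → HV a AM 0 e) := by
  have hprop : ∀ A : GrLC.GMod.{u} 𝒜, (∀ i : ℕ, 0 < i → HV a A i (d - (i : ℤ) + 1)) →
      ∀ i : ℕ, 1 ≤ i → ∀ s : ℤ, d < s → HV a A i (s - i) := by
    intro A h
    refine hv_propagate a hhom A d 1 le_rfl (fun i hi => ?_)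
    have e : d + 1 - (i : ℤ) = d - (i : ℤ) + 1 := by ring
    rw [e]
    exact h i hi
  constructor
  · rintro ⟨hM0, hMi⟩
    have hpM := hprop AM hMi
    refine ⟨⟨fun e he => ?_, fun i hi => ?_⟩, hM0⟩
    · refine hQR1 0 e (hM0 e he) ?_
      have h1 := hpM 1 le_rfl e he
      have e' : e - ((1 : ℕ) : ℤ) = e + -1 := by
        push_cast
        ring
      rw [e'] at h1
      exact h1
    · refine hQR1 i _ (hMi i hi) ?_
      have h2 := hMi (i + 1) (by omega)
      have e' : d - ((i + 1 : ℕ) : ℤ) + 1 = d - (i : ℤ) + 1 + -1 := by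
        push_cast
        ring
      rw [e'] at h2
      exact h2
  · rintro ⟨⟨hN0, hNi⟩, hM0⟩
    refine ⟨hM0, fun j hj => ?_⟩
    have hpN := hprop AN hNi
    have hallN : ∀ (i : ℕ) (s : ℤ), d < s → HV a AN i (s - i) := by
      intro i s hs
      cases i with
      | zero =>
        rw [Nat.cast_zero, sub_zero]
        exact hN0 s hs
      | succ i => exact hpN (i + 1) (by omega) s hs
    obtain ⟨i, rfl⟩ : ∃ i, j = i + 1 := ⟨j - 1, by omega⟩
    obtain ⟨rj, hrj⟩ := hfv (i + 1)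
    have claim : ∀ (k : ℕ) (n : ℤ), rj ≤ n + k → d - ((i + 1 : ℕ) : ℤ) + 1 ≤ n →
        HV a AM (i + 1) n := by
      intro k
      induction k with
      | zero =>
        intro n hn _
        rw [Nat.cast_zero, add_zero] at hn
        exact hrj n hn
      | succ k ih =>
        intro n hn hdn
        have h1 : HV a AM (i + 1) (n + 1) := ih (n + 1) (by push_cast at hn ⊢; omega) (by omega)
        have h2 : HV a AN i (n + 1) := by
          have h3 := hallN i (n + 1 + i) (by push_cast at hdn; omega)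
          rw [add_sub_cancel_right] at h3
          exact h3
        have h4 := hQR2 i (n + 1) h2 h1
        rw [add_neg_cancel_right] at h4
        exact h4
    refine claim (rj - (d - ((i + 1 : ℕ) : ℤ) + 1)).toNat _ ?_ le_rfl
    have h5 := Int.self_le_toNat (rj - (d - ((i + 1 : ℕ) : ℤ) + 1))
    omega

end Groth.Agent.H98.GrCat
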