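import Groth.Agent.H98.GrEG
import Groth.Agent.H98.GrSeq
import Groth.Agent.H98.GrStd
import Groth.Agent.H98.GrCMv
import Groth.Agent.H98.GrQuotG
import Groth.Agent.H15.DepthLoc
import Groth.Agent.H54.IntegralDim

/-!
# Helper library (helper98): graded local cohomology of the standard graded polynomial ring
`k[x_0, …, x_r]` over a field with support in the irrelevant ideal (vanishing outside the
cohomological degree `r + 1`, and above the internal degree `-(r + 1)` there), and the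
Eisenbud–Goto comparison of the generator degrees of a minimal graded free resolution with the
vanishing of graded local cohomology above the diagonals.
-/

set_option autoImplicit false
universe u

open DirectSum

namespace Groth.Agent.H98.GrConv

open Groth.Agent.H98.GrCat Groth.Agent.H98.GrHt

section FR

variable {R : Type u} [CommRing R] {σ : Type u} [SetLike σ R] [AddSubgroupClass σ R]
  {𝒜 : ℤ → σ} [GradedRing 𝒜]
  {M : Type u} [AddCommGroup M] [Module R M] {τ : Type u} [SetLike τ M] [AddSubgroupClass τ M]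
  {ℳ : ℤ → τ} [DirectSum.Decomposition ℳ] [SetLike.GradedSMul 𝒜 ℳ]

/-- a graded free resolution, for the converted (`AddSubgroup`) gradings -/
def convFR (F : GrSyz.FreeRes 𝒜 ℳ) : GrSyz.FreeRes (toAS 𝒜) (toAS ℳ) where
  rk := F.rk
  deg := F.deg
  d := F.d
  aug := F.aug
  d_mem := F.d_mem
  aug_mem := F.aug_mem
  aug_surjective := F.aug_surjective
  exact_zero := F.exact_zero
  exact_succ := F.exact_succ

end FR

/-- shifted bound for the end of a graded object -/
theorem endDeg_add_le_iff {X : Type u} [AddCommGroup X] (𝒢 : ℤ → AddSubgroup X) (d c : ℤ) :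
    GrLC.endDeg 𝒢 + ((c : WithTop ℤ) : WithBot (WithTop ℤ)) ≤
      ((d : WithTop ℤ) : WithBot (WithTop ℤ)) ↔ ∀ e : ℤ, d - c < e → 𝒢 e = ⊥ := by
  constructor
  · intro h e he
    by_contra hne
    have h1 : ((e : WithTop ℤ) : WithBot (WithTop ℤ)) ≤ GrLC.endDeg 𝒢 :=
      le_iSup₂ (f := fun (m : ℤ) (_ : 𝒢 m ≠ ⊥) => ((m : WithTop ℤ) : WithBot (WithTop ℤ))) e hne
    have h2 := (add_le_add h1 (le_refl ((c : WithTop ℤ) : WithBot (WithTop ℤ)))).trans h
    rw [← WithBot.coe_add, ← WithTop.coe_add, WithBot.coe_le_coe, WithTop.coe_le_coe] at h2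
    omega
  · intro h
    have h1 := (endDeg_le_iff 𝒢 (d - c)).2 h
    have h2 := add_le_add h1 (le_refl ((c : WithTop ℤ) : WithBot (WithTop ℤ)))
    rw [← WithBot.coe_add, ← WithTop.coe_add, sub_add_cancel] at h2
    exact h2

section Poly

variable (k : Type u) [Field k] (r : ℕ)

/-- the standard grading of `k[x_0, …, x_r]` with additive-subgroup pieces -/
noncomputable abbrev PA : ℤ → AddSubgroup (MvPolynomial (Fin (r + 1)) k) :=
  toAS (GrSyz.stdGr k (Fin (r + 1)))

/-- the irrelevant ideal for the converted grading -/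
noncomputable abbrev Pm : HomogeneousIdeal (PA k r) :=
  convI (GrSyz.irrel (GrSyz.stdGr k (Fin (r + 1))))

theorem pm_eq_span_X : (Pm k r).toIdeal =
    Ideal.span (Set.range (MvPolynomial.X : Fin (r + 1) → MvPolynomial (Fin (r + 1)) k)) := by
  classical
  apply le_antisymm
  · show Ideal.span {p : MvPolynomial (Fin (r + 1)) k |
      ∃ n : ℤ, 0 < n ∧ p ∈ GrSyz.stdGr k (Fin (r + 1)) n} ≤ _
    rw [Ideal.span_le]
    rintro p ⟨n, hn, hp⟩
    have hp' : p.IsWeightedHomogeneous (fun _ : Fin (r + 1) => (1 : ℤ)) n := hp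
    rw [SetLike.mem_coe, ← Set.image_univ, MvPolynomial.mem_ideal_span_X_image]
    intro v hv
    have hc : MvPolynomial.coeff v p ≠ 0 := MvPolynomial.mem_support_iff.1 hv
    have hw : Finsupp.weight (fun _ : Fin (r + 1) => (1 : ℤ)) v = n := hp' hc
    have hv0 : v ≠ 0 := by
      intro h0
      rw [h0, map_zero] at hw
      omega
    by_contra hall
    apply hv0
    ext j
    by_contra hj
    exact hall ⟨j, Set.mem_univ _, hj⟩
  · rw [Ideal.span_le]
    rintro _ ⟨j, rfl⟩
    have h1 : (MvPolynomial.X j : MvPolynomial (Fin (r + 1)) k) ∈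
        Ideal.span {p : MvPolynomial (Fin (r + 1)) k |
          ∃ n : ℤ, 0 < n ∧ p ∈ GrSyz.stdGr k (Fin (r + 1)) n} :=
      Ideal.subset_span ⟨1, one_pos,
        MvPolynomial.isWeightedHomogeneous_X k (fun _ : Fin (r + 1) => (1 : ℤ)) j⟩
    exact h1

theorem one_notMem_span_X : (1 : MvPolynomial (Fin (r + 1)) k) ∉
    Ideal.span (Set.range (MvPolynomial.X : Fin (r + 1) → MvPolynomial (Fin (r + 1)) k)) := by
  classical
  rw [← Set.image_univ, MvPolynomial.mem_ideal_span_X_image]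
  intro h
  have h0 : (0 : Fin (r + 1) →₀ ℕ) ∈ (1 : MvPolynomial (Fin (r + 1)) k).support := by
    rw [MvPolynomial.mem_support_iff, MvPolynomial.coeff_one, if_pos rfl]
    exact one_ne_zero
  obtain ⟨i, _, hi⟩ := h 0 h0
  exact hi rfl

theorem one_notMem_pm : (1 : MvPolynomial (Fin (r + 1)) k) ∉ (Pm k r).toIdeal := by
  rw [pm_eq_span_X]
  exact one_notMem_span_X k r

theorem X_take_eq (s : ℕ) :
    Ideal.ofList ((List.ofFn (fun i : Fin (r + 1) =>
      (MvPolynomial.X i : MvPolynomial (Fin (r + 1)) k))).take s) =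
      Ideal.span (MvPolynomial.X '' {i : Fin (r + 1) | i.val < s}) := by
  show Ideal.span {y | y ∈ (List.ofFn (fun i : Fin (r + 1) =>
      (MvPolynomial.X i : MvPolynomial (Fin (r + 1)) k))).take s} = _
  congr 1
  ext y
  rw [Set.mem_ofPred_eq, List.mem_take_iff_getElem]
  constructor
  · rintro ⟨n, hn, rfl⟩
    have hn' := lt_min_iff.1 hn
    rw [List.length_ofFn] at hn'
    refine ⟨⟨n, hn'.2⟩, hn'.1, ?_⟩
    rw [List.getElem_ofFn]
  · rintro ⟨i, hi, rfl⟩
    have hi' : i.val < s := hi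
    refine ⟨i.val, lt_min_iff.2 ⟨hi', ?_⟩, ?_⟩
    · rw [List.length_ofFn]
      exact i.isLt
    · rw [List.getElem_ofFn]

theorem X_isWeaklyRegular : RingTheory.Sequence.IsWeaklyRegular (MvPolynomial (Fin (r + 1)) k)
    (List.ofFn (fun i : Fin (r + 1) => (MvPolynomial.X i : MvPolynomial (Fin (r + 1)) k))) := by
  classical
  refine ⟨fun s hs => ?_⟩
  have hs' : s < r + 1 := by
    rw [List.length_ofFn] at hs
    exact hs
  rw [isSMulRegular_quotient_iff_mem_of_smul_mem]
  have hset : Ideal.ofList ((List.ofFn (fun i : Fin (r + 1) =>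
      (MvPolynomial.X i : MvPolynomial (Fin (r + 1)) k))).take s) •
        (⊤ : Submodule (MvPolynomial (Fin (r + 1)) k) (MvPolynomial (Fin (r + 1)) k)) =
      Ideal.span (MvPolynomial.X '' {i : Fin (r + 1) | i.val < s}) := by
    rw [smul_eq_mul, Ideal.mul_top]
    exact X_take_eq k r s
  have hget : (List.ofFn (fun i : Fin (r + 1) =>
      (MvPolynomial.X i : MvPolynomial (Fin (r + 1)) k)))[s] = MvPolynomial.X ⟨s, hs'⟩ := by
    rw [List.getElem_ofFn]
  rw [hset, hget]
  intro p hp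
  rw [smul_eq_mul, MvPolynomial.mem_ideal_span_X_image] at hp
  rw [MvPolynomial.mem_ideal_span_X_image]
  intro m hm
  have hm' : Finsupp.single (⟨s, hs'⟩ : Fin (r + 1)) 1 + m ∈
      (MvPolynomial.X (⟨s, hs'⟩ : Fin (r + 1)) * p).support := by
    rw [MvPolynomial.mem_support_iff, MvPolynomial.coeff_X_mul]
    exact MvPolynomial.mem_support_iff.1 hm
  obtain ⟨i, hi, hne⟩ := hp _ hm'
  refine ⟨i, hi, ?_⟩
  have his : i ≠ (⟨s, hs'⟩ : Fin (r + 1)) := by
    intro h
    rw [h] at hi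
    exact lt_irrefl _ (show s < s from hi)
  rw [Finsupp.add_apply, Finsupp.single_eq_of_ne his, zero_add] at hne
  exact hne

theorem X_isRegular : RingTheory.Sequence.IsRegular (MvPolynomial (Fin (r + 1)) k)
    (List.ofFn (fun i : Fin (r + 1) => (MvPolynomial.X i : MvPolynomial (Fin (r + 1)) k))) := by
  refine ⟨X_isWeaklyRegular k r, ?_⟩
  intro h
  apply one_notMem_span_X k r
  have h1 : Ideal.ofList (List.ofFn (fun i : Fin (r + 1) =>
      (MvPolynomial.X i : MvPolynomial (Fin (r + 1)) k))) =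
      Ideal.span (Set.range (MvPolynomial.X : Fin (r + 1) → MvPolynomial (Fin (r + 1)) k)) := by
    show Ideal.span {y | y ∈ List.ofFn (fun i : Fin (r + 1) =>
      (MvPolynomial.X i : MvPolynomial (Fin (r + 1)) k))} = _
    congr 1
    ext y
    rw [Set.mem_ofPred_eq, List.mem_ofFn]
    rfl
  rw [← h1]
  rw [smul_eq_mul, Ideal.mul_top] at h
  rw [← h]
  exact Submodule.mem_top

theorem X_mem_pm (i : Fin (r + 1)) :
    (MvPolynomial.X i : MvPolynomial (Fin (r + 1)) k) ∈ (Pm k r).toIdeal := by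
  rw [pm_eq_span_X]
  exact Ideal.subset_span ⟨i, rfl⟩

/-- vanishing of the graded local cohomology of the polynomial ring below `r + 1` -/
theorem vn_lt (E : GrLC.StarInjRes (PA k r) (PA k r)) (i : ℕ) (hi : i < r + 1) (n : ℤ) :
    Vn E (Pm k r) i n := by
  have hseq : Groth.Agent.H15.Depth.HasSeq (Pm k r).toIdeal (MvPolynomial (Fin (r + 1)) k)
      (r + 1) := by
    refine ⟨_, X_isWeaklyRegular k r, ?_, List.length_ofFn⟩
    intro y hy
    obtain ⟨i, rfl⟩ := List.mem_ofFn.1 hy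
    exact X_mem_pm k r i
  have hdep := Groth.Agent.H15.Depth.le_idealDepth_of_hasSeq hseq
  have hIM : (Pm k r).toIdeal • (⊤ : Submodule (MvPolynomial (Fin (r + 1)) k)
      (MvPolynomial (Fin (r + 1)) k)) ≠ ⊤ := by
    rw [smul_eq_mul, Ideal.mul_top]
    intro h
    apply one_notMem_pm k r
    rw [h]
    exact Submodule.mem_top
  obtain ⟨e⟩ := nonempty_H_equiv E (Pm k r) i
  have hs : Subsingleton (LocCoh.H (Pm k r).toIdeal i (MvPolynomial (Fin (r + 1)) k)) :=
    Groth.Agent.H58.LC.subsingleton_H_of_lt_idealDepth (Pm k r).toIdeal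
      (MvPolynomial (Fin (r + 1)) k) (r + 1) hdep hIM i hi
  exact vn_of_subsingleton E (Pm k r) i e.toEquiv.subsingleton n

theorem dim_poly : ringKrullDim (MvPolynomial (Fin (r + 1)) k) = ((r + 1 : ℕ) : WithBot ℕ∞) :=
  Groth.Agent.H54.ringKrullDim_mvPolynomial_field k (r + 1)

/-- vanishing of the top graded local cohomology of the polynomial ring above degree `-(r+1)` -/
theorem vn_top (I : GrLC.StarInjRes (PA k r) (PA k r)) (j : ℤ) (hj : -((r : ℤ) + 1) < j) :
    Vn I (Pm k r) (r + 1) j := by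
  classical
  have hB : (Pm k r).toIdeal.IsHomogeneous (PA k r) := (Pm k r).isHomogeneous
  obtain ⟨π, hπdef⟩ : ∃ π : MvPolynomial (Fin (r + 1)) k →ₗ[MvPolynomial (Fin (r + 1)) k]
      (quotG (PA k r) (PA k r) (Pm k r).toIdeal hB).carrier,
      ∀ x, π x = Submodule.mkQ (Pm k r).toIdeal x :=
    ⟨Submodule.mkQ (Pm k r).toIdeal, fun _ => rfl⟩
  have hπ : GrLC.IsGrHom (PA k r) (quotG (PA k r) (PA k r) (Pm k r).toIdeal hB).gr π := by
    intro n z hz
    rw [hπdef]
    exact ⟨z, hz, rfl⟩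
  have hπs : Function.Surjective π := by
    intro y
    obtain ⟨x, hx⟩ := Submodule.mkQ_surjective (Pm k r).toIdeal y
    exact ⟨x, (hπdef x).trans hx⟩
  have hπk : LinearMap.ker π = Ideal.span (Set.range (fun i : Fin (r + 1) =>
      (MvPolynomial.X i : MvPolynomial (Fin (r + 1)) k))) := by
    have h1 := pm_eq_span_X k r
    have h2 : LinearMap.ker π = (Pm k r).toIdeal := by
      ext x
      rw [LinearMap.mem_ker, hπdef]
      exact Submodule.Quotient.mk_eq_zero _
    rw [h2, h1]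
  obtain ⟨F⟩ : Nonempty (GrLC.StarInjRes (PA k r)
      (quotG (PA k r) (PA k r) (Pm k r).toIdeal hB).gr) := ⟨starInjRes _ _⟩
  have hXdeg : ∀ i : Fin (r + 1), (MvPolynomial.X i : MvPolynomial (Fin (r + 1)) k) ∈
      PA k r ((fun _ : Fin (r + 1) => (1 : ℤ)) i) := fun i =>
    MvPolynomial.isWeightedHomogeneous_X k (fun _ : Fin (r + 1) => (1 : ℤ)) i
  have hvan : ∀ i, i < r + 1 → ∀ j, Vn I (Pm k r) i j := fun i hi j => vn_lt k r I i hi j
  have hmain := endDeg_quot_seq (stdGr_neg k (Fin (r + 1))) (Pm k r) I (r + 1) hvan (r + 1) le_rfl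
    (fun i : Fin (r + 1) => (MvPolynomial.X i : MvPolynomial (Fin (r + 1)) k))
    (fun _ => (1 : ℤ)) hXdeg (X_mem_pm k r) (X_isRegular k r) π hπ hπs hπk F
  rw [Nat.sub_self] at hmain
  have hsum : ((Finset.univ : Finset (Fin (r + 1))).sum (fun _ => (1 : ℤ))) = (r : ℤ) + 1 := by
    simp
  rw [hsum] at hmain
  have hF0 : GrLC.endDeg (F.Hgr (Pm k r) 0) ≤ (((0 : ℤ) : WithTop ℤ) : WithBot (WithTop ℤ)) := by
    rw [endDeg_le_iff]
    intro e he
    by_contra hne
    refine (hgr_ne_bot_iff F (Pm k r) 0 e).1 hne (vn_zero_of_piece_eq_bot F (Pm k r) e ?_)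
    rw [eq_bot_iff]
    rintro y ⟨z, hz, rfl⟩
    rw [AddSubgroup.mem_bot]
    have hzm : z ∈ Ideal.span {p : MvPolynomial (Fin (r + 1)) k |
        ∃ n : ℤ, 0 < n ∧ p ∈ GrSyz.stdGr k (Fin (r + 1)) n} :=
      Ideal.subset_span ⟨e, he, hz⟩
    exact (Submodule.Quotient.mk_eq_zero _).2 hzm
  by_contra hV
  have h1 : I.Hgr (Pm k r) (r + 1) j ≠ ⊥ := (hgr_ne_bot_iff I (Pm k r) (r + 1) j).2 hV
  have h2 : ((j : WithTop ℤ) : WithBot (WithTop ℤ)) ≤ GrLC.endDeg (I.Hgr (Pm k r) (r + 1)) :=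
    le_iSup₂ (f := fun (m : ℤ) (_ : I.Hgr (Pm k r) (r + 1) m ≠ ⊥) =>
      ((m : WithTop ℤ) : WithBot (WithTop ℤ))) j h1
  have h3 := add_le_add h2 (le_refl ((((r : ℤ) + 1 : ℤ) : WithTop ℤ) : WithBot (WithTop ℤ)))
  rw [← hmain, ← WithBot.coe_add, ← WithTop.coe_add] at h3
  have h4 := h3.trans hF0
  rw [WithBot.coe_le_coe, WithTop.coe_le_coe] at h4
  omega

theorem poly_hP1 (i : ℕ) (hi : i ≠ r + 1) (j : ℤ) :
    HV (Pm k r) (GrLC.GMod.of (PA k r) (MvPolynomial (Fin (r + 1)) k) (PA k r)) i j := by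
  have h : Vn (starInjRes (PA k r) (PA k r)) (Pm k r) i j := by
    rcases Nat.lt_or_gt_of_ne hi with h | h
    · exact vn_lt k r _ i h j
    · exact vn_of_dim_lt (r + 1) (dim_poly k r) _ _ i h j
  exact hv_of_vn _ h

theorem poly_hP2 (j : ℤ) (hj : -((r + 1 : ℕ) : ℤ) < j) :
    HV (Pm k r) (GrLC.GMod.of (PA k r) (MvPolynomial (Fin (r + 1)) k) (PA k r)) (r + 1) j := by
  have h : Vn (starInjRes (PA k r) (PA k r)) (Pm k r) (r + 1) j :=
    vn_top k r _ j (by push_cast at hj; omega)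
  exact hv_of_vn _ h

theorem poly_hP3 (A : GrLC.GMod.{u} (PA k r)) (i : ℕ) (hi : r + 1 < i) (j : ℤ) :
    HV (Pm k r) A i j :=
  fun E => vn_of_dim_lt (r + 1) (dim_poly k r) E (Pm k r) i hi j

/-- **Eisenbud–Goto**: for a minimal graded free resolution over the polynomial ring, the bound
`d + i` on the generator degrees is the vanishing of graded local cohomology above the
diagonals `d - i` -/
theorem eg_main (M : Type u) [AddCommGroup M] [Module k M]
    [Module (MvPolynomial (Fin (r + 1)) k) M] (ℳ : ℤ → Submodule k M)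
    [DirectSum.Decomposition ℳ] [SetLike.GradedSMul (GrSyz.stdGr k (Fin (r + 1))) ℳ]
    (F : GrSyz.FreeRes (GrSyz.stdGr k (Fin (r + 1))) ℳ)
    (hF : F.IsMinimal (GrSyz.irrel (GrSyz.stdGr k (Fin (r + 1)))).toIdeal) (d : ℤ) :
    F.IsGenLE d ↔ ∀ (i : ℕ) (j : ℤ), d - (i : ℤ) < j →
      HV (Pm k r) (GrLC.GMod.of (PA k r) M (toAS ℳ)) i j := by
  obtain ⟨φ, hL⟩ := exists_lev_zero (convFR F)
  constructor
  · intro hgen i j hj
    have hgen' : (convFR F).IsGenLE d := hgen
    exact lc_of_isGenLE (convFR F) (Pm k r) (r + 1) (poly_hP1 k r) (poly_hP2 k r) (poly_hP3 k r)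
      d hgen' (r + 2) 0 _ φ hL i (by omega) j (by push_cast; omega)
  · intro h i b
    have hmin : (convFR F).IsMinimal (Pm k r).toIdeal := hF
    exact isGenLE_of_lc (convFR F) (Pm k r) (r + 1) (poly_hP1 k r) (poly_hP2 k r)
      (stdGr_hhom k (Fin (r + 1))) (by omega) (one_notMem_pm k r) d hmin i 0 i (by omega) _ φ hL
      (fun i' j hj => h i' j (by push_cast at hj; omega)) b

end Poly

end Groth.Agent.H98.GrConv
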