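import Groth.Agent.H98.GrMinRes
import Groth.Agent.H98.GrPoly

/-!
# Helper library (helper98): Castelnuovo–Mumford regularity (syzygy sense) of finitely generated
graded modules over `k[x_0, …, x_r]` in terms of graded local cohomology: existence of minimal
graded free resolutions, `reg M ≤ d` as vanishing above the diagonals.
-/

set_option autoImplicit false
universe u

open DirectSum

namespace Groth.Agent.H98.GrCat

section Piece

variable {ι : Type} [AddCommGroup ι] [DecidableEq ι]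
variable {R : Type u} [CommRing R] {𝒜 : ι → AddSubgroup R} [GradedRing 𝒜]
variable {M : Type u} [AddCommGroup M] [Module R M] {ℳ : ι → AddSubgroup M}
  [DirectSum.Decomposition ℳ] [SetLike.GradedSMul 𝒜 ℳ]

/-- for a torsion module, `H^0` vanishes only in the degrees where the module does -/
theorem piece_eq_bot_of_vn_zero (E : GrLC.StarInjRes 𝒜 ℳ) (a : HomogeneousIdeal 𝒜) (j : ι)
    (htor : GrLC.gam a.toIdeal M = ⊤) (h : Vn E a 0 j) : ℳ j = ⊥ := by
  rw [eq_bot_iff]
  intro y hy
  rw [AddSubgroup.mem_bot]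
  have hc : E.ε y ∈ E.cocyc a 0 := by
    refine Submodule.mem_inf.2 ⟨?_, ?_⟩
    · have hy' : y ∈ GrLC.gam a.toIdeal M := by
        rw [htor]
        exact Submodule.mem_top
      obtain ⟨t, ht⟩ := hy'
      exact ⟨t, fun r hr => by rw [← map_smul, ht r hr, map_zero]⟩
    · rw [E.exact_zero]
      exact ⟨y, rfl⟩
  have h0 := h (E.ε y) hc (E.ε_grHom j y hy)
  have h1 : E.ε y = 0 := (Submodule.mem_bot R).1 h0
  exact E.ε_injective (by rw [h1, map_zero])

end Piece

end Groth.Agent.H98.GrCat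

namespace Groth.Agent.H98.GrConv

open Groth.Agent.H98.GrCat Groth.Agent.H98.GrHt

section FR

variable {R : Type u} [CommRing R] {σ : Type u} [SetLike σ R] [AddSubgroupClass σ R]
  {𝒜 : ℤ → σ} [GradedRing 𝒜]
  {M : Type u} [AddCommGroup M] [Module R M] {τ : Type u} [SetLike τ M] [AddSubgroupClass τ M]
  {ℳ : ℤ → τ} [DirectSum.Decomposition ℳ] [SetLike.GradedSMul 𝒜 ℳ]

/-- a graded free resolution for the converted gradings, read for the original gradings -/
def unconvFR (F : GrSyz.FreeRes (toAS 𝒜) (toAS ℳ)) : GrSyz.FreeRes 𝒜 ℳ where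
  rk := F.rk
  deg := F.deg
  d := F.d
  aug := F.aug
  d_mem := F.d_mem
  aug_mem := F.aug_mem
  aug_surjective := F.aug_surjective
  exact_zero := F.exact_zero
  exact_succ := F.exact_succ

end FR

section W

/-- an extended integer below every integer is `-∞` -/
theorem wb_eq_bot_of_forall (x : WithBot (WithTop ℤ))
    (h : ∀ d : ℤ, x ≤ ((d : WithTop ℤ) : WithBot (WithTop ℤ))) : x = ⊥ := by
  induction x using WithBot.recBotCoe with
  | bot => rfl
  | coe y =>
    exfalso
    induction y using WithTop.recTopCoe with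
    | top =>
      have h0 := h 0
      rw [WithBot.coe_le_coe] at h0
      exact WithTop.coe_ne_top (top_le_iff.1 h0)
    | coe n =>
      have h0 := h (n - 1)
      rw [WithBot.coe_le_coe, WithTop.coe_le_coe] at h0
      omega

theorem wb_le_of_forall (x y : WithBot (WithTop ℤ))
    (h : ∀ d : ℤ, y ≤ ((d : WithTop ℤ) : WithBot (WithTop ℤ)) →
      x ≤ ((d : WithTop ℤ) : WithBot (WithTop ℤ))) : x ≤ y := by
  induction y using WithBot.recBotCoe with
  | bot => rw [wb_eq_bot_of_forall x (fun d => h d bot_le)]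
  | coe y =>
    induction y using WithTop.recTopCoe with
    | top =>
      rw [WithBot.coe_top]
      exact le_top
    | coe n => exact h n le_rfl

/-- extended integers are determined by their integer upper bounds -/
theorem wb_eq_of_forall (x y : WithBot (WithTop ℤ))
    (h : ∀ d : ℤ, x ≤ ((d : WithTop ℤ) : WithBot (WithTop ℤ)) ↔
      y ≤ ((d : WithTop ℤ) : WithBot (WithTop ℤ))) : x = y :=
  le_antisymm (wb_le_of_forall x y fun d hd => (h d).2 hd)
    (wb_le_of_forall y x fun d hd => (h d).1 hd)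

/-- the infimum of an upward closed set of integers -/
theorem wb_iInf_le_iff (P : ℤ → Prop) (hP : ∀ d d' : ℤ, d ≤ d' → P d → P d') (d : ℤ) :
    (⨅ (e : ℤ) (_ : P e), ((e : WithTop ℤ) : WithBot (WithTop ℤ))) ≤
      ((d : WithTop ℤ) : WithBot (WithTop ℤ)) ↔ P d := by
  constructor
  · intro h
    by_contra hP'
    have h1 : (((d + 1 : ℤ) : WithTop ℤ) : WithBot (WithTop ℤ)) ≤
        ⨅ (e : ℤ) (_ : P e), ((e : WithTop ℤ) : WithBot (WithTop ℤ)) := by
      refine le_iInf₂ fun e he => ?_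
      rw [WithBot.coe_le_coe, WithTop.coe_le_coe]
      by_contra hlt
      exact hP' (hP e d (by omega) he)
    have h2 := h1.trans h
    rw [WithBot.coe_le_coe, WithTop.coe_le_coe] at h2
    omega
  · intro h
    exact iInf₂_le d h

end W

section Poly

variable (k : Type u) [Field k] (r : ℕ)

theorem poly_H1 (j : ℤ) (hj : j ≠ 0) (x : MvPolynomial (Fin (r + 1)) k) (hx : x ∈ PA k r j) :
    x ∈ (Pm k r).toIdeal := by
  rcases lt_or_gt_of_ne hj with h | h
  · have h0 := stdGr_neg k (Fin (r + 1)) j h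
    have hx' : x ∈ toAS (GrSyz.stdGr k (Fin (r + 1))) j := hx
    rw [h0] at hx'
    rw [AddSubgroup.mem_bot.1 hx']
    exact zero_mem _
  · have h1 : x ∈ Ideal.span {p : MvPolynomial (Fin (r + 1)) k |
        ∃ n : ℤ, 0 < n ∧ p ∈ GrSyz.stdGr k (Fin (r + 1)) n} :=
      Ideal.subset_span ⟨j, h, hx⟩
    exact h1

theorem poly_H2 (x : MvPolynomial (Fin (r + 1)) k) (hx : x ∈ PA k r 0)
    (hxm : x ∉ (Pm k r).toIdeal) : IsUnit x := by
  classical
  have hx' : x.IsWeightedHomogeneous (fun _ : Fin (r + 1) => (1 : ℤ)) 0 := hx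
  have hC : x = MvPolynomial.C (MvPolynomial.coeff 0 x) := by
    ext v
    rw [MvPolynomial.coeff_C]
    by_cases hv : 0 = v
    · rw [if_pos hv, hv]
    · rw [if_neg hv]
      by_contra hc
      have hw : Finsupp.weight (fun _ : Fin (r + 1) => (1 : ℤ)) v = 0 := hx' hc
      apply hv
      symm
      rw [Finsupp.weight_apply, Finsupp.sum] at hw
      have hnn : ∀ i ∈ v.support, (0 : ℤ) ≤ v i • (1 : ℤ) :=
        fun i _ => nsmul_nonneg zero_le_one _
      have h0 := (Finset.sum_eq_zero_iff_of_nonneg hnn).1 hw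
      ext i
      have hvi : v i = 0 := by
        by_contra hi
        have hi' : i ∈ v.support := Finsupp.mem_support_iff.2 hi
        have h1 := h0 i hi'
        rw [nsmul_eq_mul, mul_one] at h1
        exact hi (by exact_mod_cast h1)
      rw [hvi]
      rfl
  have hne : MvPolynomial.coeff 0 x ≠ 0 := by
    intro h0
    apply hxm
    rw [hC, h0, map_zero]
    exact zero_mem _
  rw [hC]
  exact (isUnit_iff_ne_zero.2 hne).map MvPolynomial.C

variable (M : Type u) [AddCommGroup M] [Module k M] [Module (MvPolynomial (Fin (r + 1)) k) M]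
  (ℳ : ℤ → Submodule k M) [DirectSum.Decomposition ℳ]
  [SetLike.GradedSMul (GrSyz.stdGr k (Fin (r + 1))) ℳ]

/-- minimal graded free resolutions exist over the polynomial ring -/
theorem exists_minimal_poly [Module.Finite (MvPolynomial (Fin (r + 1)) k) M] :
    ∃ F : GrSyz.FreeRes (GrSyz.stdGr k (Fin (r + 1))) ℳ,
      F.IsMinimal (GrSyz.irrel (GrSyz.stdGr k (Fin (r + 1)))).toIdeal := by
  obtain ⟨F, hF⟩ := exists_minimal_freeRes (PA k r) (Pm k r).toIdeal (poly_H1 k r) (poly_H2 k r)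
    (toAS ℳ)
  exact ⟨unconvFR F, hF⟩

/-- `reg M ≤ d` (syzygy sense) as vanishing of graded local cohomology above the diagonals -/
theorem isRegLE_iff [Module.Finite (MvPolynomial (Fin (r + 1)) k) M] (d : ℤ) :
    GrSyz.IsRegLE (GrSyz.stdGr k (Fin (r + 1))) ℳ
        (GrSyz.irrel (GrSyz.stdGr k (Fin (r + 1)))).toIdeal d ↔
      ∀ (i : ℕ) (j : ℤ), d - (i : ℤ) < j →
        HV (Pm k r) (GrLC.GMod.of (PA k r) M (toAS ℳ)) i j := by
  constructor
  · rintro ⟨F, hmin, hgen⟩
    exact (eg_main k r M ℳ F hmin d).1 hgen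
  · intro h
    obtain ⟨F, hmin⟩ := exists_minimal_poly k r M ℳ
    exact ⟨F, hmin, (eg_main k r M ℳ F hmin d).2 h⟩

theorem reg_le_iff [Module.Finite (MvPolynomial (Fin (r + 1)) k) M] (d : ℤ) :
    GrSyz.reg (GrSyz.stdGr k (Fin (r + 1))) ℳ
        (GrSyz.irrel (GrSyz.stdGr k (Fin (r + 1)))).toIdeal ≤
        ((d : WithTop ℤ) : WithBot (WithTop ℤ)) ↔
      ∀ (i : ℕ) (j : ℤ), d - (i : ℤ) < j →
        HV (Pm k r) (GrLC.GMod.of (PA k r) M (toAS ℳ)) i j := by
  rw [← isRegLE_iff k r M ℳ d]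
  unfold GrSyz.reg
  refine wb_iInf_le_iff _ (fun d d' hdd' h => ?_) d
  obtain ⟨F, hmin, hgen⟩ := h
  exact ⟨F, hmin, fun i b => (hgen i b).trans (by omega)⟩

/-- vanishing above the diagonals is `d`-regularity -/
theorem hv_diag_iff (A : GrLC.GMod.{u} (PA k r)) (d : ℤ) :
    (∀ (i : ℕ) (j : ℤ), d - (i : ℤ) < j → HV (Pm k r) A i j) ↔
      ((∀ e : ℤ, d < e → HV (Pm k r) A 0 e) ∧
        ∀ i : ℕ, 0 < i → HV (Pm k r) A i (d - (i : ℤ) + 1)) := by
  constructor
  · intro h
    exact ⟨fun e he => h 0 e (by push_cast; omega), fun i _ => h i _ (by omega)⟩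
  · rintro ⟨h0, hi⟩ i j hj
    cases i with
    | zero => exact h0 j (by push_cast at hj; omega)
    | succ i =>
      have hreg1 : ∀ i' : ℕ, 1 ≤ i' → HV (Pm k r) A i' (d + 1 - (i' : ℤ)) := by
        intro i' hi'
        have e : d + 1 - (i' : ℤ) = d - (i' : ℤ) + 1 := by ring
        rw [e]
        exact hi i' hi'
      have hprop := hv_propagate (Pm k r) (stdGr_hhom k (Fin (r + 1))) A d 1 le_rfl hreg1
        (i + 1) (by omega) (j + ((i + 1 : ℕ) : ℤ)) (by omega)
      rw [add_sub_cancel_right] at hprop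
      exact hprop

theorem hv_iff_hgr (E : GrLC.StarInjRes (GrSyz.stdGr k (Fin (r + 1))) ℳ) (i : ℕ) (n : ℤ) :
    HV (Pm k r) (GrLC.GMod.of (PA k r) M (toAS ℳ)) i n ↔
      E.Hgr (GrSyz.irrel (GrSyz.stdGr k (Fin (r + 1)))) i n = ⊥ :=
  ((Hgr_eq_bot_iff_vn E _ i n).trans ⟨fun h => hv_of_vn _ h, fun h => h _⟩).symm

theorem hv_iff_endDeg (E : GrLC.StarInjRes (GrSyz.stdGr k (Fin (r + 1))) ℳ) (d : ℤ) :
    (∀ (i : ℕ) (j : ℤ), d - (i : ℤ) < j →
        HV (Pm k r) (GrLC.GMod.of (PA k r) M (toAS ℳ)) i j) ↔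
      ∀ i : ℕ, GrLC.endDeg (E.Hgr (GrSyz.irrel (GrSyz.stdGr k (Fin (r + 1)))) i) +
        (((i : ℤ) : WithTop ℤ) : WithBot (WithTop ℤ)) ≤ ((d : WithTop ℤ) : WithBot (WithTop ℤ)) := by
  constructor
  · intro h i
    rw [endDeg_add_le_iff]
    intro e he
    exact (hv_iff_hgr k r M ℳ E i e).1 (h i e he)
  · intro h i j hj
    exact (hv_iff_hgr k r M ℳ E i j).2 ((endDeg_add_le_iff _ d i).1 (h i) j hj)

include ℳ in
/-- a module of finite length is torsion for the irrelevant ideal -/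
theorem gam_eq_top_of_isFiniteLength (hM : IsFiniteLength (MvPolynomial (Fin (r + 1)) k) M) :
    GrLC.gam (Pm k r).toIdeal M = ⊤ := by
  haveI : IsArtinian (MvPolynomial (Fin (r + 1)) k) M :=
    (isFiniteLength_iff_isNoetherian_isArtinian.1 hM).2
  rw [eq_top_iff]
  intro z _
  exact gam_of_isArtinian_sub (toAS ℳ) (stdGr_neg k (Fin (r + 1))) (Pm k r)
    (stdGr_hhom k (Fin (r + 1))) ⊤ (top_isHomogeneous (toAS ℳ)) z Submodule.mem_top

/-- for a module of finite length, vanishing above the diagonals means vanishing of the module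
above `d` -/
theorem hv_diag_iff_of_isFiniteLength (hM : IsFiniteLength (MvPolynomial (Fin (r + 1)) k) M)
    (d : ℤ) :
    (∀ (i : ℕ) (j : ℤ), d - (i : ℤ) < j →
        HV (Pm k r) (GrLC.GMod.of (PA k r) M (toAS ℳ)) i j) ↔
      ∀ e : ℤ, d < e → ∀ y ∈ ℳ e, y = 0 := by
  have htor := gam_eq_top_of_isFiniteLength k r M ℳ hM
  constructor
  · intro h e he y hy
    have h1 : Vn (starInjRes (PA k r) (toAS ℳ)) (Pm k r) 0 e :=
      h 0 e (by push_cast; omega) _
    have h2 := piece_eq_bot_of_vn_zero _ (Pm k r) e htor h1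
    have hy' : y ∈ toAS ℳ e := hy
    rw [h2] at hy'
    exact AddSubgroup.mem_bot.1 hy'
  · intro h i j hj
    cases i with
    | zero =>
      have h1 : Vn (starInjRes (PA k r) (toAS ℳ)) (Pm k r) 0 j := by
        refine vn_zero_of_piece_eq_bot _ (Pm k r) j ?_
        rw [eq_bot_iff]
        intro y hy
        exact AddSubgroup.mem_bot.2 (h j (by push_cast at hj; omega) y hy)
      exact hv_of_vn _ h1
    | succ i =>
      exact hv_torsion (Pm k r) (GrLC.GMod.of (PA k r) M (toAS ℳ)) htor (i + 1) (by omega) j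

end Poly

end Groth.Agent.H98.GrConv
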