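import Mathlib
import Groth.Agent.H63.SmoothRegular
import Groth.Agent.H56.RegGap
import Groth.Agent.H77.GrSyzPd
import Groth.Agent.H98.GrReg

/-!
# Helper library (helper98): Hilbert's syzygy theorem in graded form — every minimal graded free
resolution of a finitely generated graded module over `k[x_0, …, x_n]` has length at most `n + 1`.
(Combines the global dimension bound of helper56/helper59, the regularity of smooth algebras of
helper63 and the projective-dimension bookkeeping for graded free resolutions of helper77.)
-/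

set_option autoImplicit false
universe u

namespace Groth.Agent.H98.GrConv

open Groth.Agent.H98.GrCat

theorem isRegularRing_poly (k : Type u) [Field k] (n : ℕ) :
    IsRegularRing (MvPolynomial (Fin n) k) := by
  have : Algebra.Smooth k (MvPolynomial (Fin n) k) := ⟨inferInstance, inferInstance⟩
  exact Groth.Agent.H63.SmoothRegular.isRegularRing_of_smooth k _

theorem irrel_ne_top (k : Type u) [Field k] (n : ℕ) :
    (GrSyz.irrel (GrSyz.stdGr k (Fin (n + 1)))).toIdeal ≠ ⊤ := by
  intro h
  apply one_notMem_pm k n
  show (1 : MvPolynomial (Fin (n + 1)) k) ∈ (GrSyz.irrel (GrSyz.stdGr k (Fin (n + 1)))).toIdeal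
  rw [h]
  exact Submodule.mem_top

/-- every module over `k[x_0, …, x_n]` has projective dimension at most `n + 1` -/
theorem pd_poly (k : Type u) [Field k] (n : ℕ) (M : Type u) [AddCommGroup M]
    [Module (MvPolynomial (Fin (n + 1)) k) M] :
    CategoryTheory.HasProjectiveDimensionLT
      (ModuleCat.of (MvPolynomial (Fin (n + 1)) k) M) (n + 1 + 1) := by
  have := isRegularRing_poly k (n + 1)
  have hreg : ∀ p : PrimeSpectrum (MvPolynomial (Fin (n + 1)) k),
      IsRegularLocalRing (Localization.AtPrime p.asIdeal) := by
    intro p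
    exact (isRegularRing_iff.1 inferInstance) p.asIdeal
  exact Groth.Agent.H56.RegGap.projDim_of_regular (MvPolynomial (Fin (n + 1)) k) hreg (n + 1)
    (dim_poly k n) M

/-- **Hilbert's syzygy theorem**: a minimal graded free resolution over `k[x_0, …, x_n]` has length
at most `n + 1` -/
theorem hasLengthLE_of_minimal (k : Type u) [Field k] (n : ℕ)
    (M : Type u) [AddCommGroup M] [Module k M] [Module (MvPolynomial (Fin (n + 1)) k) M]
    (ℳ : ℤ → Submodule k M) [DirectSum.Decomposition ℳ]
    [SetLike.GradedSMul (GrSyz.stdGr k (Fin (n + 1))) ℳ]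
    (F : GrSyz.FreeRes (GrSyz.stdGr k (Fin (n + 1))) ℳ)
    (hF : F.IsMinimal (GrSyz.irrel (GrSyz.stdGr k (Fin (n + 1)))).toIdeal) :
    F.HasLengthLE (n + 1) :=
  Groth.Agent.H77.GrSyzPd.hasLengthLE_of_pdLE F (irrel_ne_top k n) hF (n + 1) (pd_poly k n M)

end Groth.Agent.H98.GrConv
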