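import Groth.Agent.H98.GrAB
import Groth.Agent.H98.GrHilb

/-!
# Helper library (helper98): graded Auslander–Buchsbaum over the standard graded polynomial ring
`k[x_0, …, x_r]`, in local-cohomology form.
-/

set_option autoImplicit false
universe u

open DirectSum

namespace Groth.Agent.H98.GrConv

open Groth.Agent.H98.GrCat Groth.Agent.H98.GrHt

section Poly

variable (k : Type u) [Field k] (r : ℕ)

/-- a homogeneous element of degree `≤ 0` of the irrelevant ideal is zero -/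
theorem poly_hzero (j : ℤ) (hj : j ≤ 0) (x : MvPolynomial (Fin (r + 1)) k) (hx : x ∈ PA k r j)
    (hxm : x ∈ (Pm k r).toIdeal) : x = 0 := by
  classical
  rcases lt_or_eq_of_le hj with h | h
  · have h0 := stdGr_neg k (Fin (r + 1)) j h
    have hx' : x ∈ toAS (GrSyz.stdGr k (Fin (r + 1))) j := hx
    rw [h0] at hx'
    exact AddSubgroup.mem_bot.1 hx'
  · subst h
    by_contra hne
    rw [pm_eq_span_X, ← Set.image_univ, MvPolynomial.mem_ideal_span_X_image] at hxm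
    obtain ⟨m, hm⟩ := MvPolynomial.ne_zero_iff.1 hne
    obtain ⟨i, -, hi⟩ := hxm m (MvPolynomial.mem_support_iff.2 hm)
    have hx' : x.IsWeightedHomogeneous (fun _ : Fin (r + 1) => (1 : ℤ)) 0 := hx
    have hw : Finsupp.weight (fun _ : Fin (r + 1) => (1 : ℤ)) m = 0 := hx' hm
    rw [Finsupp.weight_apply, Finsupp.sum] at hw
    have hnn : ∀ i ∈ m.support, (0 : ℤ) ≤ m i • (1 : ℤ) :=
      fun i _ => nsmul_nonneg zero_le_one _
    have h0 := (Finset.sum_eq_zero_iff_of_nonneg hnn).1 hw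
    have hi' : i ∈ m.support := Finsupp.mem_support_iff.2 hi
    have h1 := h0 i hi'
    rw [nsmul_eq_mul, mul_one] at h1
    exact hi (by exact_mod_cast h1)

/-- the top graded local cohomology of the polynomial ring does not vanish in degree `-(r+1)` -/
theorem poly_hPnv :
    ¬ HV (Pm k r) (GrLC.GMod.of (PA k r) (MvPolynomial (Fin (r + 1)) k) (PA k r)) (r + 1)
      (-((r + 1 : ℕ) : ℤ)) := by
  classical
  intro hV
  obtain ⟨I, -⟩ : ∃ I : GrLC.StarInjRes (PA k r) (PA k r), True := ⟨starInjRes _ _, trivial⟩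
  have hVI : Vn I (Pm k r) (r + 1) (-((r + 1 : ℕ) : ℤ)) := hV I
  have hB : (Pm k r).toIdeal.IsHomogeneous (PA k r) := (Pm k r).isHomogeneous
  obtain ⟨π, hπdef⟩ : ∃ π : MvPolynomial (Fin (r + 1)) k →ₗ[MvPolynomial (Fin (r + 1)) k]
      (quotG (PA k r) (PA k r) (Pm k r).toIdeal hB).carrier,
      ∀ x, π x = Submodule.mkQ (Pm k r).toIdeal x :=
    ⟨Submodule.mkQ (Pm k r).toIdeal, fun _ => rfl⟩
  have hπ : GrLC.IsGrHom (PA k r) (quotG (PA k r) (PA k r) (Pm k r).toIdeal hB).gr π := by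
    intro n z hz
    rw [hπdef]
    exact ⟨z, hz, rfl⟩
  have hπs : Function.Surjective π := by
    intro y
    obtain ⟨x, hx⟩ := Submodule.mkQ_surjective (Pm k r).toIdeal y
    exact ⟨x, (hπdef x).trans hx⟩
  have hπk : LinearMap.ker π = Ideal.span (Set.range (fun i : Fin (r + 1) =>
      (MvPolynomial.X i : MvPolynomial (Fin (r + 1)) k))) := by
    have h1 := pm_eq_span_X k r
    have h2 : LinearMap.ker π = (Pm k r).toIdeal := by
      ext x
      rw [LinearMap.mem_ker, hπdef]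
      exact Submodule.Quotient.mk_eq_zero _
    rw [h2, h1]
  obtain ⟨F⟩ : Nonempty (GrLC.StarInjRes (PA k r)
      (quotG (PA k r) (PA k r) (Pm k r).toIdeal hB).gr) := ⟨starInjRes _ _⟩
  have hXdeg : ∀ i : Fin (r + 1), (MvPolynomial.X i : MvPolynomial (Fin (r + 1)) k) ∈
      PA k r ((fun _ : Fin (r + 1) => (1 : ℤ)) i) := fun i =>
    MvPolynomial.isWeightedHomogeneous_X k (fun _ : Fin (r + 1) => (1 : ℤ)) i
  have hvan : ∀ i, i < r + 1 → ∀ j, Vn I (Pm k r) i j := fun i hi j => vn_lt k r I i hi j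
  have hmain := endDeg_quot_seq (stdGr_neg k (Fin (r + 1))) (Pm k r) I (r + 1) hvan (r + 1) le_rfl
    (fun i : Fin (r + 1) => (MvPolynomial.X i : MvPolynomial (Fin (r + 1)) k))
    (fun _ => (1 : ℤ)) hXdeg (X_mem_pm k r) (X_isRegular k r) π hπ hπs hπk F
  rw [Nat.sub_self] at hmain
  have hsum : ((Finset.univ : Finset (Fin (r + 1))).sum (fun _ => (1 : ℤ))) = (r : ℤ) + 1 := by
    simp
  rw [hsum] at hmain
  have hle : GrLC.endDeg (I.Hgr (Pm k r) (r + 1)) +
      ((((r : ℤ) + 1 : ℤ) : WithTop ℤ) : WithBot (WithTop ℤ)) ≤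
      (((-1 : ℤ) : WithTop ℤ) : WithBot (WithTop ℤ)) := by
    rw [endDeg_add_le_iff]
    intro e he
    by_contra hne
    have hnv := (hgr_ne_bot_iff I (Pm k r) (r + 1) e).1 hne
    apply hnv
    by_cases hee : e = -((r + 1 : ℕ) : ℤ)
    · rw [hee]
      exact hVI
    · refine vn_top k r I e ?_
      push_cast at hee
      omega
  rw [← hmain] at hle
  have h00 : F.Hgr (Pm k r) 0 0 = ⊥ := (endDeg_le_iff _ (-1)).1 hle 0 (by norm_num)
  have hvn : Vn F (Pm k r) 0 0 := vn_of_Hgr_eq_bot h00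
  have hc : F.ε (π 1) ∈ F.cocyc (Pm k r) 0 := by
    refine ⟨⟨1, fun s hs => ?_⟩, ?_⟩
    · rw [pow_one] at hs
      have h1 : s • F.ε (π 1) = F.ε (π s) := by
        rw [← map_smul, ← map_smul, smul_eq_mul, mul_one]
      have h2 : Submodule.mkQ (Pm k r).toIdeal s = 0 := (Submodule.Quotient.mk_eq_zero _).2 hs
      have h3 : π s = 0 := (hπdef s).trans h2
      rw [h1, h3, map_zero]
    · rw [F.exact_zero]
      exact ⟨_, rfl⟩
  have hcn : F.ε (π 1) ∈ (F.X 0).gr 0 :=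
    F.ε_grHom 0 _ (hπ 0 1 SetLike.GradedOne.one_mem)
  have h0 : F.ε (π 1) = 0 := (Submodule.mem_bot _).1 (hvn _ hc hcn)
  have h1 : π 1 = 0 := F.ε_injective (by rw [h0, map_zero])
  rw [hπdef] at h1
  exact one_notMem_pm k r ((Submodule.Quotient.mk_eq_zero _).1 h1)

variable (M : Type u) [AddCommGroup M] [Module k M] [Module (MvPolynomial (Fin (r + 1)) k) M]
  (ℳ : ℤ → Submodule k M) [DirectSum.Decomposition ℳ]
  [SetLike.GradedSMul (GrSyz.stdGr k (Fin (r + 1))) ℳ]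
  (F : GrSyz.FreeRes (GrSyz.stdGr k (Fin (r + 1))) ℳ)

/-- a resolution of length `≤ ℓ` forces the vanishing of graded local cohomology below
`r + 1 - ℓ` -/
theorem ab_poly_vanish (ℓ : ℕ) (hℓ : F.HasLengthLE ℓ) (i : ℕ) (hi : i + ℓ < r + 1) (j : ℤ) :
    HV (Pm k r) (GrLC.GMod.of (PA k r) M (toAS ℳ)) i j := by
  obtain ⟨φ, hL⟩ := exists_lev_zero (convFR F)
  have hℓ' : (convFR F).HasLengthLE ℓ := hℓ
  exact hv_of_hasLengthLE (convFR F) (Pm k r) (r + 1) (poly_hP1 k r) (poly_hP2 k r) ℓ hℓ'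
    (ℓ + 1) 0 _ φ hL (by omega) i (by omega) j

/-- **graded Auslander–Buchsbaum, non-vanishing part**, over the polynomial ring -/
theorem ab_poly_nonvanish
    (hF : F.IsMinimal (GrSyz.irrel (GrSyz.stdGr k (Fin (r + 1)))).toIdeal)
    (ℓ : ℕ) (hℓ : F.HasLengthLE ℓ) (hℓr : ℓ ≤ r + 1) (b₀ : Fin (F.rk ℓ)) :
    ¬ HV (Pm k r) (GrLC.GMod.of (PA k r) M (toAS ℳ)) (r + 1 - ℓ)
      (F.deg ℓ b₀ - ((r + 1 : ℕ) : ℤ)) := by
  have hℓ' : (convFR F).HasLengthLE ℓ := hℓ
  have hmin : (convFR F).IsMinimal (Pm k r).toIdeal := hF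
  exact not_hv_of_minimal (convFR F) (Pm k r) (r + 1) (poly_hP1 k r) (poly_hP2 k r) hmin
    (poly_hzero k r) (poly_hPnv k r) ℓ hℓ' hℓr b₀

end Poly

end Groth.Agent.H98.GrConv
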