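import Mathlib

/-!
# Helper library (helper98, for helper74's S13070): a domain of finite type over `ℤ` of
characteristic zero has dimension one more than its localisation at the nonzero integers.
-/

set_option autoImplicit false
universe u

namespace Groth.Agent.H98.PtCountDIM

theorem int_isJacobsonRing : IsJacobsonRing ℤ := by
  rw [isJacobsonRing_iff_prime_eq]
  intro P hP
  by_cases h0 : P = ⊥
  · subst h0
    refine le_antisymm ?_ Ideal.le_jacobson
    intro x hx
    rw [Ideal.mem_jacobson_bot] at hx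
    have h := hx x
    rw [Int.isUnit_iff] at h
    have hx0 : x = 0 := by
      rcases h with h | h
      · have : x * x = 0 := by linarith
        simpa using this
      · nlinarith [mul_self_nonneg x]
    simp [hx0]
  · haveI := hP.isMaximal h0
    exact Ideal.jacobson_eq_self_of_isMaximal

theorem succ_le_ringKrullDim_of_localization {D : Type u} [CommRing D] [IsDomain D] [CharZero D]
    [Algebra.FiniteType ℤ D] (E : Type u) [CommRing E] [Algebra D E]
    [IsLocalization (Algebra.algebraMapSubmonoid D (nonZeroDivisors ℤ)) E] (s : ℕ)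
    (hs : ringKrullDim E = s) : ((s + 1 : ℕ) : WithBot ℕ∞) ≤ ringKrullDim D := by
  classical
  have hle : ((s : ℕ) : WithBot ℕ∞) ≤ Order.krullDim (PrimeSpectrum E) := by
    have : ringKrullDim E = Order.krullDim (PrimeSpectrum E) := rfl
    rw [← this, hs]
  obtain ⟨l, hl⟩ := Order.le_krullDim_iff.1 hle
  -- the last prime is maximal
  have hmax : l.last.asIdeal.IsMaximal := by
    by_contra hnm
    obtain ⟨M, hM, hle'⟩ := Ideal.exists_le_maximal l.last.asIdeal l.last.isPrime.ne_top
    have hlt : l.last < (⟨M, hM.isPrime⟩ : PrimeSpectrum E) := by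
      refine lt_of_le_of_ne hle' ?_
      intro h
      apply hnm
      rw [h]
      exact hM
    have h2 : (((l.snoc _ hlt).length : ℕ) : WithBot ℕ∞) ≤ Order.krullDim (PrimeSpectrum E) :=
      Order.le_krullDim_iff.2 ⟨_, rfl⟩
    have h3 : Order.krullDim (PrimeSpectrum E) = ((s : ℕ) : WithBot ℕ∞) := hs
    rw [h3, RelSeries.snoc_length, hl] at h2
    have h4 : (s + 1 : ℕ) ≤ s := by exact_mod_cast h2
    omega
  -- the comparison map on spectra
  have hinj : Function.Injective (PrimeSpectrum.comap (algebraMap D E)) :=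
    PrimeSpectrum.localization_comap_injective E
      (Algebra.algebraMapSubmonoid D (nonZeroDivisors ℤ))
  have hmono : StrictMono (PrimeSpectrum.comap (algebraMap D E)) := by
    intro p q hpq
    refine lt_of_le_of_ne ?_ (fun h => hpq.ne (hinj h))
    exact Ideal.comap_mono hpq.le
  -- the contraction of the last prime is not maximal
  obtain ⟨Q, hQ⟩ : ∃ Q : PrimeSpectrum D, Q = PrimeSpectrum.comap (algebraMap D E) l.last :=
    ⟨_, rfl⟩
  have hQnm : ¬ Q.asIdeal.IsMaximal := by
    intro hQm
    letI : Field (D ⧸ Q.asIdeal) := Ideal.Quotient.field Q.asIdeal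
    haveI : Algebra.FiniteType ℤ (D ⧸ Q.asIdeal) :=
      Algebra.FiniteType.of_surjective (Ideal.Quotient.mkₐ ℤ Q.asIdeal)
        (Ideal.Quotient.mkₐ_surjective ℤ Q.asIdeal)
    obtain ⟨n, f, hf⟩ := Algebra.FiniteType.iff_quotient_mvPolynomial''.1
      (inferInstance : Algebra.FiniteType ℤ (D ⧸ Q.asIdeal))
    haveI := int_isJacobsonRing
    have hint : ((f : MvPolynomial (Fin n) ℤ →+* (D ⧸ Q.asIdeal)).comp MvPolynomial.C).IsIntegral :=
      MvPolynomial.comp_C_integral_of_surjective_of_isJacobsonRing _ hf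
    have hcomp : (f : MvPolynomial (Fin n) ℤ →+* (D ⧸ Q.asIdeal)).comp MvPolynomial.C =
        algebraMap ℤ (D ⧸ Q.asIdeal) := RingHom.ext_int _ _
    rw [hcomp] at hint
    haveI : Algebra.IsIntegral ℤ (D ⧸ Q.asIdeal) := ⟨hint⟩
    have hinjZ : Function.Injective (algebraMap ℤ (D ⧸ Q.asIdeal)) := by
      rw [injective_iff_map_eq_zero]
      intro m hm
      by_contra hm0
      have h1 : algebraMap ℤ D m ∈ Q.asIdeal := by
        rw [← Ideal.Quotient.eq_zero_iff_mem]
        rw [← hm]
        rfl
      have h2 : algebraMap D E (algebraMap ℤ D m) ∈ l.last.asIdeal := by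
        rw [hQ] at h1
        exact h1
      have h3 : IsUnit (algebraMap D E (algebraMap ℤ D m)) :=
        IsLocalization.map_units E (⟨algebraMap ℤ D m,
          ⟨m, mem_nonZeroDivisors_of_ne_zero hm0, rfl⟩⟩ :
          Algebra.algebraMapSubmonoid D (nonZeroDivisors ℤ))
      exact l.last.isPrime.ne_top (Ideal.eq_top_of_isUnit_mem _ h2 h3)
    exact Int.not_isField (isField_of_isIntegral_of_isField hinjZ (Field.toIsField _))
  obtain ⟨M, hM, hQM⟩ := Ideal.exists_le_maximal Q.asIdeal Q.isPrime.ne_top
  have hlt : (l.map _ hmono).last < (⟨M, hM.isPrime⟩ : PrimeSpectrum D) := by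
    rw [LTSeries.last_map, ← hQ]
    refine lt_of_le_of_ne hQM ?_
    intro h
    apply hQnm
    rw [h]
    exact hM
  have hfin : ((((l.map _ hmono).snoc _ hlt).length : ℕ) : WithBot ℕ∞) ≤
      Order.krullDim (PrimeSpectrum D) := Order.le_krullDim_iff.2 ⟨_, rfl⟩
  rw [RelSeries.snoc_length, LTSeries.map_length, hl] at hfin
  exact hfin

end Groth.Agent.H98.PtCountDIM
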