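import Mathlib

/-!
# Helper library (helper98): subspaces `K ⊗ N ⊆ X ⊗ N` over a field, and their calculus
(kernels, preimages, images, intersections), by flatness.
-/

set_option autoImplicit false
universe u
open scoped TensorProduct

namespace Groth.Agent.H98.TensRange

variable {k : Type u} [Field k] {X Y : Type u} [AddCommGroup X] [Module k X]
  [AddCommGroup Y] [Module k Y] (N : Type u) [AddCommGroup N] [Module k N]

/-- `K ⊗ N` as a subspace of `X ⊗ N` -/
def tR (K : Submodule k X) : Submodule k (X ⊗[k] N) := LinearMap.range (K.subtype.rTensor N)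

variable {N}

theorem tmul_mem_tR {K : Submodule k X} {x : X} (hx : x ∈ K) (y : N) : x ⊗ₜ[k] y ∈ tR N K :=
  ⟨(⟨x, hx⟩ : K) ⊗ₜ[k] y, rfl⟩

theorem tR_eq_span (K : Submodule k X) :
    tR N K = Submodule.span k {z | ∃ x ∈ K, ∃ y : N, z = x ⊗ₜ[k] y} := by
  apply le_antisymm
  · rintro _ ⟨u, rfl⟩
    induction u using TensorProduct.induction_on with
    | zero => rw [map_zero]; exact zero_mem _
    | tmul x y => exact Submodule.subset_span ⟨x.1, x.2, y, rfl⟩
    | add a b ha hb => rw [map_add]; exact add_mem ha hb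
  · rw [Submodule.span_le]
    rintro _ ⟨x, hx, y, rfl⟩
    exact tmul_mem_tR hx y

theorem tR_mono {K₁ K₂ : Submodule k X} (h : K₁ ≤ K₂) : tR N K₁ ≤ tR N K₂ := by
  rw [tR_eq_span, tR_eq_span]
  apply Submodule.span_mono
  rintro _ ⟨x, hx, y, rfl⟩
  exact ⟨x, h hx, y, rfl⟩

theorem tR_top : tR N (⊤ : Submodule k X) = ⊤ := by
  rw [eq_top_iff]
  intro w _
  clear ‹w ∈ ⊤›
  induction w using TensorProduct.induction_on with
  | zero => exact zero_mem _
  | tmul x y => exact tmul_mem_tR Submodule.mem_top y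
  | add a b ha hb => exact add_mem ha hb

theorem tR_bot : tR N (⊥ : Submodule k X) = ⊥ := by
  rw [eq_bot_iff, tR_eq_span, Submodule.span_le]
  rintro _ ⟨x, hx, y, rfl⟩
  rw [(Submodule.mem_bot k).1 hx, TensorProduct.zero_tmul]
  exact zero_mem _

theorem exists_list {K : Submodule k X} {w : X ⊗[k] N} (hw : w ∈ tR N K) :
    ∃ l : List (X × N), (∀ p ∈ l, p.1 ∈ K) ∧ w = (l.map (fun p => p.1 ⊗ₜ[k] p.2)).sum := by
  obtain ⟨u, rfl⟩ := hw
  induction u using TensorProduct.induction_on with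
  | zero => exact ⟨[], by simp, by simp⟩
  | tmul x y => exact ⟨[(x.1, y)], by simp, by simp⟩
  | add a b ha hb =>
    obtain ⟨la, hla, ea⟩ := ha
    obtain ⟨lb, hlb, eb⟩ := hb
    refine ⟨la ++ lb, ?_, ?_⟩
    · intro p hp
      rcases List.mem_append.1 hp with h | h
      exacts [hla p h, hlb p h]
    · rw [map_add, ea, eb, List.map_append, List.sum_append]

theorem list_sum_mem_tR {K : Submodule k X} (l : List (X × N)) (hl : ∀ p ∈ l, p.1 ∈ K) :
    (l.map (fun p => p.1 ⊗ₜ[k] p.2)).sum ∈ tR N K := by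
  apply list_sum_mem
  intro z hz
  obtain ⟨p, hp, rfl⟩ := List.mem_map.1 hz
  exact tmul_mem_tR (hl p hp) _

theorem ker_rTensor (F : X →ₗ[k] Y) : LinearMap.ker (F.rTensor N) = tR N (LinearMap.ker F) := by
  have hex : Function.Exact (LinearMap.ker F).subtype F := fun x => by
    constructor
    · intro h
      exact ⟨⟨x, h⟩, rfl⟩
    · rintro ⟨y, rfl⟩
      exact y.2
  exact LinearMap.exact_iff.1 (Module.Flat.rTensor_exact N hex)

theorem comap_tR (F : X →ₗ[k] Y) (K' : Submodule k Y) :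
    (tR N K').comap (F.rTensor N) = tR N (K'.comap F) := by
  have h1 : tR N K' = LinearMap.ker (K'.mkQ.rTensor N) := by
    rw [ker_rTensor, Submodule.ker_mkQ]
  have h2 : K'.comap F = LinearMap.ker (K'.mkQ ∘ₗ F) := by
    rw [LinearMap.ker_comp, Submodule.ker_mkQ]
  rw [h1, h2, ← ker_rTensor, LinearMap.rTensor_comp, LinearMap.ker_comp]

theorem map_tR (F : X →ₗ[k] Y) (K : Submodule k X) :
    (tR N K).map (F.rTensor N) = tR N (K.map F) := by
  rw [tR_eq_span, tR_eq_span, Submodule.map_span]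
  congr 1
  ext z
  constructor
  · rintro ⟨_, ⟨x, hx, y, rfl⟩, rfl⟩
    exact ⟨F x, ⟨x, hx, rfl⟩, y, rfl⟩
  · rintro ⟨_, ⟨x, hx, rfl⟩, y, rfl⟩
    exact ⟨x ⊗ₜ[k] y, ⟨x, hx, y, rfl⟩, rfl⟩

theorem tR_inf (K₁ K₂ : Submodule k X) : tR N K₁ ⊓ tR N K₂ = tR N (K₁ ⊓ K₂) := by
  apply le_antisymm
  · rintro w ⟨⟨u, rfl⟩, h2⟩
    have h3 : u ∈ (tR N K₂).comap (K₁.subtype.rTensor N) := h2
    rw [comap_tR] at h3
    have h4 : K₁.subtype.rTensor N u ∈ (tR N (K₂.comap K₁.subtype)).map (K₁.subtype.rTensor N) :=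
      ⟨u, h3, rfl⟩
    rw [map_tR, Submodule.map_comap_subtype] at h4
    exact h4
  · exact le_inf (tR_mono inf_le_left) (tR_mono inf_le_right)

theorem rTensor_injective (F : X →ₗ[k] Y) (hF : Function.Injective F) :
    Function.Injective (F.rTensor N) :=
  Module.Flat.rTensor_preserves_injective_linearMap F hF

theorem lTensor_injective {N' : Type u} [AddCommGroup N'] [Module k N'] (G : N →ₗ[k] N')
    (hG : Function.Injective G) : Function.Injective (G.lTensor X) :=
  Module.Flat.lTensor_preserves_injective_linearMap G hG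

/-- maps of the form `a ⊗ b` preserve `K ⊗ N` when `a` preserves `K` -/
theorem map_mem_tR {N' : Type u} [AddCommGroup N'] [Module k N'] (a : X →ₗ[k] Y) (b : N →ₗ[k] N')
    {K : Submodule k X} {K' : Submodule k Y} (ha : ∀ x ∈ K, a x ∈ K') {w : X ⊗[k] N}
    (hw : w ∈ tR N K) : TensorProduct.map a b w ∈ tR N' K' := by
  rw [tR_eq_span] at hw
  induction hw using Submodule.span_induction with
  | mem z hz =>
    obtain ⟨x, hx, y, rfl⟩ := hz
    rw [TensorProduct.map_tmul]
    exact tmul_mem_tR (ha x hx) _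
  | zero => rw [map_zero]; exact zero_mem _
  | add z z' _ _ h h' => rw [map_add]; exact add_mem h h'
  | smul c z _ h => rw [map_smul]; exact Submodule.smul_mem _ c h

/-- the inverse of the inclusion `Z ⊗ N → X ⊗ N` on its range -/
noncomputable def tInv (Z : Submodule k X) : ↥(tR N Z) ≃ₗ[k] (↥Z) ⊗[k] N :=
  (LinearEquiv.ofInjective (Z.subtype.rTensor N)
    (rTensor_injective Z.subtype Z.subtype_injective)).symm

theorem tInv_spec (Z : Submodule k X) (w : ↥(tR N Z)) :
    Z.subtype.rTensor N (tInv Z w) = (w : X ⊗[k] N) := by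
  have h := (LinearEquiv.ofInjective (Z.subtype.rTensor N)
    (rTensor_injective Z.subtype Z.subtype_injective)).apply_symm_apply w
  exact congrArg Subtype.val h

theorem tInv_apply (Z : Submodule k X) (u : (↥Z) ⊗[k] N) (h : Z.subtype.rTensor N u ∈ tR N Z) :
    tInv Z ⟨Z.subtype.rTensor N u, h⟩ = u := by
  apply rTensor_injective Z.subtype Z.subtype_injective (N := N)
  rw [tInv_spec]

end Groth.Agent.H98.TensRange
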