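import Mathlib
import Groth.Prelude
import Groth.Agent.H9.ComapIdeal

/-!
# (A1) for helper95 (S1695): if the inverse image of `I` on `X'` is effective Cartier, then around
every point it is generated by the pullback of one `a ∈ I`, a nonzerodivisor.
-/

set_option autoImplicit false
universe u
open CategoryTheory CategoryTheory.Limits AlgebraicGeometry

namespace Groth.Agent.H98.BC_A1

/-- pure algebra: if `I.map ψ = (c)` with `c` a nonzerodivisor, the cofactors `u` of the `ψ a = c u`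
(`a ∈ I`) generate the unit ideal. -/
theorem span_cofactors_eq_top {A S : Type*} [CommRing A] [CommRing S] (ψ : A →+* S) (I : Ideal A)
    (c : S) (hc : c ∈ nonZeroDivisors S) (h : I.map ψ = Ideal.span {c}) :
    Ideal.span {u : S | ∃ a ∈ I, ψ a = c * u} = ⊤ := by
  set T : Set S := {u : S | ∃ a ∈ I, ψ a = c * u}
  have h1 : I.map ψ ≤ Ideal.span {c} * Ideal.span T := by
    rw [Ideal.map, Ideal.span_le]
    rintro _ ⟨a, ha, rfl⟩
    have : ψ a ∈ Ideal.span {c} := h ▸ Ideal.mem_map_of_mem ψ ha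
    obtain ⟨u, hu⟩ := Ideal.mem_span_singleton'.mp this
    rw [SetLike.mem_coe, Ideal.mem_span_singleton_mul]
    exact ⟨u, Ideal.subset_span ⟨a, ha, by rw [← hu, mul_comm]⟩, by rw [← hu, mul_comm]⟩
  have h2 : c ∈ Ideal.span {c} * Ideal.span T :=
    h1 (h ▸ Ideal.mem_span_singleton_self c)
  obtain ⟨z, hz, hcz⟩ := Ideal.mem_span_singleton_mul.mp h2
  have hz1 : z = 1 := by
    have : c * (z - 1) = 0 := by rw [mul_sub, hcz, mul_one, sub_self]
    have := (mul_left_mem_nonZeroDivisors_eq_zero_iff hc).mp (by rwa [mul_comm] at this)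
    exact sub_eq_zero.mp this
  rw [Ideal.eq_top_iff_one, ← hz1]
  exact hz

theorem A1 (A : Type u) [CommRing A] (I : Ideal A) {X' : Scheme.{u}}
    (b : X' ⟶ Spec (CommRingCat.of A))
    (hE : BlowUp.IsEffCartierIdeal ((Scheme.IdealSheafData.ofIdealTop
      (I.map (Scheme.ΓSpecIso (CommRingCat.of A)).inv.hom)).comap b)) (x' : X') :
    ∃ a ∈ I, ∃ W : X'.affineOpens, x' ∈ W.1 ∧
      ((Scheme.IdealSheafData.ofIdealTop
        (I.map (Scheme.ΓSpecIso (CommRingCat.of A)).inv.hom)).comap b).ideal W =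
        Ideal.span {(X'.presheaf.map (homOfLE (le_top : W.1 ≤ ⊤)).op).hom
          (b.appTop.hom ((Scheme.ΓSpecIso (CommRingCat.of A)).inv.hom a))} ∧
      (X'.presheaf.map (homOfLE (le_top : W.1 ≤ ⊤)).op).hom
          (b.appTop.hom ((Scheme.ΓSpecIso (CommRingCat.of A)).inv.hom a)) ∈
        nonZeroDivisors Γ(X', W.1) := by
  classical
  set 𝓘 := Scheme.IdealSheafData.ofIdealTop (I.map (Scheme.ΓSpecIso (CommRingCat.of A)).inv.hom)
    with h𝓘
  obtain ⟨W₀, hxW₀, c, hc, hIc⟩ := hE x'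
  -- the ring map `ψ : A → Γ(X', W₀)`
  let ψ : A →+* Γ(X', W₀.1) :=
    ((X'.presheaf.map (homOfLE (le_top : W₀.1 ≤ ⊤)).op).hom.comp b.appTop.hom).comp
      (Scheme.ΓSpecIso (CommRingCat.of A)).inv.hom
  have hmap : (𝓘.comap b).ideal W₀ = I.map ψ := by
    rw [Groth.Agent.H9.comap_ideal b 𝓘 ⟨⊤, isAffineOpen_top _⟩ W₀ le_top, h𝓘,
      Scheme.IdealSheafData.ofIdealTop_ideal, Ideal.map_map, Ideal.map_map]
    rfl
  have hspan := span_cofactors_eq_top ψ I c hc (hmap ▸ hIc)
  -- pick a cofactor not vanishing at `x'`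
  have hcov := iSup_basicOpen_of_span_eq_top W₀.1 _ hspan
  have hx : x' ∈ ⨆ i ∈ {u : Γ(X', W₀.1) | ∃ a ∈ I, ψ a = c * u}, X'.basicOpen i := by
    rw [hcov]; exact hxW₀
  simp only [TopologicalSpace.Opens.mem_iSup] at hx
  obtain ⟨u, ⟨a, ha, hau⟩, hxu⟩ := hx
  refine ⟨a, ha, X'.affineBasicOpen u, hxu, ?_⟩
  -- restriction to `W`
  set ρ := (X'.presheaf.map (homOfLE (X'.basicOpen_le u)).op).hom with hρ
  have hres : (X'.presheaf.map (homOfLE (le_top : (X'.affineBasicOpen u).1 ≤ ⊤)).op).hom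
      (b.appTop.hom ((Scheme.ΓSpecIso (CommRingCat.of A)).inv.hom a)) = ρ (ψ a) := by
    have e : X'.presheaf.map (homOfLE (le_top : (X'.affineBasicOpen u).1 ≤ ⊤)).op =
        X'.presheaf.map (homOfLE (le_top : W₀.1 ≤ ⊤)).op ≫
          X'.presheaf.map (homOfLE (X'.basicOpen_le u)).op := by
      rw [← Functor.map_comp]; rfl
    rw [e]; rfl
  have hunit : IsUnit (ρ u) := X'.toRingedSpace.isUnit_res_basicOpen u
  haveI := W₀.2.isLocalization_basicOpen u
  have hcnzd : ρ c ∈ nonZeroDivisors Γ(X', X'.basicOpen u) :=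
    IsLocalization.map_nonZeroDivisors_le (Submonoid.powers u) _
      (Submonoid.mem_map_of_mem _ hc)
  rw [hres, hau, map_mul]
  constructor
  · rw [← (𝓘.comap b).map_ideal_basicOpen W₀ u, hIc, Ideal.map_span, Set.image_singleton]
    exact (Ideal.span_singleton_mul_right_unit hunit _).symm
  · exact mul_mem hcnzd hunit.mem_nonZeroDivisors

end Groth.Agent.H98.BC_A1
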