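import Mathlib
import Groth.Prelude.Def_Coh
import Groth.Prelude.Def_CohB1

/-!
# (S) for helper36's S0820 squad (helper98): support of the double pushforward of the structure
sheaf of an integral closed subscheme along a finite morphism.
-/

set_option autoImplicit false
universe u
open CategoryTheory AlgebraicGeometry

namespace Groth.Agent.H98.FinSupp_S

theorem range_comp_eq_closure {X Y Z' : Scheme.{u}} (f : Y ⟶ X) [IsFinite f] (j : Z' ⟶ Y)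
    [IsClosedImmersion j] [IsIntegral Z'] :
    Set.range ⇑(j ≫ f) = closure {f (j (genericPoint Z'))} := by
  have hcl : IsClosedMap ⇑(j ≫ f) := (j ≫ f).isClosedMap
  have hgen : closure ({genericPoint Z'} : Set Z') = Set.univ := (genericPoint_spec Z').def
  apply subset_antisymm
  · rintro _ ⟨z, rfl⟩
    have hz : z ∈ closure ({genericPoint Z'} : Set Z') := by rw [hgen]; trivial
    have := image_closure_subset_closure_image (j ≫ f).continuous ⟨z, hz, rfl⟩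
    simpa using this
  · apply closure_minimal _ hcl.isClosed_range
    rintro _ rfl
    exact ⟨genericPoint Z', by simp⟩

theorem support_push_push {X Y Z' : Scheme.{u}} (f : Y ⟶ X) [IsFinite f] (j : Z' ⟶ Y)
    [IsClosedImmersion j] [IsIntegral Z'] :
    CohB1.support ((Coh.push f).obj ((Coh.push j).obj (Coh.structureModule Z'))) =
      closure {f (j (genericPoint Z'))} := by
  rw [← range_comp_eq_closure f j]
  have hcl : IsClosed (Set.range ⇑(j ≫ f)) := ((j ≫ f).isClosedMap).isClosed_range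
  ext x
  simp only [CohB1.support, Set.mem_setOf_eq]
  set M := (Coh.push f).obj ((Coh.push j).obj (Coh.structureModule Z')) with hM
  constructor
  · intro hns
    by_contra hx
    apply hns
    -- the open complement
    let V : X.Opens := ⟨(Set.range ⇑(j ≫ f))ᶜ, hcl.isOpen_compl⟩
    have hxV : x ∈ V := hx
    refine ⟨fun a b => ?_⟩
    obtain ⟨U, hxU, s, rfl⟩ := TopCat.Presheaf.germ_exist M.presheaf a
    obtain ⟨U', hxU', s', rfl⟩ := TopCat.Presheaf.germ_exist M.presheaf b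
    have hxW : x ∈ U ⊓ U' ⊓ V := ⟨⟨hxU, hxU'⟩, hxV⟩
    rw [← TopCat.Presheaf.germ_res_apply M.presheaf
        (homOfLE (inf_le_left.trans inf_le_left) : U ⊓ U' ⊓ V ⟶ U) x hxW s,
      ← TopCat.Presheaf.germ_res_apply M.presheaf
        (homOfLE (inf_le_left.trans inf_le_right) : U ⊓ U' ⊓ V ⟶ U') x hxW s']
    congr 1
    have hW : j ⁻¹ᵁ f ⁻¹ᵁ (U ⊓ U' ⊓ V) = ⊥ := by
      ext z
      simp only [TopologicalSpace.Opens.coe_bot, Set.mem_empty_iff_false, iff_false]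
      intro hz
      exact hz.2 ⟨z, by simp⟩
    haveI : Subsingleton Γ(Z', j ⁻¹ᵁ f ⁻¹ᵁ (U ⊓ U' ⊓ V)) := by
      rw [hW]; infer_instance
    exact Subsingleton.elim (α := Γ(Z', j ⁻¹ᵁ f ⁻¹ᵁ (U ⊓ U' ⊓ V))) _ _
  · rintro ⟨z, rfl⟩ hss
    -- the section `1`
    have h1 : (M.presheaf.germ ⊤ ((j ≫ f) z) trivial) (1 : Γ(Z', j ⁻¹ᵁ f ⁻¹ᵁ ⊤)) =
        (M.presheaf.germ ⊤ ((j ≫ f) z) trivial) (0 : Γ(Z', j ⁻¹ᵁ f ⁻¹ᵁ ⊤)) :=
      Subsingleton.elim _ _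
    obtain ⟨W, hzW, iU, iV, hres⟩ := TopCat.Presheaf.germ_eq M.presheaf (U := ⊤) (V := ⊤)
      ((j ≫ f) z) trivial trivial _ _ h1
    have hzW' : z ∈ j ⁻¹ᵁ f ⁻¹ᵁ W := hzW
    haveI : Nonempty (j ⁻¹ᵁ f ⁻¹ᵁ W : Z'.Opens) := ⟨⟨z, hzW'⟩⟩
    have hne : (1 : Γ(Z', j ⁻¹ᵁ f ⁻¹ᵁ W)) ≠ 0 := one_ne_zero
    apply hne
    have e1 : (M.presheaf.map iU.op) (1 : Γ(Z', j ⁻¹ᵁ f ⁻¹ᵁ ⊤)) = (1 : Γ(Z', j ⁻¹ᵁ f ⁻¹ᵁ W)) :=
      map_one (Z'.presheaf.map (homOfLE (by intro y hy; trivial) :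
        j ⁻¹ᵁ f ⁻¹ᵁ W ⟶ j ⁻¹ᵁ f ⁻¹ᵁ ⊤).op).hom
    have e0 : (M.presheaf.map iV.op) (0 : Γ(Z', j ⁻¹ᵁ f ⁻¹ᵁ ⊤)) = (0 : Γ(Z', j ⁻¹ᵁ f ⁻¹ᵁ W)) :=
      map_zero (Z'.presheaf.map (homOfLE (by intro y hy; trivial) :
        j ⁻¹ᵁ f ⁻¹ᵁ W ⟶ j ⁻¹ᵁ f ⁻¹ᵁ ⊤).op).hom
    rw [← e1, ← e0]
    exact hres

end Groth.Agent.H98.FinSupp_S
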