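import Mathlib
import Groth.Agent.H57.TorFree.Defs
import Groth.Agent.H8.AssSch
import Groth.Agent.H8.Coh
import Groth.Prelude.Def_FDesc
import Groth.Prelude.Def_Coh

/-!
# (TFB) for helper57's S4832 squad (helper98): on a locally Noetherian scheme with integral local
rings, a coherent module is torsion-free iff the local rings at its associated points are fields.
-/

set_option autoImplicit false
set_option linter.style.haveILetI false
universe u

open AlgebraicGeometry CategoryTheory Limits TopologicalSpace IsLocalRing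
open Groth.Agent.H8

namespace Groth.Agent.H98.TF_TFB

/-- (TFB) on a locally Noetherian scheme with integral local rings, a coherent module is
torsion-free iff the local rings at its associated points are fields. -/
theorem torsionFree_iff_ass {Z : Scheme.{u}} [IsLocallyNoetherian Z] (G : Z.Modules)
    (hG : Coh.IsCoh G) (hdom : ∀ x : Z, IsDomain (Z.presheaf.stalk x)) :
    (∀ x : Z, Submodule.torsion (Z.presheaf.stalk x) (G.presheaf.stalk x) = ⊥) ↔
      ∀ z ∈ AssSch.Ass G, IsLocalRing.maximalIdeal (Z.presheaf.stalk z) = ⊥ := by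
  constructor
  · intro htf z hz
    haveI := hdom z
    have hz' : IsAssociatedPrime (IsLocalRing.maximalIdeal (Z.presheaf.stalk z))
        (G.presheaf.stalk z) := hz
    obtain ⟨hprime, n, hn⟩ := isAssociatedPrime_iff.mp hz'
    rw [eq_bot_iff]
    intro b hb
    rw [Ideal.mem_bot]
    by_contra hb0
    have hbn : b • n = 0 := by
      rw [hn, Submodule.mem_colon_singleton, Submodule.mem_bot] at hb
      exact hb
    have hnt : n ∈ Submodule.torsion (Z.presheaf.stalk z) (G.presheaf.stalk z) :=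
      (Submodule.mem_torsion_iff n).mpr ⟨⟨b, mem_nonZeroDivisors_of_ne_zero hb0⟩, hbn⟩
    rw [htf z, Submodule.mem_bot] at hnt
    apply hprime.ne_top
    rw [hn, hnt, eq_top_iff]
    intro c _
    rw [Submodule.mem_colon_singleton, smul_zero]
    exact zero_mem _
  · intro hass x
    haveI := hdom x
    rw [eq_bot_iff]
    intro n hn
    rw [Submodule.mem_bot]
    by_contra hn0
    obtain ⟨⟨b, hb⟩, hbn⟩ := (Submodule.mem_torsion_iff n).mp hn
    have hbn' : b • n = 0 := hbn
    have hb0 : b ≠ 0 := nonZeroDivisors.ne_zero hb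
    obtain ⟨W, hW, hxW⟩ : ∃ W : Z.Opens, IsAffineOpen W ∧ x ∈ W := by
      obtain ⟨W, hW, hxW, -⟩ := Opens.isBasis_iff_nbhd.mp Z.isBasis_affineOpens
        (show x ∈ (⊤ : Z.Opens) from trivial)
      exact ⟨W, hW, hxW⟩
    haveI : IsNoetherianRing Γ(Z, W) := IsLocallyNoetherian.component_noetherian ⟨W, hW⟩
    haveI : G.IsQuasicoherent := hG.1
    letI := Z.presheaf.algebra_section_stalk ⟨x, hxW⟩
    haveI := hW.isLocalization_stalk ⟨x, hxW⟩
    letI := moduleSectionStalk G x hxW
    haveI := isScalarTower_sectionStalk G x hxW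
    haveI := isLocalizedModule_germₗ G hW x hxW
    obtain ⟨𝔮, h𝔮, hle⟩ :=
      exists_le_isAssociatedPrime_of_isNoetherianRing (Z.presheaf.stalk x) n hn0
    haveI := h𝔮.isPrime
    have hb𝔮 : b ∈ 𝔮 :=
      hle (by rw [Submodule.mem_colon_singleton, Submodule.mem_bot]; exact hbn')
    have h𝔔ass : 𝔮.comap (algebraMap Γ(Z, W) (Z.presheaf.stalk x)) ∈
        associatedPrimes Γ(Z, W) Γ(G, W) :=
      Module.associatedPrimes.comap_mem_associatedPrimes_of_mem_associatedPrimes_of_isLocalizedModule_of_fg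
        (hW.primeIdealOf ⟨x, hxW⟩).asIdeal.primeCompl (germₗ G x hxW) 𝔮 h𝔮
        ((isNoetherianRing_iff_ideal_fg _).mp inferInstance _)
    set 𝔔 := 𝔮.comap (algebraMap Γ(Z, W) (Z.presheaf.stalk x)) with h𝔔
    haveI h𝔔p : 𝔔.IsPrime := h𝔔ass.isPrime
    have hzW : pointOfPrime hW 𝔔 ∈ W := pointOfPrime_mem hW 𝔔
    have hprz : (hW.primeIdealOf ⟨pointOfPrime hW 𝔔, hzW⟩).asIdeal = 𝔔 :=
      congrArg PrimeSpectrum.asIdeal (primeIdealOf_pointOfPrime hW 𝔔)
    have hzass : pointOfPrime hW 𝔔 ∈ AssSch.Ass G := by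
      show Curv2.IsAssPoint G (pointOfPrime hW 𝔔)
      rw [isAssPoint_iff_isAssociatedPrime hW G _ hzW, hprz]
      exact h𝔔ass
    have hmz := hass _ hzass
    obtain ⟨⟨r, t⟩, hrt⟩ := IsLocalization.mk'_surjective
      (hW.primeIdealOf ⟨x, hxW⟩).asIdeal.primeCompl b
    have hrt' : algebraMap Γ(Z, W) (Z.presheaf.stalk x) r =
        algebraMap Γ(Z, W) (Z.presheaf.stalk x) (t : Γ(Z, W)) * b := by
      rw [← hrt, IsLocalization.mk'_spec']
    have hr𝔔 : r ∈ 𝔔 := by
      show algebraMap Γ(Z, W) (Z.presheaf.stalk x) r ∈ 𝔮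
      rw [hrt']
      exact Ideal.mul_mem_left _ _ hb𝔮
    have hr0 : algebraMap Γ(Z, W) (Z.presheaf.stalk x) r ≠ 0 := by
      rw [hrt']
      have htu : IsUnit (algebraMap Γ(Z, W) (Z.presheaf.stalk x) (t : Γ(Z, W))) :=
        IsLocalization.map_units (Z.presheaf.stalk x) t
      exact mul_ne_zero htu.ne_zero hb0
    letI := Z.presheaf.algebra_section_stalk ⟨pointOfPrime hW 𝔔, hzW⟩
    haveI := hW.isLocalization_stalk ⟨pointOfPrime hW 𝔔, hzW⟩
    have hrz : algebraMap Γ(Z, W) (Z.presheaf.stalk (pointOfPrime hW 𝔔)) r = 0 := by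
      have hmem : algebraMap Γ(Z, W) (Z.presheaf.stalk (pointOfPrime hW 𝔔)) r ∈
          IsLocalRing.maximalIdeal (Z.presheaf.stalk (pointOfPrime hW 𝔔)) := by
        have hc : (IsLocalRing.maximalIdeal (Z.presheaf.stalk (pointOfPrime hW 𝔔))).comap
            (algebraMap Γ(Z, W) (Z.presheaf.stalk (pointOfPrime hW 𝔔))) =
            (hW.primeIdealOf ⟨pointOfPrime hW 𝔔, hzW⟩).asIdeal :=
          IsLocalization.AtPrime.under_maximalIdeal _ _
        rw [← Ideal.mem_comap, hc, hprz]
        exact hr𝔔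
      rw [hmz] at hmem
      exact hmem
    obtain ⟨⟨s, hs⟩, hsr⟩ := (IsLocalization.map_eq_zero_iff
      (hW.primeIdealOf ⟨pointOfPrime hW 𝔔, hzW⟩).asIdeal.primeCompl
      (Z.presheaf.stalk (pointOfPrime hW 𝔔)) r).mp hrz
    have hs𝔔 : s ∉ 𝔔 := by
      rw [← hprz]
      exact hs
    have h1 : algebraMap Γ(Z, W) (Z.presheaf.stalk x) s *
        algebraMap Γ(Z, W) (Z.presheaf.stalk x) r = 0 := by
      rw [← map_mul]
      have : s * r = 0 := hsr
      rw [this, map_zero]
    rcases mul_eq_zero.mp h1 with h | h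
    · apply hs𝔔
      show algebraMap Γ(Z, W) (Z.presheaf.stalk x) s ∈ 𝔮
      rw [h]
      exact zero_mem _
    · exact hr0 h

end Groth.Agent.H98.TF_TFB
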