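import Mathlib
import Groth.Prelude.Def_EGA4b
import Groth.Prelude.Def_CAlg
import Groth.Agent.H19.QReg
import Groth.Agent.H17.RegHilb
import Groth.Agent.H54.PowSec_K3b
import Groth.Agent.H54.PowSec_K3c

/-!
# (K3) for helper59's S16668 squad (helper98): a pair regular modulo an ideal generated by a
regular sequence is regular modulo its powers.
-/

set_option autoImplicit false
universe u
open RingTheory.Sequence

namespace Groth.Agent.H98.PowSec_K3


open Groth.Agent.H17.RegHilb

/-- the graded piece `Jⁿ/Jⁿ⁺¹`, as the kernel of `S/Jⁿ⁺¹ → S/Jⁿ`, is a finite power of `S/J`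
when `J` is generated by a quasi-regular sequence. -/
noncomputable def grEquiv {S : Type u} [CommRing S] {d : ℕ} (f : Fin d → S)
    (hqr : CAlgX.IsQuasiRegular f) (n : ℕ) :
    ((Groth.Agent.H17.RegHilb.S d n) → S ⧸ Ideal.span (Set.range f)) ≃ₗ[S]
      LinearMap.ker (Submodule.factor
        (Ideal.pow_le_pow_right (I := Ideal.span (Set.range f)) (Nat.le_succ n))) :=
  (LinearMap.quotKerEquivOfSurjective
      ((Submodule.mkQ (Ideal.span (Set.range f))).compLeft (Groth.Agent.H17.RegHilb.S d n))
      (by
        intro y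
        refine ⟨fun β => (Submodule.mkQ_surjective _ (y β)).choose, ?_⟩
        funext β
        exact (Submodule.mkQ_surjective _ (y β)).choose_spec)).symm ≪≫ₗ
    Submodule.quotEquivOfEq _ _ (ker_Psi hqr n).symm ≪≫ₗ
    (Psi f (Ideal.span (Set.range f) ^ (n + 1)) n).quotKerEquivRange ≪≫ₗ
    LinearEquiv.ofEq _ _ (range_Psi n)

theorem isWeaklyRegular_quot_pow_fin {S : Type u} [CommRing S] {d : ℕ} (f : Fin d → S)
    (hqr : CAlgX.IsQuasiRegular f) (a b : S)
    (hab : IsWeaklyRegular (S ⧸ Ideal.span (Set.range f)) [a, b]) (m : ℕ) :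
    IsWeaklyRegular (S ⧸ Ideal.span (Set.range f) ^ m) [a, b] := by
  induction m with
  | zero =>
    haveI : Subsingleton (S ⧸ Ideal.span (Set.range f) ^ 0) := by
      rw [Ideal.Quotient.subsingleton_iff, pow_zero, Ideal.one_eq_top]
    refine ⟨fun i _ => ?_⟩
    intro x y _
    exact Subsingleton.elim _ _
  | succ n ih =>
    have hle := Ideal.pow_le_pow_right (I := Ideal.span (Set.range f)) (Nat.le_succ n)
    have h' : IsWeaklyRegular (LinearMap.ker (Submodule.factor hle)) [a, b] :=
      (LinearEquiv.isWeaklyRegular_congr (grEquiv f hqr n) [a, b]).mp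
        (Groth.Agent.H54.PowSec_K3c.isWeaklyRegular_pi _ [a, b] hab)
    exact Groth.Agent.H54.PowSec_K3b.isWeaklyRegular_pair_of_exact (LinearMap.ker (Submodule.factor hle)).subtype
      (Submodule.factor hle) (Submodule.injective_subtype _) (Submodule.factor_surjective hle)
      (LinearMap.exact_subtype_ker_map _) a b h' ih

/-- (K3) a pair regular modulo an ideal generated by a regular sequence is regular modulo its
powers. -/
theorem isWeaklyRegular_quot_pow {S : Type u} [CommRing S] (rs : List S)
    (hrs : IsWeaklyRegular S rs) (a b : S)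
    (hab : IsWeaklyRegular (S ⧸ Ideal.ofList rs) [a, b]) (m : ℕ) :
    IsWeaklyRegular (S ⧸ Ideal.ofList rs ^ m) [a, b] := by
  have hspan : Ideal.span (Set.range rs.get) = Ideal.ofList rs := by
    rw [Set.range_list_get]
  have hqr : CAlgX.IsQuasiRegular rs.get :=
    Groth.Agent.H19.QReg.isQuasiRegular_of_isWeaklyRegular rs.length rs.get
      (by rw [List.ofFn_get]; exact hrs)
  have key := isWeaklyRegular_quot_pow_fin rs.get hqr a b (by rw [hspan]; exact hab) m
  rw [hspan] at key
  exact key

end Groth.Agent.H98.PowSec_K3
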