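import Groth.Agent.H98.GrHull
import Mathlib.RingTheory.Ideal.Quotient.Basic
import Mathlib.RingTheory.Noetherian.Defs
import Mathlib.RingTheory.Finiteness.Ideal
import Mathlib.RingTheory.GradedAlgebra.Radical
import Mathlib.LinearAlgebra.Dimension.Free
import Mathlib.Algebra.Order.Group.PiLex

/-!
# Helper library (helper98): the *injective envelopes `*E(R/p)` of graded primes.
-/

set_option autoImplicit false
universe u

open DirectSum

namespace Groth.Agent.H98.GrCat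

variable {ι : Type} [AddCommGroup ι] [DecidableEq ι]
variable {R : Type u} [CommRing R] (𝒜 : ι → AddSubgroup R) [GradedRing 𝒜]
variable {E : Type u} [AddCommGroup E] [Module R E] (𝓔 : ι → AddSubgroup E)
  [DirectSum.Decomposition 𝓔] [SetLike.GradedSMul 𝒜 𝓔]

section Quot

theorem mk_mem_quotGr (p : HomogeneousIdeal 𝒜) {c : ι} {r : R} (hr : r ∈ 𝒜 c) :
    Ideal.Quotient.mk p.toIdeal r ∈ GrLC.quotGr 𝒜 p c :=
  AddSubgroup.mem_map.2 ⟨r, hr, rfl⟩

theorem exists_of_mem_quotGr (p : HomogeneousIdeal 𝒜) {c : ι} {x : R ⧸ p.toIdeal}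
    (hx : x ∈ GrLC.quotGr 𝒜 p c) : ∃ r ∈ 𝒜 c, Ideal.Quotient.mk p.toIdeal r = x := by
  obtain ⟨r, hr, hrx⟩ := AddSubgroup.mem_map.1 hx
  exact ⟨r, hr, hrx⟩

theorem one_mem_quotGr (p : HomogeneousIdeal 𝒜) : (1 : R ⧸ p.toIdeal) ∈ GrLC.quotGr 𝒜 p 0 :=
  mk_mem_quotGr 𝒜 p SetLike.GradedOne.one_mem

omit [DecidableEq ι] in
theorem quot_mk_eq_smul (q : Ideal R) (r : R) :
    (Ideal.Quotient.mk q r : R ⧸ q) = r • (1 : R ⧸ q) := by
  show Ideal.Quotient.mk q r = r • Ideal.Quotient.mk q (1 : R)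
  rw [show r • Ideal.Quotient.mk q (1 : R) = Ideal.Quotient.mk q (r • (1 : R)) from rfl,
    smul_eq_mul, mul_one]

omit [DecidableEq ι] in
theorem quot_map_mk (q : Ideal R) (e : (R ⧸ q) →ₗ[R] E) (r : R) :
    e (Ideal.Quotient.mk q r) = r • e 1 := by
  rw [quot_mk_eq_smul, map_smul]

omit [DecidableEq ι] in
theorem quot_range_eq_span (q : Ideal R) (e : (R ⧸ q) →ₗ[R] E) :
    LinearMap.range e = Submodule.span R {e 1} := by
  apply le_antisymm
  · rintro _ ⟨x, rfl⟩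
    obtain ⟨r, rfl⟩ := Ideal.Quotient.mk_surjective x
    rw [quot_map_mk]
    exact Submodule.smul_mem _ _ (Submodule.mem_span_singleton_self _)
  · rw [Submodule.span_le, Set.singleton_subset_iff]
    exact ⟨1, rfl⟩

include 𝒜 in
theorem quot_range_isHomogeneous (q : Ideal R) (e : (R ⧸ q) →ₗ[R] E) {g₀ : ι}
    (hm : e 1 ∈ 𝓔 g₀) : (LinearMap.range e).IsHomogeneous 𝓔 := by
  rw [quot_range_eq_span]
  exact span_singleton_isHomogeneous 𝒜 𝓔 hm

include 𝒜 in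
/-- a *essential extension of `R ⧸ q` is essential, in element form -/
theorem quot_ess_all (q : Ideal R) {τ : Type u} [SetLike τ (R ⧸ q)] [AddSubgroupClass τ (R ⧸ q)]
    (ℳ' : ι → τ) (e : (R ⧸ q) →ₗ[R] E) (he : GrLC.IsStarEss ℳ' 𝓔 e) {g₀ : ι}
    (hm : e 1 ∈ 𝓔 g₀) (x : E) (hx : x ≠ 0) : ∃ (s : R) (a : R ⧸ q), e a = s • x ∧ a ≠ 0 := by
  have hess := essIn_of_isStarEss 𝒜 𝓔 ℳ' he
  obtain ⟨s, ⟨a, ha⟩, hs0⟩ := hess.all 𝒜 (quot_range_isHomogeneous 𝒜 𝓔 q e hm)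
    (top_isHomogeneous 𝓔) x Submodule.mem_top hx
  exact ⟨s, a, ha, fun h => hs0 (by rw [← ha, h, map_zero])⟩

omit [DecidableEq ι] in
theorem quot_smul_ne_zero (q : Ideal R) [q.IsPrime] {a : R ⧸ q} (ha : a ≠ 0) {r : R}
    (hr : r ∉ q) : r • a ≠ 0 := by
  obtain ⟨t, rfl⟩ := Ideal.Quotient.mk_surjective a
  have ht : t ∉ q := fun h => ha (Ideal.Quotient.eq_zero_iff_mem.2 h)
  intro h
  have h1 : Ideal.Quotient.mk q (r * t) = 0 := h
  rcases (Ideal.IsPrime.mem_or_mem ‹_› (Ideal.Quotient.eq_zero_iff_mem.1 h1)) with h2 | h2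
  · exact hr h2
  · exact ht h2

omit [DecidableEq ι] in
theorem quot_smul_eq_zero (q : Ideal R) (a : R ⧸ q) {r : R} (hr : r ∈ q) : r • a = 0 := by
  obtain ⟨t, rfl⟩ := Ideal.Quotient.mk_surjective a
  show Ideal.Quotient.mk q (r * t) = 0
  exact Ideal.Quotient.eq_zero_iff_mem.2 (q.mul_mem_right t hr)

include 𝒜 in
/-- elements outside `q` act injectively on a *essential extension of `R ⧸ q` -/
theorem hull_smul_injective (q : Ideal R) [q.IsPrime] {τ : Type u} [SetLike τ (R ⧸ q)]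
    [AddSubgroupClass τ (R ⧸ q)] (ℳ' : ι → τ) (e : (R ⧸ q) →ₗ[R] E)
    (he : GrLC.IsStarEss ℳ' 𝓔 e) {g₀ : ι} (hm : e 1 ∈ 𝓔 g₀) {r : R} (hr : r ∉ q) (x : E)
    (hx : r • x = 0) : x = 0 := by
  by_contra hx0
  obtain ⟨s, a, hsa, ha0⟩ := quot_ess_all 𝒜 𝓔 q ℳ' e he hm x hx0
  have h1 : e (r • a) = 0 := by rw [map_smul, hsa, smul_comm, hx, smul_zero]
  exact quot_smul_ne_zero q ha0 hr (he.injective (by rw [h1, map_zero]))

include 𝒜 in
/-- elements of `q` act locally nilpotently on a *essential extension of `R ⧸ q` -/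
theorem hull_exists_pow_smul_eq_zero [IsNoetherianRing R] (q : Ideal R) {τ : Type u}
    [SetLike τ (R ⧸ q)] [AddSubgroupClass τ (R ⧸ q)] (ℳ' : ι → τ) (e : (R ⧸ q) →ₗ[R] E)
    (he : GrLC.IsStarEss ℳ' 𝓔 e) {g₀ : ι} (hm : e 1 ∈ 𝓔 g₀) {t : R} (ht : t ∈ q) (x : E) :
    ∃ k : ℕ, t ^ k • x = 0 := by
  have hmono : Monotone
      (fun k : ℕ => LinearMap.ker (LinearMap.toSpanSingleton R E (t ^ k • x))) := by
    refine monotone_nat_of_le_succ fun k s hs => ?_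
    rw [LinearMap.mem_ker, LinearMap.toSpanSingleton_apply] at hs ⊢
    rw [pow_succ', mul_smul, smul_comm s t, hs, smul_zero]
  obtain ⟨n, hn⟩ := monotone_stabilizes_iff_noetherian.2 (inferInstance : IsNoetherian R R)
    ⟨_, hmono⟩
  refine ⟨n, ?_⟩
  by_contra hx0
  obtain ⟨s, a, hsa, ha0⟩ := quot_ess_all 𝒜 𝓔 q ℳ' e he hm _ hx0
  have h1 : s ∈ LinearMap.ker (LinearMap.toSpanSingleton R E (t ^ (n + 1) • x)) := by
    rw [LinearMap.mem_ker, LinearMap.toSpanSingleton_apply, pow_succ', mul_smul, smul_comm s t,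
      ← hsa, ← map_smul, quot_smul_eq_zero q a ht, map_zero]
  have h2 : LinearMap.ker (LinearMap.toSpanSingleton R E (t ^ n • x)) =
      LinearMap.ker (LinearMap.toSpanSingleton R E (t ^ (n + 1) • x)) := hn (n + 1) (Nat.le_succ n)
  rw [← h2, LinearMap.mem_ker, LinearMap.toSpanSingleton_apply, ← hsa] at h1
  exact ha0 (he.injective (by rw [h1, map_zero]))

end Quot

section Shift

/-- multiplication by an element, as a map into the shifted module -/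
def smulShift (g : ι) (r : R) : E →ₗ[R] (shiftG 𝒜 𝓔 g).carrier := LinearMap.lsmul R E r

theorem smulShift_isGrHom {g : ι} {r : R} (hr : r ∈ 𝒜 g) :
    GrLC.IsGrHom 𝓔 (shiftG 𝒜 𝓔 g).gr (smulShift 𝒜 𝓔 g r) := by
  intro j x hx
  show r • x ∈ 𝓔 (j + g)
  rw [add_comm]
  exact gsmul_mem 𝒜 𝓔 hr hx

/-- on a *injective module, an injective homogeneous multiplication has a retraction -/
theorem exists_retract_smul (hE : GrLC.IsStarInj 𝒜 𝓔) {g : ι} {r : R} (hr : r ∈ 𝒜 g)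
    (hinj : ∀ x : E, r • x = 0 → x = 0) : ∃ h : E →ₗ[R] E, ∀ x, h (r • x) = x := by
  obtain ⟨h, _, hh⟩ := hE (GrLC.GMod.of 𝒜 E 𝓔) (shiftG 𝒜 𝓔 g) (smulShift 𝒜 𝓔 g r)
    (smulShift_isGrHom 𝒜 𝓔 hr)
    (fun x y hxy => by
      have h1 : r • x = r • y := hxy
      have h2 : r • (x - y) = 0 := by rw [smul_sub]; exact sub_eq_zero.2 h1
      exact sub_eq_zero.1 (hinj _ h2))
    LinearMap.id (fun _ _ hx => hx)
  exact ⟨h, fun x => LinearMap.congr_fun hh x⟩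

end Shift

section SubI

/-- the inclusion of a homogeneous submodule, typed from the bundled graded module -/
def subI {X : Submodule R E} (hX : X.IsHomogeneous 𝓔) : (subG 𝒜 𝓔 X hX).carrier →ₗ[R] E :=
  X.subtype

theorem subI_injective {X : Submodule R E} (hX : X.IsHomogeneous 𝓔) :
    Function.Injective (subI 𝒜 𝓔 hX) := X.injective_subtype

theorem subI_isGrHom {X : Submodule R E} (hX : X.IsHomogeneous 𝓔) :
    GrLC.IsGrHom (subG 𝒜 𝓔 X hX).gr 𝓔 (subI 𝒜 𝓔 hX) := fun _ _ hy => hy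

theorem subI_codR {M : Type u} [AddCommGroup M] [Module R M] {X : Submodule R E}
    (hX : X.IsHomogeneous 𝓔) (f : M →ₗ[R] E) (hle : ∀ m, f m ∈ X) (m : M) :
    subI 𝒜 𝓔 hX (codR 𝒜 𝓔 hX f hle m) = f m := rfl

theorem range_subI {X : Submodule R E} (hX : X.IsHomogeneous 𝓔) :
    LinearMap.range (subI 𝒜 𝓔 hX) = X := Submodule.range_subtype X

end SubI

section Ann

variable {𝒜 𝓔}

/-- from a homogeneous element with annihilator `q`: a copy of `*E(R/q)(-g₀)` inside a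
*injective module, as a homogeneous direct summand -/
theorem exists_hull_of_ann (hI : GrLC.IsStarInj 𝒜 𝓔) (q : HomogeneousIdeal 𝒜) (g₀ : ι) (m : E)
    (hm : m ∈ 𝓔 g₀) (hann : (Submodule.span R {m}).annihilator = q.toIdeal) :
    ∃ (f₀ : (R ⧸ q.toIdeal) →ₗ[R] E) (X₀ : Submodule R E) (hX : X₀.IsHomogeneous 𝓔)
      (Q : Submodule R E), Function.Injective f₀ ∧ f₀ 1 = m ∧
      GrLC.IsGrHom (fun j : ι => GrLC.quotGr 𝒜 q (j - g₀)) 𝓔 f₀ ∧ (∀ x, f₀ x ∈ X₀) ∧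
      EssIn 𝓔 (LinearMap.range f₀) X₀ ∧ GrLC.IsStarInj 𝒜 (subG 𝒜 𝓔 X₀ hX).gr ∧
      Q.IsHomogeneous 𝓔 ∧ X₀ ⊓ Q = ⊥ ∧ X₀ ⊔ Q = ⊤ := by
  have hN : (Submodule.span R {m}).IsHomogeneous 𝓔 := span_singleton_isHomogeneous 𝒜 𝓔 hm
  obtain ⟨X₀, hNX, hX, hess, hXinj, ⟨Q, hQ, hd, hcod⟩, _⟩ :=
    exists_hull_in hI (Submodule.span R {m}) hN
  have hker : q.toIdeal ≤ LinearMap.ker (LinearMap.toSpanSingleton R E m) := by
    intro r hr
    rw [← hann] at hr
    rw [LinearMap.mem_ker, LinearMap.toSpanSingleton_apply]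
    exact (Submodule.mem_annihilator_span_singleton m r).1 hr
  obtain ⟨f₀, hf₀⟩ : ∃ f₀ : (R ⧸ q.toIdeal) →ₗ[R] E,
      ∀ r, f₀ (Ideal.Quotient.mk q.toIdeal r) = r • m :=
    ⟨Submodule.liftQ q.toIdeal (LinearMap.toSpanSingleton R E m) hker, fun r => rfl⟩
  have hf₀1 : f₀ 1 = m := by
    have := hf₀ 1
    rwa [one_smul] at this
  have hf₀inj : Function.Injective f₀ := by
    refine (injective_iff_map_eq_zero f₀).2 fun x hx => ?_
    obtain ⟨r, rfl⟩ := Ideal.Quotient.mk_surjective x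
    rw [hf₀] at hx
    apply Ideal.Quotient.eq_zero_iff_mem.2
    rw [← hann]
    exact (Submodule.mem_annihilator_span_singleton m r).2 hx
  have hrange : LinearMap.range f₀ = Submodule.span R {m} := by
    rw [quot_range_eq_span, hf₀1]
  refine ⟨f₀, X₀, hX, Q, hf₀inj, hf₀1, ?_, ?_, ?_, hXinj, hQ, hd, hcod⟩
  · intro j x hx
    obtain ⟨r, hr, rfl⟩ := exists_of_mem_quotGr 𝒜 q hx
    rw [hf₀]
    have := gsmul_mem 𝒜 𝓔 hr hm
    rwa [sub_add_cancel] at this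
  · intro x
    apply hNX
    rw [← hrange]
    exact ⟨x, rfl⟩
  · rw [hrange]
    exact hess

end Ann

end Groth.Agent.H98.GrCat
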