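import Groth.Agent.H98.GrEp
import Mathlib.Algebra.Homology.DerivedCategory.Ext.ExactSequences
import Mathlib.Algebra.Homology.DerivedCategory.Ext.EnoughProjectives
import Mathlib.Algebra.Homology.ShortComplex.ModuleCat
import Mathlib.Algebra.Category.ModuleCat.Projective
import Mathlib.Algebra.Category.ModuleCat.Ext.HasExt
import Mathlib.RingTheory.Noetherian.Basic

/-!
# Helper library (helper98): graded free modules, homogeneous parts of linear maps, extension of
arbitrary linear maps from finitely generated graded submodules into *injective modules, and the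
vanishing of `Ext^i(M, I)` for `M` finitely generated graded and `I` *injective.
-/

set_option autoImplicit false
universe u

open DirectSum CategoryTheory

namespace Groth.Agent.H98.GrCat

variable {ι : Type} [AddCommGroup ι] [DecidableEq ι]
variable {R : Type u} [CommRing R] (𝒜 : ι → AddSubgroup R) [GradedRing 𝒜]

/-! ### Homogeneous parts of a linear map -/

section DegPart

variable {A : Type u} [AddCommGroup A] [Module R A] (𝒜A : ι → AddSubgroup A)
  [DirectSum.Decomposition 𝒜A] [SetLike.GradedSMul 𝒜 𝒜A]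
variable {I : Type u} [AddCommGroup I] [Module R I] (𝓘 : ι → AddSubgroup I)
  [DirectSum.Decomposition 𝓘] [SetLike.GradedSMul 𝒜 𝓘]

/-- the additive map underlying the degree-`d` part of a linear map -/
def degAdd (φ : A →ₗ[R] I) (d : ι) : A →+ I :=
  (DirectSum.toAddMonoid (fun g => (compHom 𝓘 (g + d)).comp
    (φ.toAddMonoidHom.comp (𝒜A g).subtype))).comp (decomposeAddEquiv 𝒜A).toAddMonoidHom

omit [GradedRing 𝒜] [SetLike.GradedSMul 𝒜 𝒜A] [SetLike.GradedSMul 𝒜 𝓘] in
theorem degAdd_of_mem (φ : A →ₗ[R] I) (d : ι) {g : ι} {a : A} (ha : a ∈ 𝒜A g) :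
    degAdd 𝒜A 𝓘 φ d a = ((decompose 𝓘 (φ a) (g + d) : 𝓘 (g + d)) : I) := by
  unfold degAdd
  rw [AddMonoidHom.comp_apply]
  show (DirectSum.toAddMonoid fun g => (compHom 𝓘 (g + d)).comp
    (φ.toAddMonoidHom.comp (𝒜A g).subtype)) (decompose 𝒜A a) = _
  rw [decompose_of_mem 𝒜A ha, DirectSum.toAddMonoid_of]
  rfl

/-- the degree-`d` part of a linear map between graded modules -/
def degPart (φ : A →ₗ[R] I) (d : ι) : A →ₗ[R] I where
  toFun := degAdd 𝒜A 𝓘 φ d
  map_add' := map_add _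
  map_smul' r a := by
    classical
    show degAdd 𝒜A 𝓘 φ d (r • a) = r • degAdd 𝒜A 𝓘 φ d a
    induction r using DirectSum.Decomposition.inductionOn 𝒜 with
    | zero => simp
    | @homogeneous c r =>
      induction a using DirectSum.Decomposition.inductionOn 𝒜A with
      | zero => simp
      | @homogeneous g a =>
        have hidx : c + g + d - c = g + d := by abel
        rw [degAdd_of_mem 𝒜A 𝓘 φ d (gsmul_mem 𝒜 𝒜A r.2 a.2), degAdd_of_mem 𝒜A 𝓘 φ d a.2,
          map_smul, comp_smul 𝒜 𝓘 r.2, hidx]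
      | add a b ha hb => rw [smul_add, map_add, map_add, ha, hb, smul_add]
    | add r r' hr hr' => rw [add_smul, map_add, hr, hr', add_smul]

theorem degPart_of_mem (φ : A →ₗ[R] I) (d : ι) {g : ι} {a : A} (ha : a ∈ 𝒜A g) :
    degPart 𝒜 𝒜A 𝓘 φ d a = ((decompose 𝓘 (φ a) (g + d) : 𝓘 (g + d)) : I) :=
  degAdd_of_mem 𝒜A 𝓘 φ d ha

/-- the degree-`d` part, typed into the shifted module -/
def degPartS (φ : A →ₗ[R] I) (d : ι) : A →ₗ[R] (shiftG 𝒜 𝓘 d).carrier :=
  (degPart 𝒜 𝒜A 𝓘 φ d : A →ₗ[R] I)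

theorem degPartS_isGrHom (φ : A →ₗ[R] I) (d : ι) :
    GrLC.IsGrHom 𝒜A (shiftG 𝒜 𝓘 d).gr (degPartS 𝒜 𝒜A 𝓘 φ d) := by
  intro g a ha
  show degPart 𝒜 𝒜A 𝓘 φ d a ∈ 𝓘 (g + d)
  rw [degPart_of_mem 𝒜 𝒜A 𝓘 φ d ha]
  exact SetLike.coe_mem _

open Classical in
theorem sum_degPart_of_mem (φ : A →ₗ[R] I) {g : ι} {a : A} (ha : a ∈ 𝒜A g) (D : Finset ι)
    (hD : ∀ e ∈ (decompose 𝓘 (φ a)).support, e - g ∈ D) :
    φ a = ∑ d ∈ D, degPart 𝒜 𝒜A 𝓘 φ d a := by
  classical
  rw [Finset.sum_congr rfl (fun d _ => degPart_of_mem 𝒜 𝒜A 𝓘 φ d ha)]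
  have h2 : ∑ d ∈ D, ((decompose 𝓘 (φ a) (g + d) : 𝓘 (g + d)) : I) =
      ∑ e ∈ D.image (fun d => g + d), ((decompose 𝓘 (φ a) e : 𝓘 e) : I) := by
    rw [Finset.sum_image (fun x _ y _ h => add_left_cancel h)]
  rw [h2]
  conv_lhs => rw [← sum_support_decompose 𝓘 (φ a)]
  refine Finset.sum_subset ?_ ?_
  · intro e he
    exact Finset.mem_image.2 ⟨e - g, hD e he, by abel⟩
  · intro e _ he
    rw [DFinsupp.notMem_support_iff.1 he]
    rfl

/-- a linear map out of a finitely generated graded module is a finite sum of its homogeneous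
parts -/
theorem exists_finset_sum_degPart [Module.Finite R A] (φ : A →ₗ[R] I) :
    ∃ D : Finset ι, ∀ a, φ a = ∑ d ∈ D, degPart 𝒜 𝒜A 𝓘 φ d a := by
  classical
  obtain ⟨t, ht⟩ := (Module.Finite.fg_top : (⊤ : Submodule R A).FG)
  obtain ⟨D, hDdef⟩ : ∃ D : Finset ι, D = t.biUnion (fun x => (decompose 𝒜A x).support.biUnion
      (fun g => (decompose 𝓘 (φ ((decompose 𝒜A x g : 𝒜A g) : A))).support.image
        (fun e => e - g))) := ⟨_, rfl⟩
  refine ⟨D, ?_⟩
  have hcomp : ∀ x ∈ t, ∀ g, φ ((decompose 𝒜A x g : 𝒜A g) : A) =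
      ∑ d ∈ D, degPart 𝒜 𝒜A 𝓘 φ d ((decompose 𝒜A x g : 𝒜A g) : A) := by
    intro x hx g
    by_cases hg : g ∈ (decompose 𝒜A x).support
    · refine sum_degPart_of_mem 𝒜 𝒜A 𝓘 φ (SetLike.coe_mem _) D (fun e he => ?_)
      rw [hDdef]
      exact Finset.mem_biUnion.2 ⟨x, hx, Finset.mem_biUnion.2 ⟨g, hg,
        Finset.mem_image.2 ⟨e, he, rfl⟩⟩⟩
    · have h0 : ((decompose 𝒜A x g : 𝒜A g) : A) = 0 := by
        rw [DFinsupp.notMem_support_iff.1 hg]
        rfl
      rw [h0, map_zero]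
      symm
      exact Finset.sum_eq_zero (fun d _ => map_zero _)
  have hle : (⊤ : Submodule R A) ≤ LinearMap.eqLocus φ (∑ d ∈ D, degPart 𝒜 𝒜A 𝓘 φ d) := by
    rw [← ht, Submodule.span_le]
    intro x hx
    rw [SetLike.mem_coe, LinearMap.mem_eqLocus]
    have hx' := sum_support_decompose 𝒜A x
    have h3 : φ (∑ g ∈ (decompose 𝒜A x).support, ((decompose 𝒜A x g : 𝒜A g) : A)) =
        (∑ d ∈ D, degPart 𝒜 𝒜A 𝓘 φ d)
          (∑ g ∈ (decompose 𝒜A x).support, ((decompose 𝒜A x g : 𝒜A g) : A)) := by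
      rw [map_sum, map_sum]
      exact Finset.sum_congr rfl fun g _ => by rw [hcomp x hx g, LinearMap.sum_apply]
    rwa [hx'] at h3
  intro a
  have h4 := hle (Submodule.mem_top : a ∈ ⊤)
  rw [LinearMap.mem_eqLocus, LinearMap.sum_apply] at h4
  exact h4

end DegPart

/-! ### Shifts of *injective modules, extension of arbitrary linear maps -/

section Ext1

variable {I : Type u} [AddCommGroup I] [Module R I] (𝓘 : ι → AddSubgroup I)
  [DirectSum.Decomposition 𝓘] [SetLike.GradedSMul 𝒜 𝓘]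

/-- shifts of *injective modules are *injective -/
theorem isStarInj_shift (hI : GrLC.IsStarInj 𝒜 𝓘) (d : ι) :
    GrLC.IsStarInj 𝒜 (shiftG 𝒜 𝓘 d).gr := by
  intro A B f hf hfinj G hG
  obtain ⟨h, hh, hhf⟩ := hI (shiftG 𝒜 A.gr (-d)) (shiftG 𝒜 B.gr (-d)) f
    (fun g a ha => hf _ a ha) hfinj G (fun g a ha => by
      have h2 : G a ∈ 𝓘 (g + -d + d) := hG _ a ha
      rwa [neg_add_cancel_right] at h2)
  refine ⟨h, fun g b hb => ?_, hhf⟩
  have hb' : b ∈ B.gr (g + d + -d) := by rwa [add_neg_cancel_right]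
  exact hh (g + d) b hb'

/-- every linear map from a finitely generated homogeneous submodule of a graded module into a
*injective module extends to the whole module -/
theorem exists_extension (hI : GrLC.IsStarInj 𝒜 𝓘) (B : GrLC.GMod.{u} 𝒜)
    (K : Submodule R B.carrier) (hK : K.IsHomogeneous B.gr) (hfg : K.FG) (φ : K →ₗ[R] I) :
    ∃ ψ : B.carrier →ₗ[R] I, ∀ x : K, ψ (x : B.carrier) = φ x := by
  classical
  haveI hfin : Module.Finite R (subG 𝒜 B.gr K hK).carrier :=
    (Module.Finite.iff_fg.2 hfg : Module.Finite R K)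
  obtain ⟨φ', hφ'⟩ : ∃ φ' : (subG 𝒜 B.gr K hK).carrier →ₗ[R] I, ∀ x : K, φ' x = φ x :=
    ⟨φ, fun _ => rfl⟩
  obtain ⟨D, hD⟩ := exists_finset_sum_degPart 𝒜 (subG 𝒜 B.gr K hK).gr 𝓘 φ'
  have hext : ∀ d : ι, ∃ ψ : B.carrier →ₗ[R] I, ∀ x : (subG 𝒜 B.gr K hK).carrier,
      ψ (subI 𝒜 B.gr hK x) = degPart 𝒜 (subG 𝒜 B.gr K hK).gr 𝓘 φ' d x := by
    intro d
    obtain ⟨ψ, _, hψ⟩ := isStarInj_shift 𝒜 𝓘 hI d (subG 𝒜 B.gr K hK) B (subI 𝒜 B.gr hK)
      (subI_isGrHom 𝒜 B.gr hK) (subI_injective 𝒜 B.gr hK)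
      (degPartS 𝒜 (subG 𝒜 B.gr K hK).gr 𝓘 φ' d)
      (degPartS_isGrHom 𝒜 (subG 𝒜 B.gr K hK).gr 𝓘 φ' d)
    exact ⟨ψ, fun x => LinearMap.congr_fun hψ x⟩
  choose Ψ hΨ using hext
  refine ⟨∑ d ∈ D, Ψ d, fun x => ?_⟩
  rw [LinearMap.sum_apply, ← hφ' x, hD x]
  exact Finset.sum_congr rfl fun d _ => hΨ d x

end Ext1

/-! ### Graded free modules of finite rank -/

section Free

variable {κ : Type u} [Fintype κ] (deg : κ → ι)

/-- the pieces of the graded free module `⊕_j R(-deg j)` on `κ → R` -/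
def freeGr (g : ι) : AddSubgroup (κ → R) where
  carrier := {v | ∀ j, v j ∈ 𝒜 (g - deg j)}
  add_mem' ha hb j := add_mem (ha j) (hb j)
  zero_mem' j := zero_mem _
  neg_mem' ha j := neg_mem (ha j)

/-- component maps of the graded free module -/
def freeProj (g : ι) : (κ → R) →+ (κ → R) where
  toFun v j := compHom 𝒜 (g - deg j) (v j)
  map_zero' := funext fun j => map_zero _
  map_add' v w := funext fun j => map_add _ _ _

open Classical in
/-- the decomposition of the graded free module -/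
noncomputable def freeDec : DirectSum.Decomposition (freeGr 𝒜 deg) :=
  decompOfProj (freeGr 𝒜 deg) (freeProj 𝒜 deg)
    (fun v => Finset.univ.biUnion
      (fun j => (decompose 𝒜 (v j)).support.image (fun e => e + deg j)))
    (fun g v j => SetLike.coe_mem (decompose 𝒜 (v j) (g - deg j)))
    (fun v g hg => funext fun j => by
      show ((decompose 𝒜 (v j) (g - deg j) : 𝒜 (g - deg j)) : R) = 0
      have h1 : g - deg j ∉ (decompose 𝒜 (v j)).support := fun h =>
        hg (Finset.mem_biUnion.2 ⟨j, Finset.mem_univ j,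
          Finset.mem_image.2 ⟨g - deg j, h, sub_add_cancel _ _⟩⟩)
      rw [DFinsupp.notMem_support_iff.1 h1]
      rfl)
    (fun v => funext fun j => by
      rw [Finset.sum_apply]
      show ∑ g ∈ _, ((decompose 𝒜 (v j) (g - deg j) : 𝒜 (g - deg j)) : R) = v j
      have hsub : (decompose 𝒜 (v j)).support.image (fun e => e + deg j) ⊆
          Finset.univ.biUnion
            (fun j => (decompose 𝒜 (v j)).support.image (fun e => e + deg j)) :=
        fun g hg => Finset.mem_biUnion.2 ⟨j, Finset.mem_univ j, hg⟩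
      rw [← Finset.sum_subset hsub (fun g _ hg => by
        have h1 : g - deg j ∉ (decompose 𝒜 (v j)).support := fun h =>
          hg (Finset.mem_image.2 ⟨g - deg j, h, sub_add_cancel _ _⟩)
        rw [DFinsupp.notMem_support_iff.1 h1]
        rfl)]
      rw [Finset.sum_image (fun a _ b _ h => add_right_cancel h)]
      rw [Finset.sum_congr rfl (fun e _ => by rw [add_sub_cancel_right])]
      exact sum_support_decompose 𝒜 (v j))
    (fun g v hv => funext fun j => decompose_of_mem_same 𝒜 (hv j))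
    (fun i j' v hij hv => funext fun j =>
      decompose_of_mem_ne 𝒜 (hv j) (fun h => hij (sub_left_injective h).symm))

omit [Fintype κ] in
theorem freeGSMul : SetLike.GradedSMul 𝒜 (freeGr 𝒜 deg) where
  smul_mem := by
    intro i g r v hr hv
    rw [vadd_eq_add]
    intro j
    show r * v j ∈ 𝒜 (i + g - deg j)
    rw [add_sub_assoc]
    exact SetLike.mul_mem_graded hr (hv j)

/-- the graded free module, bundled -/
noncomputable def freeG : GrLC.GMod.{u} 𝒜 :=
  { carrier := κ → R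
    gr := freeGr 𝒜 deg
    dec := freeDec 𝒜 deg
    gsmul := freeGSMul 𝒜 deg }

end Free

section Cover

variable {M : Type u} [AddCommGroup M] [Module R M] (ℳ : ι → AddSubgroup M)
  [DirectSum.Decomposition ℳ] [SetLike.GradedSMul 𝒜 ℳ]

/-- a finitely generated graded module is a homogeneous quotient of a graded free module of
finite rank -/
theorem exists_free_cover [Module.Finite R M] :
    ∃ (κ : Type u) (_ : Fintype κ) (deg : κ → ι) (π : (κ → R) →ₗ[R] M),
      GrLC.IsGrHom (freeGr 𝒜 deg) ℳ π ∧ Function.Surjective π := by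
  classical
  obtain ⟨t, ht⟩ := (Module.Finite.fg_top : (⊤ : Submodule R M).FG)
  refine ⟨Σ x : {x // x ∈ t}, {g // g ∈ (decompose ℳ (x : M)).support}, inferInstance,
    fun k => k.2.1,
    Fintype.linearCombination R
      (fun k : (Σ x : {x // x ∈ t}, {g // g ∈ (decompose ℳ (x : M)).support}) =>
        ((decompose ℳ (k.1 : M) k.2.1 : ℳ k.2.1) : M)), ?_, ?_⟩
  · intro g v hv
    rw [Fintype.linearCombination_apply]
    refine sum_mem fun k _ => ?_
    have h1 := gsmul_mem 𝒜 ℳ (hv k) (SetLike.coe_mem (decompose ℳ (k.1 : M) k.2.1))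
    rwa [sub_add_cancel] at h1
  · rw [← LinearMap.range_eq_top, Fintype.range_linearCombination, eq_top_iff, ← ht,
      Submodule.span_le]
    intro x hx
    rw [SetLike.mem_coe, ← sum_support_decompose ℳ x]
    refine Submodule.sum_mem _ fun g hg => ?_
    exact Submodule.subset_span ⟨⟨⟨x, hx⟩, ⟨g, hg⟩⟩, rfl⟩

/-- the same, typed through the bundled graded free module -/
theorem exists_free_cover' [IsNoetherianRing R] [Module.Finite R M] :
    ∃ (F : GrLC.GMod.{u} 𝒜) (π : F.carrier →ₗ[R] M), GrLC.IsGrHom F.gr ℳ π ∧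
      Function.Surjective π ∧ Module.Projective R F.carrier ∧ IsNoetherian R F.carrier := by
  obtain ⟨κ, hκ, deg, π, hπgr, hπs⟩ := exists_free_cover 𝒜 ℳ
  exact ⟨freeG 𝒜 deg, π, hπgr, hπs, (inferInstance : Module.Projective R (κ → R)),
    (inferInstance : IsNoetherian R (κ → R))⟩

end Cover

/-! ### Vanishing of Ext -/

section ExtVanish

variable {I : Type u} [AddCommGroup I] [Module R I] (𝓘 : ι → AddSubgroup I)
  [DirectSum.Decomposition 𝓘] [SetLike.GradedSMul 𝒜 𝓘]

open CategoryTheory.Abelian in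
/-- `Ext^{n+1}(A, I) = 0` for `A` finitely generated graded and `I` *injective -/
theorem ext_succ_subsingleton [IsNoetherianRing R] (hI : GrLC.IsStarInj 𝒜 𝓘) :
    ∀ (n : ℕ) (A : GrLC.GMod.{u} 𝒜), Module.Finite R A.carrier →
      Subsingleton (Ext.{u} (ModuleCat.of R A.carrier) (ModuleCat.of R I) (n + 1)) := by
  intro n
  induction n with
  | zero =>
    intro A hA
    obtain ⟨F, π, hπgr, hπs, hproj, hnoeth⟩ := exists_free_cover' 𝒜 A.gr
    have hS := LinearMap.shortExact_shortComplexKer hπs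
    refine subsingleton_of_forall_eq 0 fun x₃ => ?_
    have h0 : (Ext.mk₀ π.shortComplexKer.g).comp x₃ (zero_add 1) = 0 :=
      Ext.eq_zero_of_projective _
    obtain ⟨x₁, hx₁⟩ := Ext.contravariant_sequence_exact₃ hS _ x₃ h0 (n₀ := 0) (by norm_num)
    obtain ⟨φ, rfl⟩ := (Ext.mk₀_bijective _ _).2 x₁
    have hK : (LinearMap.ker π).IsHomogeneous F.gr := ker_isHomogeneous F.gr A.gr hπgr
    obtain ⟨ψ, hψ⟩ := exists_extension 𝒜 𝓘 hI F (LinearMap.ker π) hK
      (IsNoetherian.noetherian _) φ.hom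
    have hφ : φ = π.shortComplexKer.f ≫ ModuleCat.ofHom ψ := by
      ext x
      exact (hψ x).symm
    rw [← hx₁, hφ, ← Ext.mk₀_comp_mk₀]
    exact hS.extClass_comp_assoc _
  | succ n ih =>
    intro A hA
    obtain ⟨F, π, hπgr, hπs, hproj, hnoeth⟩ := exists_free_cover' 𝒜 A.gr
    have hS := LinearMap.shortExact_shortComplexKer hπs
    refine subsingleton_of_forall_eq 0 fun x₃ => ?_
    have h0 : (Ext.mk₀ π.shortComplexKer.g).comp x₃ (zero_add (n + 1 + 1)) = 0 :=
      Ext.eq_zero_of_projective _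
    obtain ⟨x₁, hx₁⟩ := Ext.contravariant_sequence_exact₃ hS _ x₃ h0 (n₀ := n + 1)
      (by omega)
    have hK : (LinearMap.ker π).IsHomogeneous F.gr := ker_isHomogeneous F.gr A.gr hπgr
    have hfin : Module.Finite R (subG 𝒜 F.gr (LinearMap.ker π) hK).carrier :=
      (Module.Finite.iff_fg.2 (IsNoetherian.noetherian _) :
        Module.Finite R (LinearMap.ker π))
    have hsub := ih (subG 𝒜 F.gr (LinearMap.ker π) hK) hfin
    have hx₁0 : x₁ = 0 := Subsingleton.elim (α := Ext.{u}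
      (ModuleCat.of R (subG 𝒜 F.gr (LinearMap.ker π) hK).carrier)
      (ModuleCat.of R I) (n + 1)) _ _
    rw [← hx₁, hx₁0, Ext.comp_zero]

end ExtVanish

end Groth.Agent.H98.GrCat
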