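import Groth.Agent.H98.GrStdOld
import Mathlib.RingTheory.Artinian.Module

/-!
# Helper library (helper98): Artinian / Noetherian duality for graded duals.
-/

set_option autoImplicit false
universe u
open scoped TensorProduct

namespace Groth.Agent.H98

section CompEq

variable {k : Type u} [Field k] {R : Type u} [CommRing R] [Algebra k R]
  {M : Type u} [AddCommGroup M] [Module R M]
  (𝒜 : ℤ → Submodule k R) [GradedAlgebra 𝒜]
  {τ : Type*} [SetLike τ M] [AddSubgroupClass τ M]
  (ℳ : ℤ → τ) [DirectSum.Decomposition ℳ] [SetLike.GradedSMul 𝒜 ℳ]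

theorem comp_smul_eq {c : ℤ} {r : R} (hr : r ∈ 𝒜 c) {i j : ℤ} (h : j = c + i) (x : M) :
    ((DirectSum.decompose ℳ (r • x) j : ℳ j) : M) =
      r • ((DirectSum.decompose ℳ x i : ℳ i) : M) := by
  classical
  subst h
  induction x using DirectSum.Decomposition.inductionOn ℳ with
  | zero => simp
  | @homogeneous i' x =>
    have hmem : r • (x : M) ∈ ℳ (c + i') := gsmul_mem 𝒜 ℳ hr x.2
    by_cases h : i' = i
    · subst h
      rw [DirectSum.decompose_of_mem_same ℳ hmem, DirectSum.decompose_of_mem_same ℳ x.2]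
    · have h' : c + i' ≠ c + i := fun h2 => h (add_left_cancel h2)
      rw [DirectSum.decompose_of_mem_ne ℳ hmem h', DirectSum.decompose_of_mem_ne ℳ x.2 h,
        smul_zero]
  | add x y hx hy =>
    simp only [smul_add, DirectSum.decompose_add, DirectSum.add_apply, AddMemClass.coe_add, hx, hy]

include 𝒜 in
theorem comp_ksmul [Module k M] [IsScalarTower k R M] (c : k) (x : M) (j : ℤ) :
    ((DirectSum.decompose ℳ (c • x) j : ℳ j) : M) =
      c • ((DirectSum.decompose ℳ x j : ℳ j) : M) := by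
  have h1 : (c • (1 : R)) ∈ 𝒜 0 := Submodule.smul_mem _ c (SetLike.one_mem_graded 𝒜)
  have h2 := comp_smul_eq 𝒜 ℳ h1 (show j = 0 + j by ring) x
  rwa [smul_assoc, one_smul, smul_assoc, one_smul] at h2

end CompEq

section Psi

variable {k : Type u} [Field k] {R : Type u} [CommRing R] [Algebra k R]
  (𝒜 : ℤ → Submodule k R) [GradedAlgebra 𝒜]
  {M : Type u} [AddCommGroup M] [Module R M] [Module k M] [IsScalarTower k R M]
  {τ : Type u} [SetLike τ M] [AddSubgroupClass τ M]
  (ℳ : ℤ → τ) [DirectSum.Decomposition ℳ] [SetLike.GradedSMul 𝒜 ℳ]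
  {D : Type u} [AddCommGroup D] [Module R D] [Module k D] [IsScalarTower k R D]
  (𝒟 : ℤ → AddSubgroup D) [DirectSum.Decomposition 𝒟] [SetLike.GradedSMul 𝒜 𝒟]
  {β : D →ₗ[k] M →ₗ[k] k}

/-- `d` has no components in degrees `j` with `s * j < s * n`. -/
def NoBelow (s n : ℤ) (d : D) : Prop :=
  ∀ j, s * j < s * n → ((DirectSum.decompose 𝒟 d j : 𝒟 j) : D) = 0

omit [Module k D] [IsScalarTower k R D] in
theorem noBelow_smul_hom {s n a : ℤ} {r : R} (hr : r ∈ 𝒜 a) {d : D} (hd : NoBelow 𝒟 s n d) :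
    NoBelow 𝒟 s (a + n) (r • d) := by
  intro j hj
  have h1 : s * (j - a) < s * n := by
    have : s * (j - a) = s * j - s * a := by ring
    have h2 : s * (a + n) = s * a + s * n := by ring
    linarith
  rw [comp_smul_eq 𝒜 𝒟 hr (show j = a + (j - a) by ring) d, hd (j - a) h1, smul_zero]

/-- The annihilator in `M` of the initial forms (in direction `s`) of the elements of `N`. -/
def Psi (hD : GrSeg.IsGDual R ℳ 𝒟 β) (s : ℤ) (N : Submodule R D) : Submodule R M where
  carrier := {x | ∀ d ∈ N, ∀ n, NoBelow 𝒟 s n d →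
    β ((DirectSum.decompose 𝒟 d n : 𝒟 n) : D) ((DirectSum.decompose ℳ x (-n) : ℳ (-n)) : M) = 0}
  add_mem' := by
    intro x y hx hy d hd n hn
    rw [DirectSum.decompose_add, DirectSum.add_apply, AddMemClass.coe_add, map_add,
      hx d hd n hn, hy d hd n hn, add_zero]
  zero_mem' := by
    intro d hd n hn
    simp
  smul_mem' := by
    classical
    intro r x hx
    induction r using DirectSum.Decomposition.inductionOn 𝒜 with
    | zero => intro d hd n hn; simp
    | @homogeneous a r =>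
      intro d hd n hn
      rw [comp_smul_eq 𝒜 ℳ r.2 (show -n = a + (-(a + n)) by ring) x, ← hD.map_smul,
        ← comp_smul_eq 𝒜 𝒟 r.2 (rfl : a + n = a + n) d]
      exact hx ((r : R) • d) (N.smul_mem r hd) (a + n) (noBelow_smul_hom 𝒜 𝒟 r.2 hn)
    | add r r' h h' =>
      intro d hd n hn
      rw [add_smul, DirectSum.decompose_add, DirectSum.add_apply, AddMemClass.coe_add, map_add,
        h d hd n hn, h' d hd n hn, add_zero]

theorem Psi_antitone (hD : GrSeg.IsGDual R ℳ 𝒟 β) (s : ℤ) {N N' : Submodule R D} (h : N ≤ N') :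
    Psi 𝒜 ℳ 𝒟 hD s N' ≤ Psi 𝒜 ℳ 𝒟 hD s N :=
  fun _ hx d hd n hn => hx d (h hd) n hn

theorem Psi_le_imp (hD : GrSeg.IsGDual R ℳ 𝒟 β)
    (hfd : ∀ n, Module.Finite k (subPiece 𝒜 ℳ n)) {s : ℤ} (hs : s = 1 ∨ s = -1) (B : ℤ)
    (hB : ∀ j, B < s * j → ∀ d ∈ 𝒟 j, d = 0) {N N' : Submodule R D} (hle : N ≤ N')
    (hΨ : Psi 𝒜 ℳ 𝒟 hD s N ≤ Psi 𝒜 ℳ 𝒟 hD s N') : N' ≤ N := by
  classical
  have hss : s * s = 1 := by rcases hs with rfl | rfl <;> norm_num
  have hsj : ∀ j l : ℤ, s * j = s * l → j = l := by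
    rcases hs with rfl | rfl <;> intro j l h <;> omega
  have hsucc : ∀ l : ℤ, s * (l + s) = s * l + 1 := by intro l; rw [mul_add, hss]
  have key : ∀ (t : ℕ) (l : ℤ), B < s * l + t → ∀ d' ∈ N', NoBelow 𝒟 s l d' → d' ∈ N := by
    intro t
    induction t with
    | zero =>
      intro l hl d' _ hnb
      have h0 : d' = 0 := eq_zero_of_comp_eq_zero 𝒟 (fun j => by
        by_cases hj : s * j < s * l
        · exact hnb j hj
        · refine hB j ?_ _ (SetLike.coe_mem _)
          push_cast at hl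
          linarith)
      rw [h0]; exact zero_mem _
    | succ t ih =>
      intro l hl d' hd' hnb
      let L : Submodule k D :=
        { carrier := {e | ∃ d ∈ N, NoBelow 𝒟 s l d ∧ ((DirectSum.decompose 𝒟 d l : 𝒟 l) : D) = e}
          add_mem' := by
            rintro _ _ ⟨d1, h1, hn1, rfl⟩ ⟨d2, h2, hn2, rfl⟩
            refine ⟨d1 + d2, N.add_mem h1 h2, ?_, ?_⟩
            · intro j hj
              rw [DirectSum.decompose_add, DirectSum.add_apply, AddSubgroup.coe_add, hn1 j hj,
                hn2 j hj, add_zero]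
            · rw [DirectSum.decompose_add, DirectSum.add_apply, AddSubgroup.coe_add]
          zero_mem' := ⟨0, N.zero_mem, fun j _ => by simp, by simp⟩
          smul_mem' := by
            rintro c _ ⟨d1, h1, hn1, rfl⟩
            refine ⟨c • d1, ?_, ?_, comp_ksmul 𝒜 𝒟 c d1 l⟩
            · have : c • d1 = (c • (1 : R)) • d1 := by rw [smul_assoc, one_smul]
              rw [this]; exact N.smul_mem _ h1
            · intro j hj
              rw [comp_ksmul 𝒜 𝒟 c d1 j, hn1 j hj, smul_zero] }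
      haveI := hfd (-l)
      let Φ : D →ₗ[k] Module.Dual k (subPiece 𝒜 ℳ (-l)) :=
        (LinearMap.lcomp k k (subPiece 𝒜 ℳ (-l)).subtype) ∘ₗ β
      have hΦ : ∀ d (x : subPiece 𝒜 ℳ (-l)), Φ d x = β d (x : M) := fun _ _ => rfl
      have hmemW : Φ ((DirectSum.decompose 𝒟 d' l : 𝒟 l) : D) ∈
          (L.map Φ).dualCoannihilator.dualAnnihilator := by
        rw [Submodule.mem_dualAnnihilator]
        intro x hx
        rw [Submodule.mem_dualCoannihilator] at hx
        have hxl : (x : M) ∈ ℳ (-l) := x.2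
        have hxΨ : (x : M) ∈ Psi 𝒜 ℳ 𝒟 hD s N := by
          intro d hd n hn
          by_cases hnl : n = l
          · subst hnl
            rw [DirectSum.decompose_of_mem_same ℳ hxl]
            exact hx _ ⟨_, ⟨d, hd, hn, rfl⟩, rfl⟩
          · rw [DirectSum.decompose_of_mem_ne ℳ hxl (by omega : -l ≠ -n), map_zero]
        have h1 := hΨ hxΨ d' hd' l hnb
        rwa [DirectSum.decompose_of_mem_same ℳ hxl] at h1
      rw [Subspace.dualCoannihilator_dualAnnihilator_eq] at hmemW
      obtain ⟨e, ⟨d, hd, hdn, hde⟩, hΦe⟩ := hmemW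
      have hee' : e = ((DirectSum.decompose 𝒟 d' l : 𝒟 l) : D) := by
        have hsub : e - ((DirectSum.decompose 𝒟 d' l : 𝒟 l) : D) ∈ 𝒟 l :=
          sub_mem (hde ▸ SetLike.coe_mem _) (SetLike.coe_mem _)
        have h1 := hD.eq_zero l _ hsub (fun x hx => by
          have h2 := LinearMap.congr_fun hΦe ⟨x, hx⟩
          rw [hΦ, hΦ] at h2
          rw [map_sub, LinearMap.sub_apply, h2, sub_self])
        exact sub_eq_zero.mp h1
      have hdiff : d' - d ∈ N := by
        refine ih (l + s) ?_ (d' - d) (N'.sub_mem hd' (hle hd)) ?_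
        · rw [hsucc]; push_cast at hl; linarith
        · intro j hj
          rw [hsucc] at hj
          rw [DirectSum.decompose_sub, DirectSum.sub_apply, AddSubgroup.coe_sub]
          by_cases hjl : s * j < s * l
          · rw [hnb j hjl, hdn j hjl, sub_zero]
          · have hjl' : j = l := hsj j l (by omega)
            subst hjl'
            rw [hde, hee', sub_self]
      have h3 : d' = (d' - d) + d := by abel
      rw [h3]; exact N.add_mem hdiff hd
  intro d' hd'
  obtain ⟨b, hb⟩ := Finset.exists_le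
    ((DirectSum.decompose 𝒟 d').support.image (fun j : ℤ => -(s * j)))
  have hnb : NoBelow 𝒟 s (s * (-b)) d' := by
    intro j hj
    by_contra hne
    have hsup : j ∈ (DirectSum.decompose 𝒟 d').support := by
      rw [DFinsupp.mem_support_iff]
      intro h
      apply hne
      rw [h]; rfl
    have h1 := hb _ (Finset.mem_image.mpr ⟨j, hsup, rfl⟩)
    have h2 : s * (s * (-b)) = -b := by rw [← mul_assoc, hss, one_mul]
    rw [h2] at hj
    linarith
  refine key (Int.toNat (B + 1 - s * (s * (-b)))) _ ?_ d' hd' hnb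
  have := Int.self_le_toNat (B + 1 - s * (s * (-b)))
  linarith

theorem Psi_strictAnti (hD : GrSeg.IsGDual R ℳ 𝒟 β)
    (hfd : ∀ n, Module.Finite k (subPiece 𝒜 ℳ n)) {s : ℤ} (hs : s = 1 ∨ s = -1) (B : ℤ)
    (hB : ∀ j, B < s * j → ∀ d ∈ 𝒟 j, d = 0) : StrictAnti (Psi 𝒜 ℳ 𝒟 hD s) := by
  intro N N' hlt
  refine lt_of_le_of_ne (Psi_antitone 𝒜 ℳ 𝒟 hD s hlt.le) (fun heq => ?_)
  have := Psi_le_imp 𝒜 ℳ 𝒟 hD hfd hs B hB hlt.le heq.ge
  exact absurd hlt (not_lt_of_ge this)

/-- the flipped pairing presents `M` as the graded dual of `D`, if the pieces of `M` are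
finite-dimensional. -/
theorem gdual_flip (hD : GrSeg.IsGDual R ℳ 𝒟 β)
    (hfd : ∀ n, Module.Finite k (subPiece 𝒜 ℳ n)) : GrSeg.IsGDual R 𝒟 ℳ β.flip where
  map_smul := fun r x d => (hD.map_smul r d x).symm
  vanish := fun n x hx m hm d hd => hD.vanish m d hd n (by omega) x hx
  eq_zero := fun n x hx h => gdual_eq_zero_of_forall_right hD x (fun d => by
    rw [gdual_apply_eq_comp_left hD (rfl : -n = -n) hx d]
    exact h _ (SetLike.coe_mem _))
  exists_eq := fun n g => by
    haveI := hfd n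
    obtain ⟨x, hx, hxd⟩ := gdual_exists_rep_piece hD (n := -n) (j := n) (by ring)
      (subPiece 𝒜 ℳ n) (fun _ => Iff.rfl) (fun c d hd => ksmul_mem 𝒜 𝒟 c hd) g
    exact ⟨x, hx, fun d hd => hxd d hd⟩

end Psi

section ArtPieces

variable {k : Type u} [Field k] {R : Type u} [CommRing R] [Algebra k R]
  (𝒜 : ℤ → Submodule k R) [GradedAlgebra 𝒜]
  {M : Type u} [AddCommGroup M] [Module R M] [Module k M] [IsScalarTower k R M]
  (ℳ : ℤ → AddSubgroup M) [DirectSum.Decomposition ℳ] [SetLike.GradedSMul 𝒜 ℳ]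

theorem finite_of_isArtinian_field (V : Type*) [AddCommGroup V] [Module k V] [IsArtinian k V] :
    Module.Finite k V := by
  have hfin := IsArtinian.finite_of_linearIndependent
    (Module.Basis.ofVectorSpaceIndex.linearIndependent k V)
  haveI : Finite (Module.Basis.ofVectorSpaceIndex k V) := hfin.to_subtype
  exact Module.Finite.of_basis (Module.Basis.ofVectorSpace k V)

omit [Module k M] [IsScalarTower k R M] in
/-- an Artinian graded module is bounded above. -/
theorem exists_bound_above_of_isArtinian (hpos : ∀ n : ℤ, n < 0 → 𝒜 n = ⊥) [IsArtinian R M] :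
    ∃ n1 : ℤ, ∀ n, n1 ≤ n → ∀ x ∈ ℳ n, x = 0 := by
  classical
  let f : ℕ →o (Submodule R M)ᵒᵈ :=
    ⟨fun n => OrderDual.toDual (geSub 𝒜 ℳ hpos (n : ℤ)), by
      intro n n' hnn'
      change geSub 𝒜 ℳ hpos (n' : ℤ) ≤ geSub 𝒜 ℳ hpos (n : ℤ)
      intro x hx j hj
      exact hx j (by have : (n : ℤ) ≤ n' := by exact_mod_cast hnn'
                     omega)⟩
  obtain ⟨n, hn⟩ := IsArtinian.monotone_stabilizes f
  refine ⟨n, fun m hm x hx => ?_⟩
  obtain ⟨m', rfl⟩ : ∃ m' : ℕ, m = (m' : ℤ) := ⟨m.toNat, by omega⟩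
  have hnm : n ≤ m' := by exact_mod_cast hm
  have h1 : geSub 𝒜 ℳ hpos (m' : ℤ) = geSub 𝒜 ℳ hpos ((m' + 1 : ℕ) : ℤ) := by
    have e1 : f n = f m' := hn m' hnm
    have e2 : f n = f (m' + 1) := hn (m' + 1) (by omega)
    exact OrderDual.toDual_inj.mp (e1.symm.trans e2)
  have hxge : x ∈ geSub 𝒜 ℳ hpos (m' : ℤ) := by
    intro j hj
    exact DirectSum.decompose_of_mem_ne ℳ hx (by omega)
  rw [h1] at hxge
  have h2 := hxge (m' : ℤ) (by push_cast; omega)
  rwa [DirectSum.decompose_of_mem_same ℳ hx] at h2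

/-- `{x | x_j = 0 for j < n, x_n ∈ W}` as an `R`-submodule. -/
def lamSub (hpos : ∀ n : ℤ, n < 0 → 𝒜 n = ⊥) (h0 : 𝒜 0 = Submodule.span k {(1 : R)}) (n : ℤ)
    (W : Submodule k M) : Submodule R M where
  carrier := {x | (∀ j < n, ((DirectSum.decompose ℳ x j : ℳ j) : M) = 0) ∧
    ((DirectSum.decompose ℳ x n : ℳ n) : M) ∈ W}
  add_mem' := by
    rintro x y ⟨hx, hx'⟩ ⟨hy, hy'⟩
    refine ⟨fun j hj => ?_, ?_⟩
    · rw [DirectSum.decompose_add, DirectSum.add_apply, AddSubgroup.coe_add, hx j hj, hy j hj,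
        add_zero]
    · rw [DirectSum.decompose_add, DirectSum.add_apply, AddSubgroup.coe_add]
      exact add_mem hx' hy'
  zero_mem' := ⟨fun j _ => by simp, by simp⟩
  smul_mem' := by
    classical
    intro r x hx
    induction r using DirectSum.Decomposition.inductionOn 𝒜 with
    | zero => exact ⟨fun j _ => by simp, by simp⟩
    | @homogeneous a r =>
      rcases lt_trichotomy a 0 with ha | ha | ha
      · have hr0 : (r : R) = 0 := by
          have hall : ∀ y : R, y ∈ 𝒜 a → y = 0 := fun y hy => by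
            rw [hpos a ha] at hy
            exact (Submodule.mem_bot k).mp hy
          exact hall _ r.2
        rw [hr0, zero_smul]
        exact ⟨fun j _ => by simp, by simp⟩
      · subst ha
        have hr0 : (r : R) ∈ Submodule.span k {(1 : R)} := h0 ▸ r.2
        obtain ⟨c, hc⟩ := Submodule.mem_span_singleton.mp hr0
        rw [← hc, smul_assoc, one_smul]
        refine ⟨fun j hj => ?_, ?_⟩
        · rw [comp_ksmul 𝒜 ℳ c x j, hx.1 j hj, smul_zero]
        · rw [comp_ksmul 𝒜 ℳ c x n]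
          exact Submodule.smul_mem _ c hx.2
      · refine ⟨fun j hj => ?_, ?_⟩
        · rw [comp_smul_eq 𝒜 ℳ r.2 (show j = a + (j - a) by ring) x, hx.1 (j - a) (by omega),
            smul_zero]
        · rw [comp_smul_eq 𝒜 ℳ r.2 (show n = a + (n - a) by ring) x, hx.1 (n - a) (by omega),
            smul_zero]
          exact zero_mem _
    | add r r' h h' =>
      rw [add_smul]
      refine ⟨fun j hj => ?_, ?_⟩
      · rw [DirectSum.decompose_add, DirectSum.add_apply, AddSubgroup.coe_add, h.1 j hj,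
          h'.1 j hj, add_zero]
      · rw [DirectSum.decompose_add, DirectSum.add_apply, AddSubgroup.coe_add]
        exact add_mem h.2 h'.2

/-- the pieces of an Artinian graded module are finite-dimensional. -/
theorem finite_subPiece_of_isArtinian (hpos : ∀ n : ℤ, n < 0 → 𝒜 n = ⊥)
    (h0 : 𝒜 0 = Submodule.span k {(1 : R)}) [IsArtinian R M] (n : ℤ) :
    Module.Finite k (subPiece 𝒜 ℳ n) := by
  classical
  have hmono : StrictMono (fun W : Submodule k (subPiece 𝒜 ℳ n) =>
      lamSub 𝒜 ℳ hpos h0 n (W.map (subPiece 𝒜 ℳ n).subtype)) := by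
    intro W W' hlt
    refine lt_of_le_of_ne ?_ ?_
    · rintro x ⟨hx, hx'⟩
      exact ⟨hx, Submodule.map_mono hlt.le hx'⟩
    · intro heq
      obtain ⟨w, hwW', hwW⟩ := SetLike.exists_of_lt hlt
      have hwn : (w : M) ∈ ℳ n := w.2
      have hmem : (w : M) ∈ lamSub 𝒜 ℳ hpos h0 n (W'.map (subPiece 𝒜 ℳ n).subtype) := by
        refine ⟨fun j hj => DirectSum.decompose_of_mem_ne ℳ hwn (by omega), ?_⟩
        rw [DirectSum.decompose_of_mem_same ℳ hwn]
        exact ⟨w, hwW', rfl⟩
      have heq' : lamSub 𝒜 ℳ hpos h0 n (W.map (subPiece 𝒜 ℳ n).subtype) =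
          lamSub 𝒜 ℳ hpos h0 n (W'.map (subPiece 𝒜 ℳ n).subtype) := heq
      rw [← heq'] at hmem
      obtain ⟨_, hw2⟩ := hmem
      rw [DirectSum.decompose_of_mem_same ℳ hwn] at hw2
      obtain ⟨w', hw'W, hw'⟩ := hw2
      have : w' = w := Subtype.ext hw'
      exact hwW (this ▸ hw'W)
  haveI : IsArtinian k (subPiece 𝒜 ℳ n) := hmono.wellFoundedLT
  exact finite_of_isArtinian_field _

end ArtPieces

end Groth.Agent.H98
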