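import Mathlib
import Groth.Agent.H44.BCTw_A1

/-!
# (B1) for helper88 (S4406): on a standard chart of a graded base change, every section of
`Proj 𝒜` over `D₊(φ f)` is an `R`-combination of pulled-back sections of `Proj ℬ` over `D₊(f)`.
-/

set_option autoImplicit false
universe u
open CategoryTheory CategoryTheory.Limits AlgebraicGeometry Opposite TopologicalSpace TensorProduct
open scoped HomogeneousIdeal

namespace Groth.Agent.H98.BCTw_B1

section BC

variable {R R' A B : Type u} [CommRing R'] [CommRing R] [Algebra R' R]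
    [CommRing B] [Algebra R' B] (ℬ : ℕ → Submodule R' B) [GradedAlgebra ℬ]
    [CommRing A] [Algebra R A] [Algebra R' A] [IsScalarTower R' R A] (𝒜 : ℕ → Submodule R A)
    [GradedAlgebra 𝒜]
    [Algebra B A] [IsScalarTower R' B A] [Algebra.IsPushout R' R B A]
    (φ : ℬ →+*ᵍ 𝒜) (hφA : ∀ b : B, φ b = algebraMap B A b)
    (hφ : HomogeneousIdeal.irrelevant 𝒜 ≤ (HomogeneousIdeal.irrelevant ℬ).map φ) (n : ℤ)

include hφA in
/-- Algebraic core of (B1): every element of `(A_{φ f})₀` is an `R`-combination of images of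
elements of `(B_f)₀`. -/
theorem away_exists_sum_mul_eq (d : ℕ) (f : B) (hf : f ∈ ℬ d)
    (z : HomogeneousLocalization.Away 𝒜 (φ f)) :
    ∃ (l : ℕ) (r : Fin l → R) (q : Fin l → HomogeneousLocalization.Away ℬ f),
      z = ∑ i, HomogeneousLocalization.fromZeroRingHom 𝒜 (Submonoid.powers (φ f))
              ⟨algebraMap R A (r i), SetLike.algebraMap_mem_graded 𝒜 (r i)⟩ *
            HomogeneousLocalization.Away.map φ f (q i) := by
  classical
  have hφf : φ f ∈ 𝒜 d := φ.map_mem hf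
  obtain ⟨k, a, ha, rfl⟩ := HomogeneousLocalization.Away.mk_surjective 𝒜 hφf z
  obtain ⟨l, r, b, hb, hab⟩ :=
    Groth.Agent.H44.BCTw_A1.exists_sum_smul_eq ℬ 𝒜 φ hφA (k • d) a ha
  refine ⟨l, r, fun j => HomogeneousLocalization.Away.mk ℬ hf k (b j) (hb j), ?_⟩
  apply HomogeneousLocalization.val_injective
  rw [← HomogeneousLocalization.algebraMap_apply
    (y := ∑ i, HomogeneousLocalization.fromZeroRingHom 𝒜 (Submonoid.powers (φ f))
              ⟨algebraMap R A (r i), SetLike.algebraMap_mem_graded 𝒜 (r i)⟩ *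
            HomogeneousLocalization.Away.map φ f
              (HomogeneousLocalization.Away.mk ℬ hf k (b i) (hb i))), map_sum]
  simp only [map_mul, HomogeneousLocalization.algebraMap_apply,
    HomogeneousLocalization.Away.map_mk, HomogeneousLocalization.Away.val_mk]
  have h0 : ∀ i, (HomogeneousLocalization.fromZeroRingHom 𝒜 (Submonoid.powers (φ f))
      ⟨algebraMap R A (r i), SetLike.algebraMap_mem_graded 𝒜 (r i)⟩).val =
      Localization.mk (algebraMap R A (r i)) 1 := fun i => rfl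
  simp only [h0, Localization.mk_mul, one_mul]
  have h1 : ∀ (t : Finset (Fin l)), (∑ i ∈ t, Localization.mk (algebraMap R A (r i) * φ (b i))
      (⟨φ f ^ k, k, rfl⟩ : Submonoid.powers (φ f))) =
      Localization.mk (∑ i ∈ t, algebraMap R A (r i) * φ (b i))
        (⟨φ f ^ k, k, rfl⟩ : Submonoid.powers (φ f)) := by
    intro t
    induction t using Finset.induction_on with
    | empty => simp [Localization.mk_zero]
    | insert i t hi ih =>
      rw [Finset.sum_insert hi, Finset.sum_insert hi, ih, Localization.add_mk_self]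
  rw [h1, hab]
  simp only [Algebra.smul_def]

/-- The section `'r'` (for `r : R`) of `𝒪_{Proj 𝒜}` over `(Proj.map φ)⁻¹ D₊(f) = D₊(φ f)`:
`awayToSection` of `fromZeroRingHom ⟨algebraMap R A r, _⟩`. Reducible; the retyping from
`Γ(Proj 𝒜, D₊(φ f))` is `rfl`. -/
noncomputable abbrev constSec (f : B) (r : R) :
    Γ(Proj 𝒜, Proj.map φ hφ ⁻¹ᵁ Proj.basicOpen ℬ f) :=
  (Proj.awayToSection 𝒜 (φ f)).hom
    (HomogeneousLocalization.fromZeroRingHom 𝒜 (Submonoid.powers (φ f))
      ⟨algebraMap R A r, SetLike.algebraMap_mem_graded 𝒜 r⟩)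

omit [Algebra R' R] [Algebra R' A] [IsScalarTower R' R A] [Algebra B A] [IsScalarTower R' B A]
  [Algebra.IsPushout R' R B A] in
lemma constSec_def (f : B) (r : R) :
    constSec ℬ 𝒜 φ hφ f r = (Proj.awayToSection 𝒜 (φ f)).hom
      (HomogeneousLocalization.fromZeroRingHom 𝒜 (Submonoid.powers (φ f))
        ⟨algebraMap R A r, SetLike.algebraMap_mem_graded 𝒜 r⟩) := rfl

include hφA in
/-- (B1): every section of `Proj 𝒜` over `(Proj.map φ)⁻¹ D₊(f) = D₊(φ f)` is a finite sum of
(constants from `R`) times (pullbacks of sections of `Proj ℬ` over `D₊(f)`). -/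
theorem exists_sum_mul_eq (d : ℕ) (hd : 0 < d) (f : B) (hf : f ∈ ℬ d)
    (c : Γ(Proj 𝒜, Proj.map φ hφ ⁻¹ᵁ Proj.basicOpen ℬ f)) :
    ∃ (l : ℕ) (r : Fin l → R) (p : Fin l → Γ(Proj ℬ, Proj.basicOpen ℬ f)),
      c = ∑ i, constSec ℬ 𝒜 φ hφ f (r i) *
          ((Proj.map φ hφ).appLE (Proj.basicOpen ℬ f) (Proj.map φ hφ ⁻¹ᵁ Proj.basicOpen ℬ f)
            le_rfl).hom (p i) := by
  classical
  have hφf : φ f ∈ 𝒜 d := φ.map_mem hf
  -- `c` comes from `(A_{φ f})₀`
  obtain ⟨z, rfl⟩ : ∃ z, (Proj.awayToSection 𝒜 (φ f)).hom z = c := by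
    refine ⟨(Proj.basicOpenIsoAway 𝒜 (φ f) hφf hd).inv.hom c, ?_⟩
    have := congrArg (fun g => g.hom c) (Proj.basicOpenIsoAway 𝒜 (φ f) hφf hd).inv_hom_id
    simpa [Proj.basicOpenIsoAway_hom] using this
  obtain ⟨l, r, q, hz⟩ := away_exists_sum_mul_eq ℬ 𝒜 φ hφA d f hf z
  refine ⟨l, r, fun i => (Proj.awayToSection ℬ f).hom (q i), ?_⟩
  have key : ∀ x, ((Proj.map φ hφ).appLE (Proj.basicOpen ℬ f)
      (Proj.map φ hφ ⁻¹ᵁ Proj.basicOpen ℬ f) le_rfl).hom ((Proj.awayToSection ℬ f).hom x) =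
      (Proj.awayToSection 𝒜 (φ f)).hom (HomogeneousLocalization.Away.map φ f x) := by
    intro x
    have := congrArg (fun g => g.hom x) (Proj.awayToSection_comp_appLE φ hφ hf)
    exact this
  rw [hz, map_sum]
  refine Finset.sum_congr rfl fun i _ => ?_
  rw [map_mul, key]
  rfl

end BC



end Groth.Agent.H98.BCTw_B1
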