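import Mathlib.LinearAlgebra.BilinearForm.Properties
import Mathlib.Algebra.Polynomial.Reverse
import Mathlib.Algebra.Polynomial.AlgebraMap
import Mathlib.Algebra.Polynomial.EraseLead

/-!
Bilinear forms invariant under an endomorphism: adjunction between `P(f)` and the reflected
polynomial.
-/

set_option autoImplicit false

namespace Groth.Agent.H98

open Polynomial

variable {k : Type*} [Field k] {V : Type*} [AddCommGroup V] [Module k V]

theorem bilin_pow_inv (B : LinearMap.BilinForm k V) (f : Module.End k V)
    (hf : ∀ x y, B (f x) (f y) = B x y) (i : ℕ) (x y : V) :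
    B ((f ^ i) x) ((f ^ i) y) = B x y := by
  induction i generalizing x y with
  | zero => simp
  | succ i ih =>
    rw [pow_succ, Module.End.mul_apply, Module.End.mul_apply, ih, hf]

theorem bilin_adj_reflect (B : LinearMap.BilinForm k V) (f : Module.End k V)
    (hf : ∀ x y, B (f x) (f y) = B x y) (N : ℕ) (P : k[X]) (hP : P.natDegree ≤ N) (x y : V) :
    B (aeval f P x) ((f ^ N) y) = B x (aeval f (P.reflect N) y) := by
  revert x y
  refine Polynomial.induction_with_natDegree_le
    (fun P => ∀ x y, B (aeval f P x) ((f ^ N) y) = B x (aeval f (P.reflect N) y)) N ?_ ?_ ?_ P hP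
  · intro x y
    simp
  · intro n r _ hn x y
    have hN : f ^ N = f ^ n * f ^ (N - n) := by rw [← pow_add, Nat.add_sub_cancel' hn]
    rw [reflect_C_mul_X_pow, revAt_le hn]
    simp only [map_mul, map_pow, aeval_C, aeval_X, Module.End.mul_apply,
      Module.algebraMap_end_apply, map_smul, LinearMap.smul_apply, smul_eq_mul]
    congr 1
    rw [hN, Module.End.mul_apply]
    exact bilin_pow_inv B f hf n _ _
  · intro p q _ _ hp hq x y
    simp only [map_add, LinearMap.add_apply, reflect_add, hp, hq]

theorem bilin_adj_reverse_pow (B : LinearMap.BilinForm k V) (f : Module.End k V)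
    (hf : ∀ x y, B (f x) (f y) = B x y) (Q : k[X]) (n : ℕ) (x y : V) :
    B ((aeval f Q ^ n) x) ((f ^ (Q.natDegree * n)) y) = B x ((aeval f Q.reverse ^ n) y) := by
  induction n generalizing x y with
  | zero => simp
  | succ n ih =>
    have hcomm : (aeval f Q.reverse ^ n) * f ^ Q.natDegree =
        f ^ Q.natDegree * (aeval f Q.reverse ^ n) := by
      have h0 : f ^ Q.natDegree = aeval f (X ^ Q.natDegree : k[X]) := by simp
      rw [h0, ← map_pow, ← map_mul, ← map_mul, mul_comm]
    have h2 : (aeval f Q.reverse ^ n) ((f ^ Q.natDegree) y) =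
        (f ^ Q.natDegree) ((aeval f Q.reverse ^ n) y) := by
      rw [← Module.End.mul_apply, hcomm, Module.End.mul_apply]
    rw [pow_succ, Module.End.mul_apply, Nat.mul_succ, pow_add, Module.End.mul_apply, ih, h2,
      bilin_adj_reflect B f hf Q.natDegree Q le_rfl, pow_succ', Module.End.mul_apply]
    rfl

/-- If `Q(f)^n x = 0` then `x` is orthogonal to the range of `Q.reverse(f)^n`. -/
theorem bilin_orth_of_pow_eq_zero (B : LinearMap.BilinForm k V) (f : Module.End k V)
    (hf : ∀ x y, B (f x) (f y) = B x y) (Q : k[X]) (n : ℕ) (x y : V)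
    (hx : (aeval f Q ^ n) x = 0) : B x ((aeval f Q.reverse ^ n) y) = 0 := by
  rw [← bilin_adj_reverse_pow B f hf Q n, hx, map_zero, LinearMap.zero_apply]

end Groth.Agent.H98
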