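import Mathlib
import Groth.Prelude.Def_RelProj3
import Groth.Agent.H41.GrModQCoh
import Groth.Agent.H41.GrModSections
import Groth.Agent.H62.BCTw_G1
import Groth.Agent.H68.GMBC_DH
import Groth.Agent.H68.GMBC_DHNAT
import Groth.Agent.H89.GMBC_GEXT
import Groth.Agent.H75.GMBC_COV1
import Groth.Agent.H10.GMBC_XI
import Groth.Agent.H25.GMBC_GENH
import Groth.Agent.H37.GMBC_VAN
import Groth.Agent.H44.GMBC_SURJ

/-!
# S8341: `Φ^*(M(n)~) ≅ (M ⊗_A B)(n)~` for a graded ring homomorphism with `𝒜₊` generated in degree one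

Assembly (helper98) of the squad pieces (DH)+(DHNAT) helper68, (GEXT) helper89, (COV1) helper75, (GENH) helper25, (SURJ) helper44,
(XI) helper10, (VAN) helper37
with the general criterion (G1) of helper62; (INJ) via dehomogenization along a degree-one element.
-/

set_option autoImplicit false
universe u
open CategoryTheory CategoryTheory.Limits AlgebraicGeometry Opposite TopologicalSpace TensorProduct
open scoped HomogeneousIdeal
open Groth.Agent.H88.BCTw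

namespace Groth.Agent.H98.GMBC

section Alg

/-- (DH) dehomogenization along a degree-one element: `a ↦ a / f ^ k` for `a ∈ 𝒜 k`. -/
theorem exists_dehom {A σ : Type u} [CommRing A] [SetLike σ A] [AddSubgroupClass σ A]
    (𝒜 : ℕ → σ) [GradedRing 𝒜] (f : A) (hf : f ∈ 𝒜 1) :
    ∃ δ : A →+* HomogeneousLocalization.Away 𝒜 f, ∀ (k : ℕ) (a : A) (ha : a ∈ 𝒜 k),
      δ a = HomogeneousLocalization.Away.mk 𝒜 hf k a (by simpa using ha) :=
  Groth.Agent.H68.GMBC_DH.exists_dehom 𝒜 f hf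

/-- (GEXT) [abstract] extension through the base change property to a tensor product. -/
theorem exists_ext_tensor {A B : Type u} [CommRing A] [CommRing B] (ψ : A →+* B)
    {M N : Type u} [AddCommGroup M] [Module A M] [AddCommGroup N] [Module B N]
    (v : M →ₛₗ[ψ] N)
    (hbc : ∀ (Q : Type u) [AddCommGroup Q] [Module B Q] (w : M →ₛₗ[ψ] Q),
      ∃! g : N →ₗ[B] Q, ∀ m : M, g (v m) = w m)
    {P S X : Type u} [CommRing P] [CommRing S] [Algebra P S] [AddCommGroup X] [Module P X]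
    (αA : A →+* P) (β : B →+* S) (hβ : ∀ a, β (ψ a) = algebraMap P S (αA a))
    (ξ : M →+ X) (hξ : ∀ a m, ξ (a • m) = αA a • ξ m) :
    ∃ g : N →+ S ⊗[P] X, (∀ (b : B) (y : N), g (b • y) = β b • g y) ∧
      ∀ m : M, g (v m) = (1 : S) ⊗ₜ[P] ξ m :=
  Groth.Agent.H89.GMBC_GEXT.exists_ext_tensor ψ v hbc αA β hβ ξ hξ

end Alg

variable {A σ : Type u} [CommRing A] [SetLike σ A]
    [AddSubgroupClass σ A] {𝒜 : ℕ → σ} [GradedRing 𝒜] {B σ' : Type u} [CommRing B] [SetLike σ' B]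
    [AddSubgroupClass σ' B]
    {ℬ : ℕ → σ'} [GradedRing ℬ] (ψ : 𝒜 →+*ᵍ ℬ) (hψ : ℬ₊ ≤ (𝒜₊).map ψ)
    (hgen : (𝒜₊).toIdeal = Ideal.span (𝒜 1 : Set A))
    {M τ : Type u} [AddCommGroup M] [Module A M] [SetLike τ M] [AddSubgroupClass τ M] (ℳ : ℕ → τ)
    [SetLike.GradedSMul 𝒜 ℳ] [DirectSum.Decomposition ℳ]
    {N τ' : Type u} [AddCommGroup N] [Module B N] [SetLike τ' N] [AddSubgroupClass τ' N]
    (𝒩 : ℕ → τ')
    [SetLike.GradedSMul ℬ 𝒩] [DirectSum.Decomposition 𝒩]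
    (v : M →ₛₗ[ψ.toRingHom] N) (hv : ∀ (i : ℕ) (m : M), m ∈ ℳ i → v m ∈ 𝒩 i)
    (hbc : ∀ (Q : Type u) [AddCommGroup Q] [Module B Q] (w : M →ₛₗ[ψ.toRingHom] Q),
      ∃! g : N →ₗ[B] Q, ∀ m : M, g (v m) = w m)
    (n : ℤ)

include hgen in
/-- (COV1) -/
theorem isOpenCover_preimage_basicOpen_one :
    IsOpenCover fun f : {f : A // f ∈ 𝒜 1} => Proj.map ψ hψ ⁻¹ᵁ Proj.basicOpen 𝒜 f.1 :=
  Groth.Agent.H75.GMBC_COV1.isOpenCover_preimage_basicOpen_one ψ hψ hgen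

include hv hbc in
/-- (GENH) homogeneous generation of `N` by `v(M)` -/
theorem exists_sum_smul_eq_of_mem (e : ℕ) (y : N) (hy : y ∈ 𝒩 e) :
    ∃ (l : ℕ) (d : Fin l → ℕ) (b : Fin l → B) (m : Fin l → M), (∀ j, d j ≤ e) ∧
      (∀ j, b j ∈ ℬ (e - d j)) ∧ (∀ j, m j ∈ ℳ (d j)) ∧ y = ∑ j, b j • v (m j) :=
  Groth.Agent.H25.GMBC_GENH.exists_sum_smul_eq_of_mem ψ ℳ 𝒩 v hv hbc e y hy

/-- (SURJ) -/
theorem exists_sum_eq
    (hgenN : ∀ (e : ℕ) (y : N), y ∈ 𝒩 e →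
      ∃ (l : ℕ) (d : Fin l → ℕ) (b : Fin l → B) (m : Fin l → M), (∀ j, d j ≤ e) ∧
        (∀ j, b j ∈ ℬ (e - d j)) ∧ (∀ j, m j ∈ ℳ (d j)) ∧ y = ∑ j, b j • v (m j))
    (f : A) (hf : f ∈ 𝒜 1)
    (t : Γ(GrMod.tilde ℬ 𝒩 n, Proj.map ψ hψ ⁻¹ᵁ Proj.basicOpen 𝒜 f)) :
    ∃ (l : ℕ) (c : Fin l → Γ(Proj ℬ, Proj.map ψ hψ ⁻¹ᵁ Proj.basicOpen 𝒜 f))
      (x : Fin l → Γ(GrMod.tilde 𝒜 ℳ n, Proj.basicOpen 𝒜 f)),
      t = ∑ j, c j • pushSec (Proj.map ψ hψ) (GrMod.tilde ℬ 𝒩 n) (Proj.basicOpen 𝒜 f)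
        ((GrMod.comap ψ hψ v hv n).app (Proj.basicOpen 𝒜 f) (x j)) :=
  Groth.Agent.H44.GMBC_SURJ.exists_sum_eq ψ hψ ℳ 𝒩 v hv n hgenN f hf t

/-- (DHNAT) the dehomogenizations are compatible with `ψ`. -/
theorem dehom_nat (f : A) (hf : f ∈ 𝒜 1) (δA : A →+* HomogeneousLocalization.Away 𝒜 f)
    (hδA : ∀ (k : ℕ) (a : A) (ha : a ∈ 𝒜 k),
      δA a = HomogeneousLocalization.Away.mk 𝒜 hf k a (by simpa using ha))
    (δB : B →+* HomogeneousLocalization.Away ℬ (ψ f))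
    (hδB : ∀ (k : ℕ) (b : B) (hb : b ∈ ℬ k),
      δB b = HomogeneousLocalization.Away.mk ℬ (ψ.map_mem hf) k b (by simpa using hb)) (a : A) :
    HomogeneousLocalization.Away.map ψ f (δA a) = δB (ψ a) :=
  Groth.Agent.H68.GMBC_DHNAT.dehom_nat ψ f hf δA hδA δB hδB a

/-- (VAN) a sum of homogeneous fractions of degree `n` with denominators powers of `s ∈ ℬ 1` that
vanishes at every point of `D₊(s)` is killed by a power of `s`. -/
theorem exists_sum_pow_smul_eq_zero (s : B) (hs : s ∈ ℬ 1) (l : ℕ) (e i : Fin l → ℕ)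
    (y : Fin l → N) (hy : ∀ j, y j ∈ 𝒩 (i j)) (hi : ∀ j, (i j : ℤ) = e j + n)
    (h : ∀ p : Proj.basicOpen ℬ s, ∑ j, LocalizedModule.mk (y j) (⟨s ^ e j, fun h =>
            (ProjectiveSpectrum.mem_basicOpen ℬ s p.1).mp p.2
              (p.1.isPrime.mem_of_pow_mem (e j) h)⟩ : p.1.asHomogeneousIdeal.toIdeal.primeCompl) =
        (0 : GrMod.LocMod ℬ (M := N) p.1)) :
    ∃ N₀ : ℕ, (∀ j, e j ≤ N₀) ∧ ∑ j, s ^ (N₀ - e j) • y j = 0 :=
  Groth.Agent.H37.GMBC_VAN.exists_sum_pow_smul_eq_zero 𝒩 n s hs l e i y hy hi h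

/-- (XI) dehomogenization of the module into sections over `D₊(f)`, `f ∈ 𝒜 1`:
`m ↦ f ^ n⁺ • m / f ^ (d + n⁻)` for `m ∈ ℳ d`; semilinear over the ring dehomogenization. -/
theorem exists_modDehom (f : A) (hf : f ∈ 𝒜 1) (δ : A →+* HomogeneousLocalization.Away 𝒜 f)
    (hδ : ∀ (k : ℕ) (a : A) (ha : a ∈ 𝒜 k),
      δ a = HomogeneousLocalization.Away.mk 𝒜 hf k a (by simpa using ha)) :
    ∃ ξ : M →+ Γ(GrMod.tilde 𝒜 ℳ n, Proj.basicOpen 𝒜 f),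
      (∀ (a : A) (m : M), ξ (a • m) = (Proj.awayToSection 𝒜 f).hom (δ a) • ξ m) ∧
      ∀ (k i : ℕ) (m : ℳ i) (hik : (i : ℤ) = k + n) (x : Proj.basicOpen 𝒜 f),
        GrMod.val (ξ (m : M)) x = LocalizedModule.mk (m : M) (⟨f ^ k, fun h =>
            (ProjectiveSpectrum.mem_basicOpen 𝒜 f x.1).mp x.2
              (x.1.isPrime.mem_of_pow_mem k h)⟩ : x.1.asHomogeneousIdeal.toIdeal.primeCompl) :=
  Groth.Agent.H10.GMBC_XI.exists_modDehom ℳ n f hf δ hδ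

include hbc in
/-- (INJ) -/
theorem sumZero_of_sum_eq_zero (f : A) (hf : f ∈ 𝒜 1)
    (δA : A →+* HomogeneousLocalization.Away 𝒜 f)
    (hδA : ∀ (k : ℕ) (a : A) (ha : a ∈ 𝒜 k),
      δA a = HomogeneousLocalization.Away.mk 𝒜 hf k a (by simpa using ha))
    (δB : B →+* HomogeneousLocalization.Away ℬ (ψ f))
    (hδB : ∀ (k : ℕ) (b : B) (hb : b ∈ ℬ k),
      δB b = HomogeneousLocalization.Away.mk ℬ (ψ.map_mem hf) k b (by simpa using hb))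
    (ξ : M →+ Γ(GrMod.tilde 𝒜 ℳ n, Proj.basicOpen 𝒜 f))
    (hξ₁ : ∀ (a : A) (m : M), ξ (a • m) = (Proj.awayToSection 𝒜 f).hom (δA a) • ξ m)
    (hξ₂ : ∀ (k i : ℕ) (m : ℳ i) (hik : (i : ℤ) = k + n) (x : Proj.basicOpen 𝒜 f),
        GrMod.val (ξ (m : M)) x = LocalizedModule.mk (m : M) (⟨f ^ k, fun h =>
            (ProjectiveSpectrum.mem_basicOpen 𝒜 f x.1).mp x.2
              (x.1.isPrime.mem_of_pow_mem k h)⟩ : x.1.asHomogeneousIdeal.toIdeal.primeCompl))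
    (l : ℕ)
    (c : Fin l → Γ(Proj ℬ, Proj.map ψ hψ ⁻¹ᵁ Proj.basicOpen 𝒜 f))
    (x : Fin l → Γ(GrMod.tilde 𝒜 ℳ n, Proj.basicOpen 𝒜 f))
    (h0 : ∑ j, c j • pushSec (Proj.map ψ hψ) (GrMod.tilde ℬ 𝒩 n) (Proj.basicOpen 𝒜 f)
        ((GrMod.comap ψ hψ v hv n).app (Proj.basicOpen 𝒜 f) (x j)) = 0) :
    Groth.Agent.H24.TensorStage.SumZero
      ((Proj.map ψ hψ).appLE (Proj.basicOpen 𝒜 f) (Proj.map ψ hψ ⁻¹ᵁ Proj.basicOpen 𝒜 f)
        le_rfl).hom c x := by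
  classical
  have hψf : ψ f ∈ ℬ 1 := ψ.map_mem hf
  -- the rings and the algebra structure
  letI : Algebra Γ(Proj 𝒜, Proj.basicOpen 𝒜 f)
      Γ(Proj ℬ, Proj.map ψ hψ ⁻¹ᵁ Proj.basicOpen 𝒜 f) :=
    ((Proj.map ψ hψ).appLE (Proj.basicOpen 𝒜 f) (Proj.map ψ hψ ⁻¹ᵁ Proj.basicOpen 𝒜 f)
        le_rfl).hom.toAlgebra
  let αA : A →+* Γ(Proj 𝒜, Proj.basicOpen 𝒜 f) := (Proj.awayToSection 𝒜 f).hom.comp δA
  let β : B →+* Γ(Proj ℬ, Proj.map ψ hψ ⁻¹ᵁ Proj.basicOpen 𝒜 f) :=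
    (Proj.awayToSection ℬ (ψ f)).hom.comp δB
  have key : ∀ z, ((Proj.map ψ hψ).appLE (Proj.basicOpen 𝒜 f)
      (Proj.map ψ hψ ⁻¹ᵁ Proj.basicOpen 𝒜 f) le_rfl).hom ((Proj.awayToSection 𝒜 f).hom z) =
      (Proj.awayToSection ℬ (ψ f)).hom (HomogeneousLocalization.Away.map ψ f z) := by
    intro z
    have := congrArg (fun g => g.hom z) (Proj.awayToSection_comp_appLE ψ hψ hf)
    exact this
  have hβ : ∀ a, β (ψ.toRingHom a) =
      algebraMap Γ(Proj 𝒜, Proj.basicOpen 𝒜 f)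
        Γ(Proj ℬ, Proj.map ψ hψ ⁻¹ᵁ Proj.basicOpen 𝒜 f) (αA a) := by
    intro a
    rw [RingHom.algebraMap_toAlgebra]
    show (Proj.awayToSection ℬ (ψ f)).hom (δB (ψ a)) = _
    rw [← dehom_nat ψ f hf δA hδA δB hδB a]
    exact (key (δA a)).symm
  obtain ⟨g, hg₁, hg₂⟩ := exists_ext_tensor ψ.toRingHom v hbc αA β hβ ξ hξ₁
  have hβ1 : β (ψ f) = 1 := by
    show (Proj.awayToSection ℬ (ψ f)).hom (δB (ψ f)) = 1
    rw [hδB 1 (ψ f) hψf]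
    have : HomogeneousLocalization.Away.mk ℬ hψf 1 (ψ f) (by simpa using hψf) = 1 := by
      apply HomogeneousLocalization.val_injective
      rw [HomogeneousLocalization.Away.val_mk, HomogeneousLocalization.val_one]
      exact Localization.mk_self (⟨ψ f ^ 1, 1, rfl⟩ : Submonoid.powers (ψ f)) |>.trans rfl |> fun h => by
        simpa [pow_one] using h
    rw [this, map_one]
  -- fraction forms of the `x j`
  have hx : ∀ j, ∃ (k i : ℕ) (m : ℳ i), (i : ℤ) = k * 1 + n ∧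
      ∀ p : ProjectiveSpectrum.basicOpen 𝒜 f,
        GrMod.val (x j) p = (LocalizedModule.mk (m : M) ⟨f ^ k, fun h =>
            (ProjectiveSpectrum.mem_basicOpen 𝒜 f p.1).mp p.2
              (p.1.isPrime.mem_of_pow_mem k h)⟩ : GrMod.LocMod 𝒜 (M := M) p.1) :=
    fun j => Groth.Agent.H41.GrModSections.sections_eq_fraction 𝒜 ℳ n Nat.one_pos hf (x j)
  choose kx ix mx hix hxval using hx
  -- fraction forms of the `c j`
  have hc : ∀ j, ∃ (k : ℕ) (b : B) (hb : b ∈ ℬ (k • 1)),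
      c j = (Proj.awayToSection ℬ (ψ f)).hom (HomogeneousLocalization.Away.mk ℬ hψf k b hb) := by
    intro j
    obtain ⟨z, hz⟩ :=
      (ConcreteCategory.bijective_of_isIso
        (Proj.basicOpenIsoAway ℬ (ψ f) hψf Nat.one_pos).hom).2 (c j)
    obtain ⟨k, b, hb, rfl⟩ := HomogeneousLocalization.Away.mk_surjective ℬ hψf z
    exact ⟨k, b, hb, hz.symm⟩
  choose kc bc hbc' hcval using hc
  have hbc1 : ∀ j, bc j ∈ ℬ (kc j) := fun j => by simpa using hbc' j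
  have hcβ : ∀ j, c j = β (bc j) := by
    intro j
    rw [hcval j]
    show _ = (Proj.awayToSection ℬ (ψ f)).hom (δB (bc j))
    rw [hδB (kc j) (bc j) (hbc1 j)]
  have hξx : ∀ j, ξ (mx j : M) = x j := by
    intro j
    refine Groth.Agent.H41.GrModQCoh.sect_ext 𝒜 ℳ n _ _ fun p => ?_
    rw [hξ₂ (kx j) (ix j) (mx j) (by simpa using hix j) p, hxval j p]
  -- pointwise vanishing
  have hnot : ∀ (p : Proj.basicOpen ℬ (ψ f)) (k : ℕ),
      (ψ f) ^ k ∈ p.1.asHomogeneousIdeal.toIdeal.primeCompl := fun p k h =>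
    (ProjectiveSpectrum.mem_basicOpen ℬ (ψ f) p.1).mp p.2 (p.1.isPrime.mem_of_pow_mem k h)
  have hvs : ∀ (p : Proj.basicOpen ℬ (ψ f)) (t : Finset (Fin l))
      (F : Fin l → Γ(GrMod.tilde ℬ 𝒩 n, Proj.map ψ hψ ⁻¹ᵁ Proj.basicOpen 𝒜 f)),
      GrMod.val (∑ j ∈ t, F j) p = ∑ j ∈ t, GrMod.val (F j) p := by
    intro p t F
    induction t using Finset.induction_on with
    | empty => rfl
    | insert a t ha ih =>
      rw [Finset.sum_insert ha, Finset.sum_insert ha, ← ih]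
      rfl
  have hpt : ∀ p : Proj.basicOpen ℬ (ψ f),
      ∑ j, LocalizedModule.mk (bc j • v (mx j : M))
        (⟨(ψ f) ^ (kc j + kx j), hnot p _⟩ : p.1.asHomogeneousIdeal.toIdeal.primeCompl) =
      (0 : GrMod.LocMod ℬ (M := N) p.1) := by
    intro p
    have h1 : GrMod.val (∑ j, c j • pushSec (Proj.map ψ hψ) (GrMod.tilde ℬ 𝒩 n)
        (Proj.basicOpen 𝒜 f) ((GrMod.comap ψ hψ v hv n).app (Proj.basicOpen 𝒜 f) (x j))) p = 0 := by
      rw [h0]; rfl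
    rw [hvs] at h1
    rw [← h1]
    refine Finset.sum_congr rfl fun j _ => ?_
    rw [Groth.Agent.H41.GrModQCoh.val_smul, GrMod.comap_app_val, hxval j, GrMod.locModMap_mk]
    have hr : (Groth.Agent.H41.GrModQCoh.rval ℬ (c j) p).val =
        Localization.mk (bc j) (⟨(ψ f) ^ kc j, hnot p _⟩ :
          p.1.asHomogeneousIdeal.toIdeal.primeCompl) := by
      rw [hcval j]; rfl
    rw [hr, LocalizedModule.mk_smul_mk]
    congr 1
    exact Subtype.ext (by simp [pow_add])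
  -- a power of `ψ f` kills the homogenized sum
  obtain ⟨N₀, hN₀, hsum⟩ := exists_sum_pow_smul_eq_zero 𝒩 n (ψ f) hψf l
    (fun j => kc j + kx j) (fun j => kc j + ix j) (fun j => bc j • v (mx j : M))
    (fun j => SetLike.GradedSMul.smul_mem (hbc1 j) (hv _ _ (mx j).2))
    (fun j => by have := hix j; push_cast; omega) hpt
  -- apply `g`
  have h2 := congrArg g hsum
  rw [map_sum, map_zero] at h2
  show ∑ j, c j ⊗ₜ[Γ(Proj 𝒜, Proj.basicOpen 𝒜 f)] x j =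
    (0 : Γ(Proj ℬ, Proj.map ψ hψ ⁻¹ᵁ Proj.basicOpen 𝒜 f) ⊗[Γ(Proj 𝒜, Proj.basicOpen 𝒜 f)]
      Γ(GrMod.tilde 𝒜 ℳ n, Proj.basicOpen 𝒜 f))
  rw [← h2]
  refine Finset.sum_congr rfl fun j _ => ?_
  rw [hg₁, hg₁, hg₂, map_pow, hβ1, one_pow, one_smul, hξx, ← hcβ, TensorProduct.smul_tmul',
    smul_eq_mul, mul_one]

include hgen hbc in
theorem main :
    IsIso (((Scheme.Modules.pullbackPushforwardAdjunction (Proj.map ψ hψ)).homEquiv _ _).symm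
      (GrMod.comap ψ hψ v hv n)) := by
  haveI : (GrMod.tilde 𝒜 ℳ n).IsQuasicoherent := Groth.Agent.H41.GrModQCoh.isQuasicoherent_tilde 𝒜 ℳ n
  haveI : (GrMod.tilde ℬ 𝒩 n).IsQuasicoherent := Groth.Agent.H41.GrModQCoh.isQuasicoherent_tilde ℬ 𝒩 n
  refine Groth.Agent.H62.BCTw_G1.isIso_adjunct_of_affine_cover (Proj.map ψ hψ)
    (GrMod.tilde 𝒜 ℳ n) (GrMod.tilde ℬ 𝒩 n) (GrMod.comap ψ hψ v hv n)
    (fun f : {f : A // f ∈ 𝒜 1} => Proj.basicOpen 𝒜 f.1)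
    (fun f => Proj.isAffineOpen_basicOpen 𝒜 f.1 f.2 Nat.one_pos)
    (fun f => Proj.isAffineOpen_basicOpen ℬ (ψ f.1) (ψ.map_mem f.2) Nat.one_pos)
    (isOpenCover_preimage_basicOpen_one ψ hψ hgen)
    (fun f t => exists_sum_eq ψ hψ ℳ 𝒩 v hv n
      (exists_sum_smul_eq_of_mem ψ ℳ 𝒩 v hv hbc) f.1 f.2 t)
    (fun f l c x h0 => by
      obtain ⟨δA, hδA⟩ := exists_dehom 𝒜 f.1 f.2
      obtain ⟨δB, hδB⟩ := exists_dehom ℬ (ψ f.1) (ψ.map_mem f.2)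
      obtain ⟨ξ, hξ₁, hξ₂⟩ := exists_modDehom ℳ n f.1 f.2 δA hδA
      exact sumZero_of_sum_eq_zero ψ hψ ℳ 𝒩 v hv hbc n f.1 f.2 δA hδA δB hδB ξ hξ₁ hξ₂ l c x h0)

end Groth.Agent.H98.GMBC
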