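import Groth.Agent.H98.GrFree

/-!
# Helper library (helper98): map-level statements on graded local cohomology (in cocycle form):
a chain map lifting a graded map which factors through modules with vanishing cohomology kills
cocycles; a chain map lifting a split injection reflects coboundaries; the kernel of
`H^{i+1}(A) → H^{i+1}(B)` in a short exact sequence when `H^i(C)` vanishes; the cohomology module
is trivial when all its pieces vanish.
-/

set_option autoImplicit false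
universe u

open DirectSum

namespace Groth.Agent.H98.GrCat

section MapH

variable {ι : Type} [AddCommGroup ι] [DecidableEq ι]
variable {R : Type u} [CommRing R] {𝒜 : ι → AddSubgroup R} [GradedRing 𝒜]

/-- a chain map lifting a graded map which is a finite sum of maps factoring through graded
modules whose graded local cohomology vanishes in the given bidegree (or with zero first factor)
sends the cocycles of that bidegree to coboundaries -/
theorem cobdy_of_factor {A B : GrLC.GMod.{u} 𝒜} {m : ℕ} (D : Fin m → GrLC.GMod.{u} 𝒜)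
    (p : ∀ t, A.carrier →ₗ[R] (D t).carrier) (hp : ∀ t, GrLC.IsGrHom A.gr (D t).gr (p t))
    (q : ∀ t, (D t).carrier →ₗ[R] B.carrier) (hq : ∀ t, GrLC.IsGrHom (D t).gr B.gr (q t))
    (u : A.carrier →ₗ[R] B.carrier) (hu : ∀ v, u v = ∑ t, q t (p t v))
    (a : HomogeneousIdeal 𝒜) (i : ℕ) (n : ι)
    (h : ∀ t, HV a (D t) i n ∨ ∀ v, p t v = 0)
    (EA : GrLC.StarInjRes 𝒜 A.gr) (EB : GrLC.StarInjRes 𝒜 B.gr)
    (χ : ∀ k, (EA.X k).carrier →ₗ[R] (EB.X k).carrier)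
    (hχgr : ∀ k, GrLC.IsGrHom (EA.X k).gr (EB.X k).gr (χ k))
    (hχ0 : ∀ x, χ 0 (EA.ε x) = EB.ε (u x))
    (hχc : ∀ k x, χ (k + 1) (EA.d k x) = EB.d k (χ k x))
    (c : (EA.X i).carrier) (hc : c ∈ EA.cocyc a i) (hcn : c ∈ (EA.X i).gr n) :
    χ i c ∈ EB.cobdy a i := by
  have hE : ∀ t, ∃ Et : GrLC.StarInjRes 𝒜 (D t).gr, True := fun t => ⟨starInjRes 𝒜 _, trivial⟩
  choose Et _ using hE
  have hQ : ∀ t, ∃ φ : ∀ k, ((Et t).X k).carrier →ₗ[R] (EB.X k).carrier,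
      (∀ k, GrLC.IsGrHom ((Et t).X k).gr (EB.X k).gr (φ k)) ∧
      (∀ x, φ 0 ((Et t).ε x) = EB.ε (q t x)) ∧
      ∀ k x, φ (k + 1) ((Et t).d k x) = EB.d k (φ k x) := by
    intro t
    obtain ⟨φ, hφdeg, hφ0, hφc⟩ := exists_lift (Et t) EB 0 (q t)
      (fun k z hz => by rw [add_zero]; exact hq t k z hz)
    exact ⟨φ, fun k j' x hx => by
      have h1 := hφdeg k j' x hx
      rwa [add_zero] at h1, hφ0, hφc⟩
  choose Q hQgr hQ0 hQc using hQ
  have hP : ∀ t, ∃ φ : ∀ k, (EA.X k).carrier →ₗ[R] ((Et t).X k).carrier,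
      (∀ k, GrLC.IsGrHom (EA.X k).gr ((Et t).X k).gr (φ k)) ∧
      (∀ x, φ 0 (EA.ε x) = (Et t).ε (p t x)) ∧
      (∀ k x, φ (k + 1) (EA.d k x) = (Et t).d k (φ k x)) ∧
      φ i c ∈ (Et t).cobdy a i := by
    intro t
    rcases h t with ht | ht
    · obtain ⟨φ, hφdeg, hφ0, hφc⟩ := exists_lift EA (Et t) 0 (p t)
        (fun k z hz => by rw [add_zero]; exact hp t k z hz)
      have hφgr : ∀ k, GrLC.IsGrHom (EA.X k).gr ((Et t).X k).gr (φ k) := fun k j' x hx => by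
        have h1 := hφdeg k j' x hx
        rwa [add_zero] at h1
      exact ⟨φ, hφgr, hφ0, hφc,
        ht (Et t) _ (chain_cocyc EA (Et t) a φ hφc hc) (hφgr i n c hcn)⟩
    · refine ⟨fun _ => 0, fun k j' x _ => ?_, fun x => ?_, fun k x => ?_, ?_⟩
      · show (0 : ((Et t).X k).carrier) ∈ _
        exact zero_mem _
      · show (0 : ((Et t).X 0).carrier) = (Et t).ε (p t x)
        rw [ht, map_zero]
      · show (0 : ((Et t).X (k + 1)).carrier) = (Et t).d k 0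
        rw [map_zero]
      · show (0 : ((Et t).X i).carrier) ∈ _
        exact zero_mem _
  choose P hPgr hP0 hPc hPcob using hP
  obtain ⟨w, hw⟩ : ∃ w : ∀ k, (EA.X k).carrier →ₗ[R] (EB.X k).carrier,
      ∀ k x, w k x = (∑ t, Q t k (P t k x)) - χ k x :=
    ⟨fun k => (∑ t, (Q t k).comp (P t k)) - χ k, fun k x => by
      simp [LinearMap.sum_apply]⟩
  obtain ⟨s, hs0, hsn⟩ := exists_homotopy EA EB w
    (fun k j' x hx => by
      rw [hw]
      exact sub_mem (sum_mem (fun t _ => hQgr t k j' _ (hPgr t k j' x hx))) (hχgr k j' x hx))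
    (fun k x => by
      rw [hw, hw, map_sub, map_sum, hχc]
      congr 1
      refine Finset.sum_congr rfl (fun t _ => ?_)
      rw [hPc, hQc])
    (fun x => by
      rw [hw, hχ0, hu, map_sum]
      simp only [hP0, hQ0]
      rw [sub_self])
  have h1 := htpy_cobdy EA EB a w s hs0 hsn hc
  rw [hw] at h1
  have h2 : (∑ t, Q t i (P t i c)) ∈ EB.cobdy a i :=
    Submodule.sum_mem _ (fun t _ => chain_cobdy (Et t) EB a (Q t) (hQc t) (hPcob t))
  have h3 := sub_mem h2 h1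
  rwa [sub_sub_cancel] at h3

/-- a chain map lifting a split injection of graded modules reflects coboundaries -/
theorem cobdy_of_retract {A B : GrLC.GMod.{u} 𝒜} (f : A.carrier →ₗ[R] B.carrier)
    (g : B.carrier →ₗ[R] A.carrier) (hg : GrLC.IsGrHom B.gr A.gr g) (hgf : ∀ x, g (f x) = x)
    (a : HomogeneousIdeal 𝒜) (i : ℕ)
    (EA : GrLC.StarInjRes 𝒜 A.gr) (EB : GrLC.StarInjRes 𝒜 B.gr)
    (φ : ∀ k, (EA.X k).carrier →ₗ[R] (EB.X k).carrier)
    (hφgr : ∀ k, GrLC.IsGrHom (EA.X k).gr (EB.X k).gr (φ k))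
    (hφ0 : ∀ x, φ 0 (EA.ε x) = EB.ε (f x))
    (hφc : ∀ k x, φ (k + 1) (EA.d k x) = EB.d k (φ k x))
    (c : (EA.X i).carrier) (hc : c ∈ EA.cocyc a i) (hcb : φ i c ∈ EB.cobdy a i) :
    c ∈ EA.cobdy a i := by
  obtain ⟨ψ, hψdeg, hψ0, hψc⟩ := exists_lift EB EA 0 g
    (fun k z hz => by rw [add_zero]; exact hg k z hz)
  have hψgr : ∀ k, GrLC.IsGrHom (EB.X k).gr (EA.X k).gr (ψ k) := fun k j x hx => by
    have h1 := hψdeg k j x hx
    rwa [add_zero] at h1
  obtain ⟨w, hw⟩ : ∃ w : ∀ k, (EA.X k).carrier →ₗ[R] (EA.X k).carrier,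
      ∀ k x, w k x = ψ k (φ k x) - x :=
    ⟨fun k => (ψ k).comp (φ k) - LinearMap.id, fun _ _ => rfl⟩
  obtain ⟨s, hs0, hsn⟩ := exists_homotopy EA EA w
    (fun k j x hx => by
      rw [hw]
      exact sub_mem (hψgr k j _ (hφgr k j x hx)) hx)
    (fun k x => by rw [hw, hw, map_sub, hφc, hψc])
    (fun x => by rw [hw, hφ0, hψ0, hgf, sub_self])
  have h1 := htpy_cobdy EA EA a w s hs0 hsn hc
  rw [hw] at h1
  have h3 := chain_cobdy EB EA a ψ hψc hcb
  have h4 := sub_mem h3 h1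
  rwa [sub_sub_cancel] at h4

section SES

variable {A B C S' : GrLC.GMod.{u} 𝒜} (f : A.carrier →ₗ[R] B.carrier)
  (g : B.carrier →ₗ[R] C.carrier)
  (hf : GrLC.IsGrHom A.gr B.gr f) (hg : GrLC.IsGrHom B.gr C.gr g)
  (hfinj : Function.Injective f) (hgsurj : Function.Surjective g)
  (hex : ∀ b, g b = 0 → ∃ a', f a' = b) (hgf : ∀ a', g (f a') = 0)
  (a : HomogeneousIdeal 𝒜) (i : ℕ) (n : ι)

include hf hg hfinj hgsurj hex hgf in
/-- in a short exact sequence `0 → A → B → C → 0`, if `H^i(C)_n = 0` and a graded direct summand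
`S'` of `A` maps to `B` by a map inducing zero on `H^{i+1}(-)_n` (because it factors suitably),
then `H^{i+1}(S')_n = 0` -/
theorem hv_of_ses_factor (ιs : S'.carrier →ₗ[R] A.carrier) (hιs : GrLC.IsGrHom S'.gr A.gr ιs)
    (π : A.carrier →ₗ[R] S'.carrier) (hπ : GrLC.IsGrHom A.gr S'.gr π)
    (hπι : ∀ x, π (ιs x) = x)
    {m : ℕ} (D : Fin m → GrLC.GMod.{u} 𝒜)
    (p : ∀ t, S'.carrier →ₗ[R] (D t).carrier) (hp : ∀ t, GrLC.IsGrHom S'.gr (D t).gr (p t))
    (q : ∀ t, (D t).carrier →ₗ[R] B.carrier) (hq : ∀ t, GrLC.IsGrHom (D t).gr B.gr (q t))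
    (hu : ∀ v, f (ιs v) = ∑ t, q t (p t v))
    (h : ∀ t, HV a (D t) (i + 1) n ∨ ∀ v, p t v = 0)
    (hC : HV a C i n) : HV a S' (i + 1) n := by
  obtain ⟨ES, -⟩ : ∃ ES : GrLC.StarInjRes 𝒜 S'.gr, True := ⟨starInjRes 𝒜 _, trivial⟩
  obtain ⟨F, -⟩ : ∃ F : GrLC.StarInjRes 𝒜 A.gr, True := ⟨starInjRes 𝒜 _, trivial⟩
  obtain ⟨EB, -⟩ : ∃ EB : GrLC.StarInjRes 𝒜 B.gr, True := ⟨starInjRes 𝒜 _, trivial⟩
  obtain ⟨G, -⟩ : ∃ G : GrLC.StarInjRes 𝒜 C.gr, True := ⟨starInjRes 𝒜 _, trivial⟩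
  refine hv_of_vn ES ?_
  obtain ⟨κ, hκdeg, hκ0, hκc⟩ := exists_lift ES F 0 ιs
    (fun k z hz => by rw [add_zero]; exact hιs k z hz)
  have hκgr : ∀ k, GrLC.IsGrHom (ES.X k).gr (F.X k).gr (κ k) := by
    intro k j z hz
    have h := hκdeg k j z hz
    rwa [add_zero] at h
  obtain ⟨φ, hφdeg, hφ0, hφc⟩ := exists_lift F EB 0 f
    (fun k z hz => by rw [add_zero]; exact hf k z hz)
  have hφgr : ∀ k, GrLC.IsGrHom (F.X k).gr (EB.X k).gr (φ k) := by
    intro k j z hz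
    have h := hφdeg k j z hz
    rwa [add_zero] at h
  obtain ⟨ψ, hψdeg, hψ0, hψc⟩ := exists_lift EB G 0 g
    (fun k z hz => by rw [add_zero]; exact hg k z hz)
  have hψgr : ∀ k, GrLC.IsGrHom (EB.X k).gr (G.X k).gr (ψ k) := by
    intro k j z hz
    have h := hψdeg k j z hz
    rwa [add_zero] at h
  obtain ⟨θ, -, -, hθb, -, -, hAs⟩ := les_core (F := F) (G := G) hf hg hfinj hgsurj hex hgf a
    EB φ hφgr hφc hφ0 ψ hψgr hψc hψ0
  obtain ⟨χ, hχ⟩ : ∃ χ : ∀ k, (ES.X k).carrier →ₗ[R] (EB.X k).carrier,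
      ∀ k x, χ k x = φ k (κ k x) := ⟨fun k => (φ k).comp (κ k), fun _ _ => rfl⟩
  intro w hw hwn
  have ha' : κ (i + 1) w ∈ F.cocyc a (i + 1) := chain_cocyc ES F a κ hκc hw
  have ha'n : κ (i + 1) w ∈ (F.X (i + 1)).gr n := hκgr (i + 1) n w hwn
  have hcob : φ (i + 1) (κ (i + 1) w) ∈ EB.cobdy a (i + 1) := by
    have h1 := cobdy_of_factor D p hp q hq (f.comp ιs) (fun v => hu v) a (i + 1) n h ES EB χ
      (fun k j x hx => by
        rw [hχ]
        exact hφgr k j _ (hκgr k j x hx))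
      (fun x => by
        rw [hχ, hκ0, hφ0]
        rfl)
      (fun k x => by rw [hχ, hχ, hκc, hφc]) w hw hwn
    rwa [hχ] at h1
  obtain ⟨c, hc, hcn, hcob2⟩ := hAs i n _ ha' ha'n hcob
  have h2 := hθb i c (hC G c hc hcn)
  have h3 := add_mem hcob2 h2
  rw [sub_add_cancel] at h3
  exact cobdy_of_retract ιs π hπ hπι a (i + 1) ES F κ hκgr hκ0 hκc w hw h3

end SES

/-- all the graded local cohomology of a zero module vanishes -/
theorem hv_subsingleton' [IsNoetherianRing R] (a : HomogeneousIdeal 𝒜) (A : GrLC.GMod.{u} 𝒜)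
    [Subsingleton A.carrier] (i : ℕ) (n : ι) : HV a A i n := by
  cases i with
  | zero =>
    intro E c hc _
    have hcd : c ∈ LinearMap.ker (E.d 0) := (Submodule.mem_inf.1 hc).2
    rw [E.exact_zero] at hcd
    obtain ⟨y, rfl⟩ := hcd
    rw [Subsingleton.elim y 0, map_zero]
    exact zero_mem _
  | succ i => exact hv_subsingleton a A (i + 1) (by omega) n

/-- the cohomology module is trivial when all its homogeneous pieces vanish -/
theorem subsingleton_H_of_forall_vn {M : Type u} [AddCommGroup M] [Module R M]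
    {ℳ : ι → AddSubgroup M} [DirectSum.Decomposition ℳ] [SetLike.GradedSMul 𝒜 ℳ]
    (E : GrLC.StarInjRes 𝒜 ℳ) (a : HomogeneousIdeal 𝒜) (i : ℕ) (h : ∀ n, Vn E a i n) :
    Subsingleton (E.H a i) := by
  have hint := Hgr_isInternal E a i
  have hbot : ∀ n, E.Hgr a i n = ⊥ := fun n => by
    have h1 : E.Hcomp a i n = ⊥ := Hcomp_eq_bot_of_vn (h n)
    show (E.Hcomp a i n).toAddSubgroup = ⊥
    rw [h1]
    exact Submodule.bot_toAddSubgroup
  have hS : ∀ (S : AddSubgroup (E.H a i)), S = ⊥ → ∀ s : S, s = 0 := by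
    rintro S rfl s
    exact Subtype.ext (AddSubgroup.mem_bot.1 s.2)
  have h0 : ∀ z : E.H a i, z = 0 := by
    intro z
    obtain ⟨w, rfl⟩ := hint.2 z
    have hw : w = 0 := by
      refine DFinsupp.ext (fun n => ?_)
      exact hS _ (hbot n) (w n)
    rw [hw, map_zero]
  exact ⟨fun x y => by rw [h0 x, h0 y]⟩

end MapH

end Groth.Agent.H98.GrCat
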