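import Groth.Agent.H98.GrConv

/-!
# Helper library (helper98): quasi-regular linear forms and graded local cohomology
(`0 → (0:_M x) → M(-1) → M → M/xM → 0`), propagation of regularity, and the standard grading of a
polynomial ring as a positively graded homogeneous ring.
-/

set_option autoImplicit false
universe u

open DirectSum

namespace Groth.Agent.H98.GrCat

section Unshift

variable {ι : Type} [AddCommGroup ι] [DecidableEq ι]
variable {R : Type u} [CommRing R] {𝒜 : ι → AddSubgroup R} [GradedRing 𝒜]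

theorem hv_unshift (a : HomogeneousIdeal 𝒜) (A : GrLC.GMod.{u} 𝒜) (i : ℕ) (n g : ι)
    (h : HV a (shiftG 𝒜 A.gr g) i n) : HV a A i (n + g) := by
  obtain ⟨E, -⟩ : ∃ E : GrLC.StarInjRes 𝒜 A.gr, True := ⟨starInjRes 𝒜 _, trivial⟩
  refine hv_of_vn E ?_
  have h1 := h (shiftRes E g)
  intro c hc hcn
  cases i with
  | zero => exact h1 c hc hcn
  | succ i => exact h1 c hc hcn

end Unshift

variable {R : Type u} [CommRing R] [IsNoetherianRing R] {𝒜 : ℤ → AddSubgroup R} [GradedRing 𝒜]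

/-- propagation of vanishing along anti-diagonals (Castelnuovo–Mumford) -/
theorem hv_propagate (a : HomogeneousIdeal 𝒜)
    (hhom : a.toIdeal = Ideal.span ((𝒜 1 : AddSubgroup R) : Set R)) (A : GrLC.GMod.{u} 𝒜)
    (r : ℤ) (l : ℕ) (hl : 1 ≤ l) (h : ∀ i : ℕ, l ≤ i → HV a A i (r + 1 - i)) :
    ∀ i : ℕ, l ≤ i → ∀ s : ℤ, r < s → HV a A i (s - i) := by
  have key : ∀ k : ℕ, ∀ j : ℕ, l ≤ j → HV a A j (r + 1 + (k : ℤ) - (j : ℤ)) := by
    intro k
    induction k with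
    | zero =>
      intro j hj
      rw [Nat.cast_zero, add_zero]
      exact h j hj
    | succ k ih =>
      intro j hj
      refine hv_step a hhom _ j (by omega) _ (fun p => ?_)
      have e : r + 1 + ((k + 1 : ℕ) : ℤ) - (j : ℤ) - (p : ℤ) - 1 =
          r + 1 + (k : ℤ) - ((j + p : ℕ) : ℤ) := by
        push_cast
        ring
      rw [e]
      exact ih (j + p) (by omega)
  intro i hi s hs
  have hk := key (s - r - 1).toNat i hi
  have e : r + 1 + ((s - r - 1).toNat : ℤ) - (i : ℤ) = s - i := by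
    rw [Int.toNat_of_nonneg (by omega)]
    ring
  rw [e] at hk
  exact hk

section Art

variable {M : Type u} [AddCommGroup M] [Module R M] (ℳ : ℤ → AddSubgroup M)
  [DirectSum.Decomposition ℳ] [SetLike.GradedSMul 𝒜 ℳ]

/-- a homogeneous Artinian submodule of a graded module over a positively graded homogeneous ring
is torsion for the irrelevant ideal -/
theorem gam_of_isArtinian_sub (hpos : ∀ n : ℤ, n < 0 → 𝒜 n = ⊥) (a : HomogeneousIdeal 𝒜)
    (hhom : a.toIdeal = Ideal.span ((𝒜 1 : AddSubgroup R) : Set R)) (K : Submodule R M)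
    (hKh : K.IsHomogeneous ℳ) [IsArtinian R K] : ∀ z ∈ K, z ∈ GrLC.gam a.toIdeal M := by
  intro z hz
  haveI : IsArtinian R (subG 𝒜 ℳ K hKh).carrier := inferInstanceAs (IsArtinian R K)
  obtain ⟨N₀, hN₀⟩ := exists_piece_eq_bot_of_isArtinian 𝒜 (subG 𝒜 ℳ K hKh).gr hpos
  obtain ⟨ι, hι⟩ : ∃ ι : (subG 𝒜 ℳ K hKh).carrier →ₗ[R] M, ∀ w, ι w = K.subtype w :=
    ⟨K.subtype, fun _ => rfl⟩
  obtain ⟨z', hz'⟩ : ∃ z' : (subG 𝒜 ℳ K hKh).carrier, ι z' = z := ⟨⟨z, hz⟩, by rw [hι]; rfl⟩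
  obtain ⟨t, ht⟩ := mem_torsionSub_of_eventually_bot 𝒜 (subG 𝒜 ℳ K hKh).gr hpos a hhom N₀ hN₀ z'
  refine ⟨t, fun r hr => ?_⟩
  rw [← hz', ← map_smul, ht r hr, map_zero]

end Art

section QR

variable (a : HomogeneousIdeal 𝒜)
variable {M : Type u} [AddCommGroup M] [Module R M] (ℳ : ℤ → AddSubgroup M)
  [DirectSum.Decomposition ℳ] [SetLike.GradedSMul 𝒜 ℳ]
variable {N : Type u} [AddCommGroup N] [Module R N] (𝒩 : ℤ → AddSubgroup N)
  [DirectSum.Decomposition 𝒩] [SetLike.GradedSMul 𝒜 𝒩]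
variable (x : R) (hx : x ∈ 𝒜 1)

include hx in
omit [IsNoetherianRing R] in
theorem ker_smul_isHomogeneous : (LinearMap.ker (LinearMap.lsmul R M x)).IsHomogeneous ℳ := by
  intro n z hz
  have hz' : x • z = 0 := LinearMap.mem_ker.1 hz
  have h1 := comp_smul 𝒜 ℳ hx (n + 1) z
  rw [add_sub_cancel_right, hz', decompose_zero, DirectSum.zero_apply,
    ZeroMemClass.coe_zero] at h1
  exact LinearMap.mem_ker.2 h1.symm

variable (hK : ∀ z : M, x • z = 0 → z ∈ GrLC.gam a.toIdeal M)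
  (π : M →ₗ[R] N) (hπ : Function.Surjective π) (hπg : GrLC.IsGrHom ℳ 𝒩 π)
  (hker : LinearMap.ker π = LinearMap.range (x • (LinearMap.id : M →ₗ[R] M)))

include hx hK hπ hπg hker in
/-- the two exactness statements for a quasi-regular linear form `x` on `M`, with `N = M/xM` -/
theorem qr_core :
    (∀ (i : ℕ) (n : ℤ), HV a (GrLC.GMod.of 𝒜 M ℳ) i n → HV a (GrLC.GMod.of 𝒜 M ℳ) (i + 1) (n + -1) →
      HV a (GrLC.GMod.of 𝒜 N 𝒩) i n) ∧
    (∀ (i : ℕ) (n : ℤ), HV a (GrLC.GMod.of 𝒜 N 𝒩) i n → HV a (GrLC.GMod.of 𝒜 M ℳ) (i + 1) n →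
      HV a (GrLC.GMod.of 𝒜 M ℳ) (i + 1) (n + -1)) := by
  classical
  obtain ⟨K, hKdef⟩ : ∃ K : Submodule R M, K = LinearMap.ker (LinearMap.lsmul R M x) := ⟨_, rfl⟩
  have hKmem : ∀ z, z ∈ K ↔ x • z = 0 := by
    intro z
    rw [hKdef, LinearMap.mem_ker]
    rfl
  have hKh : K.IsHomogeneous ℳ := by
    rw [hKdef]
    exact ker_smul_isHomogeneous ℳ x hx
  -- the sequence `0 → K → M → M/K → 0`
  obtain ⟨ι₁, hι₁⟩ : ∃ ι₁ : (subG 𝒜 ℳ K hKh).carrier →ₗ[R] M,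
      ∀ z, ι₁ z = K.subtype z := ⟨K.subtype, fun _ => rfl⟩
  have hι₁gr : GrLC.IsGrHom (subG 𝒜 ℳ K hKh).gr ℳ ι₁ := by
    intro j z hz
    rw [hι₁]
    exact hz
  have hι₁inj : Function.Injective ι₁ := by
    intro z z' h
    rw [hι₁, hι₁] at h
    exact K.injective_subtype h
  have htorK : GrLC.gam a.toIdeal (subG 𝒜 ℳ K hKh).carrier = ⊤ := by
    rw [eq_top_iff]
    intro z _
    have hz : ι₁ z ∈ K := by
      rw [hι₁]
      exact Subtype.property _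
    obtain ⟨t, ht⟩ := hK (ι₁ z) ((hKmem _).1 hz)
    exact ⟨t, fun r hr => hι₁inj (by rw [map_smul, ht r hr, map_zero])⟩
  have hQ₁ : ∀ y, y ∈ K ↔ ∃ z, ι₁ z = y := by
    intro y
    constructor
    · intro hy
      exact ⟨⟨y, hy⟩, by rw [hι₁]; rfl⟩
    · rintro ⟨z, rfl⟩
      rw [hι₁]
      exact Subtype.property _
  have s1r : ∀ (i : ℕ) (n : ℤ), HV a (GrLC.GMod.of 𝒜 M ℳ) i n →
      HV a (quotG 𝒜 ℳ K hKh) i n := fun i n h =>
    hv_right_inj a (X := GrLC.GMod.of 𝒜 M ℳ) ι₁ hι₁gr hι₁inj K hKh hQ₁ i n h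
      (hv_torsion a _ htorK (i + 1) (by omega) n)
  have s1m : ∀ (i : ℕ) (n : ℤ), 1 ≤ i → HV a (quotG 𝒜 ℳ K hKh) i n →
      HV a (GrLC.GMod.of 𝒜 M ℳ) i n := fun i n hi h =>
    hv_mid_inj a (X := GrLC.GMod.of 𝒜 M ℳ) ι₁ hι₁gr hι₁inj K hKh hQ₁ i n
      (hv_torsion a _ htorK i hi n) h
  -- the sequence `0 → (M/K)(-1) → M → N → 0`
  have hle : K ≤ LinearMap.ker (LinearMap.lsmul R M x) := by rw [hKdef]
  obtain ⟨f, hfdef⟩ : ∃ f : (shiftG 𝒜 (quotG 𝒜 ℳ K hKh).gr (-1)).carrier →ₗ[R]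
      (GrLC.GMod.of 𝒜 M ℳ).carrier, ∀ z : M, f (K.mkQ z) = x • z :=
    ⟨K.liftQ (LinearMap.lsmul R M x) hle, fun z => rfl⟩
  have hf : GrLC.IsGrHom (shiftG 𝒜 (quotG 𝒜 ℳ K hKh).gr (-1)).gr (GrLC.GMod.of 𝒜 M ℳ).gr f := by
    intro j q hq
    obtain ⟨z, hz, rfl⟩ := (mem_quotGr' ℳ K).1 hq
    rw [hfdef]
    have h := gsmul_mem 𝒜 ℳ hx hz
    have e : (1 : ℤ) + (j + -1) = j := by ring
    rwa [e] at h
  have hfinj : Function.Injective f := by
    intro q q' h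
    obtain ⟨z, rfl⟩ := K.mkQ_surjective q
    obtain ⟨z', rfl⟩ := K.mkQ_surjective q'
    rw [hfdef, hfdef] at h
    refine (Submodule.Quotient.eq K).2 ((hKmem _).2 ?_)
    rw [smul_sub, h, sub_self]
  have hex : ∀ b, π b = 0 → ∃ q, f q = b := by
    intro b hb
    have h1 : b ∈ LinearMap.ker π := LinearMap.mem_ker.2 hb
    rw [hker] at h1
    obtain ⟨z, hz⟩ := h1
    exact ⟨K.mkQ z, by rw [hfdef]; exact hz⟩
  have hgf : ∀ q, π (f q) = 0 := by
    intro q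
    obtain ⟨z, rfl⟩ := K.mkQ_surjective q
    rw [hfdef]
    have h1 : x • z ∈ LinearMap.range (x • (LinearMap.id : M →ₗ[R] M)) := ⟨z, rfl⟩
    rw [← hker] at h1
    exact LinearMap.mem_ker.1 h1
  refine ⟨fun i n h1 h2 => ?_, fun i n h1 h2 => ?_⟩
  · refine hv_right (A := shiftG 𝒜 (quotG 𝒜 ℳ K hKh).gr (-1)) (B := GrLC.GMod.of 𝒜 M ℳ)
      (C := GrLC.GMod.of 𝒜 N 𝒩) f π hf hπg hfinj hπ hex hgf a i n h1 ?_
    exact hv_shift a (quotG 𝒜 ℳ K hKh) (i + 1) n (-1) (s1r (i + 1) (n + -1) h2)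
  · have h3 : HV a (shiftG 𝒜 (quotG 𝒜 ℳ K hKh).gr (-1)) (i + 1) n :=
      hv_left (A := shiftG 𝒜 (quotG 𝒜 ℳ K hKh).gr (-1)) (B := GrLC.GMod.of 𝒜 M ℳ)
        (C := GrLC.GMod.of 𝒜 N 𝒩) f π hf hπg hfinj hπ hex hgf a i n h1 h2
    exact s1m (i + 1) (n + -1) (by omega) (hv_unshift a (quotG 𝒜 ℳ K hKh) (i + 1) n (-1) h3)

end QR

end Groth.Agent.H98.GrCat

namespace Groth.Agent.H98.GrConv

open Groth.Agent.H98.GrCat

section Irrel

variable {R : Type u} [CommRing R] {σ : Type u} [SetLike σ R] [AddSubgroupClass σ R]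
  (𝒜 : ℤ → σ) [GradedRing 𝒜]

theorem convI_irrel : (convI (GrSyz.irrel 𝒜)).toIdeal =
    Ideal.span (⋃ n ∈ Set.Ioi (0 : ℤ), ((toAS 𝒜 n : AddSubgroup R) : Set R)) := by
  show Ideal.span {r : R | ∃ n : ℤ, 0 < n ∧ r ∈ 𝒜 n} = _
  congr 1
  ext r
  constructor
  · rintro ⟨n, hn, hr⟩
    exact Set.mem_biUnion (Set.mem_Ioi.2 hn) hr
  · intro hr
    obtain ⟨n, hn, hr'⟩ := Set.mem_iUnion₂.1 hr
    exact ⟨n, hn, hr'⟩

end Irrel

section Std

variable (k : Type u) [Field k] (s : Type)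

theorem stdGr_neg (n : ℤ) (hn : n < 0) : toAS (GrSyz.stdGr k s) n = ⊥ := by
  classical
  rw [eq_bot_iff]
  intro p hp
  rw [AddSubgroup.mem_bot]
  by_contra hne
  obtain ⟨d, hd⟩ := MvPolynomial.ne_zero_iff.1 hne
  have hp' : p.IsWeightedHomogeneous (fun _ : s => (1 : ℤ)) n := hp
  have h1 : Finsupp.weight (fun _ : s => (1 : ℤ)) d = n := hp' hd
  have h2 : (0 : ℤ) ≤ Finsupp.weight (fun _ : s => (1 : ℤ)) d := by
    rw [Finsupp.weight_apply, Finsupp.sum]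
    exact Finset.sum_nonneg fun i _ => nsmul_nonneg zero_le_one _
  omega

theorem stdGr_hhom : (convI (GrSyz.irrel (GrSyz.stdGr k s))).toIdeal =
    Ideal.span ((toAS (GrSyz.stdGr k s) 1 : AddSubgroup (MvPolynomial s k)) :
      Set (MvPolynomial s k)) := by
  classical
  apply le_antisymm
  · show Ideal.span {r : MvPolynomial s k | ∃ n : ℤ, 0 < n ∧ r ∈ GrSyz.stdGr k s n} ≤ _
    rw [Ideal.span_le]
    rintro p ⟨n, hn, hp⟩
    have hp' : p.IsWeightedHomogeneous (fun _ : s => (1 : ℤ)) n := hp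
    rw [SetLike.mem_coe, p.as_sum]
    refine Ideal.sum_mem _ fun v hv => ?_
    have hc : MvPolynomial.coeff v p ≠ 0 := MvPolynomial.mem_support_iff.1 hv
    have hw : Finsupp.weight (fun _ : s => (1 : ℤ)) v = n := hp' hc
    have hv0 : v ≠ 0 := by
      intro h0
      rw [h0, map_zero] at hw
      omega
    obtain ⟨j, hj⟩ : ∃ j, v j ≠ 0 := by
      by_contra hall
      apply hv0
      ext j
      by_contra hj
      exact hall ⟨j, hj⟩
    have hv' : v = (v - Finsupp.single j 1) + Finsupp.single j 1 := by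
      ext i
      by_cases hij : i = j
      · subst hij
        simp only [Finsupp.coe_add, Finsupp.coe_tsub, Pi.add_apply, Pi.sub_apply,
          Finsupp.single_eq_same]
        omega
      · simp only [Finsupp.coe_add, Finsupp.coe_tsub, Pi.add_apply, Pi.sub_apply,
          Finsupp.single_eq_of_ne hij]
        omega
    rw [hv', MvPolynomial.monomial_add_single, pow_one]
    refine Ideal.mul_mem_left _ _ (Ideal.subset_span ?_)
    show MvPolynomial.X j ∈ GrSyz.stdGr k s 1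
    exact MvPolynomial.isWeightedHomogeneous_X k (fun _ : s => (1 : ℤ)) j
  · rw [convI_irrel, Ideal.span_le]
    intro p hp
    exact Ideal.subset_span (Set.mem_biUnion (Set.mem_Ioi.2 one_pos) hp)

end Std

end Groth.Agent.H98.GrConv
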