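import Groth.Agent.H98.GrEG
import Groth.Agent.H98.GrQR
import Groth.Agent.H98.GrMapH

/-!
# Helper library (helper98): the graded Auslander–Buchsbaum formula in local-cohomology form, over
a graded ring whose own graded local cohomology is concentrated in one cohomological degree `P`,
vanishes above the internal degree `-P` there and does not vanish in degree `-P`: for a minimal
graded free resolution of length exactly `ℓ`, the graded local cohomology of the module vanishes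
below `P - ℓ` and does not vanish in cohomological degree `P - ℓ` (in the internal degrees
`deg b - P` for the basis vectors `b` of the last term).
-/

set_option autoImplicit false
universe u

open DirectSum

namespace Groth.Agent.H98.GrCat

section AB

variable {R : Type u} [CommRing R] [IsNoetherianRing R] {𝒜 : ℤ → AddSubgroup R} [GradedRing 𝒜]

omit [IsNoetherianRing R] in
/-- the inclusion of, and the projection onto, a basis vector of a graded free module -/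
theorem exists_single_proj {n : ℕ} (dg : Fin n → ℤ) (b₀ : Fin n) :
    ∃ (ιs : (shiftG 𝒜 𝒜 (-dg b₀)).carrier →ₗ[R] (ffG 𝒜 dg).carrier)
      (π : (ffG 𝒜 dg).carrier →ₗ[R] (shiftG 𝒜 𝒜 (-dg b₀)).carrier),
      GrLC.IsGrHom (shiftG 𝒜 𝒜 (-dg b₀)).gr (ffG 𝒜 dg).gr ιs ∧
      GrLC.IsGrHom (ffG 𝒜 dg).gr (shiftG 𝒜 𝒜 (-dg b₀)).gr π ∧
      (∀ x, π (ιs x) = x) ∧ ∀ x, ιs x = (Pi.single b₀ (x : R) : Fin n → R) := by
  obtain ⟨ιs, hιs⟩ : ∃ ιs : (shiftG 𝒜 𝒜 (-dg b₀)).carrier →ₗ[R] (ffG 𝒜 dg).carrier,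
      ∀ x, ιs x = (Pi.single b₀ (x : R) : Fin n → R) :=
    ⟨LinearMap.single R (fun _ => R) b₀, fun _ => rfl⟩
  obtain ⟨π, hπ⟩ : ∃ π : (ffG 𝒜 dg).carrier →ₗ[R] (shiftG 𝒜 𝒜 (-dg b₀)).carrier,
      ∀ v, π v = (v : Fin n → R) b₀ :=
    ⟨LinearMap.proj b₀, fun _ => rfl⟩
  refine ⟨ιs, π, ?_, ?_, ?_, hιs⟩
  · intro j x hx
    rw [hιs]
    intro b'
    by_cases hb : b' = b₀
    · subst hb
      have h1 : (Pi.single b' (x : R) : Fin n → R) b' = (x : R) := Pi.single_eq_same _ _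
      rw [h1, sub_eq_add_neg]
      exact hx
    · have h1 : (Pi.single b₀ (x : R) : Fin n → R) b' = 0 := Pi.single_eq_of_ne hb _
      rw [h1]
      exact zero_mem _
  · intro j v hv
    rw [hπ]
    show (v : Fin n → R) b₀ ∈ 𝒜 (j + -dg b₀)
    rw [← sub_eq_add_neg]
    exact hv b₀
  · intro x
    rw [hπ, hιs]
    have h1 : (Pi.single b₀ (x : R) : Fin n → R) b₀ = (x : R) := Pi.single_eq_same _ _
    exact h1

variable {M : Type u} [AddCommGroup M] [Module R M] {ℳ : ℤ → AddSubgroup M}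
  [DirectSum.Decomposition ℳ] [SetLike.GradedSMul 𝒜 ℳ] (F : GrSyz.FreeRes 𝒜 ℳ)

section Mid

variable {F} {q : ℕ} {C : GrLC.GMod.{u} 𝒜} {φ : (ffG 𝒜 (F.deg q)).carrier →ₗ[R] C.carrier}
  (hL : Lev F q C φ) (a : HomogeneousIdeal 𝒜)

include hL in
theorem lev_mid (i : ℕ) (j : ℤ) (hA : HV a (SyzG F q) i j) (hC : HV a C i j) :
    HV a (ffG 𝒜 (F.deg q)) i j := by
  obtain ⟨f, hf⟩ : ∃ f : (SyzG F q).carrier →ₗ[R] (ffG 𝒜 (F.deg q)).carrier,
      ∀ z : Zq F q, f z = (z : (ffG 𝒜 (F.deg q)).carrier) := ⟨(Zq F q).subtype, fun _ => rfl⟩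
  refine hv_mid f φ ?_ hL.1 ?_ hL.2.1 ?_ ?_ a i j hA hC
  · intro k z hz
    rw [hf]
    exact hz
  · intro z z' h
    rw [hf, hf] at h
    exact Subtype.ext h
  · intro b hb
    have h1 : b ∈ LinearMap.ker φ := LinearMap.mem_ker.2 hb
    rw [hL.2.2] at h1
    exact ⟨⟨b, h1⟩, hf _⟩
  · intro z
    have h1 : f z ∈ LinearMap.ker φ := by
      rw [hL.2.2, hf]
      exact Subtype.property _
    exact LinearMap.mem_ker.1 h1

end Mid

section Main

variable (a : HomogeneousIdeal 𝒜)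
  (P : ℕ) (hP1 : ∀ i, i ≠ P → ∀ j, HV a (GrLC.GMod.of 𝒜 R 𝒜) i j)
  (hP2 : ∀ j : ℤ, -(P : ℤ) < j → HV a (GrLC.GMod.of 𝒜 R 𝒜) P j)

include hP1 hP2 in
/-- a resolution of length `≤ ℓ` forces the vanishing of graded local cohomology below `P - ℓ` -/
theorem hv_of_hasLengthLE (ℓ : ℕ) (hℓ : F.HasLengthLE ℓ) :
    ∀ (p q : ℕ) (C : GrLC.GMod.{u} 𝒜) (φ : (ffG 𝒜 (F.deg q)).carrier →ₗ[R] C.carrier),
      Lev F q C φ → ℓ < q + p → ∀ i : ℕ, i + p ≤ P → ∀ j : ℤ, HV a C i j := by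
  intro p
  induction p with
  | zero =>
    intro q C φ hL hq i _ j
    have hrk : F.rk q = 0 := hℓ q (by omega)
    have hxy : ∀ v w : Fin (F.rk q) → R, v = w := fun v w =>
      funext (fun b => absurd b.2 (by omega))
    have : Subsingleton C.carrier := by
      refine ⟨fun x y => ?_⟩
      obtain ⟨x', rfl⟩ := hL.2.1 x
      obtain ⟨y', rfl⟩ := hL.2.1 y
      exact congrArg φ (hxy x' y')
    exact hv_subsingleton' a C i j
  | succ p ih =>
    intro q C φ hL hq i hi j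
    refine lev_right hL a i j ?_ ?_
    · exact hv_ff a P hP1 hP2 (F.deg q) i j (fun hiP => absurd hiP (by omega))
    · obtain ⟨φ', hL'⟩ := exists_lev_succ F q
      exact ih (q + 1) (SyzG F q) φ' hL' (by omega) (i + 1) (by omega) j

variable (hmin : F.IsMinimal a.toIdeal)
  (hzero : ∀ j : ℤ, j ≤ 0 → ∀ x ∈ 𝒜 j, x ∈ a.toIdeal → x = 0)
  (hPnv : ¬ HV a (GrLC.GMod.of 𝒜 R 𝒜) P (-(P : ℤ)))

include hP2 hmin hzero hPnv in
/-- the top step: the last differential of a minimal resolution induces a non-injective map on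
the top graded local cohomology -/
theorem not_hv_top (hP0 : 1 ≤ P) (q : ℕ) (hrk : F.rk (q + 1 + 1) = 0)
    (C : GrLC.GMod.{u} 𝒜) (φ : (ffG 𝒜 (F.deg q)).carrier →ₗ[R] C.carrier) (hL : Lev F q C φ)
    (b₀ : Fin (F.rk (q + 1))) :
    ¬ HV a C (P - 1) (F.deg (q + 1) b₀ - P) := by
  intro hC
  apply hPnv
  obtain ⟨i, hi⟩ : ∃ i, P = i + 1 := ⟨P - 1, by omega⟩
  have hPi : P - 1 = i := by omega
  rw [hPi] at hC
  obtain ⟨ιs, π, hιsgr, hπgr, hπι, hιs⟩ := exists_single_proj (𝒜 := 𝒜) (F.deg (q + 1)) b₀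
  obtain ⟨p, hp⟩ : ∃ p : ∀ t : Fin (F.rk q), (shiftG 𝒜 𝒜 (-F.deg (q + 1) b₀)).carrier →ₗ[R]
      (shiftG 𝒜 𝒜 (-F.deg q t)).carrier, ∀ t (x : R), p t x = F.d q t b₀ * x :=
    ⟨fun t => LinearMap.mulLeft R (F.d q t b₀), fun _ _ => rfl⟩
  obtain ⟨qq, hqq⟩ : ∃ qq : ∀ t : Fin (F.rk q), (shiftG 𝒜 𝒜 (-F.deg q t)).carrier →ₗ[R]
      (ffG 𝒜 (F.deg q)).carrier, ∀ t x, qq t x = (Pi.single t (x : R) : Fin (F.rk q) → R) :=
    ⟨fun t => LinearMap.single R (fun _ => R) t, fun _ _ => rfl⟩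
  have hfinj : Function.Injective (dL F q) := by
    rw [← LinearMap.ker_eq_bot]
    show LinearMap.ker (Matrix.mulVecLin (F.d q)) = ⊥
    rw [F.exact_succ q, eq_bot_iff]
    rintro _ ⟨v, rfl⟩
    have hv : v = 0 := funext (fun b => absurd b.2 (by omega))
    rw [hv, map_zero]
    exact zero_mem _
  have key : HV a (shiftG 𝒜 𝒜 (-F.deg (q + 1) b₀)) (i + 1) (F.deg (q + 1) b₀ - P) := by
    refine hv_of_ses_factor (dL F q) φ (dL_isGrHom F q) hL.1 hfinj hL.2.1 ?_ ?_ a i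
      (F.deg (q + 1) b₀ - P) ιs hιsgr π hπgr hπι (fun t => shiftG 𝒜 𝒜 (-F.deg q t)) p ?_ qq ?_
      ?_ ?_ hC
    · intro b hb
      have h1 : b ∈ LinearMap.ker φ := LinearMap.mem_ker.2 hb
      rw [hL.2.2] at h1
      exact h1
    · intro a'
      have h1 : dL F q a' ∈ LinearMap.ker φ := by
        rw [hL.2.2]
        exact ⟨a', rfl⟩
      exact LinearMap.mem_ker.1 h1
    · intro t j x hx
      have h0 := hp t x
      rw [h0]
      have h1 := SetLike.GradedMul.mul_mem (F.d_mem q t b₀)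
        (show (x : R) ∈ 𝒜 (j + -F.deg (q + 1) b₀) from hx)
      have e : F.deg (q + 1) b₀ - F.deg q t + (j + -F.deg (q + 1) b₀) = j + -F.deg q t := by
        ring
      rw [e] at h1
      exact h1
    · intro t j x hx
      rw [hqq]
      intro b'
      by_cases hb : b' = t
      · subst hb
        have h1 : (Pi.single b' (x : R) : Fin (F.rk q) → R) b' = (x : R) :=
          Pi.single_eq_same _ _
        rw [h1, sub_eq_add_neg]
        exact hx
      · have h1 : (Pi.single t (x : R) : Fin (F.rk q) → R) b' = 0 := Pi.single_eq_of_ne hb _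
        rw [h1]
        exact zero_mem _
    · have hu' : ∀ v : R, dL F q (ιs v) = ∑ t, qq t (p t v) := by
        intro v
        have h0 := hιs v
        rw [h0]
        have h2 : ∀ t, qq t (p t v) = (Pi.single t (F.d q t b₀ * v) : Fin (F.rk q) → R) := by
          intro t
          have h3 := hp t v
          rw [h3]
          exact hqq t _
        simp only [h2]
        have h1 : (Matrix.mulVec (F.d q) (Pi.single b₀ v) : Fin (F.rk q) → R) =
            fun t => F.d q t b₀ * v := funext (fun t => dotProduct_single _ _ _)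
        exact h1.trans (Finset.univ_sum_single (fun t => F.d q t b₀ * v)).symm
      exact fun v => hu' v
    · intro t
      by_cases hlt : F.deg q t < F.deg (q + 1) b₀
      · left
        refine hv_shift a (GrLC.GMod.of 𝒜 R 𝒜) (i + 1) (F.deg (q + 1) b₀ - P) (-F.deg q t) ?_
        rw [← hi]
        exact hP2 _ (by omega)
      · right
        intro v
        have h3 := hp t v
        rw [h3]
        have h0 : F.d q t b₀ = 0 :=
          hzero (F.deg (q + 1) b₀ - F.deg q t) (by omega) _ (F.d_mem q t b₀) (hmin q t b₀)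
        rw [h0]
        have h4 : ∀ y : R, (0 : R) * y = 0 := zero_mul
        exact h4 v
  have h2 := hv_unshift a (GrLC.GMod.of 𝒜 R 𝒜) (i + 1) (F.deg (q + 1) b₀ - P)
    (-F.deg (q + 1) b₀) key
  have e : F.deg (q + 1) b₀ - (P : ℤ) + -F.deg (q + 1) b₀ = -(P : ℤ) := by ring
  rw [e, ← hi] at h2
  exact h2

include hP1 hP2 hPnv in
/-- the base case: the last syzygy module is free -/
theorem not_hv_base (ℓ : ℕ) (hℓ : F.HasLengthLE ℓ)
    (C : GrLC.GMod.{u} 𝒜) (φ : (ffG 𝒜 (F.deg ℓ)).carrier →ₗ[R] C.carrier) (hL : Lev F ℓ C φ)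
    (b₀ : Fin (F.rk ℓ)) : ¬ HV a C P (F.deg ℓ b₀ - P) := by
  intro hC
  apply hPnv
  obtain ⟨φ', hL'⟩ := exists_lev_succ F ℓ
  have hA : HV a (SyzG F ℓ) P (F.deg ℓ b₀ - P) :=
    hv_of_hasLengthLE F a P hP1 hP2 ℓ hℓ 0 (ℓ + 1) (SyzG F ℓ) φ' hL' (by omega) P (by omega) _
  have hB := lev_mid hL a P _ hA hC
  obtain ⟨ιs, π, hιsgr, hπgr, hπι, -⟩ := exists_single_proj (𝒜 := 𝒜) (F.deg ℓ) b₀
  have key : HV a (shiftG 𝒜 𝒜 (-F.deg ℓ b₀)) P (F.deg ℓ b₀ - P) := by
    refine hv_of_sum (n := 1) (fun _ => ffG 𝒜 (F.deg ℓ)) (fun _ => ιs) (fun _ => hιsgr)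
      (fun _ => π) (fun _ => hπgr) ?_ a P _ (fun _ => hB)
    intro v
    rw [Fin.sum_univ_one]
    exact hπι v
  have h2 := hv_unshift a (GrLC.GMod.of 𝒜 R 𝒜) P (F.deg ℓ b₀ - P) (-F.deg ℓ b₀) key
  have e : F.deg ℓ b₀ - (P : ℤ) + -F.deg ℓ b₀ = -(P : ℤ) := by ring
  rw [e] at h2
  exact h2

include hP1 hP2 hmin hzero hPnv in
/-- **graded Auslander–Buchsbaum, non-vanishing part** -/
theorem not_hv_of_minimal (ℓ : ℕ) (hℓ : F.HasLengthLE ℓ) (hℓP : ℓ ≤ P) (b₀ : Fin (F.rk ℓ)) :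
    ¬ HV a (GrLC.GMod.of 𝒜 M ℳ) (P - ℓ) (F.deg ℓ b₀ - P) := by
  obtain ⟨φ₀, hL₀⟩ := exists_lev_zero F
  cases ℓ with
  | zero =>
    rw [Nat.sub_zero]
    exact not_hv_base F a P hP1 hP2 hPnv 0 hℓ _ φ₀ hL₀ b₀
  | succ ℓ' =>
    have main : ∀ (p q : ℕ), q + p = ℓ' → ∀ (C : GrLC.GMod.{u} 𝒜)
        (φ : (ffG 𝒜 (F.deg q)).carrier →ₗ[R] C.carrier), Lev F q C φ →
        ¬ HV a C (P - 1 - p) (F.deg (ℓ' + 1) b₀ - P) := by
      intro p
      induction p with
      | zero =>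
        intro q hq C φ hL
        have hq' : q = ℓ' := by omega
        subst hq'
        rw [Nat.sub_zero]
        exact not_hv_top F a P hP2 hmin hzero hPnv (by omega) q (hℓ _ (by omega)) C φ hL b₀
      | succ p ih =>
        intro q hq C φ hL hC
        obtain ⟨φ', hL'⟩ := exists_lev_succ F q
        refine ih (q + 1) (by omega) (SyzG F q) φ' hL' ?_
        have e : P - 1 - p = (P - 1 - (p + 1)) + 1 := by omega
        rw [e]
        refine lev_left hL a _ _ hC ?_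
        exact hv_ff a P hP1 hP2 (F.deg q) _ _ (fun hiP => absurd hiP (by omega))
    have h := main ℓ' 0 (by omega) _ φ₀ hL₀
    have e : P - 1 - ℓ' = P - (ℓ' + 1) := by omega
    rw [e] at h
    exact h

end Main

end AB

end Groth.Agent.H98.GrCat
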