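import Groth.Agent.H98.GrHV

/-!
# Helper library (helper98): the end of the graded local cohomology of the quotient by a
homogeneous regular element (`a(M/xM) = a(M) + deg x` in the appropriate cohomological degrees),
invariance of vanishing under graded isomorphisms.
-/

set_option autoImplicit false
universe u

open DirectSum

namespace Groth.Agent.H98.GrCat

section Iso

variable {ι : Type} [AddCommGroup ι] [DecidableEq ι]
variable {R : Type u} [CommRing R] {𝒜 : ι → AddSubgroup R} [GradedRing 𝒜]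
variable {M N : Type u} [AddCommGroup M] [Module R M] [AddCommGroup N] [Module R N]
  {ℳ : ι → AddSubgroup M} [DirectSum.Decomposition ℳ] [SetLike.GradedSMul 𝒜 ℳ]
  {𝒩 : ι → AddSubgroup N} [DirectSum.Decomposition 𝒩] [SetLike.GradedSMul 𝒜 𝒩]

theorem hgr_ne_bot_iff (E : GrLC.StarInjRes 𝒜 ℳ) (a : HomogeneousIdeal 𝒜) (i : ℕ) (n : ι) :
    E.Hgr a i n ≠ ⊥ ↔ ¬ Vn E a i n := by
  constructor
  · intro h hV
    apply h
    have h1 := Hcomp_eq_bot_of_vn hV
    show (E.Hcomp a i n).toAddSubgroup = ⊥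
    rw [h1]
    exact Submodule.bot_toAddSubgroup
  · intro h hbot
    exact h (vn_of_Hgr_eq_bot hbot)

/-- vanishing of a piece of graded local cohomology is invariant under graded isomorphisms -/
theorem vn_of_equiv (e : M ≃ₗ[R] N) (he : GrLC.IsGrHom ℳ 𝒩 e.toLinearMap)
    (E : GrLC.StarInjRes 𝒜 ℳ) (F : GrLC.StarInjRes 𝒜 𝒩) (a : HomogeneousIdeal 𝒜) (i : ℕ)
    (n : ι) (h : Vn E a i n) : Vn F a i n := by
  have he' : GrLC.IsGrHom 𝒩 ℳ e.symm.toLinearMap := grHom_symm ℳ 𝒩 e he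
  obtain ⟨φ, hφdeg, hφ0, hφc⟩ := exists_lift F E 0 e.symm.toLinearMap
    (fun k z hz => by rw [add_zero]; exact he' k z hz)
  obtain ⟨ψ, hψdeg, hψ0, hψc⟩ := exists_lift E F 0 e.toLinearMap
    (fun k z hz => by rw [add_zero]; exact he k z hz)
  have hφgr : ∀ k, GrLC.IsGrHom (F.X k).gr (E.X k).gr (φ k) := by
    intro k j x hx
    have h1 := hφdeg k j x hx
    rwa [add_zero] at h1
  have hψgr : ∀ k, GrLC.IsGrHom (E.X k).gr (F.X k).gr (ψ k) := by
    intro k j x hx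
    have h1 := hψdeg k j x hx
    rwa [add_zero] at h1
  obtain ⟨w, hw⟩ : ∃ w : ∀ k, (F.X k).carrier →ₗ[R] (F.X k).carrier,
      ∀ k x, w k x = ψ k (φ k x) - x :=
    ⟨fun k => (ψ k).comp (φ k) - LinearMap.id, fun _ _ => rfl⟩
  obtain ⟨s, hs0, hsn⟩ := exists_homotopy F F w
    (fun k j x hx => by
      rw [hw]
      exact sub_mem (hψgr k j _ (hφgr k j x hx)) hx)
    (fun k x => by rw [hw, hw, map_sub, hφc, hψc])
    (fun x => by
      rw [hw, hφ0, hψ0]
      show F.ε (e (e.symm x)) - F.ε x = 0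
      rw [LinearEquiv.apply_symm_apply, sub_self])
  intro c hc hcn
  have h1 := htpy_cobdy F F a w s hs0 hsn hc
  rw [hw] at h1
  have h2 : φ i c ∈ E.cobdy a i := h _ (chain_cocyc F E a φ hφc hc) (hφgr i n c hcn)
  have h3 := chain_cobdy E F a ψ hψc h2
  have h4 := sub_mem h3 h1
  rwa [sub_sub_cancel] at h4

end Iso

section EndDeg

variable {R : Type u} [CommRing R] {𝒜 : ℤ → AddSubgroup R} [GradedRing 𝒜]
variable {M N : Type u} [AddCommGroup M] [Module R M] [AddCommGroup N] [Module R N]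
  {ℳ : ℤ → AddSubgroup M} [DirectSum.Decomposition ℳ] [SetLike.GradedSMul 𝒜 ℳ]
  {𝒩 : ℤ → AddSubgroup N} [DirectSum.Decomposition 𝒩] [SetLike.GradedSMul 𝒜 𝒩]

/-- two pieces of the long exact sequence of graded local cohomology attached to multiplication
by a homogeneous `M`-regular element `x` of degree `k`, `0 → M(-k) → M → N → 0`, in cocycle
form -/
theorem mulx_les (a : HomogeneousIdeal 𝒜) (x : R) (k : ℤ) (hxk : x ∈ 𝒜 k)
    (hreg : IsSMulRegular M x) (π : M →ₗ[R] N) (hπ : Function.Surjective π)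
    (hπg : GrLC.IsGrHom ℳ 𝒩 π) (hker : ∀ y, π y = 0 → ∃ z, x • z = y)
    (hker' : ∀ z, π (x • z) = 0)
    (E : GrLC.StarInjRes 𝒜 ℳ) (F : GrLC.StarInjRes 𝒜 𝒩) (i : ℕ) :
    (∀ n c, c ∈ E.cocyc a (i + 1) → c ∈ (E.X (i + 1)).gr (n + -k) →
        x • c ∈ E.cobdy a (i + 1) → Vn F a i n → c ∈ E.cobdy a (i + 1)) ∧
    (∀ n, Vn E a i n → Vn E a (i + 1) (n + -k) → Vn F a i n) := by
  classical
  obtain ⟨f, hfdef⟩ : ∃ f : (shiftG 𝒜 ℳ (-k)).carrier →ₗ[R] M, ∀ v, f v = x • (v : M) :=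
    ⟨LinearMap.lsmul R M x, fun _ => rfl⟩
  obtain ⟨φ, hφdef⟩ : ∃ φ : ∀ n, ((shiftRes E (-k)).X n).carrier →ₗ[R] (E.X n).carrier,
      ∀ n v, φ n v = x • (v : (E.X n).carrier) :=
    ⟨fun n => LinearMap.lsmul R (E.X n).carrier x, fun _ _ => rfl⟩
  have hf : GrLC.IsGrHom (shiftG 𝒜 ℳ (-k)).gr ℳ f := by
    intro j v hv
    rw [hfdef]
    have h := gsmul_mem 𝒜 ℳ hxk (show (v : M) ∈ ℳ (j + -k) from hv)
    have e : k + (j + -k) = j := by ring
    rwa [e] at h
  have hφgr : ∀ n, GrLC.IsGrHom ((shiftRes E (-k)).X n).gr (E.X n).gr (φ n) := by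
    intro n j v hv
    rw [hφdef]
    have h := gsmul_mem 𝒜 (E.X n).gr hxk
      (show (v : (E.X n).carrier) ∈ (E.X n).gr (j + -k) from hv)
    have e : k + (j + -k) = j := by ring
    rwa [e] at h
  have hfinj : Function.Injective f := by
    intro u v huv
    rw [hfdef, hfdef] at huv
    exact hreg huv
  have hex : ∀ b', π b' = 0 → ∃ a', f a' = b' := by
    intro b' hb'
    obtain ⟨u, hu⟩ := hker b' hb'
    exact ⟨u, by rw [hfdef]; exact hu⟩
  have hgf : ∀ a', π (f a') = 0 := by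
    intro a'
    rw [hfdef]
    exact hker' _
  obtain ⟨ψ, hψdeg, hψ0, hψc⟩ := exists_lift E F 0 π
    (fun j z hz => by rw [add_zero]; exact hπg j z hz)
  have hψgr : ∀ n, GrLC.IsGrHom (E.X n).gr (F.X n).gr (ψ n) := by
    intro n j z hz
    have h := hψdeg n j z hz
    rwa [add_zero] at h
  obtain ⟨θ, hθgr, hθz, hθb, -, hCs, hAs⟩ := les_core (F := shiftRes E (-k)) (G := F) hf hπg
    hfinj hπ hex hgf a E φ hφgr
    (fun n v => by
      rw [hφdef, hφdef]
      exact (map_smul (E.d n) x v).symm)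
    (fun v => by
      rw [hφdef, hfdef]
      exact (map_smul E.ε x v).symm)
    ψ hψgr hψc hψ0
  constructor
  · intro n c hc hcn hxc hV
    obtain ⟨c', hc', hc'n, hcob⟩ := hAs i n c hc hcn (by rw [hφdef]; exact hxc)
    have h2 := hθb i c' (hV c' hc' hc'n)
    have h3 := add_mem hcob h2
    rw [sub_add_cancel] at h3
    exact h3
  · intro n hVE hVE1 c' hc' hc'n
    have h1 : θ i c' ∈ (shiftRes E (-k)).cobdy a (i + 1) :=
      hVE1 _ (hθz i c' hc') (hθgr i n c' hc'n)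
    obtain ⟨b, hb, hbn, hcob⟩ := hCs i n c' hc' hc'n h1
    have h2 := chain_cobdy E F a ψ hψc (hVE b hb hbn)
    have h3 := add_mem hcob h2
    rwa [sub_add_cancel] at h3

/-- **the end of graded local cohomology under the quotient by a homogeneous regular element**:
if `H^i_a(M) = 0` then `end H^i_a(M/xM) = end H^{i+1}_a(M) + deg x` -/
theorem endDeg_quot_regular (a : HomogeneousIdeal 𝒜) (x : R) (k : ℤ) (hk : 0 ≤ k)
    (hxk : x ∈ 𝒜 k) (hxa : x ∈ a.toIdeal)
    (hreg : IsSMulRegular M x) (π : M →ₗ[R] N) (hπ : Function.Surjective π)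
    (hπg : GrLC.IsGrHom ℳ 𝒩 π) (hker : ∀ y, π y = 0 → ∃ z, x • z = y)
    (hker' : ∀ z, π (x • z) = 0)
    (E : GrLC.StarInjRes 𝒜 ℳ) (F : GrLC.StarInjRes 𝒜 𝒩) (i : ℕ)
    (hvan : ∀ n, Vn E a i n) :
    GrLC.endDeg (F.Hgr a i) =
      GrLC.endDeg (E.Hgr a (i + 1)) + ((k : WithTop ℤ) : WithBot (WithTop ℤ)) := by
  classical
  obtain ⟨hA1, hA2⟩ := mulx_les a x k hxk hreg π hπ hπg hker hker' E F i
  apply le_antisymm
  · refine iSup₂_le (fun n hn => ?_)
    have h1 : ¬ Vn F a i n := (hgr_ne_bot_iff F a i n).1 hn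
    have h2 : ¬ Vn E a (i + 1) (n + -k) := fun h => h1 (hA2 n (hvan n) h)
    have h3 : E.Hgr a (i + 1) (n + -k) ≠ ⊥ := (hgr_ne_bot_iff E a (i + 1) (n + -k)).2 h2
    have h4 : (((n + -k : ℤ) : WithTop ℤ) : WithBot (WithTop ℤ)) ≤
        GrLC.endDeg (E.Hgr a (i + 1)) :=
      le_iSup₂ (f := fun (m : ℤ) (_ : E.Hgr a (i + 1) m ≠ ⊥) =>
        ((m : WithTop ℤ) : WithBot (WithTop ℤ))) (n + -k) h3
    have h5 := add_le_add h4 (le_refl ((k : WithTop ℤ) : WithBot (WithTop ℤ)))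
    rw [← WithBot.coe_add, ← WithTop.coe_add] at h5
    have e : n + -k + k = n := by ring
    rwa [e] at h5
  · have key : GrLC.endDeg (E.Hgr a (i + 1)) ≤
        GrLC.endDeg (F.Hgr a i) + (((-k : ℤ) : WithTop ℤ) : WithBot (WithTop ℤ)) := by
      refine iSup₂_le (fun j hj => ?_)
      have h1 : ¬ Vn E a (i + 1) j := (hgr_ne_bot_iff E a (i + 1) j).1 hj
      unfold Vn at h1
      push_neg at h1
      obtain ⟨c, hc, hcj, hcb⟩ := h1
      obtain ⟨N, hN⟩ : ∃ N : ℕ, ∀ r ∈ a.toIdeal ^ N, r • c = 0 := (Submodule.mem_inf.1 hc).1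
      have hex : ∃ N, x ^ N • c ∈ E.cobdy a (i + 1) :=
        ⟨N, by rw [hN _ (Ideal.pow_mem_pow hxa N)]; exact zero_mem _⟩
      obtain ⟨N₀, hN₀⟩ : ∃ N₀, N₀ = Nat.find hex := ⟨_, rfl⟩
      have hspec : x ^ N₀ • c ∈ E.cobdy a (i + 1) := by
        rw [hN₀]
        exact Nat.find_spec hex
      have hpos : 1 ≤ N₀ := by
        by_contra h
        have h0 : N₀ = 0 := by omega
        rw [h0, pow_zero, one_smul] at hspec
        exact hcb hspec
      obtain ⟨p, hp⟩ : ∃ p, N₀ = p + 1 := ⟨N₀ - 1, by omega⟩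
      have hmin : x ^ p • c ∉ E.cobdy a (i + 1) := by
        intro h
        have hlt : p < Nat.find hex := by
          rw [← hN₀]
          omega
        exact Nat.find_min hex hlt h
      have hc1 : x ^ p • c ∈ E.cocyc a (i + 1) := Submodule.smul_mem _ _ hc
      have hdeg : x ^ p • c ∈ (E.X (i + 1)).gr ((p : ℤ) * k + j) := by
        have hxp : x ^ p ∈ 𝒜 (p • k) := SetLike.pow_mem_graded p hxk
        have h := gsmul_mem 𝒜 (E.X (i + 1)).gr hxp hcj
        rwa [nsmul_eq_mul] at h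
      have hx1 : x • (x ^ p • c) ∈ E.cobdy a (i + 1) := by
        rw [smul_smul, ← pow_succ', ← hp]
        exact hspec
      obtain ⟨j', hj'⟩ : ∃ j' : ℤ, j' = (p : ℤ) * k + j := ⟨_, rfl⟩
      rw [← hj'] at hdeg
      have hV : ¬ Vn F a i (j' + k) := by
        intro hV
        apply hmin
        refine hA1 (j' + k) _ hc1 ?_ hx1 hV
        have e : j' + k + -k = j' := by ring
        rw [e]
        exact hdeg
      have h3 : F.Hgr a i (j' + k) ≠ ⊥ := (hgr_ne_bot_iff F a i (j' + k)).2 hV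
      have h4 : (((j' + k : ℤ) : WithTop ℤ) : WithBot (WithTop ℤ)) ≤
          GrLC.endDeg (F.Hgr a i) :=
        le_iSup₂ (f := fun (m : ℤ) (_ : F.Hgr a i m ≠ ⊥) =>
          ((m : WithTop ℤ) : WithBot (WithTop ℤ))) (j' + k) h3
      have h5 := add_le_add h4 (le_refl (((-k : ℤ) : WithTop ℤ) : WithBot (WithTop ℤ)))
      rw [← WithBot.coe_add, ← WithTop.coe_add] at h5
      have e : j' + k + -k = j' := by ring
      rw [e] at h5
      refine le_trans ?_ h5
      rw [WithBot.coe_le_coe, WithTop.coe_le_coe, hj']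
      have h6 : 0 ≤ (p : ℤ) * k := mul_nonneg (Int.natCast_nonneg p) hk
      omega
    have h6 := add_le_add key (le_refl ((k : WithTop ℤ) : WithBot (WithTop ℤ)))
    rw [add_assoc, ← WithBot.coe_add, ← WithTop.coe_add] at h6
    have e : -k + k = 0 := by ring
    rw [e, WithTop.coe_zero, WithBot.coe_zero, add_zero] at h6
    exact h6

end EndDeg

end Groth.Agent.H98.GrCat
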