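import Groth.Agent.H98.GrEnd

/-!
# Helper library (helper98): graded free modules of finite rank with prescribed basis degrees as
bundled graded modules, vanishing of their graded local cohomology from that of the ring,
vanishing for finite direct sums, and `H^0` of submodules.
-/

set_option autoImplicit false
universe u

open DirectSum

namespace Groth.Agent.H98.GrCat

section Sum

variable {ι : Type} [AddCommGroup ι] [DecidableEq ι]
variable {R : Type u} [CommRing R] {𝒜 : ι → AddSubgroup R} [GradedRing 𝒜]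

/-- vanishing for a finite direct sum -/
theorem hv_of_sum {A : GrLC.GMod.{u} 𝒜} {n : ℕ} (B : Fin n → GrLC.GMod.{u} 𝒜)
    (p : ∀ b, A.carrier →ₗ[R] (B b).carrier) (hp : ∀ b, GrLC.IsGrHom A.gr (B b).gr (p b))
    (q : ∀ b, (B b).carrier →ₗ[R] A.carrier) (hq : ∀ b, GrLC.IsGrHom (B b).gr A.gr (q b))
    (hsum : ∀ v, ∑ b, q b (p b v) = v) (a : HomogeneousIdeal 𝒜) (i : ℕ) (j : ι)
    (h : ∀ b, HV a (B b) i j) : HV a A i j := by
  intro E
  have hE : ∀ b, ∃ Eb : GrLC.StarInjRes 𝒜 (B b).gr, True := fun b => ⟨starInjRes 𝒜 _, trivial⟩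
  choose Eb _ using hE
  have hP : ∀ b, ∃ φ : ∀ k, (E.X k).carrier →ₗ[R] ((Eb b).X k).carrier,
      (∀ k, GrLC.IsGrHom (E.X k).gr ((Eb b).X k).gr (φ k)) ∧
      (∀ x, φ 0 (E.ε x) = (Eb b).ε (p b x)) ∧
      ∀ k x, φ (k + 1) (E.d k x) = (Eb b).d k (φ k x) := by
    intro b
    obtain ⟨φ, hφdeg, hφ0, hφc⟩ := exists_lift E (Eb b) 0 (p b)
      (fun k z hz => by rw [add_zero]; exact hp b k z hz)
    exact ⟨φ, fun k j' x hx => by
      have h1 := hφdeg k j' x hx
      rwa [add_zero] at h1, hφ0, hφc⟩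
  choose P hPgr hP0 hPc using hP
  have hQ : ∀ b, ∃ φ : ∀ k, ((Eb b).X k).carrier →ₗ[R] (E.X k).carrier,
      (∀ k, GrLC.IsGrHom ((Eb b).X k).gr (E.X k).gr (φ k)) ∧
      (∀ x, φ 0 ((Eb b).ε x) = E.ε (q b x)) ∧
      ∀ k x, φ (k + 1) ((Eb b).d k x) = E.d k (φ k x) := by
    intro b
    obtain ⟨φ, hφdeg, hφ0, hφc⟩ := exists_lift (Eb b) E 0 (q b)
      (fun k z hz => by rw [add_zero]; exact hq b k z hz)
    exact ⟨φ, fun k j' x hx => by
      have h1 := hφdeg k j' x hx
      rwa [add_zero] at h1, hφ0, hφc⟩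
  choose Q hQgr hQ0 hQc using hQ
  obtain ⟨w, hw⟩ : ∃ w : ∀ k, (E.X k).carrier →ₗ[R] (E.X k).carrier,
      ∀ k x, w k x = (∑ b, Q b k (P b k x)) - x :=
    ⟨fun k => (∑ b, (Q b k).comp (P b k)) - LinearMap.id, fun k x => by
      simp [LinearMap.sum_apply]⟩
  obtain ⟨s, hs0, hsn⟩ := exists_homotopy E E w
    (fun k j' x hx => by
      rw [hw]
      exact sub_mem (sum_mem (fun b _ => hQgr b k j' _ (hPgr b k j' x hx))) hx)
    (fun k x => by
      rw [hw, hw, map_sub, map_sum]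
      congr 1
      refine Finset.sum_congr rfl (fun b _ => ?_)
      rw [hPc, hQc])
    (fun x => by
      rw [hw]
      simp only [hP0, hQ0]
      rw [← map_sum, hsum, sub_self])
  intro c hc hcn
  have h1 := htpy_cobdy E E a w s hs0 hsn hc
  rw [hw] at h1
  have h2 : (∑ b, Q b i (P b i c)) ∈ E.cobdy a i := by
    refine Submodule.sum_mem _ (fun b _ => ?_)
    exact chain_cobdy (Eb b) E a (Q b) (hQc b)
      (h b (Eb b) _ (chain_cocyc E (Eb b) a (P b) (hPc b) hc) (hPgr b i j c hcn))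
  have h3 := sub_mem h2 h1
  rwa [sub_sub_cancel] at h3

/-- `H^0` of a graded submodule embeds in `H^0` of the ambient module -/
theorem hv_zero_of_injective {A B : GrLC.GMod.{u} 𝒜} (f : A.carrier →ₗ[R] B.carrier)
    (hf : GrLC.IsGrHom A.gr B.gr f) (hfinj : Function.Injective f) (a : HomogeneousIdeal 𝒜)
    (j : ι) (h : HV a B 0 j) : HV a A 0 j := by
  intro E
  obtain ⟨EB, -⟩ : ∃ EB : GrLC.StarInjRes 𝒜 B.gr, True := ⟨starInjRes 𝒜 _, trivial⟩
  obtain ⟨φ, hφdeg, hφ0, hφc⟩ := exists_lift E EB 0 f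
    (fun k z hz => by rw [add_zero]; exact hf k z hz)
  have hφgr : ∀ k, GrLC.IsGrHom (E.X k).gr (EB.X k).gr (φ k) := by
    intro k j' x hx
    have h1 := hφdeg k j' x hx
    rwa [add_zero] at h1
  intro c hc hcn
  have hcd : c ∈ LinearMap.ker (E.d 0) := (Submodule.mem_inf.1 hc).2
  rw [E.exact_zero] at hcd
  obtain ⟨y, rfl⟩ := hcd
  have h1 : φ 0 (E.ε y) ∈ EB.cobdy a 0 :=
    h EB _ (chain_cocyc E EB a φ hφc hc) (hφgr 0 j _ hcn)
  have h2 : φ 0 (E.ε y) = 0 := (Submodule.mem_bot R).1 h1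
  rw [hφ0] at h2
  have h3 : f y = 0 := EB.ε_injective (by rw [h2, map_zero])
  have h4 : y = 0 := hfinj (by rw [h3, map_zero])
  rw [h4, map_zero]
  exact zero_mem _

/-- `H^0` vanishes in the degrees where the module does -/
theorem vn_zero_of_piece_eq_bot {M : Type u} [AddCommGroup M] [Module R M] {ℳ : ι → AddSubgroup M}
    [DirectSum.Decomposition ℳ] [SetLike.GradedSMul 𝒜 ℳ] (E : GrLC.StarInjRes 𝒜 ℳ)
    (a : HomogeneousIdeal 𝒜) (j : ι) (h : ℳ j = ⊥) : Vn E a 0 j := by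
  classical
  intro c hc hcn
  have hcd : c ∈ LinearMap.ker (E.d 0) := (Submodule.mem_inf.1 hc).2
  rw [E.exact_zero] at hcd
  obtain ⟨y, rfl⟩ := hcd
  have hy : y ∈ ℳ j := by
    rw [← sum_support_decompose ℳ y]
    refine sum_mem (fun i _ => ?_)
    by_cases hij : i = j
    · subst hij
      exact SetLike.coe_mem _
    · have h2 := grHom_comp ℳ (E.X 0).gr E.ε_grHom y i
      rw [decompose_of_mem_ne (E.X 0).gr hcn (Ne.symm hij)] at h2
      have h3 : ((decompose ℳ y i : ℳ i) : M) = 0 :=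
        E.ε_injective (by rw [← h2, map_zero])
      rw [h3]
      exact zero_mem _
  rw [h] at hy
  rw [AddSubgroup.mem_bot.1 hy, map_zero]
  exact zero_mem _

end Sum

section Free

variable {R : Type u} [CommRing R] (𝒜 : ℤ → AddSubgroup R) [GradedRing 𝒜]

/-- the pieces of the graded free module with basis degrees `dg` -/
def ffGr {n : ℕ} (dg : Fin n → ℤ) (j : ℤ) : AddSubgroup (Fin n → R) where
  carrier := {v | ∀ b, v b ∈ 𝒜 (j - dg b)}
  zero_mem' := fun _ => zero_mem _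
  add_mem' := fun hv hw b => add_mem (hv b) (hw b)
  neg_mem' := fun hv b => neg_mem (hv b)

theorem mem_ffGr {n : ℕ} {dg : Fin n → ℤ} {j : ℤ} {v : Fin n → R} :
    v ∈ ffGr 𝒜 dg j ↔ ∀ b, v b ∈ 𝒜 (j - dg b) := Iff.rfl

/-- the component maps of the graded free module -/
def ffComp {n : ℕ} (dg : Fin n → ℤ) (j : ℤ) : (Fin n → R) →+ (Fin n → R) where
  toFun v := fun b => compHom 𝒜 (j - dg b) (v b)
  map_zero' := by
    funext b
    show compHom 𝒜 (j - dg b) ((0 : Fin n → R) b) = 0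
    rw [Pi.zero_apply, map_zero]
  map_add' v w := by
    funext b
    show compHom 𝒜 (j - dg b) ((v + w) b) = _
    rw [Pi.add_apply, map_add]
    rfl

open Classical in
/-- the decomposition of the graded free module -/
noncomputable def ffDec {n : ℕ} (dg : Fin n → ℤ) : DirectSum.Decomposition (ffGr 𝒜 dg) :=
  decompOfProj (ffGr 𝒜 dg) (ffComp 𝒜 dg)
    (fun v => Finset.univ.biUnion
      (fun b => (decompose 𝒜 (v b)).support.image (fun i => i + dg b)))
    (fun j v b => by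
      show compHom 𝒜 (j - dg b) (v b) ∈ _
      rw [compHom_apply]
      exact SetLike.coe_mem _)
    (fun v j hj => by
      funext b
      show compHom 𝒜 (j - dg b) (v b) = 0
      rw [compHom_apply]
      have h1 : j - dg b ∉ (decompose 𝒜 (v b)).support := fun h =>
        hj (Finset.mem_biUnion.2 ⟨b, Finset.mem_univ _,
          Finset.mem_image.2 ⟨j - dg b, h, by ring⟩⟩)
      rw [DFinsupp.notMem_support_iff.1 h1]
      rfl)
    (fun v => by
      funext b
      rw [Finset.sum_apply]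
      show ∑ j ∈ _, compHom 𝒜 (j - dg b) (v b) = v b
      have hT : (decompose 𝒜 (v b)).support.image (fun i => i + dg b) ⊆
          Finset.univ.biUnion
            (fun b => (decompose 𝒜 (v b)).support.image (fun i => i + dg b)) := by
        intro x hx
        exact Finset.mem_biUnion.2 ⟨b, Finset.mem_univ _, hx⟩
      rw [← Finset.sum_subset hT (fun x _ hx => by
        rw [compHom_apply]
        have h1 : x - dg b ∉ (decompose 𝒜 (v b)).support := fun h =>
          hx (Finset.mem_image.2 ⟨x - dg b, h, by ring⟩)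
        rw [DFinsupp.notMem_support_iff.1 h1]
        rfl)]
      rw [Finset.sum_image (fun x _ y _ hxy => add_right_cancel hxy)]
      have h2 : ∀ i, compHom 𝒜 (i + dg b - dg b) (v b) = ((decompose 𝒜 (v b) i : 𝒜 i) : R) := by
        intro i
        rw [add_sub_cancel_right, compHom_apply]
      simp only [h2]
      exact sum_support_decompose 𝒜 (v b))
    (fun j v hv => by
      funext b
      show compHom 𝒜 (j - dg b) (v b) = v b
      rw [compHom_apply]
      exact decompose_of_mem_same 𝒜 (hv b))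
    (fun i j v hij hv => by
      funext b
      show compHom 𝒜 (i - dg b) (v b) = 0
      rw [compHom_apply]
      exact decompose_of_mem_ne 𝒜 (hv b) (fun h => hij (by omega)))

theorem ffGSMul {n : ℕ} (dg : Fin n → ℤ) : SetLike.GradedSMul 𝒜 (ffGr 𝒜 dg) where
  smul_mem := by
    intro i j r v hr hv
    rw [vadd_eq_add]
    intro b
    show r * v b ∈ 𝒜 (i + j - dg b)
    have h := SetLike.GradedMul.mul_mem hr (hv b)
    have e : i + (j - dg b) = i + j - dg b := by ring
    rwa [e] at h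

/-- the graded free module with basis degrees `dg` -/
noncomputable def ffG {n : ℕ} (dg : Fin n → ℤ) : GrLC.GMod.{u} 𝒜 :=
  { carrier := Fin n → R
    gr := ffGr 𝒜 dg
    dec := ffDec 𝒜 dg
    gsmul := ffGSMul 𝒜 dg }

/-- the graded local cohomology of a graded free module vanishes where that of the shifted copies
of the ring does -/
theorem hv_free {n : ℕ} (dg : Fin n → ℤ) (a : HomogeneousIdeal 𝒜) (i : ℕ) (j : ℤ)
    (h : ∀ b, HV a (GrLC.GMod.of 𝒜 R 𝒜) i (j - dg b)) : HV a (ffG 𝒜 dg) i j := by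
  obtain ⟨p, hp⟩ : ∃ p : ∀ b, (ffG 𝒜 dg).carrier →ₗ[R] (shiftG 𝒜 𝒜 (-dg b)).carrier,
      ∀ b v, p b v = (v : Fin n → R) b :=
    ⟨fun b => LinearMap.proj b, fun _ _ => rfl⟩
  obtain ⟨q, hq⟩ : ∃ q : ∀ b, (shiftG 𝒜 𝒜 (-dg b)).carrier →ₗ[R] (ffG 𝒜 dg).carrier,
      ∀ b x, q b x = (Pi.single b (x : R) : Fin n → R) :=
    ⟨fun b => LinearMap.single R (fun _ => R) b, fun _ _ => rfl⟩
  refine hv_of_sum (fun b => shiftG 𝒜 𝒜 (-dg b)) p ?_ q ?_ ?_ a i j ?_
  · intro b j' v hv
    rw [hp]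
    show (v : Fin n → R) b ∈ 𝒜 (j' + -dg b)
    rw [← sub_eq_add_neg]
    exact hv b
  · intro b j' x hx
    rw [hq]
    intro b'
    by_cases hb : b' = b
    · subst hb
      rw [Pi.single_eq_same, sub_eq_add_neg]
      exact hx
    · rw [Pi.single_eq_of_ne hb]
      exact zero_mem _
  · intro v
    simp only [hp, hq]
    exact Finset.univ_sum_single (v : Fin n → R)
  · intro b
    refine hv_shift a (GrLC.GMod.of 𝒜 R 𝒜) i j (-dg b) ?_
    rw [← sub_eq_add_neg]
    exact h b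

variable {𝒜}

theorem mulVecLin_isGrHom {m n : ℕ} (dgm : Fin m → ℤ) (dgn : Fin n → ℤ)
    (D : Matrix (Fin m) (Fin n) R) (hD : ∀ a b, D a b ∈ 𝒜 (dgn b - dgm a)) :
    GrLC.IsGrHom (ffGr 𝒜 dgn) (ffGr 𝒜 dgm) (Matrix.mulVecLin D) := by
  intro j v hv a
  show (Matrix.mulVecLin D v) a ∈ 𝒜 (j - dgm a)
  simp only [Matrix.mulVecLin_apply, Matrix.mulVec, dotProduct]
  refine sum_mem (fun b _ => ?_)
  have h := SetLike.GradedMul.mul_mem (hD a b) (hv b)
  have e : dgn b - dgm a + (j - dgn b) = j - dgm a := by ring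
  rwa [e] at h

theorem linearCombination_isGrHom {M : Type u} [AddCommGroup M] [Module R M]
    {ℳ : ℤ → AddSubgroup M} [SetLike.GradedSMul 𝒜 ℳ] {n : ℕ} (dg : Fin n → ℤ) (aug : Fin n → M)
    (haug : ∀ b, aug b ∈ ℳ (dg b)) :
    GrLC.IsGrHom (ffGr 𝒜 dg) ℳ (Fintype.linearCombination R aug) := by
  intro j v hv
  rw [Fintype.linearCombination_apply]
  refine sum_mem (fun b _ => ?_)
  have h := gsmul_mem 𝒜 ℳ (hv b) (haug b)
  have e : j - dg b + dg b = j := by ring
  rwa [e] at h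

end Free

end Groth.Agent.H98.GrCat
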