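import Groth.Agent.H98.GrHt
import Groth.Agent.H98.GrHV

/-!
# Helper library (helper98): for a positively graded Noetherian *local ring `(R, m)` with `R_0`
Artinian, `m` and the irrelevant ideal `R_+` have the same radical, hence the same torsion functor
and the same graded local cohomology (in cocycle form).
-/

set_option autoImplicit false
universe u

open DirectSum

namespace Groth.Agent.H98.GrHt

open Groth.Agent.H98.GrCat

section Gam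

variable {R : Type u} [CommRing R]

theorem gam_le_of_le_radical [IsNoetherianRing R] (a b : Ideal R) (hba : b ≤ a.radical)
    (X : Type u) [AddCommGroup X] [Module R X] : GrLC.gam a X ≤ GrLC.gam b X := by
  obtain ⟨k, hk⟩ := Ideal.exists_pow_le_of_le_radical_of_fg hba (IsNoetherian.noetherian b)
  rintro x ⟨n, hn⟩
  refine ⟨k * n, fun r hr => hn r ?_⟩
  rw [pow_mul] at hr
  exact Ideal.pow_right_mono hk n hr

theorem gam_eq_of_radical [IsNoetherianRing R] (a b : Ideal R) (hab : a ≤ b.radical)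
    (hba : b ≤ a.radical) (X : Type u) [AddCommGroup X] [Module R X] :
    GrLC.gam a X = GrLC.gam b X :=
  le_antisymm (gam_le_of_le_radical a b hba X) (gam_le_of_le_radical b a hab X)

end Gam

section Transfer

variable {ι : Type} [AddCommGroup ι] [DecidableEq ι]
variable {R : Type u} [CommRing R] {𝒜 : ι → AddSubgroup R} [GradedRing 𝒜]
variable {M : Type u} [AddCommGroup M] [Module R M] {ℳ : ι → AddSubgroup M}
  [DirectSum.Decomposition ℳ] [SetLike.GradedSMul 𝒜 ℳ]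

theorem cocyc_congr (E : GrLC.StarInjRes 𝒜 ℳ) (a b : HomogeneousIdeal 𝒜)
    (h : ∀ (X : Type u) [AddCommGroup X] [Module R X],
      GrLC.gam a.toIdeal X = GrLC.gam b.toIdeal X) (i : ℕ) : E.cocyc a i = E.cocyc b i := by
  unfold GrLC.StarInjRes.cocyc
  rw [h]

theorem cobdy_congr (E : GrLC.StarInjRes 𝒜 ℳ) (a b : HomogeneousIdeal 𝒜)
    (h : ∀ (X : Type u) [AddCommGroup X] [Module R X],
      GrLC.gam a.toIdeal X = GrLC.gam b.toIdeal X) (i : ℕ) : E.cobdy a i = E.cobdy b i := by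
  cases i with
  | zero => rfl
  | succ n =>
    show (GrLC.gam a.toIdeal (E.X n).carrier).map (E.d n) =
      (GrLC.gam b.toIdeal (E.X n).carrier).map (E.d n)
    rw [h]

theorem vn_congr_ideal (E : GrLC.StarInjRes 𝒜 ℳ) (a b : HomogeneousIdeal 𝒜)
    (h : ∀ (X : Type u) [AddCommGroup X] [Module R X],
      GrLC.gam a.toIdeal X = GrLC.gam b.toIdeal X) (i : ℕ) (n : ι) (hV : Vn E a i n) :
    Vn E b i n := by
  intro c hc hcn
  rw [← cocyc_congr E a b h i] at hc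
  rw [← cobdy_congr E a b h i]
  exact hV c hc hcn

end Transfer

section Irr

variable {R : Type u} [CommRing R] (𝒜 : ℤ → AddSubgroup R) [GradedRing 𝒜]

/-- the irrelevant ideal, as a homogeneous ideal -/
def irr : HomogeneousIdeal 𝒜 :=
  ⟨Ideal.span (⋃ n ∈ Set.Ioi (0 : ℤ), (𝒜 n : Set R)),
    Ideal.homogeneous_span 𝒜 _ (fun _ hr => by
      obtain ⟨n, -, hr'⟩ := Set.mem_iUnion₂.1 hr
      exact ⟨n, hr'⟩)⟩

theorem irr_toIdeal : (irr 𝒜).toIdeal = Ideal.span (⋃ n ∈ Set.Ioi (0 : ℤ), (𝒜 n : Set R)) := rfl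

theorem irr_le (hpos : ∀ n : ℤ, n < 0 → 𝒜 n = ⊥) (m : HomogeneousIdeal 𝒜) (hm : IsCoatom m) :
    (irr 𝒜).toIdeal ≤ m.toIdeal := by
  rw [irr_toIdeal, Ideal.span_le]
  intro y hy
  obtain ⟨n, hn, hy'⟩ := Set.mem_iUnion₂.1 hy
  exact mem_of_pos_degree 𝒜 hpos m hm (Set.mem_Ioi.1 hn) hy'

theorem cp_mul_zero (hpos : ∀ n : ℤ, n < 0 → 𝒜 n = ⊥) (r x : R) :
    cp 𝒜 (r * x) 0 = cp 𝒜 r 0 * cp 𝒜 x 0 := by
  classical
  have hneg : ∀ (z : R) (i : ℤ), i < 0 → cp 𝒜 z i = 0 := by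
    intro z i hi
    have h2 := cp_mem 𝒜 z i
    rw [hpos i hi] at h2
    exact AddSubgroup.mem_bot.1 h2
  rw [cp_mul]
  rw [Finset.sum_eq_single (0 : ℤ)]
  · rw [sub_zero]
  · intro i _ hi
    rcases lt_or_gt_of_ne hi with h | h
    · rw [hneg r i h, zero_mul]
    · rw [hneg x (0 - i) (by omega), mul_zero]
  · intro h0
    rw [DFinsupp.notMem_support_iff] at h0
    have h1 : cp 𝒜 r 0 = 0 := by
      unfold cp
      rw [h0, ZeroMemClass.coe_zero]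
    rw [h1, zero_mul]

/-- elements of degree `0` of the *maximal ideal are nilpotent when `R_0` is Artinian -/
theorem isNilpotent_of_mem_deg_zero [IsNoetherianRing R] [IsArtinianRing (GrLC.deg0 𝒜)]
    (hpos : ∀ n : ℤ, n < 0 → 𝒜 n = ⊥) (m : HomogeneousIdeal 𝒜) (hm : GrLC.IsStarLocal 𝒜 m)
    {y : R} (hym : y ∈ m.toIdeal) (hy0 : y ∈ 𝒜 0) : IsNilpotent y := by
  classical
  by_contra hnil
  obtain ⟨y0, hy0def⟩ : ∃ y0 : GrLC.deg0 𝒜, (y0 : R) = y := ⟨⟨y, hy0⟩, rfl⟩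
  have hnil0 : ¬ IsNilpotent y0 := by
    rintro ⟨n, hn⟩
    apply hnil
    refine ⟨n, ?_⟩
    rw [← hy0def, ← Subring.coe_pow, hn]
    rfl
  rw [← mem_nilradical, nilradical_eq_sInf, Ideal.mem_sInf] at hnil0
  push_neg at hnil0
  obtain ⟨𝔮, h𝔮p, hy𝔮⟩ := hnil0
  haveI : 𝔮.IsPrime := h𝔮p
  have h𝔮max : 𝔮.IsMaximal := inferInstance
  obtain ⟨u, q, hq, huq⟩ := h𝔮max.exists_inv hy𝔮
  -- the homogeneous ideal `𝔮 R + R_+`
  obtain ⟨S, hS⟩ : ∃ S : Set R, S = ((fun z : GrLC.deg0 𝒜 => (z : R)) '' (𝔮 : Set (GrLC.deg0 𝒜))) ∪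
      (⋃ n ∈ Set.Ioi (0 : ℤ), (𝒜 n : Set R)) := ⟨_, rfl⟩
  have hJhom : (Ideal.span S).IsHomogeneous 𝒜 := by
    refine Ideal.homogeneous_span 𝒜 _ (fun z hz => ?_)
    rw [hS] at hz
    rcases hz with ⟨z0, -, rfl⟩ | hz
    · exact ⟨0, z0.2⟩
    · obtain ⟨n, -, hz'⟩ := Set.mem_iUnion₂.1 hz
      exact ⟨n, hz'⟩
  have hJ0 : ∀ r ∈ Ideal.span S, ∃ q' ∈ 𝔮, ((q' : GrLC.deg0 𝒜) : R) = cp 𝒜 r 0 := by
    intro r hr
    refine Submodule.span_induction (p := fun r _ => ∃ q' ∈ 𝔮,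
      ((q' : GrLC.deg0 𝒜) : R) = cp 𝒜 r 0) ?_ ?_ ?_ ?_ hr
    · intro z hz
      rw [hS] at hz
      rcases hz with ⟨z0, hz0, rfl⟩ | hz
      · refine ⟨z0, hz0, ?_⟩
        rw [cp_of_mem 𝒜 (show (z0 : R) ∈ 𝒜 0 from z0.2), if_pos rfl]
      · obtain ⟨n, hn, hz'⟩ := Set.mem_iUnion₂.1 hz
        refine ⟨0, 𝔮.zero_mem, ?_⟩
        rw [cp_of_mem 𝒜 hz', if_neg (by
          have := Set.mem_Ioi.1 hn
          omega)]
        rfl
    · exact ⟨0, 𝔮.zero_mem, by rw [cp_zero]; rfl⟩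
    · rintro z w _ _ ⟨q1, hq1, h1⟩ ⟨q2, hq2, h2⟩
      exact ⟨q1 + q2, 𝔮.add_mem hq1 hq2, by rw [cp_add, ← h1, ← h2]; rfl⟩
    · rintro c z _ ⟨q1, hq1, h1⟩
      refine ⟨⟨cp 𝒜 c 0, cp_mem 𝒜 c 0⟩ * q1, 𝔮.mul_mem_left _ hq1, ?_⟩
      rw [smul_eq_mul, cp_mul_zero 𝒜 hpos, ← h1]
      rfl
  obtain ⟨J, hJ⟩ : ∃ J : HomogeneousIdeal 𝒜, J.toIdeal = Ideal.span S :=
    ⟨⟨Ideal.span S, hJhom⟩, rfl⟩
  have hJne : J ≠ ⊤ := by
    intro htop
    have h1 : (1 : R) ∈ Ideal.span S := by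
      rw [← hJ, htop, HomogeneousIdeal.toIdeal_top]
      exact Submodule.mem_top
    obtain ⟨q', hq', hq'1⟩ := hJ0 1 h1
    rw [cp_of_mem 𝒜 (SetLike.GradedOne.one_mem (A := 𝒜)), if_pos rfl] at hq'1
    have h4 : q' = 1 := Subtype.ext hq'1
    rw [h4] at hq'
    exact h𝔮p.ne_top ((Ideal.eq_top_iff_one _).2 hq')
  have hJle := le_of_isStarLocal 𝒜 m hm J hJne
  have hqm : (q : R) ∈ m.toIdeal := by
    apply hJle
    show (q : R) ∈ J.toIdeal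
    rw [hJ]
    refine Ideal.subset_span ?_
    rw [hS]
    exact Or.inl ⟨q, hq, rfl⟩
  have h1 : (1 : R) ∈ m.toIdeal := by
    have h2 : ((u * y0 + q : GrLC.deg0 𝒜) : R) = 1 := by rw [huq]; rfl
    rw [Subring.coe_add, Subring.coe_mul, hy0def] at h2
    rw [← h2]
    exact m.toIdeal.add_mem (m.toIdeal.mul_mem_left _ hym) hqm
  apply hm.1.1
  rw [HomogeneousIdeal.eq_top_iff]
  exact (Ideal.eq_top_iff_one _).2 h1

theorem le_radical_irr [IsNoetherianRing R] [IsArtinianRing (GrLC.deg0 𝒜)]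
    (hpos : ∀ n : ℤ, n < 0 → 𝒜 n = ⊥) (m : HomogeneousIdeal 𝒜) (hm : GrLC.IsStarLocal 𝒜 m) :
    m.toIdeal ≤ (irr 𝒜).toIdeal.radical := by
  classical
  intro y hy
  rw [← DirectSum.sum_support_decompose 𝒜 y]
  refine Ideal.sum_mem _ (fun i _ => ?_)
  show cp 𝒜 y i ∈ _
  rcases lt_trichotomy i 0 with h | h | h
  · have h2 := cp_mem 𝒜 y i
    rw [hpos i h] at h2
    rw [AddSubgroup.mem_bot.1 h2]
    exact zero_mem _
  · rw [h]
    obtain ⟨n, hn⟩ : IsNilpotent (cp 𝒜 y 0) :=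
      isNilpotent_of_mem_deg_zero 𝒜 hpos m hm (m.isHomogeneous 0 hy) (cp_mem 𝒜 y 0)
    refine Ideal.mem_radical_iff.2 ⟨n, ?_⟩
    rw [hn]
    exact zero_mem _
  · refine Ideal.le_radical ?_
    rw [irr_toIdeal]
    exact Ideal.subset_span (Set.mem_biUnion (Set.mem_Ioi.2 h) (cp_mem 𝒜 y i))

/-- graded local cohomology with support in `m` and in `R_+` agree (in cocycle form) -/
theorem vn_irr_iff [IsNoetherianRing R] [IsArtinianRing (GrLC.deg0 𝒜)]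
    (hpos : ∀ n : ℤ, n < 0 → 𝒜 n = ⊥) (m : HomogeneousIdeal 𝒜) (hm : GrLC.IsStarLocal 𝒜 m)
    {M : Type u} [AddCommGroup M] [Module R M] {ℳ : ℤ → AddSubgroup M}
    [DirectSum.Decomposition ℳ] [SetLike.GradedSMul 𝒜 ℳ] (E : GrLC.StarInjRes 𝒜 ℳ)
    (i : ℕ) (n : ℤ) : Vn E m i n ↔ Vn E (irr 𝒜) i n := by
  have h : ∀ (X : Type u) [AddCommGroup X] [Module R X],
      GrLC.gam m.toIdeal X = GrLC.gam (irr 𝒜).toIdeal X := by
    intro X _ _
    exact gam_eq_of_radical _ _ (le_radical_irr 𝒜 hpos m hm)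
      ((irr_le 𝒜 hpos m hm.1).trans Ideal.le_radical) X
  exact ⟨vn_congr_ideal E m (irr 𝒜) h i n,
    vn_congr_ideal E (irr 𝒜) m (fun X _ _ => (h X).symm) i n⟩

end Irr

end Groth.Agent.H98.GrHt
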