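import Groth.Agent.H98.GrEuler
import Groth.Agent.H98.GrRad
import Groth.Agent.H98.GrCMv
import Groth.Agent.H98.GrQuotG
import Groth.Agent.H17.HS.PolyInt

/-!
# Helper library (helper98): Serre's formula — the difference between the Hilbert function and the
Hilbert polynomial of a finitely generated graded module over a standard graded ring with
Artinian degree-zero part is the Euler characteristic of the pieces of graded local cohomology.
-/

set_option autoImplicit false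
universe u

open DirectSum Polynomial

namespace Groth.Agent.H98.GrCat

open Groth.Agent.H98.GrHt

section Hilb

variable {ι : Type} [AddCommGroup ι] [DecidableEq ι]
variable {R : Type u} [CommRing R] {𝒜 : ι → AddSubgroup R} [GradedRing 𝒜]

/-- additivity of the Hilbert function along a short exact sequence -/
theorem hilb_additive {A B C : GrLC.GMod.{u} 𝒜} (f : A.carrier →ₗ[R] B.carrier)
    (g : B.carrier →ₗ[R] C.carrier)
    (hf : GrLC.IsGrHom A.gr B.gr f) (hg : GrLC.IsGrHom B.gr C.gr g)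
    (hfinj : Function.Injective f) (hgsurj : Function.Surjective g)
    (hex : ∀ b, g b = 0 → ∃ a', f a' = b) (hgf : ∀ a', g (f a') = 0) (n : ι)
    (hB : IsFiniteLength (GrLC.deg0 𝒜) (GrLC.comp 𝒜 B.gr n)) :
    len (GrLC.deg0 𝒜) (GrLC.comp 𝒜 B.gr n) =
      len (GrLC.deg0 𝒜) (GrLC.comp 𝒜 A.gr n) + len (GrLC.deg0 𝒜) (GrLC.comp 𝒜 C.gr n) := by
  obtain ⟨fn, hfn⟩ : ∃ fn : GrLC.comp 𝒜 A.gr n →ₗ[GrLC.deg0 𝒜] GrLC.comp 𝒜 B.gr n,
      ∀ x, ((fn x : GrLC.comp 𝒜 B.gr n) : B.carrier) = f (x : A.carrier) :=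
    ⟨(f.restrictScalars (GrLC.deg0 𝒜)).restrict (fun x hx => hf n x hx), fun _ => rfl⟩
  obtain ⟨gn, hgn⟩ : ∃ gn : GrLC.comp 𝒜 B.gr n →ₗ[GrLC.deg0 𝒜] GrLC.comp 𝒜 C.gr n,
      ∀ x, ((gn x : GrLC.comp 𝒜 C.gr n) : C.carrier) = g (x : B.carrier) :=
    ⟨(g.restrictScalars (GrLC.deg0 𝒜)).restrict (fun x hx => hg n x hx), fun _ => rfl⟩
  refine len_add_of_exact fn gn ?_ ?_ ?_ hB
  · intro x y hxy
    apply Subtype.ext
    apply hfinj
    rw [← hfn, ← hfn, hxy]
  · intro c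
    obtain ⟨b₀, hb₀⟩ := hgsurj (c : C.carrier)
    have hc : (c : C.carrier) ∈ C.gr n := c.2
    refine ⟨⟨((decompose B.gr b₀ n : B.gr n) : B.carrier), SetLike.coe_mem _⟩, Subtype.ext ?_⟩
    rw [hgn]
    show g ((decompose B.gr b₀ n : B.gr n) : B.carrier) = (c : C.carrier)
    rw [← grHom_comp B.gr C.gr hg b₀ n, hb₀, decompose_of_mem_same C.gr hc]
  · intro b
    constructor
    · intro hb
      have hb0 : g (b : B.carrier) = 0 := by
        rw [← hgn, hb]
        rfl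
      obtain ⟨x, hx⟩ := hex _ hb0
      have hbn : (b : B.carrier) ∈ B.gr n := b.2
      refine ⟨⟨((decompose A.gr x n : A.gr n) : A.carrier), SetLike.coe_mem _⟩, Subtype.ext ?_⟩
      rw [hfn]
      show f ((decompose A.gr x n : A.gr n) : A.carrier) = (b : B.carrier)
      rw [← grHom_comp A.gr B.gr hf x n, hx, decompose_of_mem_same B.gr hbn]
    · rintro ⟨x, rfl⟩
      apply Subtype.ext
      rw [hgn, hfn, hgf]
      rfl

variable {M : Type u} [AddCommGroup M] [Module R M] {ℳ : ι → AddSubgroup M}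
  [DirectSum.Decomposition ℳ] [SetLike.GradedSMul 𝒜 ℳ]

/-- the pieces of graded local cohomology only depend on the torsion functor of the ideal -/
theorem len_Hcomp_congr (E : GrLC.StarInjRes 𝒜 ℳ) (a b : HomogeneousIdeal 𝒜)
    (h : ∀ (X : Type u) [AddCommGroup X] [Module R X],
      GrLC.gam a.toIdeal X = GrLC.gam b.toIdeal X) (i : ℕ) (n : ι) :
    len (GrLC.deg0 𝒜) (E.Hcomp a i n) = len (GrLC.deg0 𝒜) (E.Hcomp b i n) := by
  have hZ : E.cocyc a i = E.cocyc b i := cocyc_congr E a b h i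
  have hB : E.cobdy a i = E.cobdy b i := cobdy_congr E a b h i
  obtain ⟨u, hu⟩ : ∃ u : E.H a i →ₗ[R] E.H b i, ∀ z : E.cocyc a i,
      u (E.toH a i z) = E.toH b i ⟨z, hZ ▸ z.2⟩ :=
    ⟨Submodule.mapQ _ _ (Submodule.inclusion hZ.le) (fun z hz => by
      show ((Submodule.inclusion hZ.le z : E.cocyc b i) : (E.X i).carrier) ∈ E.cobdy b i
      rw [← hB]
      exact hz), fun _ => rfl⟩
  obtain ⟨f, hf⟩ : ∃ f : E.Hcomp a i n →ₗ[GrLC.deg0 𝒜] E.Hcomp b i n,
      ∀ y, ((f y : E.Hcomp b i n) : E.H b i) = u (y : E.H a i) :=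
    ⟨(u.restrictScalars (GrLC.deg0 𝒜)).restrict (fun y hy => by
      obtain ⟨z, hzn, hzy⟩ := hy
      exact ⟨⟨z, hZ ▸ z.2⟩, hzn, by rw [← hzy]; exact (hu z).symm⟩), fun _ => rfl⟩
  have hinj : Function.Injective f := by
    rw [← LinearMap.ker_eq_bot, LinearMap.ker_eq_bot']
    intro y hy
    obtain ⟨z, hzn, hzy⟩ := y.2
    have h0 : u (y : E.H a i) = 0 := by
      rw [← hf, hy]
      rfl
    rw [← hzy, hu] at h0
    have h1 : (⟨z, hZ ▸ z.2⟩ : E.cocyc b i) ∈ (E.cobdy b i).comap (E.cocyc b i).subtype :=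
      (Submodule.Quotient.mk_eq_zero _).1 h0
    have h2 : (z : (E.X i).carrier) ∈ E.cobdy b i := h1
    rw [← hB] at h2
    apply Subtype.ext
    rw [← hzy]
    exact (Submodule.Quotient.mk_eq_zero _).2 h2
  have hsurj : Function.Surjective f := by
    intro y
    obtain ⟨z, hzn, hzy⟩ := y.2
    refine ⟨⟨E.toH a i ⟨z, hZ.symm ▸ z.2⟩, ⟨⟨z, hZ.symm ▸ z.2⟩, hzn, rfl⟩⟩, Subtype.ext ?_⟩
    rw [hf, ← hzy]
    exact hu _
  unfold len
  rw [(LinearEquiv.ofBijective f ⟨hinj, hsurj⟩).length_eq]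

/-- the zeroth graded local cohomology of a module killed by the ideal -/
theorem len_H0_of_torsion (a : HomogeneousIdeal 𝒜) (E : GrLC.StarInjRes 𝒜 ℳ)
    (htor : ∀ z : M, ∀ r ∈ a.toIdeal, r • z = 0) (n : ι) :
    len (GrLC.deg0 𝒜) (E.Hcomp a 0 n) = len (GrLC.deg0 𝒜) (GrLC.comp 𝒜 ℳ n) := by
  have hcoc : ∀ z : M, E.ε z ∈ E.cocyc a 0 := by
    intro z
    refine ⟨⟨1, fun r hr => ?_⟩, LinearMap.mem_ker.2 (StarInjRes_d_ε E z)⟩
    rw [pow_one] at hr
    rw [← map_smul, htor z r hr, map_zero]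
  obtain ⟨ε', hε'⟩ : ∃ ε' : M →ₗ[R] E.cocyc a 0, ∀ z, ((ε' z : E.cocyc a 0) : (E.X 0).carrier) =
      E.ε z := ⟨LinearMap.codRestrict (E.cocyc a 0) E.ε hcoc, fun _ => rfl⟩
  obtain ⟨f, hf⟩ : ∃ f : GrLC.comp 𝒜 ℳ n →ₗ[GrLC.deg0 𝒜] E.Hcomp a 0 n,
      ∀ z, ((f z : E.Hcomp a 0 n) : E.H a 0) = E.toH a 0 (ε' (z : M)) :=
    ⟨((((E.toH a 0).comp ε').restrictScalars (GrLC.deg0 𝒜)).domRestrict
      (GrLC.comp 𝒜 ℳ n)).codRestrict (E.Hcomp a 0 n) (fun z => ⟨ε' (z : M), by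
        rw [hε']
        exact E.ε_grHom n _ z.2, rfl⟩), fun _ => rfl⟩
  have hinj : Function.Injective f := by
    rw [← LinearMap.ker_eq_bot, LinearMap.ker_eq_bot']
    intro z hz
    have h0 : E.toH a 0 (ε' (z : M)) = 0 := by
      rw [← hf, hz]
      rfl
    have h1 : (ε' (z : M)) ∈ (E.cobdy a 0).comap (E.cocyc a 0).subtype :=
      (Submodule.Quotient.mk_eq_zero _).1 h0
    have h2 : E.ε (z : M) = 0 := by
      rw [← hε']
      exact h1
    apply Subtype.ext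
    exact E.ε_injective (h2.trans (map_zero E.ε).symm)
  have hsurj : Function.Surjective f := by
    intro y
    obtain ⟨c, hcn, hcy⟩ := y.2
    have h1 : (c : (E.X 0).carrier) ∈ LinearMap.range E.ε := by
      rw [← E.exact_zero]
      exact c.2.2
    obtain ⟨z, hz⟩ := h1
    have hzn : z ∈ ℳ n := by
      have h2 : E.ε ((decompose ℳ z n : ℳ n) : M) = E.ε z := by
        rw [← grHom_comp ℳ (E.X 0).gr E.ε_grHom z n, hz, decompose_of_mem_same _ hcn]
      rw [← E.ε_injective h2]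
      exact SetLike.coe_mem _
    refine ⟨⟨z, hzn⟩, Subtype.ext ?_⟩
    rw [hf, ← hcy]
    congr 1
    apply Subtype.ext
    rw [hε', hz]
  unfold len
  rw [(LinearEquiv.ofBijective f ⟨hinj, hsurj⟩).length_eq]

/-- shifting: the pieces of graded local cohomology of the shifted resolution -/
theorem len_Hcomp_shift (E : GrLC.StarInjRes 𝒜 ℳ) (a : HomogeneousIdeal 𝒜) (g : ι) (i : ℕ)
    (n : ι) : len (GrLC.deg0 𝒜) ((shiftRes E g).Hcomp a i n) =
      len (GrLC.deg0 𝒜) (E.Hcomp a i (n + g)) := by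
  cases i with
  | zero => rfl
  | succ i => rfl

theorem len_comp_shift (g n : ι) : len (GrLC.deg0 𝒜) (GrLC.comp 𝒜 (shiftG 𝒜 ℳ g).gr n) =
    len (GrLC.deg0 𝒜) (GrLC.comp 𝒜 ℳ (n + g)) := rfl

end Hilb

/-- discrete integration over the integers -/
theorem poly_of_backDiff (f : ℤ → ℚ) (q : ℚ[X])
    (h : ∀ n : ℤ, f n - f (n - 1) = q.eval (n : ℚ)) :
    ∃ Q : ℚ[X], ∀ n : ℤ, f n = Q.eval (n : ℚ) := by
  obtain ⟨P, -, hP⟩ := Groth.Agent.H17.HS.exists_fwdDiff_eq ((q.comp (X + 1)).natDegree + 1)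
    (q.comp (X + 1)) (fun m hm => Polynomial.coeff_eq_zero_of_natDegree_lt (by omega))
  have hPn : ∀ n : ℤ, P.eval ((n : ℚ) + 1) - P.eval (n : ℚ) = q.eval ((n : ℚ) + 1) := by
    intro n
    have := congrArg (Polynomial.eval (n : ℚ)) hP
    simpa [Polynomial.eval_comp] using this
  have hstep : ∀ n : ℤ, f (n + 1) - P.eval (((n + 1 : ℤ) : ℚ)) = f n - P.eval (n : ℚ) := by
    intro n
    have h1 := h (n + 1)
    rw [add_sub_cancel_right] at h1
    have h2 := hPn n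
    push_cast at h1 ⊢
    linarith
  have hconst : ∀ n : ℤ, f n - P.eval (n : ℚ) = f 0 - P.eval ((0 : ℤ) : ℚ) := by
    intro n
    induction n using Int.induction_on with
    | zero => rfl
    | succ k ih => rw [hstep, ih]
    | pred k ih =>
      have := hstep (-(k : ℤ) - 1)
      rw [sub_add_cancel] at this
      rw [← this, ih]
  refine ⟨P + Polynomial.C (f 0 - P.eval ((0 : ℤ) : ℚ)), fun n => ?_⟩
  rw [Polynomial.eval_add, Polynomial.eval_C, ← hconst n]
  ring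


theorem len_eq_zero_iff {R₀ : Type*} [Ring R₀] {X : Type u} [AddCommGroup X] [Module R₀ X]
    (hfin : IsFiniteLength R₀ X) : len R₀ X = 0 ↔ Subsingleton X := by
  unfold len
  rw [Nat.cast_eq_zero, ENat.toNat_eq_zero, ← Module.length_eq_zero_iff (R := R₀)]
  constructor
  · rintro (h | h)
    · exact h
    · exact absurd h (Module.length_ne_top_iff.2 hfin)
  · intro h
    exact Or.inl h

section Main

variable {R : Type u} [CommRing R] [IsNoetherianRing R] (𝒜 : ℤ → AddSubgroup R) [GradedRing 𝒜]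
  [IsArtinianRing (GrLC.deg0 𝒜)]

omit [IsNoetherianRing R] in
theorem finLen_of_noeth (P : Type u) [AddCommGroup P] [Module (GrLC.deg0 𝒜) P]
    [IsNoetherian (GrLC.deg0 𝒜) P] : IsFiniteLength (GrLC.deg0 𝒜) P := by
  rw [isFiniteLength_iff_isNoetherian_isArtinian]
  exact ⟨inferInstance, inferInstance⟩

theorem finLen_comp (M : Type u) [AddCommGroup M] [Module R M] [Module.Finite R M]
    (ℳ : ℤ → AddSubgroup M) [DirectSum.Decomposition ℳ] [SetLike.GradedSMul 𝒜 ℳ] (n : ℤ) :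
    IsFiniteLength (GrLC.deg0 𝒜) (GrLC.comp 𝒜 ℳ n) := by
  haveI : IsNoetherian R M := isNoetherian_of_isNoetherianRing_of_finite R M
  haveI := isNoetherian_piece_of_isNoetherian 𝒜 ℳ n (GrLC.comp 𝒜 ℳ n) (fun _ => Iff.rfl)
  exact finLen_of_noeth 𝒜 _

variable (hpos : ∀ n : ℤ, n < 0 → 𝒜 n = ⊥)

include hpos in
theorem finLen_Hcomp (M : Type u) [AddCommGroup M] [Module R M] [Module.Finite R M]
    (ℳ : ℤ → AddSubgroup M) [DirectSum.Decomposition ℳ] [SetLike.GradedSMul 𝒜 ℳ]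
    (E : GrLC.StarInjRes 𝒜 ℳ) (i : ℕ) (n : ℤ) :
    IsFiniteLength (GrLC.deg0 𝒜) (E.Hcomp (irr 𝒜) i n) := by
  haveI := (fv 𝒜 hpos (irr 𝒜) (irr_toIdeal 𝒜) i M ℳ E).1 n
  exact finLen_of_noeth 𝒜 _

/-- the Hilbert function corrected by the Euler characteristic of graded local cohomology -/
noncomputable def Dfun {M : Type u} [AddCommGroup M] [Module R M] {ℳ : ℤ → AddSubgroup M}
    [DirectSum.Decomposition ℳ] [SetLike.GradedSMul 𝒜 ℳ] (E : GrLC.StarInjRes 𝒜 ℳ) (d : ℕ)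
    (n : ℤ) : ℚ :=
  len (GrLC.deg0 𝒜) (GrLC.comp 𝒜 ℳ n) - chi E (irr 𝒜) d n

variable (d : ℕ) (hd : ringKrullDim R = d)

include hpos hd in
theorem dfun_additive {A B C : GrLC.GMod.{u} 𝒜} [Module.Finite R A.carrier]
    [Module.Finite R B.carrier] [Module.Finite R C.carrier] (f : A.carrier →ₗ[R] B.carrier)
    (g : B.carrier →ₗ[R] C.carrier)
    (hf : GrLC.IsGrHom A.gr B.gr f) (hg : GrLC.IsGrHom B.gr C.gr g)
    (hfinj : Function.Injective f) (hgsurj : Function.Surjective g)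
    (hex : ∀ b, g b = 0 → ∃ a', f a' = b) (hgf : ∀ a', g (f a') = 0)
    (F : GrLC.StarInjRes 𝒜 A.gr) (EB : GrLC.StarInjRes 𝒜 B.gr) (G : GrLC.StarInjRes 𝒜 C.gr)
    (n : ℤ) : Dfun 𝒜 EB d n = Dfun 𝒜 F d n + Dfun 𝒜 G d n := by
  unfold Dfun
  rw [hilb_additive f g hf hg hfinj hgsurj hex hgf n (finLen_comp 𝒜 B.carrier B.gr n),
    chi_additive f g hf hg hfinj hgsurj hex hgf (irr 𝒜) F EB G d n
      (fun i => finLen_Hcomp 𝒜 hpos A.carrier A.gr F i n)
      (fun i => finLen_Hcomp 𝒜 hpos B.carrier B.gr EB i n)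
      (fun i => finLen_Hcomp 𝒜 hpos C.carrier C.gr G i n)
      (vn_of_dim_lt d hd F (irr 𝒜) (d + 1) (Nat.lt_succ_self d) n)]
  ring

omit [IsNoetherianRing R] [IsArtinianRing (GrLC.deg0 𝒜)] in
theorem dfun_shift {M : Type u} [AddCommGroup M] [Module R M] {ℳ : ℤ → AddSubgroup M}
    [DirectSum.Decomposition ℳ] [SetLike.GradedSMul 𝒜 ℳ] (E : GrLC.StarInjRes 𝒜 ℳ) (g n : ℤ) :
    Dfun 𝒜 (shiftRes E g) d n = Dfun 𝒜 E d (n + g) := by
  unfold Dfun chi
  have h : ∀ i, len (GrLC.deg0 𝒜) ((shiftRes E g).Hcomp (irr 𝒜) i n) =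
      len (GrLC.deg0 𝒜) (E.Hcomp (irr 𝒜) i (n + g)) := fun i => len_Hcomp_shift E _ g i n
  rw [Finset.sum_congr rfl (fun i _ => by rw [h i])]
  rfl

include hpos hd in
/-- the difference equation for multiplication by a linear form -/
theorem dfun_step (M : Type u) [AddCommGroup M] [Module R M] [Module.Finite R M]
    (ℳ : ℤ → AddSubgroup M) [DirectSum.Decomposition ℳ] [SetLike.GradedSMul 𝒜 ℳ]
    (E : GrLC.StarInjRes 𝒜 ℳ) (y : R) (hy : y ∈ 𝒜 1) :
    ∃ (K C : GrLC.GMod.{u} 𝒜) (_ : Module.Finite R K.carrier) (_ : Module.Finite R C.carrier),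
      (∀ z : K.carrier, y • z = 0) ∧ (∀ z : C.carrier, y • z = 0) ∧
      (∀ r : R, (∀ z : M, r • z = 0) →
        (∀ z : K.carrier, r • z = 0) ∧ (∀ z : C.carrier, r • z = 0)) ∧
      ∀ (FK : GrLC.StarInjRes 𝒜 K.gr) (FC : GrLC.StarInjRes 𝒜 C.gr) (n : ℤ),
        Dfun 𝒜 E d n - Dfun 𝒜 E d (n - 1) = Dfun 𝒜 FC d n - Dfun 𝒜 FK d n := by
  haveI : IsNoetherian R M := isNoetherian_of_isNoetherianRing_of_finite R M
  haveI hNsh : IsNoetherian R (shiftG 𝒜 ℳ (-1)).carrier := (inferInstance : IsNoetherian R M)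
  obtain ⟨μ, hμ⟩ : ∃ μ : (shiftG 𝒜 ℳ (-1)).carrier →ₗ[R] M, ∀ z : M, μ z = y • z :=
    ⟨LinearMap.lsmul R M y, fun _ => rfl⟩
  have hμgr : GrLC.IsGrHom (shiftG 𝒜 ℳ (-1)).gr ℳ μ := by
    intro k z hz
    obtain ⟨z', rfl⟩ : ∃ z' : M, z' = z := ⟨z, rfl⟩
    have hz' : z' ∈ ℳ (k + -1) := hz
    have h := SetLike.GradedSMul.smul_mem (A := 𝒜) (B := ℳ) hy hz'
    rw [vadd_eq_add, show (1 : ℤ) + (k + -1) = k by ring] at h
    rw [hμ]
    exact h
  have hker : (LinearMap.ker μ).IsHomogeneous (shiftG 𝒜 ℳ (-1)).gr :=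
    ker_isHomogeneous (shiftG 𝒜 ℳ (-1)).gr ℳ hμgr
  have hran : (LinearMap.range μ).IsHomogeneous ℳ :=
    range_isHomogeneous (shiftG 𝒜 ℳ (-1)).gr ℳ hμgr
  haveI hKfin : Module.Finite R (subG 𝒜 (shiftG 𝒜 ℳ (-1)).gr (LinearMap.ker μ) hker).carrier :=
    (inferInstance : Module.Finite R (LinearMap.ker μ))
  haveI hIfin : Module.Finite R (subG 𝒜 ℳ (LinearMap.range μ) hran).carrier :=
    (inferInstance : Module.Finite R (LinearMap.range μ))
  haveI hCfin : Module.Finite R (quotG 𝒜 ℳ (LinearMap.range μ) hran).carrier :=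
    (inferInstance : Module.Finite R (M ⧸ LinearMap.range μ))
  haveI hShfin : Module.Finite R (shiftG 𝒜 ℳ (-1)).carrier :=
    (inferInstance : Module.Finite R M)
  haveI hMfin : Module.Finite R (GrLC.GMod.of 𝒜 M ℳ).carrier :=
    (inferInstance : Module.Finite R M)
  refine ⟨subG 𝒜 (shiftG 𝒜 ℳ (-1)).gr (LinearMap.ker μ) hker,
    quotG 𝒜 ℳ (LinearMap.range μ) hran, hKfin, hCfin, ?_, ?_, ?_, ?_⟩
  · intro z
    obtain ⟨z', rfl⟩ : ∃ z' : LinearMap.ker μ, z' = z := ⟨z, rfl⟩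
    apply Subtype.ext
    show y • ((z' : (shiftG 𝒜 ℳ (-1)).carrier) : M) = 0
    exact (hμ _).symm.trans (LinearMap.mem_ker.1 z'.2)
  · intro z
    obtain ⟨w, rfl⟩ := Submodule.mkQ_surjective (LinearMap.range μ) z
    show (LinearMap.range μ).mkQ (y • w) = 0
    exact (Submodule.Quotient.mk_eq_zero _).2 ⟨w, hμ w⟩
  · intro r hr
    refine ⟨fun z => ?_, fun z => ?_⟩
    · obtain ⟨z', rfl⟩ : ∃ z' : LinearMap.ker μ, z' = z := ⟨z, rfl⟩
      apply Subtype.ext
      show r • ((z' : (shiftG 𝒜 ℳ (-1)).carrier) : M) = 0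
      exact hr _
    · obtain ⟨w, rfl⟩ := Submodule.mkQ_surjective (LinearMap.range μ) z
      show (LinearMap.range μ).mkQ (r • w) = 0
      rw [hr w, map_zero]
  · intro FK FC n
    obtain ⟨FI, -⟩ : ∃ FI : GrLC.StarInjRes 𝒜 (subG 𝒜 ℳ (LinearMap.range μ) hran).gr, True :=
      ⟨starInjRes 𝒜 _, trivial⟩
    -- first sequence: `0 → K → M(-1) → yM → 0`
    obtain ⟨f₁, hf₁⟩ : ∃ f₁ : (subG 𝒜 (shiftG 𝒜 ℳ (-1)).gr (LinearMap.ker μ) hker).carrier →ₗ[R]
        (shiftG 𝒜 ℳ (-1)).carrier, ∀ z, f₁ z = (LinearMap.ker μ).subtype z :=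
      ⟨(LinearMap.ker μ).subtype, fun _ => rfl⟩
    obtain ⟨g₁, hg₁⟩ : ∃ g₁ : (shiftG 𝒜 ℳ (-1)).carrier →ₗ[R]
        (subG 𝒜 ℳ (LinearMap.range μ) hran).carrier,
        ∀ z, (LinearMap.range μ).subtype (g₁ z) = μ z :=
      ⟨μ.rangeRestrict, fun _ => rfl⟩
    have hK : ∀ z : (subG 𝒜 (shiftG 𝒜 ℳ (-1)).gr (LinearMap.ker μ) hker).carrier,
        μ ((LinearMap.ker μ).subtype z) = 0 :=
      fun z => LinearMap.mem_ker.1 (Submodule.coe_mem (p := LinearMap.ker μ) z)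
    have hI : ∀ z : (subG 𝒜 ℳ (LinearMap.range μ) hran).carrier,
        (LinearMap.range μ).subtype z ∈ LinearMap.range μ :=
      fun z => Submodule.coe_mem (p := LinearMap.range μ) z
    have h1 := dfun_additive 𝒜 hpos d hd
      (A := subG 𝒜 (shiftG 𝒜 ℳ (-1)).gr (LinearMap.ker μ) hker) (B := shiftG 𝒜 ℳ (-1))
      (C := subG 𝒜 ℳ (LinearMap.range μ) hran) f₁ g₁
      (fun k z hz => by
        rw [hf₁]
        exact hz)
      (fun k z hz => by
        show (LinearMap.range μ).subtype (g₁ z) ∈ ℳ k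
        rw [hg₁]
        exact hμgr k z hz)
      (fun z w hzw => by
        rw [hf₁, hf₁] at hzw
        exact Submodule.subtype_injective _ hzw)
      (fun z => by
        obtain ⟨w, hw⟩ := hI z
        refine ⟨w, Submodule.subtype_injective _ ?_⟩
        rw [hg₁]
        exact hw)
      (fun b hb => by
        have h0 : μ b = 0 := by
          rw [← hg₁, hb]
          rfl
        exact ⟨(⟨b, LinearMap.mem_ker.2 h0⟩ : LinearMap.ker μ), hf₁ _⟩)
      (fun z => by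
        apply Submodule.subtype_injective (LinearMap.range μ)
        rw [hg₁, hf₁]
        exact hK z)
      FK (shiftRes E (-1)) FI n
    -- second sequence: `0 → yM → M → M/yM → 0`
    obtain ⟨f₂, hf₂⟩ : ∃ f₂ : (subG 𝒜 ℳ (LinearMap.range μ) hran).carrier →ₗ[R]
        (GrLC.GMod.of 𝒜 M ℳ).carrier, ∀ z, f₂ z = (LinearMap.range μ).subtype z :=
      ⟨(LinearMap.range μ).subtype, fun _ => rfl⟩
    obtain ⟨g₂, hg₂⟩ : ∃ g₂ : (GrLC.GMod.of 𝒜 M ℳ).carrier →ₗ[R]
        (quotG 𝒜 ℳ (LinearMap.range μ) hran).carrier,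
        ∀ z : (GrLC.GMod.of 𝒜 M ℳ).carrier, g₂ z = (LinearMap.range μ).mkQ z :=
      ⟨(LinearMap.range μ).mkQ, fun _ => rfl⟩
    have h2 := dfun_additive 𝒜 hpos d hd
      (A := subG 𝒜 ℳ (LinearMap.range μ) hran) (B := GrLC.GMod.of 𝒜 M ℳ)
      (C := quotG 𝒜 ℳ (LinearMap.range μ) hran) f₂ g₂
      (fun k z hz => by
        rw [hf₂]
        exact hz)
      (fun k z hz => by
        rw [hg₂]
        exact mkQ_isGrHom ℳ (LinearMap.range μ) k z hz)
      (fun z w hzw => by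
        rw [hf₂, hf₂] at hzw
        exact Submodule.subtype_injective _ hzw)
      (fun z => by
        obtain ⟨w, rfl⟩ := Submodule.mkQ_surjective (LinearMap.range μ) z
        exact ⟨w, hg₂ w⟩)
      (fun b hb => by
        rw [hg₂] at hb
        have hb' : b ∈ LinearMap.range μ := (Submodule.Quotient.mk_eq_zero _).1 hb
        exact ⟨(⟨b, hb'⟩ : LinearMap.range μ), hf₂ _⟩)
      (fun z => by
        rw [hg₂, hf₂]
        exact (Submodule.Quotient.mk_eq_zero _).2 (hI z))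
      FI E FC n
    have h3 := dfun_shift 𝒜 d E (-1) n
    have h2' : Dfun 𝒜 E d n = Dfun 𝒜 FI d n + Dfun 𝒜 FC d n := h2
    rw [sub_eq_add_neg n 1, ← h3, h1, h2']
    ring

include hpos hd in
/-- the corrected Hilbert function is a polynomial function on all of `ℤ` -/
theorem serre_poly (x : ℕ → R) (hx : ∀ j, x j ∈ 𝒜 1)
    (hspan : (irr 𝒜).toIdeal = Ideal.span (Set.range x)) :
    ∀ (t : ℕ) (M : Type u) [AddCommGroup M] [Module R M] [Module.Finite R M]
      (ℳ : ℤ → AddSubgroup M) [DirectSum.Decomposition ℳ] [SetLike.GradedSMul 𝒜 ℳ]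
      (E : GrLC.StarInjRes 𝒜 ℳ), (∀ j, t ≤ j → ∀ z : M, x j • z = 0) →
      ∃ Q : ℚ[X], ∀ n : ℤ, Dfun 𝒜 E d n = Q.eval (n : ℚ) := by
  intro t
  induction t with
  | zero =>
    intro M _ _ _ ℳ _ _ E hkill
    have htor : ∀ z : M, ∀ r ∈ (irr 𝒜).toIdeal, r • z = 0 := by
      intro z r hr
      rw [hspan] at hr
      refine Submodule.span_induction (p := fun r _ => r • z = 0) ?_ ?_ ?_ ?_ hr
      · rintro _ ⟨j, rfl⟩
        exact hkill j (Nat.zero_le j) z
      · exact zero_smul _ _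
      · intro a b _ _ ha hb
        rw [add_smul, ha, hb, add_zero]
      · intro c a _ ha
        rw [smul_eq_mul, mul_smul, ha, smul_zero]
    have hgam : GrLC.gam (irr 𝒜).toIdeal M = ⊤ := by
      rw [eq_top_iff]
      intro z _
      exact ⟨1, fun r hr => by rw [pow_one] at hr; exact htor z r hr⟩
    refine ⟨0, fun n => ?_⟩
    rw [Polynomial.eval_zero]
    unfold Dfun chi
    rw [Finset.sum_range_succ', pow_zero, one_mul, len_H0_of_torsion (irr 𝒜) E htor n]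
    rw [Finset.sum_eq_zero, zero_add, sub_self]
    intro i _
    have hv : Vn E (irr 𝒜) (i + 1) n :=
      hv_torsion (irr 𝒜) (GrLC.GMod.of 𝒜 M ℳ) hgam (i + 1) (Nat.le_add_left 1 i) n E
    rw [Hcomp_eq_bot_of_vn hv, len_eq_zero_of_subsingleton, mul_zero]
  | succ t ih =>
    intro M _ _ _ ℳ _ _ E hkill
    obtain ⟨K, C, hKfin, hCfin, hKy, hCy, hkillKC, hstep⟩ :=
      dfun_step 𝒜 hpos d hd M ℳ E (x t) (hx t)
    have hkC : ∀ j, t ≤ j → ∀ z : C.carrier, x j • z = 0 := by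
      intro j hj z
      rcases Nat.eq_or_lt_of_le hj with h | h
      · rw [← h]
        exact hCy z
      · exact (hkillKC (x j) (hkill j h)).2 z
    have hkK : ∀ j, t ≤ j → ∀ z : K.carrier, x j • z = 0 := by
      intro j hj z
      rcases Nat.eq_or_lt_of_le hj with h | h
      · rw [← h]
        exact hKy z
      · exact (hkillKC (x j) (hkill j h)).1 z
    obtain ⟨QC, hQC⟩ := @ih C.carrier _ _ hCfin C.gr _ _ (starInjRes 𝒜 C.gr) hkC
    obtain ⟨QK, hQK⟩ := @ih K.carrier _ _ hKfin K.gr _ _ (starInjRes 𝒜 K.gr) hkK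
    exact poly_of_backDiff _ (QC - QK) (fun n => by
      rw [hstep (starInjRes 𝒜 K.gr) (starInjRes 𝒜 C.gr) n, hQC, hQK, Polynomial.eval_sub])

omit [IsArtinianRing (GrLC.deg0 𝒜)] in
include hpos in
/-- the pieces of graded local cohomology in cohomological degrees `< k` vanish in large degrees -/
theorem exists_vn_bound (M : Type u) [AddCommGroup M] [Module R M] [Module.Finite R M]
    (ℳ : ℤ → AddSubgroup M) [DirectSum.Decomposition ℳ] [SetLike.GradedSMul 𝒜 ℳ]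
    (E : GrLC.StarInjRes 𝒜 ℳ) (k : ℕ) :
    ∃ N : ℤ, ∀ i, i < k → ∀ n : ℤ, N ≤ n → Vn E (irr 𝒜) i n := by
  induction k with
  | zero => exact ⟨0, fun i hi => absurd hi (Nat.not_lt_zero i)⟩
  | succ k ih =>
    obtain ⟨N, hN⟩ := ih
    obtain ⟨r, hr⟩ := (fv 𝒜 hpos (irr 𝒜) (irr_toIdeal 𝒜) k M ℳ E).2
    refine ⟨max N r, fun i hi n hn => ?_⟩
    rcases Nat.lt_succ_iff_lt_or_eq.1 hi with h | h
    · exact hN i h n (le_trans (le_max_left _ _) hn)
    · rw [h]
      exact hr n (le_trans (le_max_right _ _) hn)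

include hpos hd in
/-- **Serre's formula** for the irrelevant ideal -/
theorem serre_irr (hstd : (irr 𝒜).toIdeal = Ideal.span ((𝒜 1 : AddSubgroup R) : Set R))
    (M : Type u) [AddCommGroup M] [Module R M] [Module.Finite R M]
    (ℳ : ℤ → AddSubgroup M) [DirectSum.Decomposition ℳ] [SetLike.GradedSMul 𝒜 ℳ]
    (E : GrLC.StarInjRes 𝒜 ℳ) (P : ℚ[X])
    (hP : ∃ N : ℤ, ∀ n : ℤ, N ≤ n →
      P.eval (n : ℚ) = len (GrLC.deg0 𝒜) (GrLC.comp 𝒜 ℳ n)) (n : ℤ) :
    len (GrLC.deg0 𝒜) (GrLC.comp 𝒜 ℳ n) - P.eval (n : ℚ) = chi E (irr 𝒜) d n := by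
  classical
  -- finitely many generators of degree one
  have hfg : (Ideal.span ((𝒜 1 : AddSubgroup R) : Set R)).FG := by
    rw [← hstd]
    exact IsNoetherian.noetherian _
  obtain ⟨T, hT1, hT2⟩ := (Submodule.fg_span_iff_fg_span_finset_subset _).1 hfg
  obtain ⟨x, hxdef⟩ : ∃ x : ℕ → R, ∀ j, x j = T.toList.getD j 0 := ⟨_, fun _ => rfl⟩
  have hxT : ∀ j, x j ∈ (T : Set R) ∨ x j = 0 := by
    intro j
    rw [hxdef]
    by_cases hj : j < T.toList.length
    · left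
      rw [List.getD_eq_getElem _ _ hj]
      exact Finset.mem_toList.1 (List.getElem_mem hj)
    · right
      exact List.getD_eq_default _ _ (not_lt.1 hj)
  have hx : ∀ j, x j ∈ 𝒜 1 := by
    intro j
    rcases hxT j with h | h
    · exact hT1 h
    · rw [h]
      exact zero_mem _
  have hspan : (irr 𝒜).toIdeal = Ideal.span (Set.range x) := by
    rw [hstd]
    refine (hT2.trans ?_)
    apply le_antisymm
    · refine Submodule.span_le.2 (fun t ht => ?_)
      have ht' : t ∈ T.toList := Finset.mem_toList.2 ht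
      obtain ⟨j, hj, hjt⟩ := List.mem_iff_getElem.1 ht'
      refine Submodule.subset_span ⟨j, ?_⟩
      rw [hxdef, List.getD_eq_getElem _ _ hj, hjt]
    · refine Submodule.span_le.2 ?_
      rintro _ ⟨j, rfl⟩
      rcases hxT j with h | h
      · exact Submodule.subset_span h
      · rw [h]
        exact zero_mem _
  obtain ⟨Q, hQ⟩ := serre_poly 𝒜 hpos d hd x hx hspan T.toList.length M ℳ E
    (fun j hj z => by
      rw [hxdef, List.getD_eq_default _ _ hj, zero_smul])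
  obtain ⟨N₁, hN₁⟩ := exists_vn_bound 𝒜 hpos M ℳ E (d + 1)
  have hchi : ∀ n : ℤ, N₁ ≤ n → chi E (irr 𝒜) d n = 0 := by
    intro n hn
    unfold chi
    refine Finset.sum_eq_zero (fun i hi => ?_)
    rw [Hcomp_eq_bot_of_vn (hN₁ i (Finset.mem_range.1 hi) n hn), len_eq_zero_of_subsingleton,
      mul_zero]
  obtain ⟨N, hN⟩ := hP
  have hPQ : P = Q := by
    apply Polynomial.eq_of_infinite_eval_eq
    refine Set.infinite_of_injective_forall_mem
      (f := fun k : ℕ => (((max N N₁ + (k : ℤ) : ℤ)) : ℚ)) ?_ ?_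
    · intro a b hab
      have hab' : (((max N N₁ + (a : ℤ) : ℤ)) : ℚ) = (((max N N₁ + (b : ℤ) : ℤ)) : ℚ) := hab
      have h1 : (max N N₁ + (a : ℤ) : ℤ) = max N N₁ + (b : ℤ) := by exact_mod_cast hab'
      exact_mod_cast add_left_cancel h1
    · intro k
      have h1 : N ≤ max N N₁ + (k : ℤ) := by
        have := le_max_left N N₁
        have := Int.natCast_nonneg k
        linarith
      have h2 : N₁ ≤ max N N₁ + (k : ℤ) := by
        have := le_max_right N N₁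
        have := Int.natCast_nonneg k
        linarith
      show P.eval _ = Q.eval _
      rw [hN _ h1, ← hQ]
      unfold Dfun
      rw [hchi _ h2, sub_zero]
  rw [hPQ, ← hQ]
  unfold Dfun
  ring

end Main

end Groth.Agent.H98.GrCat
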