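import Mathlib
import Groth.Agent.H98.GrSerre
import Groth.Agent.H98.GrHPA
import Groth.Agent.H98.GrEnd
import Groth.Agent.H98.GrFree

/-!
# Helper library (helper98): the degree of the Hilbert polynomial.  The corrected Hilbert function
`n ↦ H_M(n) - χ(H^•_{R_+}(M)_n)` of a finitely generated graded module over a standard graded ring
is a polynomial function; for a module whose graded local cohomology is concentrated in the single
cohomological degree `e ≥ dim M` this polynomial has degree `< e`.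
-/

set_option autoImplicit false
universe u

open DirectSum Polynomial
open scoped Pointwise

namespace Groth.Agent.H98.GrCat

open Groth.Agent.H98.GrHt

section PolyLemma

/-- a rational polynomial vanishing at all large integers is zero -/
theorem poly_eq_zero_of_int (Q : ℚ[X]) (N : ℤ) (h : ∀ n : ℤ, N ≤ n → Q.eval (n : ℚ) = 0) :
    Q = 0 := by
  apply Polynomial.eq_of_infinite_eval_eq
  refine Set.infinite_of_injective_forall_mem (f := fun k : ℕ => (((N + (k : ℤ) : ℤ)) : ℚ)) ?_ ?_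
  · intro a b hab
    have hab' : (((N + (a : ℤ) : ℤ)) : ℚ) = (((N + (b : ℤ) : ℤ)) : ℚ) := hab
    have h1 : (N + (a : ℤ) : ℤ) = N + (b : ℤ) := by exact_mod_cast hab'
    exact_mod_cast add_left_cancel h1
  · intro k
    show Q.eval _ = (0 : ℚ[X]).eval _
    rw [eval_zero]
    exact h _ (by have := Int.natCast_nonneg k; linarith)

/-- if the backward difference with a nonzero step has degree `< e` then the polynomial has
degree `< e + 1` -/
theorem coeff_eq_zero_of_backDiff (c : ℚ) (hc : c ≠ 0) : ∀ (e : ℕ) (Q : ℚ[X]),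
    (∀ j, e ≤ j → (Q - Q.comp (X - C c)).coeff j = 0) → ∀ j, e + 1 ≤ j → Q.coeff j = 0 := by
  intro e
  induction e with
  | zero =>
    intro Q h j hj
    have h0 : Q - Q.comp (X - C c) = 0 := by
      ext j'
      rw [h j' (Nat.zero_le _), coeff_zero]
    have h1 : Q.comp (X - C c) = Q := (sub_eq_zero.1 h0).symm
    have h2 : ∀ x : ℚ, Q.eval (x - c) = Q.eval x := by
      intro x
      have := congrArg (Polynomial.eval x) h1
      rwa [eval_comp, eval_sub, eval_X, eval_C] at this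
    have h3 : ∀ n : ℕ, Q.eval (-(n : ℚ) * c) = Q.eval 0 := by
      intro n
      induction n with
      | zero => simp
      | succ n ih =>
        have h4 := h2 (-(n : ℚ) * c)
        rw [← ih, ← h4]
        congr 1
        push_cast
        ring
    have h4 : Q = C (Q.eval 0) := by
      apply Polynomial.eq_of_infinite_eval_eq
      refine Set.infinite_of_injective_forall_mem (f := fun n : ℕ => -(n : ℚ) * c) ?_ ?_
      · intro a b hab
        have hab' : -(a : ℚ) * c = -(b : ℚ) * c := hab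
        have h5 := mul_right_cancel₀ hc hab'
        exact_mod_cast neg_injective h5
      · intro n
        show Q.eval _ = (C (Q.eval 0)).eval _
        rw [h3 n, eval_C]
    rw [h4, coeff_C, if_neg (by omega)]
  | succ e ih =>
    intro Q h j hj
    have hder : derivative Q - (derivative Q).comp (X - C c) =
        derivative (Q - Q.comp (X - C c)) := by
      rw [derivative_sub, derivative_comp, derivative_sub, derivative_X, derivative_C, sub_zero,
        one_mul]
    have h' : ∀ j, e ≤ j → (derivative Q - (derivative Q).comp (X - C c)).coeff j = 0 := by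
      intro j hj
      rw [hder, coeff_derivative, h (j + 1) (by omega), zero_mul]
    have h1 := ih (derivative Q) h' (j - 1) (by omega)
    rw [coeff_derivative] at h1
    have hj' : j - 1 + 1 = j := by omega
    rw [hj'] at h1
    rcases mul_eq_zero.1 h1 with h2 | h2
    · exact h2
    · exfalso
      have h3 : ((j - 1 : ℕ) : ℚ) + 1 ≠ 0 := by positivity
      exact h3 h2

end PolyLemma

section Van

variable {R : Type u} [CommRing R] {𝒜 : ℤ → AddSubgroup R} [GradedRing 𝒜]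

/-- Grothendieck vanishing in graded form, for the dimension of the support -/
theorem vn_of_supportDim_lt [IsNoetherianRing R]
    {M : Type u} [AddCommGroup M] [Module R M] {ℳ : ℤ → AddSubgroup M}
    [DirectSum.Decomposition ℳ] [SetLike.GradedSMul 𝒜 ℳ] (E : GrLC.StarInjRes 𝒜 ℳ)
    (a : HomogeneousIdeal 𝒜) (i : ℕ) (hi : Module.supportDim R M < (i : WithBot ℕ∞)) (n : ℤ) :
    Vn E a i n := by
  obtain ⟨e⟩ := nonempty_H_equiv E a i
  have hs : Subsingleton (LocCoh.H a.toIdeal i M) := by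
    apply Groth.Agent.H58.LC.subsingleton_H_of_supportDim_lt
    exact hi
  exact vn_of_subsingleton E a i e.toEquiv.subsingleton n

/-- if `H^0` vanishes in all degrees then there is no torsion -/
theorem torsionSub_eq_bot_of_vn_zero {M : Type u} [AddCommGroup M] [Module R M]
    {ℳ : ℤ → AddSubgroup M} [DirectSum.Decomposition ℳ] [SetLike.GradedSMul 𝒜 ℳ]
    (E : GrLC.StarInjRes 𝒜 ℳ) (a : HomogeneousIdeal 𝒜) (h : ∀ n, Vn E a 0 n) :
    DRing.torsionSub a.toIdeal M = ⊥ := by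
  classical
  rw [eq_bot_iff]
  intro z hz
  rw [Submodule.mem_bot]
  have hz' : z ∈ GrLC.gam a.toIdeal M := hz
  have hcomp : ∀ j, ((decompose ℳ z j : ℳ j) : M) = 0 := by
    intro j
    have hj : ((decompose ℳ z j : ℳ j) : M) ∈ GrLC.gam a.toIdeal M :=
      gam_isHomogeneous 𝒜 ℳ a j hz'
    have hc : E.ε ((decompose ℳ z j : ℳ j) : M) ∈ E.cocyc a 0 := by
      refine Submodule.mem_inf.2 ⟨?_, ?_⟩
      · obtain ⟨t, ht⟩ := hj
        exact ⟨t, fun r hr => by rw [← map_smul, ht r hr, map_zero]⟩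
      · rw [E.exact_zero]
        exact ⟨_, rfl⟩
    have h0 := h j _ hc (E.ε_grHom j _ (SetLike.coe_mem _))
    have h1 : E.ε ((decompose ℳ z j : ℳ j) : M) = 0 := (Submodule.mem_bot R).1 h0
    exact E.ε_injective (by rw [h1, map_zero])
  rw [← sum_support_decompose ℳ z]
  exact Finset.sum_eq_zero (fun j _ => hcomp j)

end Van

section Main

variable {R : Type u} [CommRing R] [IsNoetherianRing R] (𝒜 : ℤ → AddSubgroup R) [GradedRing 𝒜]
  [IsArtinianRing (GrLC.deg0 𝒜)]
variable (hpos : ∀ n : ℤ, n < 0 → 𝒜 n = ⊥) (d : ℕ) (hd : ringKrullDim R = d)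
  (hstd : (irr 𝒜).toIdeal = Ideal.span ((𝒜 1 : AddSubgroup R) : Set R))

include hpos hd hstd in
/-- the corrected Hilbert function of a finitely generated graded module is a polynomial function
on all of `ℤ` -/
theorem exists_dfun_poly (M : Type u) [AddCommGroup M] [Module R M] [Module.Finite R M]
    (ℳ : ℤ → AddSubgroup M) [DirectSum.Decomposition ℳ] [SetLike.GradedSMul 𝒜 ℳ]
    (E : GrLC.StarInjRes 𝒜 ℳ) : ∃ Q : ℚ[X], ∀ n : ℤ, Dfun 𝒜 E d n = Q.eval (n : ℚ) := by
  classical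
  have hfg : (Ideal.span ((𝒜 1 : AddSubgroup R) : Set R)).FG := by
    rw [← hstd]
    exact IsNoetherian.noetherian _
  obtain ⟨T, hT1, hT2⟩ := (Submodule.fg_span_iff_fg_span_finset_subset _).1 hfg
  obtain ⟨x, hxdef⟩ : ∃ x : ℕ → R, ∀ j, x j = T.toList.getD j 0 := ⟨_, fun _ => rfl⟩
  have hxT : ∀ j, x j ∈ (T : Set R) ∨ x j = 0 := by
    intro j
    rw [hxdef]
    by_cases hj : j < T.toList.length
    · left
      rw [List.getD_eq_getElem _ _ hj]
      exact Finset.mem_toList.1 (List.getElem_mem hj)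
    · right
      exact List.getD_eq_default _ _ (not_lt.1 hj)
  have hx : ∀ j, x j ∈ 𝒜 1 := by
    intro j
    rcases hxT j with h | h
    · exact hT1 h
    · rw [h]
      exact zero_mem _
  have hspan : (irr 𝒜).toIdeal = Ideal.span (Set.range x) := by
    rw [hstd]
    refine (hT2.trans ?_)
    apply le_antisymm
    · refine Submodule.span_le.2 (fun t ht => ?_)
      have ht' : t ∈ T.toList := Finset.mem_toList.2 ht
      obtain ⟨j, hj, hjt⟩ := List.mem_iff_getElem.1 ht'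
      refine Submodule.subset_span ⟨j, ?_⟩
      rw [hxdef, List.getD_eq_getElem _ _ hj, hjt]
    · refine Submodule.span_le.2 ?_
      rintro _ ⟨j, rfl⟩
      rcases hxT j with h | h
      · exact Submodule.subset_span h
      · rw [h]
        exact zero_mem _
  exact serre_poly 𝒜 hpos d hd x hx hspan T.toList.length M ℳ E
    (fun j hj z => by
      rw [hxdef, List.getD_eq_default _ _ hj, zero_smul])

include hpos hd hstd in
/-- the corrected Hilbert function of a torsion module vanishes -/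
theorem dfun_eq_zero_of_torsion (M : Type u) [AddCommGroup M] [Module R M] [Module.Finite R M]
    (ℳ : ℤ → AddSubgroup M) [DirectSum.Decomposition ℳ] [SetLike.GradedSMul 𝒜 ℳ]
    (E : GrLC.StarInjRes 𝒜 ℳ) (htor : GrLC.gam (irr 𝒜).toIdeal M = ⊤) (n : ℤ) :
    Dfun 𝒜 E d n = 0 := by
  obtain ⟨Q, hQ⟩ := exists_dfun_poly 𝒜 hpos d hd hstd M ℳ E
  obtain ⟨n₀, hn₀⟩ := eventually_bot_of_torsion 𝒜 ℳ (irr 𝒜) (irr_toIdeal 𝒜) hstd
    (fun z => by
      have hz : z ∈ GrLC.gam (irr 𝒜).toIdeal M := by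
        rw [htor]
        trivial
      exact hz)
  have hz : ∀ n : ℤ, n₀ ≤ n → Dfun 𝒜 E d n = 0 := by
    intro n hn
    unfold Dfun chi
    have : Subsingleton (GrLC.comp 𝒜 ℳ n) := by
      refine ⟨fun x y => Subtype.ext ?_⟩
      have hx : (x : M) ∈ ℳ n := x.2
      have hy : (y : M) ∈ ℳ n := y.2
      rw [hn₀ n hn] at hx hy
      rw [AddSubgroup.mem_bot.1 hx, AddSubgroup.mem_bot.1 hy]
    rw [len_eq_zero_of_subsingleton, zero_sub, neg_eq_zero]
    refine Finset.sum_eq_zero (fun i _ => ?_)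
    have hv : Vn E (irr 𝒜) i n := by
      cases i with
      | zero => exact vn_zero_of_piece_eq_bot E (irr 𝒜) n (hn₀ n hn)
      | succ i =>
        exact hv_torsion (irr 𝒜) (GrLC.GMod.of 𝒜 M ℳ) htor (i + 1) (Nat.le_add_left 1 i) n E
    rw [Hcomp_eq_bot_of_vn hv, len_eq_zero_of_subsingleton, mul_zero]
  have hQ0 : Q = 0 := poly_eq_zero_of_int Q n₀ (fun n hn => by rw [← hQ]; exact hz n hn)
  rw [hQ, hQ0, eval_zero]

include hpos hd in
/-- the difference equation for multiplication by a homogeneous regular element -/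
theorem dfun_quot_regular (M : Type u) [AddCommGroup M] [Module R M] [Module.Finite R M]
    (ℳ : ℤ → AddSubgroup M) [DirectSum.Decomposition ℳ] [SetLike.GradedSMul 𝒜 ℳ]
    (E : GrLC.StarInjRes 𝒜 ℳ) (x : R) (k : ℤ) (hreg : IsSMulRegular M x)
    (μ : (shiftG 𝒜 ℳ (-k)).carrier →ₗ[R] M) (hμ : ∀ z : M, μ z = x • z)
    (hμgr : GrLC.IsGrHom (shiftG 𝒜 ℳ (-k)).gr ℳ μ)
    (hran : (LinearMap.range μ).IsHomogeneous ℳ)
    (FC : GrLC.StarInjRes 𝒜 (quotG 𝒜 ℳ (LinearMap.range μ) hran).gr) (n : ℤ) :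
    Dfun 𝒜 E d n - Dfun 𝒜 E d (n - k) = Dfun 𝒜 FC d n := by
  have hCfin : Module.Finite R (quotG 𝒜 ℳ (LinearMap.range μ) hran).carrier :=
    (inferInstance : Module.Finite R (M ⧸ LinearMap.range μ))
  have hShfin : Module.Finite R (shiftG 𝒜 ℳ (-k)).carrier :=
    (inferInstance : Module.Finite R M)
  have hMfin : Module.Finite R (GrLC.GMod.of 𝒜 M ℳ).carrier :=
    (inferInstance : Module.Finite R M)
  obtain ⟨g₂, hg₂⟩ : ∃ g₂ : (GrLC.GMod.of 𝒜 M ℳ).carrier →ₗ[R]
      (quotG 𝒜 ℳ (LinearMap.range μ) hran).carrier,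
      ∀ z : (GrLC.GMod.of 𝒜 M ℳ).carrier, g₂ z = (LinearMap.range μ).mkQ z :=
    ⟨(LinearMap.range μ).mkQ, fun _ => rfl⟩
  obtain ⟨f₂, hf₂⟩ : ∃ f₂ : (shiftG 𝒜 ℳ (-k)).carrier →ₗ[R] (GrLC.GMod.of 𝒜 M ℳ).carrier,
      ∀ z, f₂ z = μ z := ⟨μ, fun _ => rfl⟩
  have h2 := dfun_additive 𝒜 hpos d hd
    (A := shiftG 𝒜 ℳ (-k)) (B := GrLC.GMod.of 𝒜 M ℳ)
    (C := quotG 𝒜 ℳ (LinearMap.range μ) hran) f₂ g₂
    (fun j z hz => by
      rw [hf₂]
      exact hμgr j z hz)
    (fun j z hz => by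
      rw [hg₂]
      exact mkQ_isGrHom ℳ (LinearMap.range μ) j z hz)
    (fun z w hzw => by
      rw [hf₂, hf₂] at hzw
      obtain ⟨z', rfl⟩ : ∃ z' : M, z' = z := ⟨z, rfl⟩
      obtain ⟨w', rfl⟩ : ∃ w' : M, w' = w := ⟨w, rfl⟩
      rw [hμ, hμ] at hzw
      exact hreg hzw)
    (fun z => by
      obtain ⟨w, rfl⟩ := Submodule.mkQ_surjective (LinearMap.range μ) z
      exact ⟨w, hg₂ w⟩)
    (fun b hb => by
      rw [hg₂] at hb
      have hb' : b ∈ LinearMap.range μ := (Submodule.Quotient.mk_eq_zero _).1 hb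
      obtain ⟨w, hw⟩ := hb'
      exact ⟨w, by rw [hf₂]; exact hw⟩)
    (fun z => by
      rw [hg₂, hf₂]
      exact (Submodule.Quotient.mk_eq_zero _).2 ⟨z, rfl⟩)
    (shiftRes E (-k)) E FC n
  have h3 := dfun_shift 𝒜 d E (-k) n
  have h2' : Dfun 𝒜 E d n = Dfun 𝒜 (shiftRes E (-k)) d n + Dfun 𝒜 FC d n := h2
  rw [sub_eq_add_neg n k, ← h3, h2']
  ring

omit [IsArtinianRing (GrLC.deg0 𝒜)] in
include hpos in
/-- a finitely generated graded module whose support has dimension `≤ 0` is torsion for the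
irrelevant ideal -/
theorem gam_eq_top_of_supportDim_le_zero (M : Type u) [AddCommGroup M] [Module R M]
    [Module.Finite R M] (ℳ : ℤ → AddSubgroup M) [DirectSum.Decomposition ℳ]
    [SetLike.GradedSMul 𝒜 ℳ] (hdim : Module.supportDim R M ≤ 0) :
    GrLC.gam (irr 𝒜).toIdeal M = ⊤ := by
  classical
  have hT : (GrLC.gam (irr 𝒜).toIdeal M).IsHomogeneous ℳ := gam_isHomogeneous 𝒜 ℳ (irr 𝒜)
  have hfin : Module.Finite R (quotG 𝒜 ℳ (GrLC.gam (irr 𝒜).toIdeal M) hT).carrier :=
    inferInstanceAs (Module.Finite R (M ⧸ GrLC.gam (irr 𝒜).toIdeal M))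
  have htorC : DRing.torsionSub (irr 𝒜).toIdeal
      (quotG 𝒜 ℳ (GrLC.gam (irr 𝒜).toIdeal M) hT).carrier = ⊥ :=
    LCArt.torsionSub_quot_eq_bot (irr 𝒜).toIdeal M
  obtain ⟨e, x, he, hx, hreg⟩ := exists_homog_regular 𝒜 hpos (irr 𝒜) (irr_toIdeal 𝒜)
    (quotG 𝒜 ℳ (GrLC.gam (irr 𝒜).toIdeal M) hT).carrier htorC
  have hxa : x ∈ (irr 𝒜).toIdeal := by
    rw [irr_toIdeal]
    exact Ideal.subset_span (Set.mem_biUnion (Set.mem_Ioi.2 he) hx)
  have h1 := Module.supportDim_quotSMulTop_succ_le_of_notMem_minimalPrimes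
    (R := R) (M := (quotG 𝒜 ℳ (GrLC.gam (irr 𝒜).toIdeal M) hT).carrier) (x := x)
    (fun _ => hreg.notMem_of_mem_minimalPrimes)
  have h2 : Module.supportDim R (quotG 𝒜 ℳ (GrLC.gam (irr 𝒜).toIdeal M) hT).carrier ≤
      Module.supportDim R M :=
    Module.supportDim_le_of_surjective (GrLC.gam (irr 𝒜).toIdeal M).mkQ
      (Submodule.mkQ_surjective _)
  have h3 : Module.supportDim R
      (QuotSMulTop x (quotG 𝒜 ℳ (GrLC.gam (irr 𝒜).toIdeal M) hT).carrier) = ⊥ := by
    have h4 := h1.trans (h2.trans hdim)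
    by_contra hne
    obtain ⟨t, ht⟩ := WithBot.ne_bot_iff_exists.1 hne
    rw [← ht] at h4
    have h5 : ((t + 1 : ℕ∞) : WithBot ℕ∞) ≤ ((0 : ℕ∞) : WithBot ℕ∞) := h4
    rw [WithBot.coe_le_coe] at h5
    simp at h5
  have h4 : Subsingleton (QuotSMulTop x (quotG 𝒜 ℳ (GrLC.gam (irr 𝒜).toIdeal M) hT).carrier) :=
    (Module.supportDim_eq_bot_iff_subsingleton _ _).1 h3
  have h5 : x • (⊤ : Submodule R (quotG 𝒜 ℳ (GrLC.gam (irr 𝒜).toIdeal M) hT).carrier) = ⊤ :=
    Submodule.Quotient.subsingleton_iff.1 h4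
  have h6 : (irr 𝒜).toIdeal •
      (⊤ : Submodule R (quotG 𝒜 ℳ (GrLC.gam (irr 𝒜).toIdeal M) hT).carrier) ⊔ ⊥ = ⊤ := by
    rw [sup_bot_eq, eq_top_iff]
    intro z _
    have hz : z ∈ x • (⊤ : Submodule R (quotG 𝒜 ℳ (GrLC.gam (irr 𝒜).toIdeal M) hT).carrier) := by
      rw [h5]
      trivial
    obtain ⟨w, -, rfl⟩ := (Submodule.mem_smul_pointwise_iff_exists _ _ _).1 hz
    exact Submodule.smul_mem_smul hxa trivial
  have hbot : (⊥ : Submodule R (quotG 𝒜 ℳ (GrLC.gam (irr 𝒜).toIdeal M) hT).carrier).IsHomogeneous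
      (quotG 𝒜 ℳ (GrLC.gam (irr 𝒜).toIdeal M) hT).gr := by
    intro i z hz
    rw [(Submodule.mem_bot R).1 hz, decompose_zero, DirectSum.zero_apply, ZeroMemClass.coe_zero]
    exact zero_mem _
  have h7 := eq_top_of_smul_top_sup_eq_top 𝒜 (quotG 𝒜 ℳ (GrLC.gam (irr 𝒜).toIdeal M) hT).gr hpos
    (irr 𝒜) (irr_toIdeal 𝒜) ⊥ hbot h6
  rw [eq_top_iff]
  intro z _
  have h8 : (GrLC.gam (irr 𝒜).toIdeal M).mkQ z ∈
      (⊥ : Submodule R (quotG 𝒜 ℳ (GrLC.gam (irr 𝒜).toIdeal M) hT).carrier) := by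
    rw [h7]
    trivial
  exact (Submodule.Quotient.mk_eq_zero _).1 ((Submodule.mem_bot R).1 h8)

include hpos hd hstd in
/-- **degree bound**: if the graded local cohomology of `M` is concentrated in the cohomological
degree `e` and `dim M ≤ e`, then the polynomial of the corrected Hilbert function has degree
`< e` (it is zero when `e = 0`) -/
theorem dfun_coeff_eq_zero : ∀ (e : ℕ) (M : Type u) [AddCommGroup M] [Module R M]
    [Module.Finite R M] (ℳ : ℤ → AddSubgroup M) [DirectSum.Decomposition ℳ]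
    [SetLike.GradedSMul 𝒜 ℳ] (E : GrLC.StarInjRes 𝒜 ℳ),
    (∀ i, i ≠ e → ∀ n, Vn E (irr 𝒜) i n) → Module.supportDim R M ≤ (e : WithBot ℕ∞) →
    ∀ Q : ℚ[X], (∀ n : ℤ, Dfun 𝒜 E d n = Q.eval (n : ℚ)) → ∀ j, e ≤ j → Q.coeff j = 0 := by
  intro e
  induction e with
  | zero =>
    intro M _ _ _ ℳ _ _ E _ hdim Q hQ j _
    have htor := gam_eq_top_of_supportDim_le_zero 𝒜 hpos M ℳ (by simpa using hdim)
    have hQ0 : Q = 0 := poly_eq_zero_of_int Q 0 (fun n _ => by
      rw [← hQ]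
      exact dfun_eq_zero_of_torsion 𝒜 hpos d hd hstd M ℳ E htor n)
    rw [hQ0, coeff_zero]
  | succ e ih =>
    intro M _ _ _ ℳ _ _ E hV hdim Q hQ
    classical
    have htor : DRing.torsionSub (irr 𝒜).toIdeal M = ⊥ :=
      torsionSub_eq_bot_of_vn_zero E (irr 𝒜) (fun n => hV 0 (by omega) n)
    obtain ⟨k, x, hk, hx, hreg⟩ := exists_homog_regular 𝒜 hpos (irr 𝒜) (irr_toIdeal 𝒜) M htor
    obtain ⟨μ, hμ⟩ : ∃ μ : (shiftG 𝒜 ℳ (-k)).carrier →ₗ[R] M, ∀ z : M, μ z = x • z :=
      ⟨LinearMap.lsmul R M x, fun _ => rfl⟩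
    have hμgr : GrLC.IsGrHom (shiftG 𝒜 ℳ (-k)).gr ℳ μ := by
      intro j z hz
      obtain ⟨z', rfl⟩ : ∃ z' : M, z' = z := ⟨z, rfl⟩
      have hz' : z' ∈ ℳ (j + -k) := hz
      have h := gsmul_mem 𝒜 ℳ hx hz'
      rw [show k + (j + -k) = j by ring] at h
      rw [hμ]
      exact h
    have hran : (LinearMap.range μ).IsHomogeneous ℳ :=
      range_isHomogeneous (shiftG 𝒜 ℳ (-k)).gr ℳ hμgr
    have hCfin : Module.Finite R (quotG 𝒜 ℳ (LinearMap.range μ) hran).carrier :=
      (inferInstance : Module.Finite R (M ⧸ LinearMap.range μ))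
    obtain ⟨FC, -⟩ : ∃ FC : GrLC.StarInjRes 𝒜 (quotG 𝒜 ℳ (LinearMap.range μ) hran).gr, True :=
      ⟨starInjRes 𝒜 _, trivial⟩
    obtain ⟨π, hπdef⟩ : ∃ π : M →ₗ[R] (quotG 𝒜 ℳ (LinearMap.range μ) hran).carrier,
        ∀ z, π z = (LinearMap.range μ).mkQ z := ⟨(LinearMap.range μ).mkQ, fun _ => rfl⟩
    have hπs : Function.Surjective π := by
      intro q
      obtain ⟨w, rfl⟩ := Submodule.mkQ_surjective (LinearMap.range μ) q
      exact ⟨w, hπdef w⟩
    have hπg : GrLC.IsGrHom ℳ (quotG 𝒜 ℳ (LinearMap.range μ) hran).gr π := by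
      intro j z hz
      rw [hπdef]
      exact mkQ_isGrHom ℳ (LinearMap.range μ) j z hz
    have hker : ∀ y, π y = 0 → ∃ z, x • z = y := by
      intro y hy
      rw [hπdef] at hy
      obtain ⟨w, hw⟩ := (Submodule.Quotient.mk_eq_zero _).1 hy
      exact ⟨w, by rw [← hμ]; exact hw⟩
    have hker' : ∀ z, π (x • z) = 0 := by
      intro z
      rw [hπdef]
      exact (Submodule.Quotient.mk_eq_zero _).2 ⟨z, hμ z⟩
    -- the dimension of the quotient
    have hdimC : Module.supportDim R (quotG 𝒜 ℳ (LinearMap.range μ) hran).carrier ≤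
        (e : WithBot ℕ∞) := by
      have h1 := Module.supportDim_quotSMulTop_succ_le_of_notMem_minimalPrimes
        (R := R) (M := M) (x := x) (fun _ => hreg.notMem_of_mem_minimalPrimes)
      have hle : x • (⊤ : Submodule R M) ≤ (LinearMap.range μ).comap LinearMap.id := by
        intro z hz
        obtain ⟨w, -, rfl⟩ := (Submodule.mem_smul_pointwise_iff_exists _ _ _).1 hz
        exact ⟨w, hμ w⟩
      have h2 : Module.supportDim R (quotG 𝒜 ℳ (LinearMap.range μ) hran).carrier ≤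
          Module.supportDim R (QuotSMulTop x M) :=
        Module.supportDim_le_of_surjective
          (Submodule.mapQ (x • (⊤ : Submodule R M)) (LinearMap.range μ) LinearMap.id hle)
          (by
            intro q
            obtain ⟨w, rfl⟩ := Submodule.mkQ_surjective (LinearMap.range μ) q
            exact ⟨Submodule.Quotient.mk w, rfl⟩)
      have h3 := (add_le_add_left h2 1).trans (h1.trans hdim)
      by_cases hne : Module.supportDim R (quotG 𝒜 ℳ (LinearMap.range μ) hran).carrier = ⊥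
      · rw [hne]
        exact bot_le
      · obtain ⟨t, ht⟩ := WithBot.ne_bot_iff_exists.1 hne
        rw [← ht] at h3 ⊢
        have h4 : ((t + 1 : ℕ∞) : WithBot ℕ∞) ≤ (((e + 1 : ℕ) : ℕ∞) : WithBot ℕ∞) := h3
        rw [WithBot.coe_le_coe] at h4
        have h5 : t ≤ (e : ℕ∞) := by
          have h6 : t + 1 ≤ (e : ℕ∞) + 1 := by exact_mod_cast h4
          exact (ENat.add_le_add_iff_right ENat.one_ne_top).1 h6
        exact WithBot.coe_le_coe.2 h5
    -- vanishing for the quotient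
    have hVC : ∀ i, i ≠ e → ∀ n, Vn FC (irr 𝒜) i n := by
      intro i hi n
      by_cases hie : i = e + 1
      · subst hie
        exact vn_of_supportDim_lt FC (irr 𝒜) (e + 1)
          (lt_of_le_of_lt hdimC (by exact_mod_cast Nat.lt_succ_self e)) n
      · exact (mulx_les (irr 𝒜) x k hx hreg π hπs hπg hker hker' E FC i).2 n
          (hV i hie n) (hV (i + 1) (by omega) (n + -k))
    -- the polynomial of the quotient
    have hQC : ∀ n : ℤ, Dfun 𝒜 FC d n = (Q - Q.comp (X - C (k : ℚ))).eval (n : ℚ) := by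
      intro n
      have e1 : ((n - k : ℤ) : ℚ) = (n : ℚ) - (k : ℚ) := by
        push_cast
        ring
      rw [← dfun_quot_regular 𝒜 hpos d hd M ℳ E x k hreg μ hμ hμgr hran FC n, hQ, hQ, eval_sub,
        eval_comp, eval_sub, eval_X, eval_C, e1]
    have h1 := @ih (quotG 𝒜 ℳ (LinearMap.range μ) hran).carrier _ _ hCfin
      (quotG 𝒜 ℳ (LinearMap.range μ) hran).gr _ _ FC hVC hdimC _ hQC
    have hk0 : (k : ℚ) ≠ 0 := by exact_mod_cast hk.ne'
    exact coeff_eq_zero_of_backDiff (k : ℚ) hk0 e Q h1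

end Main

end Groth.Agent.H98.GrCat
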