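import Mathlib
import Groth.Agent.H98.GrCMv

/-!
# Helper library (helper98): a standard graded algebra over a field `R_0` of dimension `r` whose
piece `R_1` is spanned by `r` elements is the polynomial ring in `r` variables; and for a regular
standard graded algebra the piece `R_1` is spanned by `dim R` elements.
-/

set_option autoImplicit false
universe u

open DirectSum

namespace Groth.Agent.H98.GrHt

open Groth.Agent.H98.GrCat

variable {R : Type u} [CommRing R] (𝒜 : ℤ → AddSubgroup R) [GradedRing 𝒜]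

section Comp

variable (hpos : ∀ n : ℤ, n < 0 → 𝒜 n = ⊥)

include hpos in
theorem cp_neg (z : R) (j : ℤ) (hj : j < 0) : cp 𝒜 z j = 0 := by
  have h := cp_mem 𝒜 z j
  rw [hpos j hj] at h
  exact AddSubgroup.mem_bot.1 h

include hpos in
/-- the component of degree zero is multiplicative on a ring graded in degrees `≥ 0` -/
theorem cp_mul_zero (a z : R) : cp 𝒜 (a * z) 0 = cp 𝒜 a 0 * cp 𝒜 z 0 := by
  classical
  refine DirectSum.Decomposition.inductionOn 𝒜
    (motive := fun a => cp 𝒜 (a * z) 0 = cp 𝒜 a 0 * cp 𝒜 z 0) ?_ ?_ ?_ a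
  · rw [zero_mul, cp_zero, zero_mul]
  · intro i a'
    rw [cp_mul_left 𝒜 a'.2, cp_of_mem 𝒜 a'.2]
    by_cases hi : (0 : ℤ) = i
    · subst hi
      rw [if_pos rfl, sub_zero]
    · rw [if_neg hi, zero_mul]
      rcases lt_or_gt_of_ne hi with h | h
      · rw [cp_neg 𝒜 hpos z (0 - i) (by omega), mul_zero]
      · have h' : (a' : R) ∈ (⊥ : AddSubgroup R) := by
          rw [← hpos i h]
          exact a'.2
        rw [AddSubgroup.mem_bot.1 h', zero_mul]
  · intro a b ha hb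
    rw [add_mul, cp_add, ha, hb, cp_add, add_mul]

include hpos in
/-- the component of degree one of a product on a ring graded in degrees `≥ 0` -/
theorem cp_mul_one (a z : R) :
    cp 𝒜 (a * z) 1 = cp 𝒜 a 0 * cp 𝒜 z 1 + cp 𝒜 a 1 * cp 𝒜 z 0 := by
  classical
  refine DirectSum.Decomposition.inductionOn 𝒜
    (motive := fun a => cp 𝒜 (a * z) 1 = cp 𝒜 a 0 * cp 𝒜 z 1 + cp 𝒜 a 1 * cp 𝒜 z 0) ?_ ?_ ?_ a
  · rw [zero_mul, cp_zero, cp_zero, zero_mul, zero_mul, add_zero]
  · intro i a'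
    rw [cp_mul_left 𝒜 a'.2, cp_of_mem 𝒜 a'.2, cp_of_mem 𝒜 a'.2]
    by_cases hi : (0 : ℤ) = i
    · subst hi
      rw [if_pos rfl, if_neg (by norm_num), sub_zero, zero_mul, add_zero]
    · by_cases hi1 : (1 : ℤ) = i
      · subst hi1
        rw [if_neg hi, if_pos rfl, sub_self, zero_mul, zero_add]
      · rw [if_neg hi, if_neg hi1, zero_mul, zero_mul, add_zero]
        by_cases h : i < 0
        · have h' : (a' : R) ∈ (⊥ : AddSubgroup R) := by
            rw [← hpos i h]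
            exact a'.2
          rw [AddSubgroup.mem_bot.1 h', zero_mul]
        · rw [cp_neg 𝒜 hpos z (1 - i) (by omega), mul_zero]
  · intro a b ha hb
    rw [add_mul, cp_add, ha, hb, cp_add, cp_add, add_mul, add_mul]
    ring

theorem sum_cp (z : R) [∀ (i : ℤ) (x : 𝒜 i), Decidable (x ≠ 0)] :
    ∑ i ∈ (DirectSum.decompose 𝒜 z).support, cp 𝒜 z i = z :=
  DirectSum.sum_support_decompose 𝒜 z

end Comp

section Iso

variable (hpos : ∀ n : ℤ, n < 0 → 𝒜 n = ⊥) (h0 : IsField (GrLC.deg0 𝒜))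
  (hgen : ∀ n : ℤ, 0 < n → ∀ x ∈ 𝒜 n, x ∈ Ideal.span ((𝒜 1 : AddSubgroup R) : Set R))
  (r : ℕ) (hr : ringKrullDim R = r) (y : Fin r → R)
  (hspan : ∀ x ∈ 𝒜 1, x ∈ Submodule.span (GrLC.deg0 𝒜) (Set.range y))

include hpos hgen hspan in
theorem aeval_surjective : Function.Surjective
    (MvPolynomial.aeval y : MvPolynomial (Fin r) (GrLC.deg0 𝒜) →ₐ[GrLC.deg0 𝒜] R) := by
  classical
  obtain ⟨Φ, hΦ⟩ : ∃ Φ : MvPolynomial (Fin r) (GrLC.deg0 𝒜) →ₐ[GrLC.deg0 𝒜] R,
      Φ = MvPolynomial.aeval y := ⟨_, rfl⟩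
  rw [← hΦ]
  have hA1 : ∀ x ∈ 𝒜 1, x ∈ Φ.range := by
    intro x hx
    refine Submodule.span_induction ?_ ?_ ?_ ?_ (hspan x hx)
    · rintro _ ⟨i, rfl⟩
      exact ⟨MvPolynomial.X i, by rw [hΦ]; exact MvPolynomial.aeval_X y i⟩
    · exact zero_mem _
    · intro a b _ _ ha hb
      exact add_mem ha hb
    · intro c a _ ha
      exact Subalgebra.smul_mem _ ha c
  have hAn : ∀ n : ℕ, ∀ x ∈ 𝒜 (n : ℤ), x ∈ Φ.range := by
    intro n
    induction n with
    | zero =>
      intro x hx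
      have hx0 : x ∈ 𝒜 0 := hx
      exact ⟨MvPolynomial.C (⟨x, hx0⟩ : GrLC.deg0 𝒜), by
        rw [hΦ]
        exact MvPolynomial.aeval_C y _⟩
    | succ n ih =>
      intro x hx
      have hx' := hgen ((n + 1 : ℕ) : ℤ) (by positivity) x hx
      obtain ⟨N, f, g, hsum⟩ := Submodule.mem_span_set'.1 hx'
      have h1 : x = cp 𝒜 x ((n + 1 : ℕ) : ℤ) := by
        rw [cp_of_mem 𝒜 hx, if_pos rfl]
      have h2 : cp 𝒜 x ((n + 1 : ℕ) : ℤ) =
          ∑ i, (g i : R) * cp 𝒜 (f i) (n : ℤ) := by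
        rw [← hsum]
        have h3 : cp 𝒜 (∑ i, f i • (g i : R)) ((n + 1 : ℕ) : ℤ) =
            ∑ i, cp 𝒜 (f i • (g i : R)) ((n + 1 : ℕ) : ℤ) :=
          map_sum (compHom 𝒜 ((n + 1 : ℕ) : ℤ)) _ _
        rw [h3]
        refine Finset.sum_congr rfl (fun i _ => ?_)
        rw [smul_eq_mul, mul_comm, cp_mul_left 𝒜 (g i).2]
        congr 2
        push_cast
        ring
      rw [h1, h2]
      refine sum_mem (fun i _ => mul_mem (hA1 _ (g i).2) (ih _ (cp_mem 𝒜 _ _)))
  intro x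
  have hx : x ∈ Φ.range := by
    rw [← sum_cp 𝒜 x]
    refine sum_mem (fun i _ => ?_)
    by_cases hi : i < 0
    · rw [cp_neg 𝒜 hpos x i hi]
      exact zero_mem _
    · have h := hAn i.toNat (cp 𝒜 x i) (by
        rw [Int.toNat_of_nonneg (by omega)]
        exact cp_mem 𝒜 x i)
      exact h
  exact hx

include hpos h0 hgen hr hspan in
/-- a standard graded algebra of dimension `r` over the field `R_0` generated by `r` elements of
degree one is the polynomial ring -/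
theorem aeval_bijective [IsNoetherianRing R] : Function.Bijective
    (MvPolynomial.aeval y : MvPolynomial (Fin r) (GrLC.deg0 𝒜) →ₐ[GrLC.deg0 𝒜] R) := by
  classical
  have hsurj := aeval_surjective 𝒜 hpos hgen r y hspan
  refine ⟨?_, hsurj⟩
  have : IsDomain (GrLC.deg0 𝒜) := h0.isDomain
  have : IsNoetherianRing (GrLC.deg0 𝒜) := by
    let _ := h0.toField
    infer_instance
  rw [injective_iff_map_eq_zero]
  intro f hf
  by_contra hne
  have hnz : f ∈ nonZeroDivisors (MvPolynomial (Fin r) (GrLC.deg0 𝒜)) :=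
    mem_nonZeroDivisors_of_ne_zero hne
  have h1 := ringKrullDim_quotient_succ_le_of_nonZeroDivisor hnz
  have hdimS : ringKrullDim (MvPolynomial (Fin r) (GrLC.deg0 𝒜)) = (r : WithBot ℕ∞) := by
    rw [MvPolynomial.ringKrullDim_of_isNoetherianRing, ringKrullDim_eq_zero_of_isField h0]
    simp
  have hlift : ∀ a ∈ Ideal.span {f}, (MvPolynomial.aeval y :
      MvPolynomial (Fin r) (GrLC.deg0 𝒜) →ₐ[GrLC.deg0 𝒜] R).toRingHom a = 0 := by
    intro a ha
    obtain ⟨b, rfl⟩ := Ideal.mem_span_singleton'.1 ha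
    show (MvPolynomial.aeval y) (b * f) = 0
    rw [map_mul, hf, mul_zero]
  have hψ : Function.Surjective (Ideal.Quotient.lift (Ideal.span {f}) _ hlift) :=
    Ideal.Quotient.lift_surjective_of_surjective _ hlift hsurj
  have h2 := ringKrullDim_le_of_surjective
    (R := MvPolynomial (Fin r) (GrLC.deg0 𝒜) ⧸ Ideal.span {f}) (S := R)
    (Ideal.Quotient.lift (Ideal.span {f}) (MvPolynomial.aeval y :
      MvPolynomial (Fin r) (GrLC.deg0 𝒜) →ₐ[GrLC.deg0 𝒜] R).toRingHom hlift) hψ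
  rw [hr] at h2
  rw [hdimS] at h1
  have h3 : ((r + 1 : ℕ) : WithBot ℕ∞) ≤ (r : WithBot ℕ∞) := by
    have h4 := (add_le_add_left h2 1).trans h1
    exact_mod_cast h4
  have h4 : r + 1 ≤ r := by exact_mod_cast h3
  omega

end Iso

end Groth.Agent.H98.GrHt
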