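import Mathlib
import Groth.Agent.H98.GrPolyIso

/-!
# Helper library (helper98): in a regular standard graded algebra `R` over the field `R_0`, the
piece `R_1` is spanned over `R_0` by `dim R` elements (the embedding dimension of the regular
local ring `R_m` is `ht m ≤ dim R`, and `R_1` injects into `mR_m / m²R_m`).
-/

set_option autoImplicit false
universe u

open DirectSum

namespace Groth.Agent.H98.GrHt

open Groth.Agent.H98.GrCat

section Loc

/-- numerators of a finite generating set of the extension of a prime to its localization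
generate the prime up to multiplication by elements outside -/
theorem exists_mul_mem_of_span_eq {R : Type u} [CommRing R] (p : Ideal R) [p.IsPrime]
    (A : Type u) [CommRing A] [Algebra R A] [IsLocalization.AtPrime A p] (T : Finset A)
    (hT : Ideal.span (T : Set A) = Ideal.map (algebraMap R A) p) :
    ∃ num : A → R, (∀ g ∈ T, num g ∈ p) ∧
      ∀ x ∈ p, ∃ v : R, v ∉ p ∧ v * x ∈ Ideal.span (num '' (T : Set A)) := by
  classical
  have key : ∀ g : A, ∃ a u : R, g ∈ Ideal.map (algebraMap R A) p →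
      a ∈ p ∧ u ∉ p ∧ g * algebraMap R A u = algebraMap R A a := by
    intro g
    by_cases hg : g ∈ Ideal.map (algebraMap R A) p
    · obtain ⟨⟨a, u⟩, h⟩ := (IsLocalization.mem_map_algebraMap_iff p.primeCompl A).1 hg
      exact ⟨a, u, fun _ => ⟨a.2, u.2, h⟩⟩
    · exact ⟨0, 0, fun h => absurd h hg⟩
  choose num den hnd using key
  have hTmem : ∀ g ∈ T, g ∈ Ideal.map (algebraMap R A) p := by
    intro g hg
    rw [← hT]
    exact Ideal.subset_span hg
  refine ⟨num, fun g hg => (hnd g (hTmem g hg)).1, ?_⟩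
  intro x hx
  have hle : Ideal.span (T : Set A) ≤
      Ideal.map (algebraMap R A) (Ideal.span (num '' (T : Set A))) := by
    rw [Ideal.span_le]
    intro g hg
    obtain ⟨-, hu, heq⟩ := hnd g (hTmem g hg)
    have hunit : IsUnit (algebraMap R A (den g)) :=
      IsLocalization.map_units A (⟨den g, hu⟩ : p.primeCompl)
    obtain ⟨w, hw⟩ := hunit
    have hg' : g = algebraMap R A (num g) * ((w⁻¹ : Aˣ) : A) := by
      rw [← heq, ← hw, mul_assoc, Units.mul_inv, mul_one]
    rw [SetLike.mem_coe, hg']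
    exact Ideal.mul_mem_right _ _ (Ideal.mem_map_of_mem _ (Ideal.subset_span ⟨g, hg, rfl⟩))
  have hx' : algebraMap R A x ∈
      Ideal.map (algebraMap R A) (Ideal.span (num '' (T : Set A))) :=
    hle (by rw [hT]; exact Ideal.mem_map_of_mem _ hx)
  obtain ⟨⟨a, v⟩, h⟩ := (IsLocalization.mem_map_algebraMap_iff p.primeCompl A).1 hx'
  have h' : algebraMap R A (x * (v : R)) = algebraMap R A (a : R) := by
    rw [map_mul]
    exact h
  obtain ⟨c, hc⟩ := (IsLocalization.eq_iff_exists p.primeCompl A).1 h'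
  refine ⟨(c : R) * (v : R), ?_, ?_⟩
  · have h1 : ((c * v : p.primeCompl) : R) ∈ p.primeCompl := (c * v).2
    exact h1
  · have h2 : (c : R) * (v : R) * x = (c : R) * (x * (v : R)) := by ring
    rw [h2, hc]
    exact Ideal.mul_mem_left _ _ a.2

end Loc

variable {R : Type u} [CommRing R] (𝒜 : ℤ → AddSubgroup R) [GradedRing 𝒜]

section Reg

variable (hpos : ∀ n : ℤ, n < 0 → 𝒜 n = ⊥) (h0 : IsField (GrLC.deg0 𝒜))
  (m : HomogeneousIdeal 𝒜) (hm : IsCoatom m)

include hpos h0 hm in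
/-- elements of the *maximal ideal have no component of degree zero -/
theorem cp_zero_of_mem {z : R} (hz : z ∈ m.toIdeal) : cp 𝒜 z 0 = 0 := by
  have hmax : m.toIdeal.IsMaximal := isMaximal_of_isCoatom 𝒜 hpos m hm
  by_contra hne
  have h1 : cp 𝒜 z 0 ∈ m.toIdeal := m.isHomogeneous 0 hz
  obtain ⟨b, hb⟩ := h0.mul_inv_cancel (a := (⟨cp 𝒜 z 0, cp_mem 𝒜 z 0⟩ : GrLC.deg0 𝒜))
    (fun h => hne (congrArg Subtype.val h))
  have h2 : cp 𝒜 z 0 * (b : R) = 1 := congrArg Subtype.val hb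
  have h3 : (1 : R) ∈ m.toIdeal := by
    rw [← h2]
    exact Ideal.mul_mem_right _ _ h1
  exact hmax.ne_top ((Ideal.eq_top_iff_one _).2 h3)

include hpos h0 hm in
/-- **generators in degree one**: in a regular standard graded algebra of dimension `r` over the
field `R_0`, the piece `R_1` is spanned by `r` elements -/
theorem exists_span_of_isRegularRing [IsRegularRing R] (r : ℕ) (hr : ringKrullDim R = r) :
    ∃ y : Fin r → R, (∀ i, y i ∈ 𝒜 1) ∧
      ∀ x ∈ 𝒜 1, x ∈ Submodule.span (GrLC.deg0 𝒜) (Set.range y) := by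
  classical
  haveI hmax : m.toIdeal.IsMaximal := isMaximal_of_isCoatom 𝒜 hpos m hm
  haveI hprime : m.toIdeal.IsPrime := hmax.isPrime
  have hreg : IsRegularLocalRing (Localization.AtPrime m.toIdeal) := inferInstance
  have hs := hreg.spanFinrank_maximalIdeal
  have hdim : ringKrullDim (Localization.AtPrime m.toIdeal) ≤ (r : WithBot ℕ∞) := by
    rw [IsLocalization.AtPrime.ringKrullDim_eq_height m.toIdeal (Localization.AtPrime m.toIdeal),
      ← hr]
    exact Ideal.height_le_ringKrullDim_of_ne_top hmax.ne_top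
  have hsr : (IsLocalRing.maximalIdeal (Localization.AtPrime m.toIdeal)).spanFinrank ≤ r := by
    rw [← hs] at hdim
    exact_mod_cast hdim
  obtain ⟨T, hTcard, hTspan⟩ := (IsNoetherian.noetherian
    (IsLocalRing.maximalIdeal (Localization.AtPrime m.toIdeal))).exists_span_finset_card_eq_spanFinrank
  have hT : Ideal.span (T : Set (Localization.AtPrime m.toIdeal)) =
      Ideal.map (algebraMap R (Localization.AtPrime m.toIdeal)) m.toIdeal := by
    rw [IsLocalization.AtPrime.map_eq_maximalIdeal m.toIdeal (Localization.AtPrime m.toIdeal)]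
    exact hTspan
  obtain ⟨num, hnum, hmul⟩ := exists_mul_mem_of_span_eq m.toIdeal
    (Localization.AtPrime m.toIdeal) T hT
  obtain ⟨W, hW⟩ : ∃ W : Submodule (GrLC.deg0 𝒜) R, W = Submodule.span (GrLC.deg0 𝒜)
      ((fun g => cp 𝒜 (num g) 1) '' (T : Set (Localization.AtPrime m.toIdeal))) := ⟨_, rfl⟩
  have hJ : ∀ z ∈ Ideal.span (num '' (T : Set (Localization.AtPrime m.toIdeal))),
      cp 𝒜 z 0 = 0 ∧ cp 𝒜 z 1 ∈ W := by
    intro z hz
    refine Submodule.span_induction ?_ ?_ ?_ ?_ hz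
    · rintro _ ⟨g, hg, rfl⟩
      refine ⟨cp_zero_of_mem 𝒜 hpos h0 m hm (hnum g hg), ?_⟩
      rw [hW]
      exact Submodule.subset_span ⟨g, hg, rfl⟩
    · exact ⟨cp_zero 𝒜 0, by rw [cp_zero]; exact zero_mem _⟩
    · rintro a b _ _ ⟨ha0, ha1⟩ ⟨hb0, hb1⟩
      exact ⟨by rw [cp_add, ha0, hb0, add_zero], by rw [cp_add]; exact add_mem ha1 hb1⟩
    · rintro a z _ ⟨hz0, hz1⟩
      refine ⟨by rw [smul_eq_mul, cp_mul_zero 𝒜 hpos, hz0, mul_zero], ?_⟩
      rw [smul_eq_mul, cp_mul_one 𝒜 hpos, hz0, mul_zero, add_zero]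
      have h1 := W.smul_mem (⟨cp 𝒜 a 0, cp_mem 𝒜 a 0⟩ : GrLC.deg0 𝒜) hz1
      exact h1
  have hA1 : ∀ x ∈ 𝒜 1, x ∈ W := by
    intro x hx
    have hxm : x ∈ m.toIdeal := mem_of_pos_degree 𝒜 hpos m hm one_pos hx
    obtain ⟨v, hv, hvx⟩ := hmul x hxm
    obtain ⟨-, h1⟩ := hJ _ hvx
    rw [cp_mul_one 𝒜 hpos, cp_of_mem 𝒜 hx, cp_of_mem 𝒜 hx, if_pos rfl, if_neg (by norm_num),
      mul_zero, add_zero] at h1
    have hv0 : cp 𝒜 v 0 ≠ 0 := by
      intro h
      apply hv
      rw [← sum_cp 𝒜 v]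
      refine sum_mem (fun i _ => ?_)
      rcases lt_trichotomy i 0 with hi | hi | hi
      · rw [cp_neg 𝒜 hpos v i hi]
        exact zero_mem _
      · rw [hi, h]
        exact zero_mem _
      · exact mem_of_pos_degree 𝒜 hpos m hm hi (cp_mem 𝒜 v i)
    obtain ⟨b, hb⟩ := h0.mul_inv_cancel (a := (⟨cp 𝒜 v 0, cp_mem 𝒜 v 0⟩ : GrLC.deg0 𝒜))
      (fun h => hv0 (congrArg Subtype.val h))
    have hb' : cp 𝒜 v 0 * (b : R) = 1 := congrArg Subtype.val hb
    have h2 := W.smul_mem b h1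
    have h3 : (b : R) * (cp 𝒜 v 0 * x) = x := by
      rw [← mul_assoc, mul_comm (b : R), hb', one_mul]
    rw [← h3]
    exact h2
  have hcard : T.card ≤ r := by
    rw [hTcard]
    exact hsr
  obtain ⟨emb⟩ : Nonempty (↥T ↪ Fin r) :=
    Function.Embedding.nonempty_of_card_le (by simpa using hcard)
  obtain ⟨y, hy⟩ : ∃ y : Fin r → R, ∀ i, y i =
      if h : ∃ t : ↥T, emb t = i then cp 𝒜 (num ((h.choose : ↥T) : Localization.AtPrime m.toIdeal)) 1
      else 0 := ⟨_, fun _ => rfl⟩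
  refine ⟨y, ?_, ?_⟩
  · intro i
    rw [hy]
    split_ifs
    · exact cp_mem 𝒜 _ _
    · exact zero_mem _
  · intro x hx
    have hx' := hA1 x hx
    rw [hW] at hx'
    refine Submodule.span_mono ?_ hx'
    rintro _ ⟨g, hg, rfl⟩
    have hex : ∃ t : ↥T, emb t = emb ⟨g, hg⟩ := ⟨_, rfl⟩
    have hch : hex.choose = ⟨g, hg⟩ := emb.injective hex.choose_spec
    refine ⟨emb ⟨g, hg⟩, ?_⟩
    rw [hy, dif_pos hex, hch]

end Reg

end Groth.Agent.H98.GrHt
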