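import Mathlib
import Groth.Agent.H98.GrHPoly
import Groth.Agent.H98.GrRegGen
import Groth.Agent.H98.GrSeq
import Groth.Agent.H98.GrStd
import Groth.Agent.H98.GrReg

/-!
# Helper library (helper98): the `a`-invariant of a Cohen–Macaulay standard graded algebra `R` of
dimension `r` over the field `R_0` equals `-r` exactly when `R` is a polynomial ring in `r`
variables over `R_0`.
-/

set_option autoImplicit false
universe u

open DirectSum Polynomial

namespace Groth.Agent.H98.GrHt

open Groth.Agent.H98.GrCat Groth.Agent.H98.GrConv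

section PolyLemma

theorem prod_add_two (s : ℕ) : ∏ i ∈ Finset.range s, ((i : ℚ) + 1 + 1) =
    ((s : ℚ) + 1) * ∏ i ∈ Finset.range s, ((i : ℚ) + 1) := by
  induction s with
  | zero => simp
  | succ s ih =>
    rw [Finset.prod_range_succ, Finset.prod_range_succ, ih]
    push_cast
    ring

/-- a polynomial of degree `< r` with roots `-1, …, -(r-1)` and value `1` at `0` takes the value
`r` at `1` -/
theorem eval_one_of_roots (Q : ℚ[X]) (r : ℕ) (hr : 1 ≤ r) (hdeg : ∀ j, r ≤ j → Q.coeff j = 0)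
    (hroots : ∀ i : ℕ, 1 ≤ i → i < r → Q.eval (-(i : ℚ)) = 0) (h0 : Q.eval 0 = 1) :
    Q.eval 1 = (r : ℚ) := by
  obtain ⟨s, rfl⟩ : ∃ s, r = s + 1 := ⟨r - 1, by omega⟩
  obtain ⟨G, hG⟩ : ∃ G : ℚ[X], G = ∏ i ∈ Finset.range s, (X + C ((i : ℚ) + 1)) := ⟨_, rfl⟩
  have hGm : G.Monic := by
    rw [hG]
    exact monic_prod_of_monic _ _ (fun i _ => monic_X_add_C _)
  have hGd : G.natDegree = s := by
    rw [hG, natDegree_prod_of_monic _ _ (fun i _ => monic_X_add_C _),
      Finset.sum_congr rfl (fun i _ => natDegree_X_add_C _)]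
    simp
  have hP : (Q - C (Q.coeff s) * G).degree < (s : ℕ) := by
    rw [degree_lt_iff_coeff_zero]
    intro j hj
    rw [coeff_sub, coeff_C_mul]
    rcases Nat.eq_or_lt_of_le hj with h | h
    · rw [← h]
      have h1 : G.coeff s = 1 := by
        have h2 := hGm.coeff_natDegree
        rwa [hGd] at h2
      rw [h1, mul_one, sub_self]
    · have h1 : G.coeff j = 0 := coeff_eq_zero_of_natDegree_lt (by rw [hGd]; exact h)
      rw [hdeg j (by omega), h1, mul_zero, sub_zero]
  have hinj : Function.Injective (fun i : ℕ => -((i : ℚ) + 1)) := by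
    intro a b hab
    have h1 : -((a : ℚ) + 1) = -((b : ℚ) + 1) := hab
    have h2 : (a : ℚ) = (b : ℚ) := by linarith
    exact_mod_cast h2
  have hcard : ((Finset.range s).image (fun i : ℕ => -((i : ℚ) + 1))).card = s := by
    rw [Finset.card_image_of_injective _ hinj, Finset.card_range]
  have hzero : Q - C (Q.coeff s) * G = 0 := by
    refine eq_zero_of_degree_lt_of_eval_finset_eq_zero
      ((Finset.range s).image (fun i : ℕ => -((i : ℚ) + 1))) (by rw [hcard]; exact hP) ?_
    intro x hx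
    obtain ⟨i, hi, rfl⟩ := Finset.mem_image.1 hx
    have hi' : i < s := Finset.mem_range.1 hi
    have h1 : Q.eval (-((i : ℚ) + 1)) = 0 := by
      have h2 := hroots (i + 1) (by omega) (by omega)
      push_cast at h2
      exact h2
    have h2 : G.eval (-((i : ℚ) + 1)) = 0 := by
      rw [hG, eval_prod]
      refine Finset.prod_eq_zero hi ?_
      rw [eval_add, eval_X, eval_C]
      ring
    rw [eval_sub, eval_mul, eval_C, h1, h2, mul_zero, sub_zero]
  have hQ : Q = C (Q.coeff s) * G := sub_eq_zero.1 hzero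
  have hG0 : G.eval 0 = ∏ i ∈ Finset.range s, ((i : ℚ) + 1) := by
    rw [hG, eval_prod]
    refine Finset.prod_congr rfl (fun i _ => ?_)
    rw [eval_add, eval_X, eval_C, zero_add]
  have hG1 : G.eval 1 = ∏ i ∈ Finset.range s, ((i : ℚ) + 1 + 1) := by
    rw [hG, eval_prod]
    refine Finset.prod_congr rfl (fun i _ => ?_)
    rw [eval_add, eval_X, eval_C]
    ring
  rw [hQ, eval_mul, eval_C, hG0] at h0
  rw [hQ, eval_mul, eval_C, hG1, prod_add_two]
  push_cast
  have h3 : Q.coeff s * (((s : ℚ) + 1) * ∏ i ∈ Finset.range s, ((i : ℚ) + 1)) =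
      ((s : ℚ) + 1) * (Q.coeff s * ∏ i ∈ Finset.range s, ((i : ℚ) + 1)) := by ring
  rw [h3, h0, mul_one]

end PolyLemma

section XReg

variable (k : Type u) [CommRing k] (n : ℕ)

theorem one_notMem_span_X' [Nontrivial k] : (1 : MvPolynomial (Fin n) k) ∉
    Ideal.span (Set.range (MvPolynomial.X : Fin n → MvPolynomial (Fin n) k)) := by
  classical
  rw [← Set.image_univ, MvPolynomial.mem_ideal_span_X_image]
  intro h
  have h0 : (0 : Fin n →₀ ℕ) ∈ (1 : MvPolynomial (Fin n) k).support := by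
    rw [MvPolynomial.mem_support_iff, MvPolynomial.coeff_one, if_pos rfl]
    exact one_ne_zero
  obtain ⟨i, _, hi⟩ := h 0 h0
  exact hi rfl

theorem X_take_eq' (s : ℕ) :
    Ideal.ofList ((List.ofFn (fun i : Fin n =>
      (MvPolynomial.X i : MvPolynomial (Fin n) k))).take s) =
      Ideal.span (MvPolynomial.X '' {i : Fin n | i.val < s}) := by
  show Ideal.span {y | y ∈ (List.ofFn (fun i : Fin n =>
      (MvPolynomial.X i : MvPolynomial (Fin n) k))).take s} = _
  congr 1
  ext y
  rw [Set.mem_ofPred_eq, List.mem_take_iff_getElem]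
  constructor
  · rintro ⟨j, hj, rfl⟩
    have hj' := lt_min_iff.1 hj
    rw [List.length_ofFn] at hj'
    refine ⟨⟨j, hj'.2⟩, hj'.1, ?_⟩
    rw [List.getElem_ofFn]
  · rintro ⟨i, hi, rfl⟩
    have hi' : i.val < s := hi
    refine ⟨i.val, lt_min_iff.2 ⟨hi', ?_⟩, ?_⟩
    · rw [List.length_ofFn]
      exact i.isLt
    · rw [List.getElem_ofFn]

theorem X_isWeaklyRegular' : RingTheory.Sequence.IsWeaklyRegular (MvPolynomial (Fin n) k)
    (List.ofFn (fun i : Fin n => (MvPolynomial.X i : MvPolynomial (Fin n) k))) := by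
  classical
  refine ⟨fun s hs => ?_⟩
  have hs' : s < n := by
    rw [List.length_ofFn] at hs
    exact hs
  rw [isSMulRegular_quotient_iff_mem_of_smul_mem]
  have hset : Ideal.ofList ((List.ofFn (fun i : Fin n =>
      (MvPolynomial.X i : MvPolynomial (Fin n) k))).take s) •
        (⊤ : Submodule (MvPolynomial (Fin n) k) (MvPolynomial (Fin n) k)) =
      Ideal.span (MvPolynomial.X '' {i : Fin n | i.val < s}) := by
    rw [smul_eq_mul, Ideal.mul_top]
    exact X_take_eq' k n s
  have hget : (List.ofFn (fun i : Fin n =>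
      (MvPolynomial.X i : MvPolynomial (Fin n) k)))[s] = MvPolynomial.X ⟨s, hs'⟩ := by
    rw [List.getElem_ofFn]
  rw [hset, hget]
  intro p hp
  rw [smul_eq_mul, MvPolynomial.mem_ideal_span_X_image] at hp
  rw [MvPolynomial.mem_ideal_span_X_image]
  intro m hm
  have hm' : Finsupp.single (⟨s, hs'⟩ : Fin n) 1 + m ∈
      (MvPolynomial.X (⟨s, hs'⟩ : Fin n) * p).support := by
    rw [MvPolynomial.mem_support_iff, MvPolynomial.coeff_X_mul]
    exact MvPolynomial.mem_support_iff.1 hm
  obtain ⟨i, hi, hne⟩ := hp _ hm'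
  refine ⟨i, hi, ?_⟩
  have his : i ≠ (⟨s, hs'⟩ : Fin n) := by
    intro h
    rw [h] at hi
    exact lt_irrefl _ (show s < s from hi)
  rw [Finsupp.add_apply, Finsupp.single_eq_of_ne his, zero_add] at hne
  exact hne

theorem X_isRegular' [Nontrivial k] : RingTheory.Sequence.IsRegular (MvPolynomial (Fin n) k)
    (List.ofFn (fun i : Fin n => (MvPolynomial.X i : MvPolynomial (Fin n) k))) := by
  refine ⟨X_isWeaklyRegular' k n, ?_⟩
  intro h
  apply one_notMem_span_X' k n
  have h1 : Ideal.ofList (List.ofFn (fun i : Fin n =>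
      (MvPolynomial.X i : MvPolynomial (Fin n) k))) =
      Ideal.span (Set.range (MvPolynomial.X : Fin n → MvPolynomial (Fin n) k)) := by
    show Ideal.span {y | y ∈ List.ofFn (fun i : Fin n =>
      (MvPolynomial.X i : MvPolynomial (Fin n) k))} = _
    congr 1
    ext y
    rw [Set.mem_ofPred_eq, List.mem_ofFn]
    rfl
  rw [← h1]
  rw [smul_eq_mul, Ideal.mul_top] at h
  rw [← h]
  exact Submodule.mem_top

/-- the images of the variables under a ring isomorphism from the polynomial ring form a regular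
sequence -/
theorem ofFn_isRegular_of_ringEquiv [Nontrivial k] {R : Type u} [CommRing R]
    (Φ : MvPolynomial (Fin n) k ≃+* R) (y : Fin n → R) (hΦ : ∀ i, Φ (MvPolynomial.X i) = y i) :
    RingTheory.Sequence.IsRegular R (List.ofFn y) := by
  have h := X_isRegular' k n
  have e := (Φ.toAddEquiv).isRegular_congr
    (as := List.ofFn (fun i : Fin n => (MvPolynomial.X i : MvPolynomial (Fin n) k)))
    (bs := (List.ofFn (fun i : Fin n => (MvPolynomial.X i : MvPolynomial (Fin n) k))).map Φ)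
    (List.forall₂_map_right_iff.mpr <| List.forall₂_same.mpr fun p _ x => by
      show Φ (p * x) = Φ p * Φ x
      exact map_mul Φ p x)
  have h2 := e.1 h
  have h3 : (List.ofFn (fun i : Fin n => (MvPolynomial.X i : MvPolynomial (Fin n) k))).map Φ =
      List.ofFn y := by
    rw [List.map_ofFn]
    congr 1
    funext i
    exact hΦ i
  rw [h3] at h2
  exact h2

end XReg

section Residue

variable {R : Type u} [CommRing R] (𝒜 : ℤ → AddSubgroup R) [GradedRing 𝒜]
  (hpos : ∀ n : ℤ, n < 0 → 𝒜 n = ⊥) (m : HomogeneousIdeal 𝒜) (hm : IsCoatom m)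

include hpos hm in
/-- the zeroth graded local cohomology of the residue field `R/m` ends in degree zero -/
theorem endDeg_H0_residue
    (F : GrLC.StarInjRes 𝒜 (quotG 𝒜 𝒜 m.toIdeal m.isHomogeneous).gr) :
    GrLC.endDeg (F.Hgr m 0) = (((0 : ℤ) : WithTop ℤ) : WithBot (WithTop ℤ)) := by
  classical
  have hmax : m.toIdeal.IsMaximal := isMaximal_of_isCoatom 𝒜 hpos m hm
  have hNj : ∀ j : ℤ, j ≠ 0 → (quotG 𝒜 𝒜 m.toIdeal m.isHomogeneous).gr j = ⊥ := by
    intro j hj
    rw [eq_bot_iff]
    rintro q ⟨z, hz, rfl⟩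
    rw [AddSubgroup.mem_bot]
    have hz' : z ∈ 𝒜 j := hz
    refine (Submodule.Quotient.mk_eq_zero _).2 ?_
    rcases lt_or_gt_of_ne hj with h | h
    · rw [hpos j h] at hz'
      rw [AddSubgroup.mem_bot.1 hz']
      exact zero_mem _
    · exact mem_of_pos_degree 𝒜 hpos m hm h hz'
  have htor : GrLC.gam m.toIdeal (quotG 𝒜 𝒜 m.toIdeal m.isHomogeneous).carrier = ⊤ := by
    rw [eq_top_iff]
    intro q _
    obtain ⟨z, rfl⟩ := Submodule.mkQ_surjective (m.toIdeal : Submodule R R) q
    refine ⟨1, fun r hr => ?_⟩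
    rw [pow_one] at hr
    show (m.toIdeal : Submodule R R).mkQ (r • z) = 0
    exact (Submodule.Quotient.mk_eq_zero _).2 (Ideal.mul_mem_right _ _ hr)
  have hV : ∀ j : ℤ, j ≠ 0 → Vn F m 0 j := fun j hj => vn_zero_of_piece_eq_bot F m j (hNj j hj)
  have hnV : ¬ Vn F m 0 0 := by
    intro h
    have h1 := piece_eq_bot_of_vn_zero F m 0 htor h
    have h2 : (m.toIdeal : Submodule R R).mkQ (1 : R) ∈
        (quotG 𝒜 𝒜 m.toIdeal m.isHomogeneous).gr 0 :=
      ⟨1, SetLike.GradedOne.one_mem (A := 𝒜), rfl⟩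
    rw [h1] at h2
    have h3 := (Submodule.Quotient.mk_eq_zero _).1 (AddSubgroup.mem_bot.1 h2)
    exact hmax.ne_top ((Ideal.eq_top_iff_one _).2 h3)
  apply le_antisymm
  · refine (endDeg_le_iff _ 0).2 (fun e he => ?_)
    by_contra hne
    exact (hgr_ne_bot_iff F m 0 e).1 hne (hV e (by omega))
  · exact le_iSup₂ (f := fun (n : ℤ) (_ : F.Hgr m 0 n ≠ ⊥) =>
      ((n : WithTop ℤ) : WithBot (WithTop ℤ))) 0 ((hgr_ne_bot_iff F m 0 0).2 hnV)

end Residue

end Groth.Agent.H98.GrHt
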