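import Mathlib
import Groth.Agent.H98.GrAInv

/-!
# Helper library (helper98): the two directions of `a(R) = -dim R ↔ R ≅ R_0[x_1, …, x_r]` for a
Cohen–Macaulay standard graded algebra over the field `R_0`.
-/

set_option autoImplicit false
universe u

open DirectSum Polynomial

namespace Groth.Agent.H98.GrHt

open Groth.Agent.H98.GrCat Groth.Agent.H98.GrConv

/-- a vector space of length `r` over a field is spanned by `r` vectors -/
theorem exists_span_of_length (K : Type u) [Field K] (V : Type u) [AddCommGroup V] [Module K V]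
    (r : ℕ) (h : Module.length K V = r) :
    ∃ v : Fin r → V, Submodule.span K (Set.range v) = ⊤ := by
  have hfin : IsFiniteLength K V :=
    Module.length_ne_top_iff.1 (by rw [h]; exact ENat.natCast_ne_top r)
  have : IsNoetherian K V := (isFiniteLength_iff_isNoetherian_isArtinian.1 hfin).1
  have hfr : Module.finrank K V = r := by
    unfold Module.finrank
    rw [← Cardinal.toNat_toENat, ← Module.length_eq_rank, h, ENat.toNat_natCast]
  exact ⟨Module.finBasisOfFinrankEq K V hfr, (Module.finBasisOfFinrankEq K V hfr).span_eq⟩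

section Main

variable {R : Type u} [CommRing R] [LocCoh.IsCohenMacaulayRing R] (𝒜 : ℤ → AddSubgroup R)
  [GradedRing 𝒜]
  (hpos : ∀ n : ℤ, n < 0 → 𝒜 n = ⊥) (h0 : IsField (GrLC.deg0 𝒜)) (m : HomogeneousIdeal 𝒜)
  (hm : GrLC.IsStarLocal 𝒜 m)
  (hmsp : m.toIdeal = Ideal.span (⋃ n ∈ Set.Ioi (0 : ℤ), (𝒜 n : Set R)))
  (hstd : Ideal.span (⋃ n ∈ Set.Ioi (0 : ℤ), (𝒜 n : Set R)) =
    Ideal.span ((𝒜 1 : AddSubgroup R) : Set R))
  (r : ℕ) (hr : ringKrullDim R = r) (I : GrLC.StarInjRes 𝒜 𝒜)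

omit [LocCoh.IsCohenMacaulayRing R] [GradedRing 𝒜] in
include hstd in
theorem hgen_of_std : ∀ n : ℤ, 0 < n → ∀ x ∈ 𝒜 n,
    x ∈ Ideal.span ((𝒜 1 : AddSubgroup R) : Set R) := by
  intro n hn x hx
  rw [← hstd]
  exact Ideal.subset_span (Set.mem_biUnion (Set.mem_Ioi.2 hn) hx)

include hpos h0 hm hmsp hstd hr in
/-- `a(R) = -r` forces `R` to be a polynomial ring -/
theorem poly_of_ainv
    (ha : GrLC.endDeg (I.Hgr m r) = (((-(r : ℤ) : ℤ) : WithTop ℤ) : WithBot (WithTop ℤ))) :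
    Nonempty (R ≃+* MvPolynomial (Fin r) (GrLC.deg0 𝒜)) := by
  classical
  have hArt : IsArtinianRing (GrLC.deg0 𝒜) := by
    let _ := h0.toField
    infer_instance
  have hstd' : (irr 𝒜).toIdeal = Ideal.span ((𝒜 1 : AddSubgroup R) : Set R) :=
    (irr_toIdeal 𝒜).trans hstd
  have hgam : ∀ (X : Type u) [AddCommGroup X] [Module R X],
      GrLC.gam m.toIdeal X = GrLC.gam (irr 𝒜).toIdeal X := by
    intro X _ _
    rw [hmsp, irr_toIdeal]
  -- vanishing
  have hV : ∀ i, i ≠ r → ∀ n, Vn I (irr 𝒜) i n := by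
    intro i hi n
    refine vn_congr_ideal I m (irr 𝒜) hgam i n ?_
    rcases Nat.lt_or_gt_of_ne hi with h | h
    · exact vn_of_cm hpos m hm r hr I i h n
    · exact vn_of_dim_lt r hr I m i h n
  have hVr : ∀ n : ℤ, -(r : ℤ) < n → Vn I (irr 𝒜) r n := by
    intro n hn
    refine vn_congr_ideal I m (irr 𝒜) hgam r n ?_
    exact vn_of_Hgr_eq_bot ((endDeg_le_iff _ _).1 (le_of_eq ha) n hn)
  obtain ⟨Q, hQ⟩ := exists_dfun_poly 𝒜 hpos r hr hstd' R 𝒜 I
  have hcoef := dfun_coeff_eq_zero 𝒜 hpos r hr hstd' r R 𝒜 I hV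
    (by rw [Module.supportDim_self_eq_ringKrullDim, hr]) Q hQ
  have hQH : ∀ n : ℤ, -(r : ℤ) < n →
      Q.eval (n : ℚ) = len (GrLC.deg0 𝒜) (GrLC.comp 𝒜 𝒜 n) := by
    intro n hn
    rw [← hQ]
    unfold Dfun chi
    rw [Finset.sum_eq_zero, sub_zero]
    intro i _
    have hv : Vn I (irr 𝒜) i n := by
      by_cases hi : i = r
      · subst hi
        exact hVr n hn
      · exact hV i hi n
    rw [Hcomp_eq_bot_of_vn hv, len_eq_zero_of_subsingleton, mul_zero]
  have hneg : ∀ n : ℤ, n < 0 → len (GrLC.deg0 𝒜) (GrLC.comp 𝒜 𝒜 n) = 0 := by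
    intro n hn
    have : Subsingleton (GrLC.comp 𝒜 𝒜 n) := by
      refine ⟨fun x y => Subtype.ext ?_⟩
      have hx : (x : R) ∈ 𝒜 n := x.2
      have hy : (y : R) ∈ 𝒜 n := y.2
      rw [hpos n hn] at hx hy
      rw [AddSubgroup.mem_bot.1 hx, AddSubgroup.mem_bot.1 hy]
    exact len_eq_zero_of_subsingleton _
  have hzero : len (GrLC.deg0 𝒜) (GrLC.comp 𝒜 𝒜 0) = 1 := by
    have hs : IsSimpleModule (GrLC.deg0 𝒜) (GrLC.deg0 𝒜) :=
      (isSimpleModule_iff _ _).2 (Ring.isField_iff_isSimpleOrder_ideal.1 h0)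
    let e : GrLC.deg0 𝒜 ≃ₗ[GrLC.deg0 𝒜] GrLC.comp 𝒜 𝒜 0 :=
      { toFun := fun x => ⟨x.1, x.2⟩
        invFun := fun x => ⟨x.1, x.2⟩
        map_add' := fun _ _ => rfl
        map_smul' := fun _ _ => rfl
        left_inv := fun _ => rfl
        right_inv := fun _ => rfl }
    unfold len
    rw [← e.length_eq, Module.length_eq_one_iff.2 hs]
    simp
  have hone : len (GrLC.deg0 𝒜) (GrLC.comp 𝒜 𝒜 1) = (r : ℚ) := by
    have h1' := hQH 1 (by have := Int.natCast_nonneg r; omega)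
    rw [← h1']
    rcases Nat.eq_zero_or_pos r with h | h
    · have hQ0 : Q = 0 := by
        ext j
        rw [hcoef j (by omega), coeff_zero]
      rw [hQ0, eval_zero, h, Nat.cast_zero]
    · have h1 := eval_one_of_roots Q r h hcoef ?_ ?_
      · rw [← h1]
        norm_num
      · intro i hi1 hir
        have h2 := hQH (-(i : ℤ)) (by omega)
        rw [hneg (-(i : ℤ)) (by omega)] at h2
        rw [← h2]
        norm_num
      · have h2 := hQH 0 (by omega)
        rw [hzero] at h2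
        rw [← h2]
        norm_num
  -- a spanning family of `R_1` with `r` elements
  have hlen : Module.length (GrLC.deg0 𝒜) (GrLC.comp 𝒜 𝒜 1) = (r : ℕ∞) := by
    have hfin : IsFiniteLength (GrLC.deg0 𝒜) (GrLC.comp 𝒜 𝒜 1) := finLen_comp 𝒜 R 𝒜 1
    have hne : Module.length (GrLC.deg0 𝒜) (GrLC.comp 𝒜 𝒜 1) ≠ ⊤ := Module.length_ne_top_iff.2 hfin
    have h1 : (Module.length (GrLC.deg0 𝒜) (GrLC.comp 𝒜 𝒜 1)).toNat = r := by
      have h2 := hone
      unfold len at h2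
      exact_mod_cast h2
    rw [← ENat.natCast_toNat hne, h1]
  obtain ⟨v, hv⟩ : ∃ v : Fin r → GrLC.comp 𝒜 𝒜 1,
      Submodule.span (GrLC.deg0 𝒜) (Set.range v) = ⊤ :=
    @exists_span_of_length (GrLC.deg0 𝒜) h0.toField (GrLC.comp 𝒜 𝒜 1) inferInstance
      (inferInstance : Module (GrLC.deg0 𝒜) (GrLC.comp 𝒜 𝒜 1)) r hlen
  have hy1 : ∀ i, ((v i : GrLC.comp 𝒜 𝒜 1) : R) ∈ 𝒜 1 := fun i => (v i).2
  have hyspan : ∀ x ∈ 𝒜 1, x ∈ Submodule.span (GrLC.deg0 𝒜)
      (Set.range fun i => ((v i : GrLC.comp 𝒜 𝒜 1) : R)) := by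
    intro x hx
    have hmem : (⟨x, hx⟩ : GrLC.comp 𝒜 𝒜 1) ∈ Submodule.span (GrLC.deg0 𝒜) (Set.range v) := by
      rw [hv]
      trivial
    have key : ∀ z : GrLC.comp 𝒜 𝒜 1, z ∈ Submodule.span (GrLC.deg0 𝒜) (Set.range v) →
        (z : R) ∈ Submodule.span (GrLC.deg0 𝒜)
          (Set.range fun i => ((v i : GrLC.comp 𝒜 𝒜 1) : R)) := by
      intro z hz
      refine Submodule.span_induction ?_ ?_ ?_ ?_ hz
      · rintro _ ⟨i, rfl⟩
        exact Submodule.subset_span ⟨i, rfl⟩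
      · exact zero_mem _
      · intro a b _ _ ha hb
        exact add_mem ha hb
      · intro c a _ ha
        exact Submodule.smul_mem _ c ha
    exact key ⟨x, hx⟩ hmem
  have hbij := aeval_bijective 𝒜 hpos h0 (hgen_of_std 𝒜 hstd) r hr
    (fun i => ((v i : GrLC.comp 𝒜 𝒜 1) : R)) hyspan
  exact ⟨(RingEquiv.ofBijective (MvPolynomial.aeval (fun i => ((v i : GrLC.comp 𝒜 𝒜 1) : R)) :
    MvPolynomial (Fin r) (GrLC.deg0 𝒜) →ₐ[GrLC.deg0 𝒜] R) hbij).symm⟩

include hpos h0 hm hmsp hstd hr in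
/-- a polynomial ring has `a`-invariant `-r` -/
theorem ainv_of_poly (e : R ≃+* MvPolynomial (Fin r) (GrLC.deg0 𝒜)) :
    GrLC.endDeg (I.Hgr m r) = (((-(r : ℤ) : ℤ) : WithTop ℤ) : WithBot (WithTop ℤ)) := by
  classical
  have hregK : IsRegularRing (GrLC.deg0 𝒜) := by
    let _ := h0.toField
    infer_instance
  have hregR : IsRegularRing R := IsRegularRing.of_ringEquiv e.symm
  obtain ⟨y, hy1, hyspan⟩ := exists_span_of_isRegularRing 𝒜 hpos h0 m hm.1 r hr
  have hbij := aeval_bijective 𝒜 hpos h0 (hgen_of_std 𝒜 hstd) r hr y hyspan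
  obtain ⟨Φ, hΦ⟩ : ∃ Φ : MvPolynomial (Fin r) (GrLC.deg0 𝒜) ≃+* R,
      ∀ p, Φ p = MvPolynomial.aeval y p :=
    ⟨RingEquiv.ofBijective (MvPolynomial.aeval y :
      MvPolynomial (Fin r) (GrLC.deg0 𝒜) →ₐ[GrLC.deg0 𝒜] R) hbij, fun _ => rfl⟩
  have hnt : Nontrivial (GrLC.deg0 𝒜) := h0.nontrivial
  have hreg : RingTheory.Sequence.IsRegular R (List.ofFn y) :=
    ofFn_isRegular_of_ringEquiv (GrLC.deg0 𝒜) r Φ y (fun i => by
      rw [hΦ]
      exact MvPolynomial.aeval_X y i)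
  have hym : ∀ i, y i ∈ m.toIdeal := fun i => mem_of_pos_degree 𝒜 hpos m hm.1 one_pos (hy1 i)
  have hmy : m.toIdeal = Ideal.span (Set.range y) := by
    apply le_antisymm
    · rw [hmsp, hstd, Ideal.span_le]
      intro x hx
      refine Submodule.span_induction ?_ ?_ ?_ ?_ (hyspan x hx)
      · rintro _ ⟨i, rfl⟩
        exact Ideal.subset_span ⟨i, rfl⟩
      · exact zero_mem _
      · intro a b _ _ ha hb
        exact add_mem ha hb
      · intro c a _ ha
        exact Ideal.mul_mem_left _ (c : R) ha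
    · rw [Ideal.span_le]
      rintro _ ⟨i, rfl⟩
      exact hym i
  obtain ⟨F, -⟩ : ∃ F : GrLC.StarInjRes 𝒜 (quotG 𝒜 𝒜 m.toIdeal m.isHomogeneous).gr, True :=
    ⟨starInjRes 𝒜 _, trivial⟩
  obtain ⟨π, hπdef⟩ : ∃ π : R →ₗ[R] (quotG 𝒜 𝒜 m.toIdeal m.isHomogeneous).carrier,
      ∀ z, π z = (m.toIdeal : Submodule R R).mkQ z :=
    ⟨(m.toIdeal : Submodule R R).mkQ, fun _ => rfl⟩
  have hπg : GrLC.IsGrHom 𝒜 (quotG 𝒜 𝒜 m.toIdeal m.isHomogeneous).gr π := by
    intro j z hz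
    rw [hπdef]
    exact mkQ_isGrHom 𝒜 (m.toIdeal : Submodule R R) j z hz
  have hπs : Function.Surjective π := by
    intro q
    obtain ⟨w, rfl⟩ := Submodule.mkQ_surjective (m.toIdeal : Submodule R R) q
    exact ⟨w, hπdef w⟩
  have hπk : LinearMap.ker π = Ideal.span (Set.range y) := by
    rw [← hmy]
    ext z
    rw [LinearMap.mem_ker, hπdef]
    exact Submodule.Quotient.mk_eq_zero _
  have hmain := endDeg_quot_seq hpos m I r (fun i hi j => vn_of_cm hpos m hm r hr I i hi j) r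
    le_rfl y (fun _ => 1) hy1 hym hreg π hπg hπs hπk F
  rw [Nat.sub_self, endDeg_H0_residue 𝒜 hpos m hm.1 F] at hmain
  have hsum : (Finset.univ : Finset (Fin r)).sum (fun _ => (1 : ℤ)) = (r : ℤ) := by simp
  rw [hsum] at hmain
  revert hmain
  generalize GrLC.endDeg (I.Hgr m r) = x
  intro hmain
  induction x using WithBot.recBotCoe with
  | bot =>
    rw [WithBot.bot_add] at hmain
    exact absurd hmain WithBot.coe_ne_bot
  | coe x' =>
    induction x' using WithTop.recTopCoe with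
    | top =>
      rw [← WithBot.coe_add, WithTop.top_add, WithBot.coe_inj] at hmain
      exact absurd hmain WithTop.coe_ne_top
    | coe z =>
      rw [← WithBot.coe_add, ← WithTop.coe_add, WithBot.coe_inj, WithTop.coe_inj] at hmain
      have hz : z = -(r : ℤ) := by omega
      rw [hz]

end Main

end Groth.Agent.H98.GrHt
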