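import Groth.Agent.H98.GrBridge
import Groth.Agent.H98.LCArt

/-!
# Helper library (helper98): graded local cohomology with support in the *maximal ideal of a
positively graded *local Noetherian ring is Artinian; consequences for its homogeneous pieces.
-/

set_option autoImplicit false
universe u

open DirectSum

namespace Groth.Agent.H98.GrCat

theorem eq_zero_of_mem_of_eq_bot {X : Type u} [AddGroup X] {S : AddSubgroup X} (hS : S = ⊥)
    {w : X} (hw : w ∈ S) : w = 0 := by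
  rw [hS] at hw
  exact AddSubgroup.mem_bot.1 hw

section Max

variable {R : Type u} [CommRing R] (𝒜 : ℤ → AddSubgroup R) [GradedRing 𝒜]

/-- in a positively graded ring a *maximal homogeneous ideal is a maximal ideal -/
theorem isMaximal_of_isCoatom (hpos : ∀ n : ℤ, n < 0 → 𝒜 n = ⊥) (m : HomogeneousIdeal 𝒜)
    (hm : IsCoatom m) : m.toIdeal.IsMaximal := by
  classical
  have h1 : (1 : R) ∉ m.toIdeal := by
    intro h
    apply hm.1
    rw [HomogeneousIdeal.eq_top_iff]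
    exact (Ideal.eq_top_iff_one _).2 h
  have key : ∀ (k : ℤ) (y : R), y ∈ 𝒜 k → y ∉ m.toIdeal →
      ∃ μ ∈ m.toIdeal, ∃ r : R, μ + r * y = 1 := by
    intro k y hy hym
    have hhom : (Ideal.span {y}).IsHomogeneous 𝒜 := Ideal.homogeneous_span 𝒜 {y} (by
      intro z hz
      rw [Set.mem_singleton_iff] at hz
      subst hz
      exact ⟨k, hy⟩)
    obtain ⟨J, hJ⟩ : ∃ J : HomogeneousIdeal 𝒜, J.toIdeal = Ideal.span {y} :=
      ⟨⟨Ideal.span {y}, hhom⟩, rfl⟩
    have hyJ : y ∈ (m ⊔ J).toIdeal := by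
      rw [HomogeneousIdeal.toIdeal_sup, hJ]
      exact Ideal.mem_sup_right (Ideal.subset_span rfl)
    have hlt : m < m ⊔ J := by
      refine lt_of_le_of_ne le_sup_left ?_
      intro heq
      apply hym
      rw [← heq] at hyJ
      exact hyJ
    have htop := hm.2 _ hlt
    have h1' : (1 : R) ∈ (m ⊔ J).toIdeal := by
      rw [htop, HomogeneousIdeal.toIdeal_top]
      trivial
    rw [HomogeneousIdeal.toIdeal_sup, hJ] at h1'
    obtain ⟨μ, hμ, ν, hν, hsum⟩ := Submodule.mem_sup.1 h1'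
    obtain ⟨r, hr⟩ := Ideal.mem_span_singleton'.1 hν
    exact ⟨μ, hμ, r, by rw [hr]; exact hsum⟩
  have hplus : ∀ (k : ℤ), 0 < k → ∀ y ∈ 𝒜 k, y ∈ m.toIdeal := by
    intro k hk y hy
    by_contra hym
    obtain ⟨μ, hμ, r, hsum⟩ := key k y hy hym
    have h2 : ((decompose 𝒜 (r * y) 0 : 𝒜 0) : R) = 0 := by
      have h3 := comp_smul_hom 𝒜 𝒜 hy r 0
      rw [smul_eq_mul] at h3
      rw [h3]
      have hmem := eq_zero_of_mem_of_eq_bot (hpos (0 - k) (by omega))
        (SetLike.coe_mem (decompose 𝒜 r (0 - k)))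
      rw [hmem, zero_smul]
    have h4 : ((decompose 𝒜 (μ + r * y) 0 : 𝒜 0) : R) = ((decompose 𝒜 μ 0 : 𝒜 0) : R) := by
      rw [decompose_add, DirectSum.add_apply, AddMemClass.coe_add, h2, add_zero]
    rw [hsum, decompose_of_mem_same 𝒜 (SetLike.GradedOne.one_mem : (1 : R) ∈ 𝒜 0)] at h4
    apply h1
    rw [h4]
    exact m.isHomogeneous 0 hμ
  rw [Ideal.isMaximal_iff]
  refine ⟨h1, fun J x hmJ hxm hxJ => ?_⟩
  have hx0 : x - ((decompose 𝒜 x 0 : 𝒜 0) : R) ∈ m.toIdeal := by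
    rw [← DirectSum.sum_support_decompose 𝒜 (x - ((decompose 𝒜 x 0 : 𝒜 0) : R))]
    refine Ideal.sum_mem _ fun i _ => ?_
    rw [decompose_sub, DirectSum.sub_apply, AddSubgroupClass.coe_sub]
    rcases lt_trichotomy i 0 with hi | hi | hi
    · have hbot : ∀ z : 𝒜 i, (z : R) = 0 := fun z =>
        eq_zero_of_mem_of_eq_bot (hpos i hi) z.2
      rw [hbot, hbot, sub_zero]
      exact zero_mem _
    · subst hi
      rw [decompose_of_mem_same 𝒜 (SetLike.coe_mem _), sub_self]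
      exact zero_mem _
    · rw [decompose_of_mem_ne 𝒜 (SetLike.coe_mem _) (ne_of_lt hi), sub_zero]
      exact hplus i hi _ (SetLike.coe_mem _)
  have hx0J : ((decompose 𝒜 x 0 : 𝒜 0) : R) ∈ J := by
    have h5 := J.sub_mem hxJ (hmJ hx0)
    rwa [sub_sub_cancel] at h5
  have hx0m : ((decompose 𝒜 x 0 : 𝒜 0) : R) ∉ m.toIdeal := by
    intro h
    apply hxm
    have h5 := m.toIdeal.add_mem hx0 h
    rwa [sub_add_cancel] at h5
  obtain ⟨μ, hμ, r, hsum⟩ := key 0 _ (SetLike.coe_mem _) hx0m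
  rw [← hsum]
  exact J.add_mem (hmJ hμ) (J.mul_mem_left r hx0J)

end Max

section HGraded

variable {ι : Type} [AddCommGroup ι] [DecidableEq ι]
variable {R : Type u} [CommRing R] {𝒜 : ι → AddSubgroup R} [GradedRing 𝒜]
variable {M : Type u} [AddCommGroup M] [Module R M] {ℳ : ι → AddSubgroup M}
  [DirectSum.Decomposition ℳ] [SetLike.GradedSMul 𝒜 ℳ]
variable (E : GrLC.StarInjRes 𝒜 ℳ) (a : HomogeneousIdeal 𝒜) (i : ℕ)

/-- the decomposition of graded local cohomology into its pieces -/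
noncomputable def HDec : DirectSum.Decomposition (E.Hgr a i) :=
  (Hgr_isInternal E a i).chooseDecomposition

theorem HGSMul : SetLike.GradedSMul 𝒜 (E.Hgr a i) where
  smul_mem := by
    intro j k r y hr hy
    obtain ⟨z, hz, rfl⟩ := hy
    rw [vadd_eq_add]
    exact ⟨r • z, gsmul_mem 𝒜 (E.X i).gr hr hz, map_smul _ _ _⟩

end HGraded

section Pieces

variable {R : Type u} [CommRing R] (𝒜 : ℤ → AddSubgroup R) [GradedRing 𝒜]
variable {X : Type u} [AddCommGroup X] [Module R X] (𝓧 : ℤ → AddSubgroup X)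
  [DirectSum.Decomposition 𝓧] [SetLike.GradedSMul 𝒜 𝓧]

theorem comp_sum_smul {c : ℕ} (f : Fin c → R) (g : Fin c → X) (k : Fin c → ℤ)
    (hg : ∀ j, g j ∈ 𝓧 (k j)) (n : ℤ) :
    ((decompose 𝓧 (∑ j, f j • g j) n : 𝓧 n) : X) =
      ∑ j, ((decompose 𝒜 (f j) (n - k j) : 𝒜 (n - k j)) : R) • g j := by
  rw [← compHom_apply, map_sum]
  refine Finset.sum_congr rfl fun j _ => ?_
  rw [compHom_apply, comp_smul_hom 𝒜 𝓧 (hg j)]

theorem comp_sum_smul_same {c : ℕ} (f : Fin c → R) (g : Fin c → X) (n : ℤ)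
    (hg : ∀ j, g j ∈ 𝓧 n) :
    ((decompose 𝓧 (∑ j, f j • g j) n : 𝓧 n) : X) =
      ∑ j, ((decompose 𝒜 (f j) 0 : 𝒜 0) : R) • g j := by
  rw [← compHom_apply, map_sum]
  refine Finset.sum_congr rfl fun j _ => ?_
  rw [compHom_apply, comp_smul_hom 𝒜 𝓧 (hg j), sub_self]

/-- an Artinian graded module over a positively graded ring vanishes in large degrees -/
theorem exists_piece_eq_bot_of_isArtinian (hpos : ∀ n : ℤ, n < 0 → 𝒜 n = ⊥) [IsArtinian R X] :
    ∃ N : ℤ, ∀ n : ℤ, N ≤ n → 𝓧 n = ⊥ := by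
  classical
  obtain ⟨n₀, hn₀⟩ := IsArtinian.monotone_stabilizes (R := R) (M := X)
    ⟨fun n : ℕ => OrderDual.toDual
      (Submodule.span R (⋃ k ∈ Set.Ici (n : ℤ), (𝓧 k : Set X))),
     fun n m hnm => Submodule.span_mono (Set.biUnion_subset_biUnion_left
       (Set.Ici_subset_Ici.2 (by exact_mod_cast hnm)))⟩
  refine ⟨n₀, fun n hn => ?_⟩
  rw [eq_bot_iff]
  intro y hy
  rw [AddSubgroup.mem_bot]
  obtain ⟨n', rfl⟩ : ∃ n' : ℕ, n = (n' : ℤ) :=
    ⟨n.toNat, (Int.toNat_of_nonneg (le_trans (Int.natCast_nonneg n₀) hn)).symm⟩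
  have hn' : n₀ ≤ n' := by exact_mod_cast hn
  have h1 : Submodule.span R (⋃ k ∈ Set.Ici ((n' : ℕ) : ℤ), (𝓧 k : Set X)) =
      Submodule.span R (⋃ k ∈ Set.Ici (((n' + 1 : ℕ)) : ℤ), (𝓧 k : Set X)) := by
    have a1 := hn₀ n' hn'
    have a2 := hn₀ (n' + 1) (Nat.le_succ_of_le hn')
    exact (OrderDual.toDual.injective a1).symm.trans (OrderDual.toDual.injective a2)
  have h2 : y ∈ Submodule.span R (⋃ k ∈ Set.Ici ((n' : ℕ) : ℤ), (𝓧 k : Set X)) :=
    Submodule.subset_span (Set.mem_biUnion (Set.mem_Ici.2 le_rfl) hy)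
  rw [h1] at h2
  obtain ⟨c, f, g, hsum⟩ := Submodule.mem_span_set'.1 h2
  have hg : ∀ j, ∃ k : ℤ, ((n' + 1 : ℕ) : ℤ) ≤ k ∧ (g j : X) ∈ 𝓧 k := by
    intro j
    obtain ⟨k, hk, hgk⟩ := Set.mem_iUnion₂.1 (g j).2
    exact ⟨k, hk, hgk⟩
  choose k hk hgk using hg
  have h3 := comp_sum_smul 𝒜 𝓧 f (fun j => (g j : X)) k hgk (n' : ℤ)
  rw [hsum, decompose_of_mem_same 𝓧 hy] at h3
  rw [h3]
  refine Finset.sum_eq_zero fun j _ => ?_
  have hneg : ((n' : ℕ) : ℤ) - k j < 0 := by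
    have h4 := hk j
    push_cast at h4
    omega
  have hmem := eq_zero_of_mem_of_eq_bot (hpos _ hneg)
    (SetLike.coe_mem (decompose 𝒜 (f j) ((n' : ℤ) - k j)))
  rw [hmem, zero_smul]

/-- the homogeneous pieces of an Artinian graded module over a positively graded ring are Artinian
over the degree-zero subring -/
theorem isArtinian_piece_of_isArtinian [IsArtinian R X] (n : ℤ)
    (P : Submodule (GrLC.deg0 𝒜) X) (hP : ∀ y, y ∈ P ↔ y ∈ 𝓧 n) :
    IsArtinian (GrLC.deg0 𝒜) P := by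
  classical
  obtain ⟨φ, hφ⟩ : ∃ φ : Submodule (GrLC.deg0 𝒜) P → Submodule R X,
      ∀ Q, φ Q = Submodule.span R ((fun w : P => (w : X)) '' (Q : Set P)) := ⟨_, fun _ => rfl⟩
  have key : ∀ (Q : Submodule (GrLC.deg0 𝒜) P) (w : P), (w : X) ∈ φ Q → w ∈ Q := by
    intro Q w hw
    rw [hφ] at hw
    obtain ⟨c, f, g, hsum⟩ := Submodule.mem_span_set'.1 hw
    have hg : ∀ j, ∃ p : P, p ∈ Q ∧ (p : X) = (g j : X) := by
      intro j
      obtain ⟨p, hp, hpe⟩ := (g j).2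
      exact ⟨p, hp, hpe⟩
    choose p hpQ hpe using hg
    have hdeg : ∀ j, (g j : X) ∈ 𝓧 n := fun j => by
      rw [← hpe j]
      exact (hP _).1 (p j).2
    have h3 := comp_sum_smul_same 𝒜 𝓧 f (fun j => (g j : X)) n hdeg
    rw [hsum, decompose_of_mem_same 𝓧 ((hP _).1 w.2)] at h3
    have h4 : w = ∑ j, (⟨((decompose 𝒜 (f j) 0 : 𝒜 0) : R), SetLike.coe_mem _⟩ :
        GrLC.deg0 𝒜) • p j := by
      apply Subtype.ext
      rw [h3, Submodule.coe_sum]
      refine Finset.sum_congr rfl fun j _ => ?_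
      rw [Submodule.coe_smul, hpe j]
      rfl
    rw [h4]
    exact Submodule.sum_mem _ fun j _ => Submodule.smul_mem _ _ (hpQ j)
  have hmono : StrictMono φ := by
    intro Q Q' hlt
    refine lt_of_le_of_ne ?_ ?_
    · rw [hφ, hφ]
      exact Submodule.span_mono (Set.image_mono (SetLike.coe_subset_coe.2 hlt.le))
    · intro heq
      apply not_le_of_gt hlt
      intro w hw
      apply key Q w
      rw [heq, hφ]
      exact Submodule.subset_span ⟨w, hw, rfl⟩
  exact hmono.wellFoundedLT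

end Pieces

section StarLocal

variable {R : Type u} [CommRing R] [IsNoetherianRing R] {𝒜 : ℤ → AddSubgroup R} [GradedRing 𝒜]
variable {M : Type u} [AddCommGroup M] [Module R M] [Module.Finite R M] {ℳ : ℤ → AddSubgroup M}
  [DirectSum.Decomposition ℳ] [SetLike.GradedSMul 𝒜 ℳ]

/-- graded local cohomology with support in a *maximal ideal is an Artinian module -/
theorem isArtinian_H_of_isCoatom (hpos : ∀ n : ℤ, n < 0 → 𝒜 n = ⊥) (m : HomogeneousIdeal 𝒜)
    (hm : IsCoatom m) (E : GrLC.StarInjRes 𝒜 ℳ) (i : ℕ) : IsArtinian R (E.H m i) := by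
  haveI := isMaximal_of_isCoatom 𝒜 hpos m hm
  obtain ⟨e⟩ := nonempty_H_equiv E m i
  haveI := LCArt.isArtinian_H m.toIdeal i M
  exact isArtinian_of_linearEquiv e.symm

end StarLocal

end Groth.Agent.H98.GrCat
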