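import Groth.Agent.H98.GrHFun

/-!
# Helper library (helper98): recognising the *canonical module of a positively graded Noetherian
domain `R` with `R_0` a field from the Hilbert function of the top graded local cohomology:
if `dim H^n_{R_+}(R)_j = dim R_{-j-d}` for all `j`, then any *canonical module `C` of `R`
(finitely generated, with a homogeneous isomorphism `Hom_R(C, *E(R/R_+)) ≃ H^n_{R_+}(R)`) is
isomorphic to `R(-d)`.
-/

set_option autoImplicit false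
universe u

open DirectSum

namespace Groth.Agent.H98.GrCanon

open Groth.Agent.H98.GrCat Groth.Agent.H98.GrHt

/-! ### abstract linear algebra -/

section LinAlg

theorem length_le_of_pairing (K : Type u) [Field K] {W V L : Type u} [AddCommGroup W] [Module K W]
    [AddCommGroup V] [Module K V] [AddCommGroup L] [Module K L]
    (B : W →ₗ[K] V →ₗ[K] L) (hB : Function.Injective B) (ε : L) (hε : ε ≠ 0)
    (hspan : ∀ l : L, ∃ c : K, c • ε = l) (hV : IsFiniteLength K V) :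
    Module.length K W ≤ Module.length K V := by
  have hL1 : Module.finrank K L = 1 := (finrank_eq_one_iff_of_nonzero' ε hε).2 hspan
  haveI : Module.Finite K L := Module.finite_of_finrank_pos (by rw [hL1]; exact one_pos)
  haveI : IsNoetherian K V := (isFiniteLength_iff_isNoetherian_isArtinian.1 hV).1
  have h1 := Module.length_le_of_injective B hB
  rw [Module.length_eq_finrank K (V →ₗ[K] L), Module.finrank_linearMap, hL1, mul_one,
    ← Module.length_eq_finrank] at h1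
  exact h1

theorem surjective_of_length_le {K : Type*} [Ring K] {X Y : Type*} [AddCommGroup X] [Module K X]
    [AddCommGroup Y] [Module K Y] (f : X →ₗ[K] Y) (hf : Function.Injective f)
    (hX : Module.length K X ≠ ⊤) (hle : Module.length K Y ≤ Module.length K X) :
    Function.Surjective f := by
  have h := Module.length_eq_add_of_exact f (LinearMap.range f).mkQ hf
    (Submodule.mkQ_surjective _) (LinearMap.exact_map_mkQ_range f)
  rw [h] at hle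
  have h2 : Module.length K (Y ⧸ LinearMap.range f) ≤ 0 := by
    have h3 : Module.length K X + Module.length K (Y ⧸ LinearMap.range f) ≤
        Module.length K X + 0 := by rwa [add_zero]
    exact (ENat.add_le_add_iff_left hX).1 h3
  have h4 : Module.length K (Y ⧸ LinearMap.range f) = 0 := nonpos_iff_eq_zero.1 h2
  rw [Module.length_eq_zero_iff] at h4
  rw [← LinearMap.range_eq_top]
  exact Submodule.Quotient.subsingleton_iff.1 h4

theorem length_eq_of_len_eq {R₀ : Type*} [Ring R₀] {X Y : Type u} [AddCommGroup X] [Module R₀ X]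
    [AddCommGroup Y] [Module R₀ Y] (hX : IsFiniteLength R₀ X) (hY : IsFiniteLength R₀ Y)
    (h : len R₀ X = len R₀ Y) : Module.length R₀ X = Module.length R₀ Y := by
  have hX' := Module.length_ne_top_iff.2 hX
  have hY' := Module.length_ne_top_iff.2 hY
  unfold len at h
  have h2 : (Module.length R₀ X).toNat = (Module.length R₀ Y).toNat := by exact_mod_cast h
  rw [← ENat.natCast_toNat hX', ← ENat.natCast_toNat hY', h2]

theorem lt_of_add_one_le {x : WithBot ℕ∞} {n : ℕ} (h : x + 1 ≤ (n : WithBot ℕ∞)) :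
    x < (n : WithBot ℕ∞) := by
  induction x using WithBot.recBotCoe with
  | bot => exact WithBot.bot_lt_coe _
  | coe m =>
    induction m using ENat.recTopCoe with
    | top =>
      exfalso
      have h1 : ((⊤ : ℕ∞) : WithBot ℕ∞) + 1 = ((⊤ : ℕ∞) : WithBot ℕ∞) := rfl
      rw [h1] at h
      have h2 : ((⊤ : ℕ∞) : WithBot ℕ∞) ≤ ((n : ℕ∞) : WithBot ℕ∞) := h
      rw [WithBot.coe_le_coe] at h2
      exact absurd (top_le_iff.1 h2) (ENat.natCast_ne_top n)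
    | coe m =>
      have h2 : (((m + 1 : ℕ) : ℕ∞) : WithBot ℕ∞) ≤ ((n : ℕ∞) : WithBot ℕ∞) := h
      rw [WithBot.coe_le_coe, Nat.cast_le] at h2
      show (((m : ℕ) : ℕ∞) : WithBot ℕ∞) < ((n : ℕ∞) : WithBot ℕ∞)
      rw [WithBot.coe_lt_coe, Nat.cast_lt]
      omega

end LinAlg

/-! ### the irrelevant ideal -/

section Irr

variable {R : Type u} [CommRing R] (𝒜 : ℤ → AddSubgroup R) [GradedRing 𝒜]
  (hpos : ∀ n : ℤ, n < 0 → 𝒜 n = ⊥)

include hpos in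
theorem sub_cp_zero_mem_irr (r : R) : r - cp 𝒜 r 0 ∈ (irr 𝒜).toIdeal := by
  classical
  rw [irr_toIdeal]
  induction r using DirectSum.Decomposition.inductionOn 𝒜 with
  | zero =>
    rw [cp_zero, sub_zero]
    exact zero_mem _
  | @homogeneous i x =>
    rw [cp_of_mem 𝒜 x.2 0]
    split_ifs with h
    · rw [sub_self]
      exact zero_mem _
    · rw [sub_zero]
      rcases lt_or_gt_of_ne h with h' | h'
      · exact Ideal.subset_span (Set.mem_biUnion (Set.mem_Ioi.2 h') x.2)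
      · have h2 : ∀ z : R, z ∈ 𝒜 i → z = 0 := fun z hz => by
          rw [hpos i h'] at hz
          exact AddSubgroup.mem_bot.1 hz
        rw [h2 _ x.2]
        exact zero_mem _
  | add x y hx hy =>
    rw [cp_add]
    have h1 : x + y - (cp 𝒜 x 0 + cp 𝒜 y 0) = (x - cp 𝒜 x 0) + (y - cp 𝒜 y 0) := by ring
    rw [h1]
    exact add_mem hx hy

include hpos in
theorem cp_zero_of_mem_irr {r : R} (hr : r ∈ (irr 𝒜).toIdeal) : cp 𝒜 r 0 = 0 := by
  rw [irr_toIdeal] at hr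
  refine Submodule.span_induction (p := fun r _ => cp 𝒜 r 0 = 0) ?_ ?_ ?_ ?_ hr
  · intro z hz
    obtain ⟨n, hn, hz'⟩ := Set.mem_iUnion₂.1 hz
    rw [cp_of_mem 𝒜 hz', if_neg (by
      have := Set.mem_Ioi.1 hn
      omega)]
  · exact cp_zero 𝒜 0
  · intro x y _ _ hx hy
    rw [cp_add, hx, hy, add_zero]
  · intro c z _ hz
    rw [smul_eq_mul, cp_mul_zero 𝒜 hpos, hz, mul_zero]

include hpos in
theorem mem_irr_of_cp_zero {r : R} (h : cp 𝒜 r 0 = 0) : r ∈ (irr 𝒜).toIdeal := by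
  have h1 := sub_cp_zero_mem_irr 𝒜 hpos r
  rwa [h, sub_zero] at h1

end Irr

/-! ### the *injective hull of `R/R_+` -/

section Hull

variable {R : Type u} [CommRing R] (𝒜 : ℤ → AddSubgroup R) [GradedRing 𝒜]
  (hpos : ∀ n : ℤ, n < 0 → 𝒜 n = ⊥)
variable {E' : Type u} [AddCommGroup E'] [Module R E'] (𝓔 : ℤ → AddSubgroup E')
  [DirectSum.Decomposition 𝓔] [SetLike.GradedSMul 𝒜 𝓔]
  (e : (R ⧸ (irr 𝒜).toIdeal) →ₗ[R] E')
  (he : GrLC.IsStarInjHull 𝒜 (GrLC.quotGr 𝒜 (irr 𝒜)) 𝓔 e)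

include hpos in
theorem e_mk (r : R) : e (Ideal.Quotient.mk (irr 𝒜).toIdeal r) =
    cp 𝒜 r 0 • e (Ideal.Quotient.mk (irr 𝒜).toIdeal 1) := by
  have h1 : (Ideal.Quotient.mk (irr 𝒜).toIdeal r) =
      Ideal.Quotient.mk (irr 𝒜).toIdeal (cp 𝒜 r 0) :=
    Ideal.Quotient.eq.2 (sub_cp_zero_mem_irr 𝒜 hpos r)
  have h2 : cp 𝒜 r 0 • Ideal.Quotient.mk (irr 𝒜).toIdeal 1 =
      Ideal.Quotient.mk (irr 𝒜).toIdeal (cp 𝒜 r 0) := by
    have h3 : cp 𝒜 r 0 • Ideal.Quotient.mk (irr 𝒜).toIdeal 1 =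
        Ideal.Quotient.mk (irr 𝒜).toIdeal (cp 𝒜 r 0 * 1) := rfl
    rw [h3, mul_one]
  rw [h1, ← h2, map_smul]

include hpos he in
theorem e_mem_zero (q : R ⧸ (irr 𝒜).toIdeal) : e q ∈ 𝓔 0 := by
  obtain ⟨r, rfl⟩ := Ideal.Quotient.mk_surjective q
  have h1 : (Ideal.Quotient.mk (irr 𝒜).toIdeal r) =
      Ideal.Quotient.mk (irr 𝒜).toIdeal (cp 𝒜 r 0) :=
    Ideal.Quotient.eq.2 (sub_cp_zero_mem_irr 𝒜 hpos r)
  rw [h1]
  exact he.grHom 0 _ ⟨cp 𝒜 r 0, cp_mem 𝒜 r 0, rfl⟩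

include hpos he in
/-- essentiality in element form -/
theorem exists_smul_mem_range {j : ℤ} {x : E'} (hx : x ∈ 𝓔 j) (hx0 : x ≠ 0) :
    ∃ r ∈ 𝒜 (-j), r • x ≠ 0 ∧ ∃ q, e q = r • x := by
  classical
  have hP : (Submodule.span R {x}).IsHomogeneous 𝓔 := span_singleton_isHomogeneous 𝒜 𝓔 hx
  have hPne : Submodule.span R {x} ≠ ⊥ := by
    rw [Ne, Submodule.span_singleton_eq_bot]
    exact hx0
  obtain ⟨y, hy, hy0⟩ := Submodule.exists_mem_ne_zero_of_ne_bot (he.essential _ hP hPne)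
  obtain ⟨hyP, hyr⟩ := Submodule.mem_inf.1 hy
  obtain ⟨q, hq⟩ := LinearMap.mem_range.1 hyr
  obtain ⟨r, rfl⟩ := Submodule.mem_span_singleton.1 hyP
  have hy00 : r • x ∈ 𝓔 0 := by
    rw [← hq]
    exact e_mem_zero 𝒜 hpos 𝓔 e he q
  have hkey : cp 𝒜 r (-j) • x = r • x := by
    have h1 := comp_smul_hom 𝒜 𝓔 hx r 0
    rw [decompose_of_mem_same 𝓔 hy00, zero_sub] at h1
    exact h1.symm
  exact ⟨cp 𝒜 r (-j), cp_mem 𝒜 r (-j), by rw [hkey]; exact hy0, q, by rw [hkey]; exact hq⟩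

variable {C : Type u} [AddCommGroup C] [Module R C] (𝒞 : ℤ → AddSubgroup C)
  [DirectSum.Decomposition 𝒞] [SetLike.GradedSMul 𝒜 𝒞]

include hpos he in
/-- a homogeneous map of degree `c0` into the hull vanishing on the piece of degree `-c0` is zero -/
theorem hom_eq_zero_of_vanish {c0 : ℤ} {g : C →ₗ[R] E'} (hg : GrLC.IsGrHomDeg 𝒞 𝓔 g c0)
    (hv : ∀ c ∈ 𝒞 (-c0), g c = 0) : g = 0 := by
  classical
  refine LinearMap.ext fun c => ?_
  rw [LinearMap.zero_apply]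
  induction c using DirectSum.Decomposition.inductionOn 𝒞 with
  | zero => exact map_zero g
  | @homogeneous j x =>
    by_contra hne
    obtain ⟨r, hr, hr0, -⟩ := exists_smul_mem_range 𝒜 hpos 𝓔 e he (hg j x x.2) hne
    apply hr0
    have h2 : r • g (x : C) = g (r • (x : C)) := (map_smul g r _).symm
    rw [h2]
    refine hv _ ?_
    have h1 := gsmul_mem 𝒜 𝒞 hr x.2
    have e1 : -(j + c0) + j = -c0 := by ring
    rwa [e1] at h1
  | add x y hx hy => rw [map_add, hx, hy, add_zero]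

include hpos he in
/-- a nonzero homogeneous element is detected by a homogeneous map into the hull -/
theorem exists_hom_ne_zero (h0 : IsField (GrLC.deg0 𝒜)) {j : ℤ} {c : C} (hc : c ∈ 𝒞 j)
    (hc0 : c ≠ 0) : ∃ g : C →ₗ[R] E', GrLC.IsGrHomDeg 𝒞 𝓔 g (-j) ∧ g c ≠ 0 := by
  classical
  obtain ⟨ε, hεdef⟩ : ∃ ε : E', ε = e (Ideal.Quotient.mk (irr 𝒜).toIdeal 1) := ⟨_, rfl⟩
  have hε0 : ε ∈ 𝓔 0 := by
    rw [hεdef]
    exact e_mem_zero 𝒜 hpos 𝓔 e he _
  have hεne : ε ≠ 0 := by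
    rw [hεdef]
    intro h
    have h1 : Ideal.Quotient.mk (irr 𝒜).toIdeal 1 = 0 :=
      he.injective (h.trans (map_zero e).symm)
    rw [Ideal.Quotient.eq_zero_iff_mem] at h1
    have h2 := cp_zero_of_mem_irr 𝒜 hpos h1
    rw [cp_of_mem 𝒜 (SetLike.GradedOne.one_mem (A := 𝒜)) 0, if_pos rfl] at h2
    apply hc0
    rw [← one_smul R c, h2, zero_smul]
  have hann : ∀ r : R, r • c = 0 → r • ε = 0 := by
    intro r hr
    have h1 := comp_smul_hom 𝒜 𝒞 hc r j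
    rw [hr, decompose_zero, DirectSum.zero_apply, ZeroMemClass.coe_zero, sub_self] at h1
    have h2 : cp 𝒜 r 0 = 0 := by
      by_contra hne
      obtain ⟨s, hs⟩ := h0.mul_inv_cancel (a := ⟨cp 𝒜 r 0, cp_mem 𝒜 r 0⟩)
        (fun h => hne (congrArg Subtype.val h))
      have hs' : cp 𝒜 r 0 * (s : R) = 1 := congrArg Subtype.val hs
      apply hc0
      have h3 : cp 𝒜 r 0 • c = 0 := h1.symm
      rw [← one_smul R c, ← hs', mul_comm, mul_smul, h3, smul_zero]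
    have h3 : r ∈ (irr 𝒜).toIdeal := mem_irr_of_cp_zero 𝒜 hpos h2
    have h4 : (Ideal.Quotient.mk (irr 𝒜).toIdeal r) = 0 := Ideal.Quotient.eq_zero_iff_mem.2 h3
    have h5 : r • Ideal.Quotient.mk (irr 𝒜).toIdeal 1 = Ideal.Quotient.mk (irr 𝒜).toIdeal r := by
      have h6 : r • Ideal.Quotient.mk (irr 𝒜).toIdeal 1 =
          Ideal.Quotient.mk (irr 𝒜).toIdeal (r * 1) := rfl
      rw [h6, mul_one]
    rw [hεdef, ← map_smul, h5, h4, map_zero]
  obtain ⟨T, hT⟩ : ∃ T : R →ₗ[R] C, T = LinearMap.toSpanSingleton R C c := ⟨_, rfl⟩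
  obtain ⟨S, hS⟩ : ∃ S : R →ₗ[R] E', S = LinearMap.toSpanSingleton R E' ε := ⟨_, rfl⟩
  have hker : LinearMap.ker T ≤ LinearMap.ker S := fun r hr => by
    rw [LinearMap.mem_ker, hT, LinearMap.toSpanSingleton_apply] at hr
    rw [LinearMap.mem_ker, hS, LinearMap.toSpanSingleton_apply]
    exact hann r hr
  obtain ⟨φ₀, hφ₀⟩ : ∃ φ₀ : LinearMap.range T →ₗ[R] E',
      ∀ (r : R) (h : T r ∈ LinearMap.range T), φ₀ ⟨T r, h⟩ = S r := by
    refine ⟨(Submodule.liftQ (LinearMap.ker T) S hker).comp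
      (T.quotKerEquivRange.symm : LinearMap.range T →ₗ[R] (R ⧸ LinearMap.ker T)), fun r h => ?_⟩
    rw [LinearMap.comp_apply, LinearEquiv.coe_coe, LinearMap.quotKerEquivRange_symm_apply_image,
      Submodule.mkQ_apply, Submodule.liftQ_apply]
  have hK : (LinearMap.range T).IsHomogeneous 𝒞 := by
    rw [hT, ← LinearMap.span_singleton_eq_range]
    exact span_singleton_isHomogeneous 𝒜 𝒞 hc
  have hfg : (LinearMap.range T).FG := by
    rw [hT, ← LinearMap.span_singleton_eq_range]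
    exact Submodule.fg_span_singleton c
  obtain ⟨ψ, hψ⟩ : ∃ ψ : C →ₗ[R] E', ∀ x : LinearMap.range T, ψ (x : C) = φ₀ x :=
    exists_extension 𝒜 𝓔 he.starInj (GrLC.GMod.of 𝒜 C 𝒞) (LinearMap.range T) hK hfg φ₀
  have hψc : ψ c = ε := by
    have hmem : T 1 ∈ LinearMap.range T := LinearMap.mem_range_self T 1
    have h1 : ψ (T 1) = φ₀ ⟨T 1, hmem⟩ := hψ ⟨T 1, hmem⟩
    rw [hφ₀ 1 hmem] at h1
    have h2 : T 1 = c := by rw [hT, LinearMap.toSpanSingleton_apply, one_smul]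
    have h3 : S 1 = ε := by rw [hS, LinearMap.toSpanSingleton_apply, one_smul]
    rw [h3] at h1
    rw [← h1]
    exact congrArg ψ h2.symm
  refine ⟨degPart 𝒜 𝒞 𝓔 ψ (-j), fun k a ha => degPartS_isGrHom 𝒜 𝒞 𝓔 ψ (-j) k a ha, ?_⟩
  rw [degPart_of_mem 𝒜 𝒞 𝓔 ψ (-j) hc, hψc]
  have h2 : ∀ i : ℤ, i = 0 → ((decompose 𝓔 ε i : 𝓔 i) : E') = ε := by
    rintro _ rfl
    exact decompose_of_mem_same 𝓔 hε0
  rw [h2 _ (add_neg_cancel j)]
  exact hεne

include hpos he in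
/-- the degree-zero piece of the hull is the line spanned by the image of `1` -/
theorem exists_smul_eq_of_mem_zero (h0 : IsField (GrLC.deg0 𝒜)) {l : E'} (hl : l ∈ 𝓔 0) :
    ∃ k ∈ 𝒜 0, k • e (Ideal.Quotient.mk (irr 𝒜).toIdeal 1) = l := by
  by_cases hl0 : l = 0
  · exact ⟨0, zero_mem _, by rw [zero_smul, hl0]⟩
  obtain ⟨r, hr, hr0, q, hq⟩ := exists_smul_mem_range 𝒜 hpos 𝓔 e he hl hl0
  rw [neg_zero] at hr
  obtain ⟨s, rfl⟩ := Ideal.Quotient.mk_surjective q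
  rw [e_mk 𝒜 hpos e s] at hq
  have hrne : (⟨r, hr⟩ : GrLC.deg0 𝒜) ≠ 0 := by
    intro h
    apply hr0
    have h1 : r = 0 := congrArg Subtype.val h
    rw [h1, zero_smul]
  obtain ⟨t, ht⟩ := h0.mul_inv_cancel hrne
  have ht' : r * (t : R) = 1 := congrArg Subtype.val ht
  refine ⟨(t : R) * cp 𝒜 s 0, ?_, ?_⟩
  · have h1 := SetLike.GradedMul.mul_mem (A := 𝒜) t.2 (cp_mem 𝒜 s 0)
    rwa [add_zero] at h1
  · rw [mul_smul, hq, ← mul_smul, mul_comm, ht', one_smul]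

include hpos he in
theorem e_one_ne_zero [Nontrivial R] : e (Ideal.Quotient.mk (irr 𝒜).toIdeal 1) ≠ 0 := by
  intro h
  have h1 : Ideal.Quotient.mk (irr 𝒜).toIdeal 1 = 0 :=
    he.injective (h.trans (map_zero e).symm)
  rw [Ideal.Quotient.eq_zero_iff_mem] at h1
  have h2 := cp_zero_of_mem_irr 𝒜 hpos h1
  rw [cp_of_mem 𝒜 (SetLike.GradedOne.one_mem (A := 𝒜)) 0, if_pos rfl] at h2
  exact one_ne_zero h2

end Hull

/-! ### divisibility of the top local cohomology -/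

section Div

variable {R : Type u} [CommRing R] [IsNoetherianRing R] (𝒜 : ℤ → AddSubgroup R) [GradedRing 𝒜]
  (I : GrLC.StarInjRes 𝒜 𝒜) (a : HomogeneousIdeal 𝒜) (n : ℕ)

/-- a homogeneous nonzerodivisor acts surjectively on the top graded local cohomology -/
theorem exists_smul_eq (hn : ringKrullDim R = n) {k : ℤ} {r : R} (hr : r ∈ 𝒜 k)
    (hr0 : r ∈ nonZeroDivisors R) (y : I.H a n) : ∃ h : I.H a n, r • h = y := by
  classical
  obtain ⟨J, hJdef⟩ : ∃ J : Submodule R R, J = Submodule.span R {r} := ⟨_, rfl⟩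
  have hJ : J.IsHomogeneous 𝒜 := by
    rw [hJdef]
    exact span_singleton_isHomogeneous 𝒜 𝒜 hr
  have hrJ : r ∈ J := by
    rw [hJdef]
    exact Submodule.mem_span_singleton_self r
  let _ : DirectSum.Decomposition (subGr 𝒜 J) := subDec 𝒜 J hJ
  have : SetLike.GradedSMul 𝒜 (subGr 𝒜 J) := subGSMul 𝒜 𝒜 J
  obtain ⟨EJ, -⟩ : ∃ E : GrLC.StarInjRes 𝒜 (subGr 𝒜 J), True := ⟨starInjRes 𝒜 _, trivial⟩
  obtain ⟨EQ, -⟩ : ∃ E : GrLC.StarInjRes 𝒜 (quotG 𝒜 𝒜 J hJ).gr, True :=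
    ⟨starInjRes 𝒜 _, trivial⟩
  have hsub : Subsingleton (EQ.H a n) := by
    obtain ⟨eq⟩ := nonempty_H_equiv EQ a n
    have hs : Subsingleton (LocCoh.H a.toIdeal n (quotG 𝒜 𝒜 J hJ).carrier) := by
      apply Groth.Agent.H58.LC.subsingleton_H_of_supportDim_lt
      show Module.supportDim R (R ⧸ J) < _
      have h1 : Module.supportDim R (R ⧸ J) = ringKrullDim (R ⧸ J) := by
        rw [hJdef]
        exact Module.supportDim_quotient_eq_ringKrullDim (Ideal.span {r})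
      rw [h1]
      have h2 := ringKrullDim_quotient_succ_le_of_nonZeroDivisor hr0
      rw [hn] at h2
      rw [hJdef]
      exact lt_of_add_one_le h2
    exact eq.toEquiv.subsingleton
  have hι0 : GrLC.IsGrHomDeg (subGr 𝒜 J) 𝒜 J.subtype 0 := fun g v hv => by
    rw [add_zero]
    exact hv
  have hπ0 : GrLC.IsGrHomDeg 𝒜 (quotG 𝒜 𝒜 J hJ).gr J.mkQ 0 := fun g v hv => by
    rw [add_zero]
    exact mkQ_isGrHom 𝒜 J g v hv
  obtain ⟨w, hw⟩ := Tm_exact_mid EJ I EQ hι0 hπ0 (Submodule.injective_subtype J)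
    (Submodule.mkQ_surjective J)
    (fun b hb => ⟨⟨b, (Submodule.Quotient.mk_eq_zero J).1 hb⟩, rfl⟩)
    (fun z => (Submodule.Quotient.mk_eq_zero J).2 z.2) a n y (Subsingleton.elim _ _)
  obtain ⟨x, hxdef⟩ : ∃ x : PUnit.{u + 1} → J, x = fun _ => ⟨r, hrJ⟩ := ⟨_, rfl⟩
  have hx : ∀ b, x b ∈ subGr 𝒜 J ((fun _ : PUnit.{u + 1} => k) b) := fun b => by
    rw [hxdef]
    exact hr
  have hsurj : Function.Surjective (Fintype.linearCombination R x) := by
    intro z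
    have hz : (z : R) ∈ Submodule.span R {r} := by
      rw [← hJdef]
      exact z.2
    obtain ⟨c, hc⟩ := Submodule.mem_span_singleton.1 hz
    refine ⟨fun _ => c, Subtype.ext ?_⟩
    rw [Fintype.linearCombination_apply, Fintype.sum_unique, hxdef]
    exact hc
  obtain ⟨h, hh⟩ := exists_sum_Bm I EJ a n (fun _ : PUnit.{u + 1} => k) x hx hn hsurj w
  rw [Fintype.sum_unique] at hh
  have hk : GrLC.IsGrHomDeg 𝒜 𝒜 (LinearMap.toSpanSingleton R R r) k :=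
    toSpanSingleton_isGrHomDeg hr
  have hw1 : LinearMap.toSpanSingleton R R r =
      J.subtype.comp (LinearMap.toSpanSingleton R J (x default)) := by
    refine LinearMap.ext_ring ?_
    rw [LinearMap.comp_apply, LinearMap.toSpanSingleton_apply, LinearMap.toSpanSingleton_apply,
      one_smul, one_smul, hxdef]
    rfl
  have hw2 : LinearMap.toSpanSingleton R R r = r • (LinearMap.id : R →ₗ[R] R) := by
    refine LinearMap.ext_ring ?_
    rw [LinearMap.toSpanSingleton_apply, one_smul, LinearMap.smul_apply, LinearMap.id_apply,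
      smul_eq_mul, mul_one]
  have h1 := Tm_comp' (F := I) (E := EJ) (G := I) a (toSpanSingleton_isGrHomDeg (hx default))
    hι0 hk (add_zero k).symm hw1 n (h default)
  have h2 := Tm_smul' (F := I) (E := I) a hr (isGrHomDeg_id (ℳ := 𝒜)) hk (zero_add k).symm hw2 n
    (h default)
  rw [Tm_id, LinearMap.id_apply] at h2
  refine ⟨h default, ?_⟩
  rw [← hw, hh]
  exact h2.symm.trans h1

end Div

/-! ### the main theorem -/

section Main

variable {R : Type u} [CommRing R] [IsNoetherianRing R] (𝒜 : ℤ → AddSubgroup R) [GradedRing 𝒜]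
  (hpos : ∀ n : ℤ, n < 0 → 𝒜 n = ⊥) (h0 : IsField (GrLC.deg0 𝒜))
variable {E' : Type u} [AddCommGroup E'] [Module R E'] (𝓔 : ℤ → AddSubgroup E')
  [DirectSum.Decomposition 𝓔] [SetLike.GradedSMul 𝒜 𝓔]
  (e : (R ⧸ (irr 𝒜).toIdeal) →ₗ[R] E')
  (he : GrLC.IsStarInjHull 𝒜 (GrLC.quotGr 𝒜 (irr 𝒜)) 𝓔 e)
variable {C : Type u} [AddCommGroup C] [Module R C] (𝒞 : ℤ → AddSubgroup C)
  [DirectSum.Decomposition 𝒞] [SetLike.GradedSMul 𝒜 𝒞] [Module.Finite R C]
variable (I : GrLC.StarInjRes 𝒜 𝒜) (a : HomogeneousIdeal 𝒜) (n : ℕ)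
  (φ : (C →ₗ[R] E') ≃ₗ[R] I.H a n)
  (hφ : ∀ (c0 : ℤ) (g : C →ₗ[R] E'), GrLC.IsGrHomDeg 𝒞 𝓔 g c0 → φ g ∈ I.Hgr a n c0)

include hφ in
omit [IsNoetherianRing R] in
/-- the isomorphism `φ` is surjective on each piece -/
theorem exists_hom_of_mem_Hgr {c0 : ℤ} {y : I.H a n} (hy : y ∈ I.Hgr a n c0) :
    ∃ g : C →ₗ[R] E', GrLC.IsGrHomDeg 𝒞 𝓔 g c0 ∧ φ g = y := by
  classical
  letI : DirectSum.Decomposition (I.Hgr a n) := HDec I a n
  obtain ⟨g, hg⟩ : ∃ g, g = φ.symm y := ⟨_, rfl⟩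
  obtain ⟨D, hD⟩ := exists_finset_sum_degPart 𝒜 𝒞 𝓔 g
  have hdeg : ∀ d, GrLC.IsGrHomDeg 𝒞 𝓔 (degPart 𝒜 𝒞 𝓔 g d) d :=
    fun d k x hx => degPartS_isGrHom 𝒜 𝒞 𝓔 g d k x hx
  have hgsum : g = ∑ d ∈ D, degPart 𝒜 𝒞 𝓔 g d := LinearMap.ext fun x => by
    rw [LinearMap.sum_apply]
    exact hD x
  have hy1 : y = ∑ d ∈ D, φ (degPart 𝒜 𝒞 𝓔 g d) := by
    rw [← map_sum, ← hgsum, hg, LinearEquiv.apply_symm_apply]
  have key : ∀ d ∈ D, compHom (I.Hgr a n) c0 (φ (degPart 𝒜 𝒞 𝓔 g d)) =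
      if d = c0 then φ (degPart 𝒜 𝒞 𝓔 g d) else 0 := by
    intro d _
    rw [compHom_apply]
    split_ifs with h
    · subst h
      exact decompose_of_mem_same _ (hφ d _ (hdeg d))
    · exact decompose_of_mem_ne _ (hφ d _ (hdeg d)) h
  have h1 := congrArg (compHom (I.Hgr a n) c0) hy1
  rw [map_sum, compHom_apply, decompose_of_mem_same _ hy, Finset.sum_congr rfl key,
    Finset.sum_ite_eq' D c0] at h1
  by_cases hc : c0 ∈ D
  · rw [if_pos hc] at h1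
    exact ⟨_, hdeg c0, h1.symm⟩
  · rw [if_neg hc] at h1
    exact ⟨0, fun _ _ _ => zero_mem _, by rw [map_zero, h1]⟩

include hpos h0 he hφ in
omit [IsNoetherianRing R] [Module.Finite R C] in
/-- the Hilbert function of `C` is bounded by that of the top local cohomology -/
theorem length_comp_le [Nontrivial R]
    (hfin : ∀ j, IsFiniteLength (GrLC.deg0 𝒜) (I.Hcomp a n j)) (j : ℤ) :
    Module.length (GrLC.deg0 𝒜) (GrLC.comp 𝒜 𝒞 j) ≤
      Module.length (GrLC.deg0 𝒜) (I.Hcomp a n (-j)) := by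
  classical
  obtain ⟨φj, hφj⟩ : ∃ φj : GrLC.homDeg 𝒜 𝒞 𝓔 (-j) →ₗ[GrLC.deg0 𝒜] I.Hcomp a n (-j),
      ∀ g, ((φj g : I.Hcomp a n (-j)) : I.H a n) = φ (g : C →ₗ[R] E') :=
    ⟨((φ.toLinearMap).restrictScalars (GrLC.deg0 𝒜)).restrict (fun g hg => hφ (-j) g hg),
      fun _ => rfl⟩
  have hφjinj : Function.Injective φj := by
    intro g g' hgg
    apply Subtype.ext
    apply φ.injective
    rw [← hφj, ← hφj, hgg]
  have hVfin : IsFiniteLength (GrLC.deg0 𝒜) (GrLC.homDeg 𝒜 𝒞 𝓔 (-j)) :=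
    (hfin (-j)).of_injective hφjinj
  refine le_trans ?_ (Module.length_le_of_injective φj hφjinj)
  have hmem : ∀ (w : GrLC.comp 𝒜 𝒞 j) (g : GrLC.homDeg 𝒜 𝒞 𝓔 (-j)),
      (g : C →ₗ[R] E') (w : C) ∈ GrLC.comp 𝒜 𝓔 0 := by
    intro w g
    have hg' : GrLC.IsGrHomDeg 𝒞 𝓔 (g : C →ₗ[R] E') (-j) := g.2
    have hw' : (w : C) ∈ 𝒞 j := w.2
    have h2 := hg' j _ hw'
    rwa [add_neg_cancel] at h2
  obtain ⟨B, hB⟩ : ∃ B : GrLC.comp 𝒜 𝒞 j →ₗ[GrLC.deg0 𝒜]
      GrLC.homDeg 𝒜 𝒞 𝓔 (-j) →ₗ[GrLC.deg0 𝒜] GrLC.comp 𝒜 𝓔 0,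
      ∀ w g, ((B w g : GrLC.comp 𝒜 𝓔 0) : E') = (g : C →ₗ[R] E') (w : C) :=
    ⟨LinearMap.mk₂ (GrLC.deg0 𝒜) (fun w g => ⟨(g : C →ₗ[R] E') (w : C), hmem w g⟩)
      (fun w w' g => Subtype.ext (map_add (g : C →ₗ[R] E') _ _))
      (fun k w g => Subtype.ext (map_smul (g : C →ₗ[R] E') (k : R) (w : C)))
      (fun w g g' => Subtype.ext rfl)
      (fun k w g => Subtype.ext rfl), fun _ _ => rfl⟩
  have hBinj : Function.Injective B := by
    rw [injective_iff_map_eq_zero]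
    intro w hw
    by_contra hne
    have hne' : (w : C) ≠ 0 := fun h => hne (Subtype.ext h)
    obtain ⟨g, hg, hgw⟩ := exists_hom_ne_zero 𝒜 hpos 𝓔 e he 𝒞 h0
      (show (w : C) ∈ 𝒞 j from w.2) hne'
    apply hgw
    have h3 := hB w ⟨g, hg⟩
    rw [hw, LinearMap.zero_apply, ZeroMemClass.coe_zero] at h3
    exact h3.symm
  obtain ⟨ε, hεdef⟩ : ∃ ε : E', ε = e (Ideal.Quotient.mk (irr 𝒜).toIdeal 1) := ⟨_, rfl⟩
  have hε0 : ε ∈ GrLC.comp 𝒜 𝓔 0 := by
    rw [hεdef]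
    exact e_mem_zero 𝒜 hpos 𝓔 e he _
  have hεne : (⟨ε, hε0⟩ : GrLC.comp 𝒜 𝓔 0) ≠ 0 := by
    intro h
    have h1 : ε = 0 := congrArg Subtype.val h
    rw [hεdef] at h1
    exact e_one_ne_zero 𝒜 hpos 𝓔 e he h1
  have hspan : ∀ l : GrLC.comp 𝒜 𝓔 0, ∃ c : GrLC.deg0 𝒜,
      c • (⟨ε, hε0⟩ : GrLC.comp 𝒜 𝓔 0) = l := by
    intro l
    obtain ⟨k, hk, hkl⟩ := exists_smul_eq_of_mem_zero 𝒜 hpos 𝓔 e he h0
      (show (l : E') ∈ 𝓔 0 from l.2)
    refine ⟨⟨k, hk⟩, Subtype.ext ?_⟩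
    show k • ε = (l : E')
    rw [hεdef]
    exact hkl
  exact @length_le_of_pairing (GrLC.deg0 𝒜) h0.toField _ _ _ _ _ _ _ _ _ B hBinj ⟨ε, hε0⟩ hεne
    hspan hVfin

include hpos h0 he in
/-- **recognition of the *canonical module from the Hilbert function of the top local
cohomology** -/
theorem exists_bijective_of_hilb [IsDomain R] (hn : ringKrullDim R = n) (d : ℤ)
    (φ : (C →ₗ[R] E') ≃ₗ[R] I.H (irr 𝒜) n)
    (hφ : ∀ (c0 : ℤ) (g : C →ₗ[R] E'), GrLC.IsGrHomDeg 𝒞 𝓔 g c0 → φ g ∈ I.Hgr (irr 𝒜) n c0)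
    (hH : ∀ j : ℤ, len (GrLC.deg0 𝒜) (I.Hcomp (irr 𝒜) n j) =
      len (GrLC.deg0 𝒜) (GrLC.comp 𝒜 𝒜 (-j - d))) :
    ∃ f : R →ₗ[R] C, Function.Bijective f ∧ GrLC.IsGrHomDeg 𝒜 𝒞 f d := by
  classical
  haveI hArt : IsArtinianRing (GrLC.deg0 𝒜) := by
    let _ := h0.toField
    infer_instance
  have hfinH : ∀ j, IsFiniteLength (GrLC.deg0 𝒜) (I.Hcomp (irr 𝒜) n j) :=
    fun j => finLen_Hcomp 𝒜 hpos R 𝒜 I n j
  have hfinA : ∀ j, IsFiniteLength (GrLC.deg0 𝒜) (GrLC.comp 𝒜 𝒜 j) :=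
    fun j => finLen_comp 𝒜 R 𝒜 j
  have hle : ∀ j, Module.length (GrLC.deg0 𝒜) (GrLC.comp 𝒜 𝒞 j) ≤
      Module.length (GrLC.deg0 𝒜) (GrLC.comp 𝒜 𝒜 (j - d)) := by
    intro j
    have h1 := length_comp_le 𝒜 hpos h0 𝓔 e he 𝒞 I (irr 𝒜) n φ hφ hfinH j
    have h2 := length_eq_of_len_eq (hfinH (-j)) (hfinA (- -j - d)) (hH (-j))
    rw [neg_neg] at h2
    rwa [h2] at h1
  -- a nonzero element of degree `d`
  have hone : ¬ Subsingleton (GrLC.comp 𝒜 𝒜 0) := by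
    intro hs
    have h1 : (⟨1, SetLike.GradedOne.one_mem (A := 𝒜)⟩ : GrLC.comp 𝒜 𝒜 0) = 0 :=
      Subsingleton.elim _ _
    exact one_ne_zero (congrArg Subtype.val h1)
  have hHd : ¬ Subsingleton (I.Hcomp (irr 𝒜) n (-d)) := by
    intro hs
    apply hone
    rw [← len_eq_zero_iff (hfinA 0)]
    have h1 := hH (-d)
    rw [neg_neg, sub_self] at h1
    rw [← h1]
    exact len_eq_zero_of_subsingleton _
  rw [not_subsingleton_iff_nontrivial] at hHd
  obtain ⟨y, hy⟩ := exists_ne (0 : I.Hcomp (irr 𝒜) n (-d))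
  obtain ⟨g, hg, hgy⟩ := exists_hom_of_mem_Hgr 𝒜 𝓔 𝒞 I (irr 𝒜) n φ hφ
    (show (y : I.H (irr 𝒜) n) ∈ I.Hgr (irr 𝒜) n (-d) from y.2)
  have hg0 : g ≠ 0 := by
    intro h
    apply hy
    apply Subtype.ext
    rw [← hgy, h, map_zero]
    rfl
  obtain ⟨u, hu, hgu⟩ : ∃ u ∈ 𝒞 d, g u ≠ 0 := by
    by_contra hall
    push_neg at hall
    apply hg0
    refine hom_eq_zero_of_vanish 𝒜 hpos 𝓔 e he 𝒞 hg (fun c hc => hall c ?_)
    rwa [neg_neg] at hc
  have hann : ∀ r : R, r • u = 0 → r = 0 := by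
    intro r hr
    by_contra hr0
    obtain ⟨i, hi⟩ := exists_comp_ne_zero 𝒜 hr0
    have h1 := comp_smul_hom 𝒜 𝒞 hu r (i + d)
    rw [hr, decompose_zero, DirectSum.zero_apply, ZeroMemClass.coe_zero,
      add_sub_cancel_right] at h1
    obtain ⟨h', hh'⟩ := exists_smul_eq 𝒜 I (irr 𝒜) n hn (SetLike.coe_mem (decompose 𝒜 r i))
      (mem_nonZeroDivisors_of_ne_zero hi) (φ g)
    apply hgu
    have h2 : g = ((decompose 𝒜 r i : 𝒜 i) : R) • φ.symm h' := by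
      apply φ.injective
      rw [map_smul, LinearEquiv.apply_symm_apply, hh']
    rw [h2, LinearMap.smul_apply, ← map_smul, ← h1, map_zero]
  refine ⟨LinearMap.toSpanSingleton R C u, ⟨?_, ?_⟩, toSpanSingleton_isGrHomDeg hu⟩
  · rw [injective_iff_map_eq_zero]
    intro r hr
    rw [LinearMap.toSpanSingleton_apply] at hr
    exact hann r hr
  · intro c
    induction c using DirectSum.Decomposition.inductionOn 𝒞 with
    | zero => exact ⟨0, map_zero _⟩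
    | @homogeneous j x =>
      obtain ⟨fj, hfj⟩ : ∃ fj : GrLC.comp 𝒜 𝒜 (j - d) →ₗ[GrLC.deg0 𝒜] GrLC.comp 𝒜 𝒞 j,
          ∀ r, ((fj r : GrLC.comp 𝒜 𝒞 j) : C) = (r : R) • u :=
        ⟨{ toFun := fun r => ⟨(r : R) • u, by
              have h1 := gsmul_mem 𝒜 𝒞 (show (r : R) ∈ 𝒜 (j - d) from r.2) hu
              rwa [sub_add_cancel] at h1⟩
           map_add' := fun r r' => Subtype.ext (add_smul (r : R) (r' : R) u)
           map_smul' := fun k r => Subtype.ext (mul_smul (k : R) (r : R) u) }, fun _ => rfl⟩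
      have hfjinj : Function.Injective fj := by
        rw [injective_iff_map_eq_zero]
        intro r hr
        apply Subtype.ext
        apply hann
        rw [← hfj, hr]
        rfl
      have hsur := surjective_of_length_le fj hfjinj
        (Module.length_ne_top_iff.2 (hfinA (j - d))) (hle j)
      obtain ⟨r, hr⟩ := hsur ⟨x, x.2⟩
      refine ⟨(r : R), ?_⟩
      rw [LinearMap.toSpanSingleton_apply, ← hfj, hr]
    | add x y hx hy =>
      obtain ⟨a, ha⟩ := hx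
      obtain ⟨b, hb⟩ := hy
      exact ⟨a + b, by rw [map_add, ha, hb]⟩

end Main

end Groth.Agent.H98.GrCanon
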