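import Groth.Agent.H98.GrCanon
import Groth.Agent.H98.GrStd
import Groth.Agent.H98.LCcd
import Groth.Agent.H17.LCRad

/-!
# Helper library (helper98): pieces of the *canonical module of a standard graded ring of
dimension at least two have dimension at least two above the initial degree.
-/

set_option autoImplicit false
universe u

open DirectSum

namespace Groth.Agent.H98.GrCanon

open Groth.Agent.H98.GrCat Groth.Agent.H98.GrHt Groth.Agent.H98.GrConv

/-! ### abstract linear algebra -/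

theorem exists_generator_of_finrank_lt_two (K : Type u) [Field K] {X V : Type u} [AddCommGroup X]
    [Module K X] [AddCommGroup V] [Module K V] [Module.Finite K V] (f : X →ₗ[K] V)
    (h : Module.finrank K V < 2) : ∃ x₀ : X, ∀ x : X, ∃ c : K, f x = c • f x₀ := by
  by_cases hall : ∀ x, f x = 0
  · exact ⟨0, fun x => ⟨0, by rw [hall x, zero_smul]⟩⟩
  · push Not at hall
    obtain ⟨x₀, hx₀⟩ := hall
    have h1 : Module.finrank K V = 1 := by
      have hpos : 0 < Module.finrank K V := Module.finrank_pos_iff_exists_ne_zero.2 ⟨f x₀, hx₀⟩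
      omega
    refine ⟨x₀, fun x => ?_⟩
    obtain ⟨c, hc⟩ := (finrank_eq_one_iff_of_nonzero' (f x₀) hx₀).1 h1 (f x)
    exact ⟨c, hc.symm⟩

/-! ### vanishing of local cohomology of a quotient that is, up to radical, cut out by one
more element -/

section Van

variable {R : Type u} [CommRing R] [IsNoetherianRing R]

theorem subsingleton_H_quot_of_le_radical (𝔞 J : Ideal R) (y : R)
    (h1 : 𝔞 ≤ (J ⊔ Ideal.span {y}).radical) (h2 : y ∈ 𝔞) (i : ℕ) (hi : 2 ≤ i) :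
    Subsingleton (LocCoh.H 𝔞 i (R ⧸ J)) := by
  classical
  obtain ⟨φ1, -⟩ := Groth.Agent.H58.LC.semiEq_H R (R ⧸ J) 𝔞 i (R ⧸ J)
  obtain ⟨φ2, -⟩ := Groth.Agent.H58.LC.semiEq_H R (R ⧸ J) (Ideal.span {y}) i (R ⧸ J)
  have hrad : (𝔞.map (algebraMap R (R ⧸ J))).radical =
      ((Ideal.span {y}).map (algebraMap R (R ⧸ J))).radical := by
    apply le_antisymm
    · rw [Ideal.radical_le_radical_iff]
      have e1 : (J ⊔ Ideal.span {y}).map (algebraMap R (R ⧸ J)) =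
          (Ideal.span {y}).map (algebraMap R (R ⧸ J)) := by
        rw [Ideal.map_sup]
        have e2 : J.map (algebraMap R (R ⧸ J)) = ⊥ := Ideal.map_quotient_self J
        rw [e2, bot_sup_eq]
      calc 𝔞.map (algebraMap R (R ⧸ J))
          ≤ ((J ⊔ Ideal.span {y}).radical).map (algebraMap R (R ⧸ J)) := Ideal.map_mono h1
        _ ≤ ((J ⊔ Ideal.span {y}).map (algebraMap R (R ⧸ J))).radical := Ideal.map_radical_le _
        _ = ((Ideal.span {y}).map (algebraMap R (R ⧸ J))).radical := by rw [e1]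
    · apply Ideal.radical_mono
      apply Ideal.map_mono
      rw [Ideal.span_le]
      intro z hz
      rw [Set.mem_singleton_iff.1 hz]
      exact h2
  obtain ⟨ψ⟩ := Groth.Agent.H17.LCRad.nonempty_equiv_of_radical_eq hrad i (R ⧸ J)
  haveI : Subsingleton (LocCoh.H (Ideal.span {y}) i (R ⧸ J)) := by
    have h3 := Groth.Agent.H98.LCcd.cdLE_span_finset ({y} : Finset R) (R ⧸ J) i (by
      rw [Finset.card_singleton]
      omega)
    rwa [Finset.coe_singleton] at h3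
  haveI : Subsingleton (LocCoh.H ((Ideal.span {y}).map (algebraMap R (R ⧸ J))) i (R ⧸ J)) :=
    φ2.toEquiv.subsingleton
  haveI : Subsingleton (LocCoh.H (𝔞.map (algebraMap R (R ⧸ J))) i (R ⧸ J)) :=
    ψ.toEquiv.subsingleton
  exact φ1.symm.toEquiv.subsingleton

end Van

/-! ### standard graded rings -/

section Std

variable {R : Type u} [CommRing R] (𝒜 : ℤ → AddSubgroup R) [GradedRing 𝒜]

theorem mem_span_piece_of_le
    (hstd : ∀ n : ℤ, 0 < n → ∀ x ∈ 𝒜 n, x ∈ Ideal.span ((𝒜 1 : AddSubgroup R) : Set R))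
    {t : ℤ} (ht : 1 ≤ t) : ∀ (d : ℕ) (x : R), x ∈ 𝒜 (t + d) →
      x ∈ Ideal.span ((𝒜 t : AddSubgroup R) : Set R) := by
  classical
  intro d
  induction d with
  | zero =>
    intro x hx
    rw [Nat.cast_zero, add_zero] at hx
    exact Ideal.subset_span hx
  | succ d ih =>
    intro x hx
    have hx1 := hstd (t + (d + 1 : ℕ)) (by positivity) x hx
    obtain ⟨f, T, hT, -, hsum⟩ := Submodule.mem_span_iff_exists_finset_subset.1 hx1
    have h1 : x = ∑ z ∈ T, compHom 𝒜 (t + (d + 1 : ℕ)) (f z • z) := by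
      have h2 := congrArg (compHom 𝒜 (t + (d + 1 : ℕ))) hsum
      rw [map_sum, compHom_apply, decompose_of_mem_same 𝒜 hx] at h2
      exact h2.symm
    rw [h1]
    refine Ideal.sum_mem _ (fun z hz => ?_)
    have hz1 : z ∈ 𝒜 1 := hT hz
    have h3 : f z • z = z • f z := by rw [smul_eq_mul, smul_eq_mul, mul_comm]
    rw [compHom_apply, h3, comp_smul 𝒜 𝒜 hz1]
    refine Ideal.mul_mem_left _ _ (ih _ ?_)
    have e : t + (d + 1 : ℕ) - 1 = t + d := by push_cast; ring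
    rw [e]
    exact SetLike.coe_mem _

theorem irr_le_radical_of_piece_le
    (hstd : ∀ n : ℤ, 0 < n → ∀ x ∈ 𝒜 n, x ∈ Ideal.span ((𝒜 1 : AddSubgroup R) : Set R))
    {t : ℤ} (ht : 1 ≤ t) (𝔟 : Ideal R) (h𝔟 : ∀ x ∈ 𝒜 t, x ∈ 𝔟) :
    (irr 𝒜).toIdeal ≤ 𝔟.radical := by
  rw [irr_toIdeal, Ideal.span_le]
  intro x hx
  obtain ⟨i, hi, hxi⟩ := Set.mem_iUnion₂.1 hx
  have hi' : 0 < i := Set.mem_Ioi.1 hi
  refine ⟨t.toNat, ?_⟩
  have h1 : x ^ t.toNat ∈ 𝒜 (t.toNat • i) := SetLike.pow_mem_graded t.toNat hxi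
  have ht' : ((t.toNat : ℕ) : ℤ) = t := Int.toNat_of_nonneg (by omega)
  have hle : t ≤ t.toNat • i := by
    rw [nsmul_eq_mul, ht']
    nlinarith
  obtain ⟨d, hd⟩ : ∃ d : ℕ, t.toNat • i = t + d := ⟨(t.toNat • i - t).toNat, by
    rw [Int.toNat_of_nonneg (by omega)]
    ring⟩
  rw [hd] at h1
  have h2 := mem_span_piece_of_le 𝒜 hstd ht d _ h1
  exact (Ideal.span_le.2 (fun z hz => h𝔟 z hz)) h2

end Std

/-! ### divisibility of the top local cohomology by an ideal of smaller dimension -/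

section Div2

variable {R : Type u} [CommRing R] [IsNoetherianRing R] (𝒜 : ℤ → AddSubgroup R) [GradedRing 𝒜]
  (I : GrLC.StarInjRes 𝒜 𝒜) (a : HomogeneousIdeal 𝒜) (n : ℕ)

/-- if `H^n_a(R/J) = 0` for a homogeneous ideal `J` then `H^n_a(R) = J · H^n_a(R)` -/
theorem exists_sum_smul_eq (hn : ringKrullDim R = n) (J : Submodule R R)
    (hJ : J.IsHomogeneous 𝒜) (hvan : Subsingleton (LocCoh.H a.toIdeal n (R ⧸ J)))
    (y : I.H a n) :
    ∃ (κ : Type u) (_ : Fintype κ) (r : κ → R) (h : κ → I.H a n),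
      (∀ b, r b ∈ J) ∧ y = ∑ b, r b • h b := by
  classical
  let _ : DirectSum.Decomposition (subGr 𝒜 J) := subDec 𝒜 J hJ
  have : SetLike.GradedSMul 𝒜 (subGr 𝒜 J) := subGSMul 𝒜 𝒜 J
  obtain ⟨EJ, -⟩ : ∃ E : GrLC.StarInjRes 𝒜 (subGr 𝒜 J), True := ⟨starInjRes 𝒜 _, trivial⟩
  obtain ⟨EQ, -⟩ : ∃ E : GrLC.StarInjRes 𝒜 (quotG 𝒜 𝒜 J hJ).gr, True :=
    ⟨starInjRes 𝒜 _, trivial⟩
  have hsub : Subsingleton (EQ.H a n) := by
    obtain ⟨eq⟩ := nonempty_H_equiv EQ a n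
    have hs : Subsingleton (LocCoh.H a.toIdeal n (quotG 𝒜 𝒜 J hJ).carrier) := hvan
    exact eq.toEquiv.subsingleton
  have hι0 : GrLC.IsGrHomDeg (subGr 𝒜 J) 𝒜 J.subtype 0 := fun g v hv => by
    rw [add_zero]
    exact hv
  have hπ0 : GrLC.IsGrHomDeg 𝒜 (quotG 𝒜 𝒜 J hJ).gr J.mkQ 0 := fun g v hv => by
    rw [add_zero]
    exact mkQ_isGrHom 𝒜 J g v hv
  obtain ⟨w, hw⟩ := Tm_exact_mid EJ I EQ hι0 hπ0 (Submodule.injective_subtype J)
    (Submodule.mkQ_surjective J)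
    (fun b hb => ⟨⟨b, (Submodule.Quotient.mk_eq_zero J).1 hb⟩, rfl⟩)
    (fun z => (Submodule.Quotient.mk_eq_zero J).2 z.2) a n y (Subsingleton.elim _ _)
  haveI : Module.Finite R J := inferInstance
  obtain ⟨κ, hκ, deg, x, hx, hsurj⟩ := exists_homog_generators (R := R) (subGr 𝒜 J)
  obtain ⟨h, hh⟩ := exists_sum_Bm I EJ a n deg x hx hn hsurj w
  refine ⟨κ, hκ, fun b => ((x b : J) : R), h, fun b => (x b).2, ?_⟩
  rw [← hw, hh, map_sum]
  refine Finset.sum_congr rfl fun b _ => ?_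
  have hxb : ((x b : J) : R) ∈ 𝒜 (deg b) := hx b
  have hk : GrLC.IsGrHomDeg 𝒜 𝒜 (LinearMap.toSpanSingleton R R ((x b : J) : R)) (deg b) :=
    toSpanSingleton_isGrHomDeg hxb
  have hw1 : LinearMap.toSpanSingleton R R ((x b : J) : R) =
      J.subtype.comp (LinearMap.toSpanSingleton R J (x b)) := by
    refine LinearMap.ext_ring ?_
    rw [LinearMap.comp_apply, LinearMap.toSpanSingleton_apply, LinearMap.toSpanSingleton_apply,
      one_smul, one_smul]
    rfl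
  have hw2 : LinearMap.toSpanSingleton R R ((x b : J) : R) =
      ((x b : J) : R) • (LinearMap.id : R →ₗ[R] R) := by
    refine LinearMap.ext_ring ?_
    rw [LinearMap.toSpanSingleton_apply, one_smul, LinearMap.smul_apply, LinearMap.id_apply,
      smul_eq_mul, mul_one]
  have h1 := Tm_comp' (F := I) (E := EJ) (G := I) a (toSpanSingleton_isGrHomDeg (hx b))
    hι0 hk (add_zero (deg b)).symm hw1 n (h b)
  have h2 := Tm_smul' (F := I) (E := I) a hxb (isGrHomDeg_id (ℳ := 𝒜)) hk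
    (zero_add (deg b)).symm hw2 n (h b)
  rw [Tm_id, LinearMap.id_apply] at h2
  exact h1.symm.trans h2

end Div2

/-! ### the main theorem -/

section Main2

variable {R : Type u} [CommRing R] [IsNoetherianRing R] (𝒜 : ℤ → AddSubgroup R) [GradedRing 𝒜]
  (hpos : ∀ n : ℤ, n < 0 → 𝒜 n = ⊥) (h0 : IsField (GrLC.deg0 𝒜))
variable {E' : Type u} [AddCommGroup E'] [Module R E'] (𝓔 : ℤ → AddSubgroup E')
  [DirectSum.Decomposition 𝓔] [SetLike.GradedSMul 𝒜 𝓔]
  (e : (R ⧸ (irr 𝒜).toIdeal) →ₗ[R] E')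
  (he : GrLC.IsStarInjHull 𝒜 (GrLC.quotGr 𝒜 (irr 𝒜)) 𝓔 e)
variable {C : Type u} [AddCommGroup C] [Module R C] (𝒞 : ℤ → AddSubgroup C)
  [DirectSum.Decomposition 𝒞] [SetLike.GradedSMul 𝒜 𝒞] [Module.Finite R C]
variable (I : GrLC.StarInjRes 𝒜 𝒜) (n : ℕ)

include hpos h0 he in
/-- pieces of the *canonical module of a standard graded ring of dimension `≥ 2` above the
initial degree `-a(R)` have dimension at least two -/
theorem two_le_finrank_comp_of_std [Nontrivial R]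
    (hstd : ∀ n : ℤ, 0 < n → ∀ x ∈ 𝒜 n, x ∈ Ideal.span ((𝒜 1 : AddSubgroup R) : Set R))
    (hn : ringKrullDim R = n) (h2 : 2 ≤ n) (a : ℤ)
    (ha : GrLC.endDeg (I.Hgr (irr 𝒜) n) = ((a : WithTop ℤ) : WithBot (WithTop ℤ)))
    (φ : (C →ₗ[R] E') ≃ₗ[R] I.H (irr 𝒜) n)
    (hφ : ∀ (c0 : ℤ) (g : C →ₗ[R] E'), GrLC.IsGrHomDeg 𝒞 𝓔 g c0 → φ g ∈ I.Hgr (irr 𝒜) n c0)
    (j : ℤ) (hj : -a < j) :
    2 ≤ Module.finrank (GrLC.deg0 𝒜) (GrLC.comp 𝒜 𝒞 j) := by
  classical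
  haveI hArt : IsArtinianRing (GrLC.deg0 𝒜) := by
    let _ := h0.toField
    infer_instance
  -- the top cohomology is nonzero in degree `a`
  have hHa : I.Hgr (irr 𝒜) n a ≠ ⊥ := by
    intro hbot
    have h1 : GrLC.endDeg (I.Hgr (irr 𝒜) n) ≤
        (((a - 1 : ℤ) : WithTop ℤ) : WithBot (WithTop ℤ)) :=
      (endDeg_le_iff _ _).2 (fun d hd => by
        rcases eq_or_lt_of_le (show a ≤ d by omega) with h | h
        · rw [← h]
          exact hbot
        · exact (endDeg_le_iff _ a).1 (le_of_eq ha) d h)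
    rw [ha, WithBot.coe_le_coe, WithTop.coe_le_coe] at h1
    omega
  obtain ⟨y0, hy0mem, hy0ne⟩ : ∃ y ∈ I.Hgr (irr 𝒜) n a, y ≠ 0 := by
    by_contra hcon
    push Not at hcon
    exact hHa ((AddSubgroup.eq_bot_iff_forall _).2 hcon)
  obtain ⟨g, hg, hgy⟩ := exists_hom_of_mem_Hgr 𝒜 𝓔 𝒞 I (irr 𝒜) n φ hφ hy0mem
  have hg0 : g ≠ 0 := by
    intro h
    apply hy0ne
    rw [← hgy, h, map_zero]
  obtain ⟨u, hu, hgu⟩ : ∃ u ∈ 𝒞 (-a), g u ≠ 0 := by
    by_contra hall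
    push Not at hall
    exact hg0 (hom_eq_zero_of_vanish 𝒜 hpos 𝓔 e he 𝒞 hg hall)
  by_contra hlt
  push Not at hlt
  obtain ⟨t, htdef⟩ : ∃ t : ℤ, t = j + a := ⟨_, rfl⟩
  have ht : 1 ≤ t := by omega
  have htj : t + -a = j := by omega
  -- multiplication by `u` on the piece of degree `t`
  obtain ⟨fj, hfj⟩ : ∃ fj : GrLC.comp 𝒜 𝒜 t →ₗ[GrLC.deg0 𝒜] GrLC.comp 𝒜 𝒞 j,
      ∀ r, ((fj r : GrLC.comp 𝒜 𝒞 j) : C) = (r : R) • u :=
    ⟨{ toFun := fun r => ⟨(r : R) • u, by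
          have h1 := gsmul_mem 𝒜 𝒞 (show (r : R) ∈ 𝒜 t from r.2) hu
          rwa [htj] at h1⟩
       map_add' := fun r r' => Subtype.ext (add_smul (r : R) (r' : R) u)
       map_smul' := fun k r => Subtype.ext (mul_smul (k : R) (r : R) u) }, fun _ => rfl⟩
  have hfinC : Module.Finite (GrLC.deg0 𝒜) (GrLC.comp 𝒜 𝒞 j) := by
    haveI : IsNoetherian (GrLC.deg0 𝒜) (GrLC.comp 𝒜 𝒞 j) :=
      (isFiniteLength_iff_isNoetherian_isArtinian.1 (finLen_comp 𝒜 C 𝒞 j)).1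
    infer_instance
  obtain ⟨y, hy⟩ := @exists_generator_of_finrank_lt_two (GrLC.deg0 𝒜) h0.toField _ _ _ _ _ _
    hfinC fj hlt
  -- the annihilator of `u`
  obtain ⟨J, hJdef⟩ : ∃ J : Submodule R R, J = LinearMap.ker (LinearMap.toSpanSingleton R C u) :=
    ⟨_, rfl⟩
  have hJmem : ∀ r : R, r ∈ J ↔ r • u = 0 := fun r => by
    rw [hJdef, LinearMap.mem_ker, LinearMap.toSpanSingleton_apply]
  have hJ : J.IsHomogeneous 𝒜 := by
    intro i r hr
    rw [hJmem] at hr ⊢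
    have h1 := comp_smul_hom 𝒜 𝒞 hu r (i + -a)
    rw [hr, decompose_zero, DirectSum.zero_apply, ZeroMemClass.coe_zero,
      add_sub_cancel_right] at h1
    exact h1.symm
  have hyt : (y : R) ∈ 𝒜 t := y.2
  have hpiece : ∀ x ∈ 𝒜 t, x ∈ (J : Ideal R) ⊔ Ideal.span {(y : R)} := by
    intro x hx
    obtain ⟨c, hc⟩ := hy ⟨x, hx⟩
    have hc' : x • u = (c : R) • ((y : R) • u) := by
      have h1 := congrArg (fun z : GrLC.comp 𝒜 𝒞 j => (z : C)) hc
      simp only [hfj] at h1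
      rw [h1]
      show ((c • fj y : GrLC.comp 𝒜 𝒞 j) : C) = _
      rw [Submodule.coe_smul, hfj]
      rfl
    have h3 : x - (c : R) * (y : R) ∈ J := by
      rw [hJmem, sub_smul, mul_smul, hc', sub_self]
    have h4 : x = (x - (c : R) * (y : R)) + (c : R) * (y : R) := by ring
    rw [h4]
    exact Ideal.add_mem _ (Ideal.mem_sup_left h3)
      (Ideal.mem_sup_right (Ideal.mul_mem_left _ _ (Ideal.subset_span rfl)))
  have hrad := irr_le_radical_of_piece_le 𝒜 hstd ht _ hpiece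
  have hyirr : (y : R) ∈ (irr 𝒜).toIdeal := by
    rw [irr_toIdeal]
    exact Ideal.subset_span (Set.mem_biUnion (Set.mem_Ioi.2 (by omega : (0 : ℤ) < t)) hyt)
  have hvan : Subsingleton (LocCoh.H (irr 𝒜).toIdeal n (R ⧸ J)) :=
    subsingleton_H_quot_of_le_radical (irr 𝒜).toIdeal J (y : R) hrad hyirr n h2
  obtain ⟨κ, hκ, r, h, hrJ, hsum⟩ := exists_sum_smul_eq 𝒜 I (irr 𝒜) n hn J hJ hvan (φ g)
  apply hgu
  have h5 : g = ∑ b, r b • φ.symm (h b) := by
    apply φ.injective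
    rw [map_sum, hsum]
    refine Finset.sum_congr rfl fun b _ => ?_
    rw [map_smul, LinearEquiv.apply_symm_apply]
  rw [h5, LinearMap.sum_apply]
  refine Finset.sum_eq_zero fun b _ => ?_
  rw [LinearMap.smul_apply, ← map_smul, (hJmem (r b)).1 (hrJ b), map_zero]

end Main2

end Groth.Agent.H98.GrCanon
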