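import Groth.Agent.H98.GrCanon

/-!
# Helper library (helper98): graded Matlis duality for a *canonical module, piece by piece:
the pairing `C_j × H^n_m(R)_{-j} → (*E)_0` is perfect.
-/

set_option autoImplicit false
universe u

open DirectSum

namespace Groth.Agent.H98.GrCanon

open Groth.Agent.H98.GrCat Groth.Agent.H98.GrHt

section LinAlg

/-- a pairing of finite-dimensional spaces into a line which is nondegenerate on both sides is
perfect -/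
theorem bijective_of_perfect (K : Type u) [Field K] {W V L : Type u} [AddCommGroup W] [Module K W]
    [AddCommGroup V] [Module K V] [AddCommGroup L] [Module K L]
    (B : W →ₗ[K] V →ₗ[K] L) (hB : Function.Injective B) (hB' : Function.Injective B.flip)
    (ε : L) (hε : ε ≠ 0) (hspan : ∀ l : L, ∃ c : K, c • ε = l)
    (hV : IsFiniteLength K V) (hW : IsFiniteLength K W) : Function.Bijective B := by
  have h1 := length_le_of_pairing K B hB ε hε hspan hV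
  have h2 := length_le_of_pairing K B.flip hB' ε hε hspan hW
  have hL1 : Module.finrank K L = 1 := (finrank_eq_one_iff_of_nonzero' ε hε).2 hspan
  haveI : Module.Finite K L := Module.finite_of_finrank_pos (by rw [hL1]; exact one_pos)
  haveI : IsNoetherian K V := (isFiniteLength_iff_isNoetherian_isArtinian.1 hV).1
  have h3 : Module.length K (V →ₗ[K] L) = Module.length K V := by
    rw [Module.length_eq_finrank K (V →ₗ[K] L), Module.finrank_linearMap, hL1, mul_one,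
      ← Module.length_eq_finrank]
  refine ⟨hB, surjective_of_length_le B hB (Module.length_ne_top_iff.2 hW) ?_⟩
  rw [h3]
  exact h2

end LinAlg

section Dual

variable {R : Type u} [CommRing R] [IsNoetherianRing R] (𝒜 : ℤ → AddSubgroup R) [GradedRing 𝒜]
  (hpos : ∀ n : ℤ, n < 0 → 𝒜 n = ⊥) (h0 : IsField (GrLC.deg0 𝒜))
variable {E' : Type u} [AddCommGroup E'] [Module R E'] (𝓔 : ℤ → AddSubgroup E')
  [DirectSum.Decomposition 𝓔] [SetLike.GradedSMul 𝒜 𝓔]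
  (e : (R ⧸ (irr 𝒜).toIdeal) →ₗ[R] E')
  (he : GrLC.IsStarInjHull 𝒜 (GrLC.quotGr 𝒜 (irr 𝒜)) 𝓔 e)
variable {C : Type u} [AddCommGroup C] [Module R C] (𝒞 : ℤ → AddSubgroup C)
  [DirectSum.Decomposition 𝒞] [SetLike.GradedSMul 𝒜 𝒞] [Module.Finite R C]
variable (I : GrLC.StarInjRes 𝒜 𝒜) (n : ℕ)
  (φ : (C →ₗ[R] E') ≃ₗ[R] I.H (irr 𝒜) n)
  (hφ : ∀ (c0 : ℤ) (g : C →ₗ[R] E'), GrLC.IsGrHomDeg 𝒞 𝓔 g c0 → φ g ∈ I.Hgr (irr 𝒜) n c0)

include hpos h0 he hφ in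
/-- **graded Matlis duality for the *canonical module**: the evaluation pairing
`C_j × H^n_m(R)_i → (*E)_0`, `i + j = 0`, is perfect -/
theorem exists_dual_pairing [Nontrivial R] (j i : ℤ) (hji : j + i = 0) :
    ∃ B : GrLC.comp 𝒜 𝒞 j →ₗ[GrLC.deg0 𝒜] I.Hcomp (irr 𝒜) n i →ₗ[GrLC.deg0 𝒜]
        GrLC.comp 𝒜 𝓔 0,
      (∀ w x, ((B w x : GrLC.comp 𝒜 𝓔 0) : E') = (φ.symm (x : I.H (irr 𝒜) n)) (w : C)) ∧
      Function.Bijective B := by
  classical
  haveI hArt : IsArtinianRing (GrLC.deg0 𝒜) := by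
    let _ := h0.toField
    infer_instance
  have hdeg : ∀ x : I.Hcomp (irr 𝒜) n i,
      GrLC.IsGrHomDeg 𝒞 𝓔 (φ.symm (x : I.H (irr 𝒜) n)) i := by
    intro x
    obtain ⟨g, hg, hgx⟩ := exists_hom_of_mem_Hgr 𝒜 𝓔 𝒞 I (irr 𝒜) n φ hφ
      (show (x : I.H (irr 𝒜) n) ∈ I.Hgr (irr 𝒜) n i from x.2)
    rw [← hgx, LinearEquiv.symm_apply_apply]
    exact hg
  have hmem : ∀ (w : GrLC.comp 𝒜 𝒞 j) (x : I.Hcomp (irr 𝒜) n i),
      (φ.symm (x : I.H (irr 𝒜) n)) (w : C) ∈ GrLC.comp 𝒜 𝓔 0 := by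
    intro w x
    have h2 := hdeg x j _ (show (w : C) ∈ 𝒞 j from w.2)
    rwa [hji] at h2
  obtain ⟨B, hB⟩ : ∃ B : GrLC.comp 𝒜 𝒞 j →ₗ[GrLC.deg0 𝒜]
      I.Hcomp (irr 𝒜) n i →ₗ[GrLC.deg0 𝒜] GrLC.comp 𝒜 𝓔 0,
      ∀ w x, ((B w x : GrLC.comp 𝒜 𝓔 0) : E') = (φ.symm (x : I.H (irr 𝒜) n)) (w : C) :=
    ⟨LinearMap.mk₂ (GrLC.deg0 𝒜) (fun w x => ⟨(φ.symm (x : I.H (irr 𝒜) n)) (w : C), hmem w x⟩)
      (fun w w' x => Subtype.ext (map_add (φ.symm (x : I.H (irr 𝒜) n)) _ _))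
      (fun k w x => Subtype.ext (map_smul (φ.symm (x : I.H (irr 𝒜) n)) (k : R) (w : C)))
      (fun w x x' => Subtype.ext (by
        show (φ.symm ((x : I.H (irr 𝒜) n) + (x' : I.H (irr 𝒜) n))) (w : C) = _
        rw [map_add, LinearMap.add_apply]
        rfl))
      (fun k w x => Subtype.ext (by
        show (φ.symm ((k : R) • (x : I.H (irr 𝒜) n))) (w : C) = _
        rw [map_smul, LinearMap.smul_apply]
        rfl)), fun _ _ => rfl⟩
  refine ⟨B, hB, ?_⟩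
  have hBinj : Function.Injective B := by
    rw [injective_iff_map_eq_zero]
    intro w hw
    by_contra hne
    have hne' : (w : C) ≠ 0 := fun h => hne (Subtype.ext h)
    obtain ⟨g, hg, hgw⟩ := exists_hom_ne_zero 𝒜 hpos 𝓔 e he 𝒞 h0
      (show (w : C) ∈ 𝒞 j from w.2) hne'
    have hi : -j = i := by omega
    rw [hi] at hg
    apply hgw
    have h3 := hB w ⟨φ g, hφ i g hg⟩
    rw [hw, LinearMap.zero_apply, ZeroMemClass.coe_zero] at h3
    rw [h3]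
    show g (w : C) = (φ.symm (φ g)) (w : C)
    rw [LinearEquiv.symm_apply_apply]
  have hBinj' : Function.Injective B.flip := by
    rw [injective_iff_map_eq_zero]
    intro x hx
    apply Subtype.ext
    rw [ZeroMemClass.coe_zero]
    have h1 : φ.symm (x : I.H (irr 𝒜) n) = 0 := by
      refine hom_eq_zero_of_vanish 𝒜 hpos 𝓔 e he 𝒞 (hdeg x) (fun c hc => ?_)
      have hj : -i = j := by omega
      rw [hj] at hc
      have h3 := hB ⟨c, hc⟩ x
      have h4 : B ⟨c, hc⟩ x = B.flip x ⟨c, hc⟩ := rfl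
      rw [h4, hx, LinearMap.zero_apply, ZeroMemClass.coe_zero] at h3
      exact h3.symm
    have h2 := congrArg φ h1
    rw [LinearEquiv.apply_symm_apply, map_zero] at h2
    exact h2
  obtain ⟨ε, hεdef⟩ : ∃ ε : E', ε = e (Ideal.Quotient.mk (irr 𝒜).toIdeal 1) := ⟨_, rfl⟩
  have hε0 : ε ∈ GrLC.comp 𝒜 𝓔 0 := by
    rw [hεdef]
    exact e_mem_zero 𝒜 hpos 𝓔 e he _
  have hεne : (⟨ε, hε0⟩ : GrLC.comp 𝒜 𝓔 0) ≠ 0 := by
    intro h
    have h1 : ε = 0 := congrArg Subtype.val h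
    rw [hεdef] at h1
    exact e_one_ne_zero 𝒜 hpos 𝓔 e he h1
  have hspan : ∀ l : GrLC.comp 𝒜 𝓔 0, ∃ c : GrLC.deg0 𝒜,
      c • (⟨ε, hε0⟩ : GrLC.comp 𝒜 𝓔 0) = l := by
    intro l
    obtain ⟨k, hk, hkl⟩ := exists_smul_eq_of_mem_zero 𝒜 hpos 𝓔 e he h0
      (show (l : E') ∈ 𝓔 0 from l.2)
    refine ⟨⟨k, hk⟩, Subtype.ext ?_⟩
    show k • ε = (l : E')
    rw [hεdef]
    exact hkl
  exact @bijective_of_perfect (GrLC.deg0 𝒜) h0.toField _ _ _ _ _ _ _ _ _ B hBinj hBinj'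
    ⟨ε, hε0⟩ hεne hspan (finLen_Hcomp 𝒜 hpos R 𝒜 I n i) (finLen_comp 𝒜 C 𝒞 j)

end Dual

end Groth.Agent.H98.GrCanon
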