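import Groth.Agent.H98.GrCat
import Mathlib.Algebra.Module.Injective
import Mathlib.Algebra.Category.ModuleCat.Injective
import Mathlib.Algebra.Category.ModuleCat.EnoughInjectives

/-!
# Helper library (helper98): cofree graded modules.  For an `R`-module `N` the graded module
`cofG 𝒜 N = ⊕_g N` (right adjoint of the functor forgetting the grading); it is *injective when `N`
is injective, and every graded module embeds homogeneously in one of these.
-/

set_option autoImplicit false
universe u

open DirectSum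

namespace Groth.Agent.H98.GrCat

noncomputable section

variable {ι : Type} [AddCommGroup ι] [DecidableEq ι]
variable {R : Type u} [CommRing R] (𝒜 : ι → AddSubgroup R) [GradedRing 𝒜]

section Cof

variable (N : Type u) [AddCommGroup N] [Module R N]

/-- the action of a homogeneous element of degree `h` -/
def Th (h : ι) : R →+ ((ι →₀ N) →+ (ι →₀ N)) where
  toFun r := Finsupp.liftAddHom
    (fun g => (Finsupp.singleAddHom (h + g)).comp (DistribSMul.toAddMonoidHom N r))
  map_zero' := by
    refine Finsupp.addHom_ext fun g n => ?_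
    simp
  map_add' r s := by
    refine Finsupp.addHom_ext fun g n => ?_
    simp [add_smul]

omit [DecidableEq ι] in
theorem Th_single (h : ι) (r : R) (g : ι) (n : N) :
    Th N h r (Finsupp.single g n) = Finsupp.single (h + g) (r • n) := by
  simp [Th]

/-- the twisted action of `R` on `ι →₀ N` -/
def actHom : R →+ ((ι →₀ N) →+ (ι →₀ N)) :=
  (DirectSum.toAddMonoid (fun h => (Th N h).comp (𝒜 h).subtype)).comp
    (decomposeAddEquiv 𝒜).toAddMonoidHom

theorem actHom_of_mem {h : ι} {r : R} (hr : r ∈ 𝒜 h) : actHom 𝒜 N r = Th N h r := by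
  unfold actHom
  rw [AddMonoidHom.comp_apply]
  show (DirectSum.toAddMonoid fun h => (Th N h).comp (𝒜 h).subtype) (decompose 𝒜 r) = _
  rw [decompose_of_mem 𝒜 hr, DirectSum.toAddMonoid_of]
  rfl

theorem actHom_single {h : ι} {r : R} (hr : r ∈ 𝒜 h) (g : ι) (n : N) :
    actHom 𝒜 N r (Finsupp.single g n) = Finsupp.single (h + g) (r • n) := by
  rw [actHom_of_mem 𝒜 N hr, Th_single]

theorem actHom_one (x : ι →₀ N) : actHom 𝒜 N 1 x = x := by
  induction x using Finsupp.induction_linear with
  | zero => simp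
  | add x y hx hy => rw [map_add, hx, hy]
  | single g n => rw [actHom_single 𝒜 N (SetLike.one_mem_graded 𝒜), zero_add, one_smul]

theorem actHom_mul (r s : R) (x : ι →₀ N) :
    actHom 𝒜 N (r * s) x = actHom 𝒜 N r (actHom 𝒜 N s x) := by
  classical
  induction r using DirectSum.Decomposition.inductionOn 𝒜 with
  | zero => simp
  | @homogeneous h r =>
    induction s using DirectSum.Decomposition.inductionOn 𝒜 with
    | zero => simp
    | @homogeneous h' s =>
      induction x using Finsupp.induction_linear with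
      | zero => simp
      | add x y hx hy => rw [map_add, map_add, map_add, hx, hy]
      | single g n =>
        rw [actHom_single 𝒜 N (SetLike.mul_mem_graded r.2 s.2), actHom_single 𝒜 N s.2,
          actHom_single 𝒜 N r.2, add_assoc, mul_smul]
    | add s s' hs hs' =>
      simp only [mul_add, map_add, AddMonoidHom.add_apply, hs, hs']
  | add r r' hr hr' =>
    simp only [add_mul, map_add, AddMonoidHom.add_apply, hr, hr']

/-- the cofree graded module on `N`, as a type synonym of `ι →₀ N` with the twisted action -/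
def Cof (_𝒜 : ι → AddSubgroup R) (N : Type u) [AddCommGroup N] : Type u := ι →₀ N

instance : AddCommGroup (Cof 𝒜 N) := inferInstanceAs (AddCommGroup (ι →₀ N))

instance : Module R (Cof 𝒜 N) where
  smul r x := actHom 𝒜 N r x
  one_smul x := actHom_one 𝒜 N x
  mul_smul r s x := actHom_mul 𝒜 N r s x
  smul_zero r := map_zero (actHom 𝒜 N r)
  smul_add r x y := map_add (actHom 𝒜 N r) x y
  add_smul r s x := by
    show actHom 𝒜 N (r + s) x = actHom 𝒜 N r x + actHom 𝒜 N s x
    rw [map_add]; rfl
  zero_smul x := by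
    show actHom 𝒜 N 0 x = 0
    rw [map_zero]; rfl

theorem cof_smul_def (r : R) (x : Cof 𝒜 N) : r • x = actHom 𝒜 N r x := rfl

/-- view a finitely supported function as an element of the cofree module -/
def toCof (x : ι →₀ N) : Cof 𝒜 N := x

/-- view an element of the cofree module as a finitely supported function -/
def ofCof (x : Cof 𝒜 N) : ι →₀ N := x

/-- the pieces of the cofree module -/
def cofGr (g : ι) : AddSubgroup (Cof 𝒜 N) :=
  show AddSubgroup (ι →₀ N) from (Finsupp.singleAddHom g).range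

omit [DecidableEq ι] [GradedRing 𝒜] [Module R N] in
theorem mem_cofGr {g : ι} {x : Cof 𝒜 N} :
    x ∈ cofGr 𝒜 N g ↔ ∃ n : N, (Finsupp.single g n : ι →₀ N) = x := Iff.rfl

open Classical in
/-- the decomposition of the cofree module -/
def cofDec : DirectSum.Decomposition (cofGr 𝒜 N) :=
  decompOfProj (N := Cof 𝒜 N) (cofGr 𝒜 N)
    (fun g => show (ι →₀ N) →+ (ι →₀ N) from
      (Finsupp.singleAddHom g).comp (Finsupp.applyAddHom g))
    (fun x => show Finset ι from Finsupp.support (show ι →₀ N from x))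
    (fun g x => ⟨(show ι →₀ N from x) g, rfl⟩)
    (fun x g hg => by
      show Finsupp.single g ((show ι →₀ N from x) g) = 0
      rw [Finsupp.notMem_support_iff.1 hg, Finsupp.single_zero])
    (fun x => Finsupp.sum_single (show ι →₀ N from x))
    (fun g x hx => by
      obtain ⟨n, rfl⟩ := hx
      show Finsupp.single g ((Finsupp.single g n : ι →₀ N) g) = Finsupp.single g n
      rw [Finsupp.single_eq_same])
    (fun i j x hij hx => by
      obtain ⟨n, rfl⟩ := hx
      show Finsupp.single i ((Finsupp.single j n : ι →₀ N) i) = 0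
      rw [Finsupp.single_apply, if_neg (Ne.symm hij), Finsupp.single_zero])

theorem cofGSMul : SetLike.GradedSMul 𝒜 (cofGr 𝒜 N) where
  smul_mem := by
    rintro i j r x hr ⟨n, rfl⟩
    rw [vadd_eq_add]
    exact ⟨r • n, (actHom_single 𝒜 N hr j n).symm⟩

/-- the cofree graded module, bundled -/
def cofG : GrLC.GMod.{u} 𝒜 :=
  { carrier := Cof 𝒜 N
    gr := cofGr 𝒜 N
    dec := cofDec 𝒜 N
    gsmul := cofGSMul 𝒜 N }

/-- the sum map `⊕_g N → N` -/
def cofSigma : (cofG 𝒜 N).carrier →ₗ[R] N where
  toFun x := Finsupp.liftAddHom (fun _ : ι => AddMonoidHom.id N) (ofCof 𝒜 N x)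
  map_add' x y := map_add (Finsupp.liftAddHom (fun _ : ι => AddMonoidHom.id N)) _ _
  map_smul' r x := by
    classical
    show Finsupp.liftAddHom (fun _ : ι => AddMonoidHom.id N) (actHom 𝒜 N r (ofCof 𝒜 N x)) =
      r • Finsupp.liftAddHom (fun _ : ι => AddMonoidHom.id N) (ofCof 𝒜 N x)
    generalize ofCof 𝒜 N x = x'
    induction r using DirectSum.Decomposition.inductionOn 𝒜 with
    | zero => simp
    | @homogeneous h r =>
      induction x' using Finsupp.induction_linear with
      | zero => simp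
      | add x y hx hy => rw [map_add, map_add, map_add, hx, hy, smul_add]
      | single g n =>
        rw [actHom_single 𝒜 N r.2, Finsupp.liftAddHom_apply_single,
          Finsupp.liftAddHom_apply_single]
        rfl
    | add r r' hr hr' =>
      simp only [map_add, AddMonoidHom.add_apply, hr, hr', add_smul]

theorem cofSigma_single (g : ι) (n : N) :
    cofSigma 𝒜 N (toCof 𝒜 N (Finsupp.single g n)) = n := by
  show Finsupp.liftAddHom (fun _ : ι => AddMonoidHom.id N) (Finsupp.single g n) = n
  rw [Finsupp.liftAddHom_apply_single]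
  rfl

variable {N}
variable {A : Type u} [AddCommGroup A] [Module R A] (𝒜A : ι → AddSubgroup A)
  [DirectSum.Decomposition 𝒜A] [SetLike.GradedSMul 𝒜 𝒜A]

/-- the additive map underlying the adjoint of an `R`-linear map `A → N` -/
def liftAdd (ψ : A →ₗ[R] N) : A →+ (ι →₀ N) :=
  (DirectSum.toAddMonoid (fun g => (Finsupp.singleAddHom g).comp
    (ψ.toAddMonoidHom.comp (𝒜A g).subtype))).comp (decomposeAddEquiv 𝒜A).toAddMonoidHom

omit [GradedRing 𝒜] [SetLike.GradedSMul 𝒜 𝒜A] in
theorem liftAdd_of_mem (ψ : A →ₗ[R] N) {g : ι} {a : A} (ha : a ∈ 𝒜A g) :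
    liftAdd 𝒜A ψ a = Finsupp.single g (ψ a) := by
  unfold liftAdd
  rw [AddMonoidHom.comp_apply]
  show (DirectSum.toAddMonoid fun g => (Finsupp.singleAddHom g).comp
    (ψ.toAddMonoidHom.comp (𝒜A g).subtype)) (decompose 𝒜A a) = _
  rw [decompose_of_mem 𝒜A ha, DirectSum.toAddMonoid_of]
  rfl

/-- the adjoint `A → cofG 𝒜 N` of an `R`-linear map `A → N` from a graded module -/
def cofLift (ψ : A →ₗ[R] N) : A →ₗ[R] (cofG 𝒜 N).carrier where
  toFun a := toCof 𝒜 N (liftAdd 𝒜A ψ a)
  map_add' a b := map_add (liftAdd 𝒜A ψ) a b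
  map_smul' r a := by
    classical
    show liftAdd 𝒜A ψ (r • a) = actHom 𝒜 N r (liftAdd 𝒜A ψ a)
    induction r using DirectSum.Decomposition.inductionOn 𝒜 with
    | zero => simp
    | @homogeneous h r =>
      induction a using DirectSum.Decomposition.inductionOn 𝒜A with
      | zero => simp
      | @homogeneous g a =>
        rw [liftAdd_of_mem 𝒜A ψ (gsmul_mem 𝒜 𝒜A r.2 a.2), liftAdd_of_mem 𝒜A ψ a.2,
          actHom_single 𝒜 N r.2, map_smul]
      | add a b ha hb => rw [smul_add, map_add, map_add, map_add, ha, hb]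
    | add r r' hr hr' =>
      simp only [add_smul, map_add, AddMonoidHom.add_apply, hr, hr']

theorem cofLift_of_mem (ψ : A →ₗ[R] N) {g : ι} {a : A} (ha : a ∈ 𝒜A g) :
    cofLift 𝒜 𝒜A ψ a = toCof 𝒜 N (Finsupp.single g (ψ a)) := by
  show toCof 𝒜 N (liftAdd 𝒜A ψ a) = _
  rw [liftAdd_of_mem 𝒜A ψ ha]

theorem cofLift_isGrHom (ψ : A →ₗ[R] N) : GrLC.IsGrHom 𝒜A (cofG 𝒜 N).gr (cofLift 𝒜 𝒜A ψ) := by
  intro g a ha
  rw [cofLift_of_mem 𝒜 𝒜A ψ ha]
  exact ⟨ψ a, rfl⟩

theorem cofSigma_cofLift (ψ : A →ₗ[R] N) (a : A) : cofSigma 𝒜 N (cofLift 𝒜 𝒜A ψ a) = ψ a := by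
  classical
  induction a using DirectSum.Decomposition.inductionOn 𝒜A with
  | zero => simp
  | @homogeneous g a => rw [cofLift_of_mem 𝒜 𝒜A ψ a.2, cofSigma_single]
  | add a b ha hb => rw [map_add, map_add, ha, hb, map_add]

/-- a homogeneous map into the cofree module is the adjoint of its composite with the sum map -/
theorem cofLift_cofSigma_comp (G : A →ₗ[R] (cofG 𝒜 N).carrier)
    (hG : GrLC.IsGrHom 𝒜A (cofG 𝒜 N).gr G) (a : A) :
    cofLift 𝒜 𝒜A ((cofSigma 𝒜 N).comp G) a = G a := by
  classical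
  induction a using DirectSum.Decomposition.inductionOn 𝒜A with
  | zero => simp
  | @homogeneous g a =>
    obtain ⟨n, hn⟩ := hG g a a.2
    have hGa : G a = toCof 𝒜 N (Finsupp.single g n) := hn.symm
    rw [cofLift_of_mem 𝒜 𝒜A _ a.2, LinearMap.comp_apply, hGa, cofSigma_single]
  | add a b ha hb => rw [map_add, map_add, ha, hb]

omit [GradedRing 𝒜] [SetLike.GradedSMul 𝒜 𝒜A] in
theorem liftAdd_apply (ψ : A →ₗ[R] N) (a : A) (g : ι) :
    liftAdd 𝒜A ψ a g = ψ ((decompose 𝒜A a g : 𝒜A g) : A) := by
  classical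
  induction a using DirectSum.Decomposition.inductionOn 𝒜A with
  | zero => simp
  | @homogeneous i a =>
    rw [liftAdd_of_mem 𝒜A ψ a.2, Finsupp.single_apply]
    by_cases h : i = g
    · subst h
      rw [if_pos rfl, decompose_of_mem_same 𝒜A a.2]
    · rw [if_neg h, decompose_of_mem_ne 𝒜A a.2 h, map_zero]
  | add a b ha hb =>
    rw [map_add, Finsupp.add_apply, ha, hb, decompose_add, DirectSum.add_apply,
      AddMemClass.coe_add, map_add]

theorem cofLift_injective (ψ : A →ₗ[R] N) (hψ : Function.Injective ψ) :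
    Function.Injective (cofLift 𝒜 𝒜A ψ) := by
  refine (injective_iff_map_eq_zero _).2 fun a ha => ?_
  by_contra h0
  obtain ⟨g, hg⟩ := exists_comp_ne_zero 𝒜A h0
  apply hg
  apply hψ
  rw [map_zero, ← liftAdd_apply 𝒜A ψ a g]
  have : liftAdd 𝒜A ψ a = 0 := ha
  rw [this]
  rfl

/-- the cofree graded module on an injective module is *injective -/
theorem cofG_isStarInj (N : Type u) [AddCommGroup N] [Module R N] [Module.Injective R N] :
    GrLC.IsStarInj 𝒜 (cofG 𝒜 N).gr := by
  intro A B f hf hfinj G hG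
  obtain ⟨Ψ, hΨ⟩ := Module.Injective.out f hfinj ((cofSigma 𝒜 N).comp G)
  refine ⟨cofLift 𝒜 B.gr Ψ, cofLift_isGrHom 𝒜 B.gr Ψ, ?_⟩
  refine LinearMap.ext fun a => ?_
  rw [LinearMap.comp_apply, ← cofLift_cofSigma_comp 𝒜 A.gr G hG a]
  have h1 : ((cofLift 𝒜 B.gr Ψ).comp f) a = cofLift 𝒜 A.gr ((cofSigma 𝒜 N).comp
      ((cofLift 𝒜 B.gr Ψ).comp f)) a :=
    (cofLift_cofSigma_comp 𝒜 A.gr _ (fun g a ha => cofLift_isGrHom 𝒜 B.gr Ψ g _ (hf g a ha)) a).symm
  rw [LinearMap.comp_apply] at h1
  rw [h1]
  congr 2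
  refine LinearMap.ext fun x => ?_
  rw [LinearMap.comp_apply, LinearMap.comp_apply, cofSigma_cofLift, hΨ]

end Cof

/-- enough injectives in the category of all modules, in unbundled form -/
theorem exists_injective_embedding (M : Type u) [AddCommGroup M] [Module R M] :
    ∃ (I : Type u) (_ : AddCommGroup I) (_ : Module R I) (_ : Module.Injective R I)
      (e : M →ₗ[R] I), Function.Injective e := by
  obtain ⟨p⟩ := CategoryTheory.EnoughInjectives.presentation (ModuleCat.of R M)
  haveI := p.mono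
  exact ⟨p.J, inferInstance, inferInstance,
    Module.injective_module_of_injective_object R p.J (inj := p.injective), p.f.hom,
    (ModuleCat.mono_iff_injective p.f).1 inferInstance⟩

end

end Groth.Agent.H98.GrCat
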