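import Groth.Agent.H98.GrMod
import Mathlib.RingTheory.FiniteType
import Mathlib.RingTheory.Noetherian.Basic
import Mathlib.LinearAlgebra.Dual.Lemmas
import Mathlib.LinearAlgebra.Basis.VectorSpace
import Mathlib.RingTheory.Polynomial.Basic

/-!
# Helper library (helper98): finite-dimensionality of graded pieces, graded duals (`GrSeg.IsGDual`).
-/

set_option autoImplicit false
universe u
open scoped TensorProduct

namespace Groth.Agent.H98

section FD

variable {k : Type u} [Field k] {R : Type u} [CommRing R] [Algebra k R]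
  {M : Type u} [AddCommGroup M] [Module R M] [Module k M] [IsScalarTower k R M]
  (𝒜 : ℤ → Submodule k R) [GradedAlgebra 𝒜]
  {τ : Type*} [SetLike τ M] [AddSubgroupClass τ M]
  (ℳ : ℤ → τ) [DirectSum.Decomposition ℳ] [SetLike.GradedSMul 𝒜 ℳ]

omit [Module k M] [IsScalarTower k R M] [GradedAlgebra 𝒜] in
/-- component of `r • x` for homogeneous `r`. -/
theorem comp_smul {c : ℤ} {r : R} (hr : r ∈ 𝒜 c) (j : ℤ) (x : M) :
    ((DirectSum.decompose ℳ (r • x) j : ℳ j) : M) =
      r • ((DirectSum.decompose ℳ x (j - c) : ℳ (j - c)) : M) := by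
  classical
  induction x using DirectSum.Decomposition.inductionOn ℳ with
  | zero => simp
  | @homogeneous i x =>
    have hmem : r • (x : M) ∈ ℳ (c + i) := gsmul_mem 𝒜 ℳ hr x.2
    by_cases h : i = j - c
    · subst h
      have h2 : c + (j - c) = j := by ring
      rw [h2] at hmem
      rw [DirectSum.decompose_of_mem_same ℳ hmem, DirectSum.decompose_of_mem_same ℳ x.2]
    · have h' : c + i ≠ j := fun h2 => h (by omega)
      rw [DirectSum.decompose_of_mem_ne ℳ hmem h', DirectSum.decompose_of_mem_ne ℳ x.2 h,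
        smul_zero]
  | add x y hx hy =>
    simp only [smul_add, DirectSum.decompose_add, DirectSum.add_apply, AddMemClass.coe_add, hx, hy]

omit [Module k M] [IsScalarTower k R M] in
/-- elements whose components of degree `< n` vanish, as an `R`-submodule. -/
def geSub (hpos : ∀ n : ℤ, n < 0 → 𝒜 n = ⊥) (n : ℤ) : Submodule R M where
  carrier := {x | ∀ j < n, ((DirectSum.decompose ℳ x j : ℳ j) : M) = 0}
  add_mem' := by
    intro x y hx hy j hj
    rw [DirectSum.decompose_add, DirectSum.add_apply, AddMemClass.coe_add, hx j hj, hy j hj,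
      add_zero]
  zero_mem' := by
    intro j _
    simp
  smul_mem' := by
    classical
    intro r x hx
    induction r using DirectSum.Decomposition.inductionOn 𝒜 with
    | zero => intro j _; simp
    | @homogeneous c r =>
      intro j hj
      by_cases hc : c < 0
      · have h0 : (r : R) = 0 := by
          have hall : ∀ y : R, y ∈ 𝒜 c → y = 0 := fun y hy => by
            rw [hpos c hc] at hy
            exact (Submodule.mem_bot k).mp hy
          exact hall _ r.2
        rw [h0, zero_smul]; simp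
      · rw [comp_smul 𝒜 ℳ r.2 j x, hx (j - c) (by omega), smul_zero]
    | add r r' hr hr' =>
      intro j hj
      rw [add_smul, DirectSum.decompose_add, DirectSum.add_apply, AddMemClass.coe_add, hr j hj,
        hr' j hj, add_zero]

/-- The graded pieces of a finitely generated graded module over a graded ring defined over a field
are finite-dimensional. -/
theorem finite_subPiece (hpos : ∀ n : ℤ, n < 0 → 𝒜 n = ⊥) (h0 : 𝒜 0 = Submodule.span k {(1 : R)})
    [Algebra.FiniteType k R] [Module.Finite R M] (n : ℤ) :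
    Module.Finite k (subPiece 𝒜 ℳ n) := by
  classical
  haveI : IsNoetherianRing R := Algebra.FiniteType.isNoetherianRing k R
  haveI : IsNoetherian R M := isNoetherian_of_isNoetherianRing_of_finite R M
  obtain ⟨G, hG⟩ : (geSub 𝒜 ℳ hpos n).FG := IsNoetherian.noetherian _
  set V : Submodule k M :=
    Submodule.span k ((fun z => ((DirectSum.decompose ℳ z n : ℳ n) : M)) '' (G : Set M)) with hV
  have key : ∀ z ∈ Submodule.span R (G : Set M),
      ((DirectSum.decompose ℳ z n : ℳ n) : M) ∈ V := by
    intro z hz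
    induction hz using Submodule.span_induction with
    | mem z hz => exact Submodule.subset_span ⟨z, hz, rfl⟩
    | zero => simp
    | add z z' _ _ h h' =>
      rw [DirectSum.decompose_add, DirectSum.add_apply, AddMemClass.coe_add]; exact add_mem h h'
    | smul r z hz h =>
      have hz' : z ∈ geSub 𝒜 ℳ hpos n := hG ▸ hz
      induction r using DirectSum.Decomposition.inductionOn 𝒜 with
      | zero => simp
      | @homogeneous c r =>
        rcases lt_trichotomy c 0 with hc | hc | hc
        · have hr0 : (r : R) = 0 := by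
            have hall : ∀ y : R, y ∈ 𝒜 c → y = 0 := fun y hy => by
              rw [hpos c hc] at hy
              exact (Submodule.mem_bot k).mp hy
            exact hall _ r.2
          rw [hr0, zero_smul]; simp
        · subst hc
          have hr0 : (r : R) ∈ Submodule.span k {(1 : R)} := h0 ▸ r.2
          obtain ⟨a, ha⟩ := Submodule.mem_span_singleton.mp hr0
          rw [comp_smul 𝒜 ℳ r.2 n z, sub_zero, ← ha, smul_assoc, one_smul]
          exact Submodule.smul_mem _ _ h
        · rw [comp_smul 𝒜 ℳ r.2 n z, hz' (n - c) (by omega), smul_zero]; exact zero_mem _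
      | add r r' hr hr' =>
        rw [add_smul, DirectSum.decompose_add, DirectSum.add_apply, AddMemClass.coe_add]
        exact add_mem hr hr'
  have hle : subPiece 𝒜 ℳ n ≤ V := by
    intro x hx
    have hx' : x ∈ ℳ n := hx
    have hxge : x ∈ geSub 𝒜 ℳ hpos n := by
      intro j hj
      exact DirectSum.decompose_of_mem_ne ℳ hx' (by omega)
    rw [← hG] at hxge
    have := key x hxge
    rwa [DirectSum.decompose_of_mem_same ℳ hx'] at this
  haveI : Module.Finite k V :=
    Module.Finite.span_of_finite k (Set.Finite.image _ G.finite_toSet)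
  exact Module.Finite.of_injective (Submodule.inclusion hle) (Submodule.inclusion_injective hle)

end FD

section GDual

variable {k : Type u} [Field k] {R : Type u} [CommRing R] [Algebra k R]
  {M : Type u} [AddCommGroup M] [Module R M] [Module k M] [IsScalarTower k R M]
  {τ : Type u} [SetLike τ M] [AddSubgroupClass τ M]
  {ℳ : ℤ → τ} [DirectSum.Decomposition ℳ]
  {D : Type u} [AddCommGroup D] [Module R D] [Module k D] [IsScalarTower k R D]
  {τ' : Type u} [SetLike τ' D] [AddSubgroupClass τ' D]
  {𝒟 : ℤ → τ'} [DirectSum.Decomposition 𝒟]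
  {β : D →ₗ[k] M →ₗ[k] k}

/-- for `d ∈ 𝒟 n`, `β d y = β d (y_{-n})`. -/
theorem gdual_apply_eq_comp (hD : GrSeg.IsGDual R ℳ 𝒟 β) {n j : ℤ} (hj : j = -n) {d : D}
    (hd : d ∈ 𝒟 n) (y : M) :
    β d y = β d ((DirectSum.decompose ℳ y j : ℳ j) : M) := by
  classical
  subst hj
  induction y using DirectSum.Decomposition.inductionOn ℳ with
  | zero => simp
  | @homogeneous i y =>
    by_cases h : i = -n
    · subst h; rw [DirectSum.decompose_of_mem_same ℳ y.2]
    · rw [hD.vanish n d hd i h y y.2, DirectSum.decompose_of_mem_ne ℳ y.2 h, map_zero]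
  | add y y' hy hy' =>
    rw [map_add, hy, hy', DirectSum.decompose_add, DirectSum.add_apply, AddMemClass.coe_add,
      map_add]

/-- for `x ∈ ℳ m`, `β d x = β (d_{-m}) x`. -/
theorem gdual_apply_eq_comp_left (hD : GrSeg.IsGDual R ℳ 𝒟 β) {m j : ℤ} (hj : j = -m) {x : M}
    (hx : x ∈ ℳ m) (d : D) :
    β d x = β ((DirectSum.decompose 𝒟 d j : 𝒟 j) : D) x := by
  classical
  subst hj
  induction d using DirectSum.Decomposition.inductionOn 𝒟 with
  | zero => simp
  | @homogeneous i d =>
    by_cases h : i = -m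
    · subst h; rw [DirectSum.decompose_of_mem_same 𝒟 d.2]
    · have hm : m ≠ -i := fun h' => h (by omega)
      rw [hD.vanish i d d.2 m hm x hx, DirectSum.decompose_of_mem_ne 𝒟 d.2 h]
      simp
  | add d d' hd hd' =>
    rw [map_add, LinearMap.add_apply, hd, hd', DirectSum.decompose_add, DirectSum.add_apply,
      AddMemClass.coe_add, map_add, LinearMap.add_apply]

/-- the pairing is non-degenerate on the left. -/
theorem gdual_eq_zero_of_forall (hD : GrSeg.IsGDual R ℳ 𝒟 β) (d : D) (h : ∀ x, β d x = 0) :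
    d = 0 := by
  classical
  have hcomp : ∀ n, ((DirectSum.decompose 𝒟 d n : 𝒟 n) : D) = 0 := by
    intro n
    apply hD.eq_zero n _ (SetLike.coe_mem _)
    intro x hx
    rw [← gdual_apply_eq_comp_left hD (by ring : n = -(-n)) hx d, h]
  have h0 : DirectSum.decompose 𝒟 d = 0 := by
    ext n
    rw [hcomp n]; rfl
  exact (DirectSum.decompose 𝒟).injective (h0.trans (DirectSum.decompose_zero 𝒟).symm)

/-- the pairing is non-degenerate on the right. -/
theorem gdual_eq_zero_of_forall_right (hD : GrSeg.IsGDual R ℳ 𝒟 β) (x : M)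
    (h : ∀ d, β d x = 0) : x = 0 := by
  classical
  have hcomp : ∀ n, ((DirectSum.decompose ℳ x n : ℳ n) : M) = 0 := by
    intro n
    by_contra hne
    obtain ⟨g, hg⟩ := Module.Projective.exists_dual_ne_zero k hne
    obtain ⟨d, hd, hdg⟩ := hD.exists_eq (-n) g
    have h1 := gdual_apply_eq_comp hD (by ring : n = -(-n)) hd x
    have hmem : ((DirectSum.decompose ℳ x n : ℳ n) : M) ∈ ℳ (-(-n)) := by
      rw [neg_neg]; exact SetLike.coe_mem _
    rw [h d, hdg _ hmem] at h1
    exact hg h1.symm
  have h0 : DirectSum.decompose ℳ x = 0 := by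
    ext n
    rw [hcomp n]; rfl
  exact (DirectSum.decompose ℳ).injective (h0.trans (DirectSum.decompose_zero ℳ).symm)

theorem gdual_ext_right (hD : GrSeg.IsGDual R ℳ 𝒟 β) {x y : M} (h : ∀ d, β d x = β d y) :
    x = y :=
  sub_eq_zero.mp (gdual_eq_zero_of_forall_right hD (x - y) (fun d => by
    rw [map_sub, h d, sub_self]))

theorem gdual_ext_left (hD : GrSeg.IsGDual R ℳ 𝒟 β) {d e : D} (h : ∀ x, β d x = β e x) :
    d = e :=
  sub_eq_zero.mp (gdual_eq_zero_of_forall hD (d - e) (fun x => by
    rw [map_sub, LinearMap.sub_apply, h x, sub_self]))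

/-- Reflexivity: if `ℳ j` (`j = -n`) is finite-dimensional (as the `k`-subspace `V`), every
functional on `D` is, on `𝒟 n`, the pairing with an element of `ℳ j`. -/
theorem gdual_exists_rep_piece (hD : GrSeg.IsGDual R ℳ 𝒟 β) {n j : ℤ} (hj : j = -n)
    (V : Submodule k M) (hV : ∀ x, x ∈ V ↔ x ∈ ℳ j) [Module.Finite k V]
    (h𝒟 : ∀ (c : k) (d : D), d ∈ 𝒟 n → c • d ∈ 𝒟 n) (μ : D →ₗ[k] k) :
    ∃ x ∈ ℳ j, ∀ d ∈ 𝒟 n, β d x = μ d := by
  classical
  subst hj
  let E : Submodule k D :=
    { carrier := 𝒟 n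
      add_mem' := add_mem
      zero_mem' := zero_mem _
      smul_mem' := fun c d hd => h𝒟 c d hd }
  let Φ : E →ₗ[k] Module.Dual k V := (LinearMap.lcomp k k V.subtype) ∘ₗ β ∘ₗ E.subtype
  have hΦ : ∀ (d : E) (x : V), Φ d x = β (d : D) (x : M) := fun d x => rfl
  have hinj : Function.Injective Φ := by
    rw [← LinearMap.ker_eq_bot, LinearMap.ker_eq_bot']
    intro d hd
    apply Subtype.ext
    apply hD.eq_zero n (d : D) d.2
    intro x hx
    have := LinearMap.congr_fun hd ⟨x, (hV x).mpr hx⟩
    rwa [hΦ] at this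
  have hsurj : Function.Surjective Φ := by
    intro ξ
    obtain ⟨g, hg⟩ := LinearMap.exists_extend ξ
    obtain ⟨d, hd, hdg⟩ := hD.exists_eq n g
    refine ⟨⟨d, hd⟩, ?_⟩
    ext x
    rw [hΦ]
    change β d (x : M) = ξ x
    rw [hdg _ ((hV _).mp x.2), ← hg]
    rfl
  let e : E ≃ₗ[k] Module.Dual k V := LinearEquiv.ofBijective Φ ⟨hinj, hsurj⟩
  let ν : Module.Dual k (Module.Dual k V) := μ ∘ₗ E.subtype ∘ₗ e.symm.toLinearMap
  refine ⟨((Module.evalEquiv k V).symm ν : V), (hV _).mp (Subtype.mem _), ?_⟩
  intro d hd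
  have h1 : β d (((Module.evalEquiv k V).symm ν : V) : M) = Φ ⟨d, hd⟩ ((Module.evalEquiv k V).symm ν) :=
    rfl
  rw [h1, Module.apply_evalEquiv_symm_apply]
  change μ ((e.symm (e ⟨d, hd⟩) : E) : D) = μ d
  rw [LinearEquiv.symm_apply_apply]

/-- A functional on `D` supported in degree `n` is the pairing with an element of `ℳ (-n)`,
if that piece is finite-dimensional. -/
theorem gdual_exists_rep (hD : GrSeg.IsGDual R ℳ 𝒟 β) {n j : ℤ} (hj : j = -n)
    (V : Submodule k M) (hV : ∀ x, x ∈ V ↔ x ∈ ℳ j) [Module.Finite k V]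
    (h𝒟 : ∀ (c : k) (d : D), d ∈ 𝒟 n → c • d ∈ 𝒟 n) (μ : D →ₗ[k] k)
    (hμ : ∀ i, i ≠ n → ∀ d ∈ 𝒟 i, μ d = 0) :
    ∃ x ∈ ℳ j, ∀ d, β d x = μ d := by
  classical
  obtain ⟨x, hx, hxd⟩ := gdual_exists_rep_piece hD hj V hV h𝒟 μ
  refine ⟨x, hx, fun d => ?_⟩
  induction d using DirectSum.Decomposition.inductionOn 𝒟 with
  | zero => simp
  | @homogeneous i d =>
    by_cases h : i = n
    · subst h; exact hxd d d.2
    · rw [hμ i h d d.2]
      exact hD.vanish i d d.2 j (by omega) x hx
  | add d d' hd hd' => rw [map_add, LinearMap.add_apply, hd, hd', map_add]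

end GDual

end Groth.Agent.H98
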