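import Groth.Agent.H98.GrDual
import Groth.Agent.H98.GrExt

/-!
# Helper library (helper98): abstract graded duality `(H^n(M))^* ≅ Hom_R(M, (H^n(R))^*)` from a
pairing `T : M → Hom(H_R, H_M)` that identifies `H_M` with "`M ⊗ H_R`" (surjectivity and
kernel given through a finite generating family of `M`).
-/

set_option autoImplicit false
universe u

open DirectSum

namespace Groth.Agent.H98.GrDualHom

open Groth.Agent.H98.GrCat

variable {k : Type u} [Field k] {R : Type u} [CommRing R] [Algebra k R]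
  {HR : Type u} [AddCommGroup HR] [Module R HR] [Module k HR] [IsScalarTower k R HR]
  {ℋR : ℤ → AddSubgroup HR} [DirectSum.Decomposition ℋR]
  {HM : Type u} [AddCommGroup HM] [Module R HM] [Module k HM] [IsScalarTower k R HM]
  {ℋM : ℤ → AddSubgroup HM} [DirectSum.Decomposition ℋM]
  {K : Type u} [AddCommGroup K] [Module R K] [Module k K] [IsScalarTower k R K]
  {𝒦 : ℤ → AddSubgroup K} [DirectSum.Decomposition 𝒦]
  {D : Type u} [AddCommGroup D] [Module R D] [Module k D] [IsScalarTower k R D]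
  {𝒟 : ℤ → AddSubgroup D} [DirectSum.Decomposition 𝒟]
  {βK : K →ₗ[k] HR →ₗ[k] k} {βD : D →ₗ[k] HM →ₗ[k] k}

/-- the dual of a map shifting degrees by `c`, on a homogeneous element -/
theorem exists_pullback_homog (hK : GrSeg.IsGDual R ℋR 𝒦 βK) (hD : GrSeg.IsGDual R ℋM 𝒟 βD)
    (u : HR →ₗ[k] HM) (c : ℤ) (hu : ∀ j h, h ∈ ℋR j → u h ∈ ℋM (j + c)) (e : ℤ) (d : D)
    (hd : d ∈ 𝒟 e) : ∃ κ₀, κ₀ ∈ 𝒦 (e + c) ∧ ∀ h, βK κ₀ h = βD d (u h) := by
  classical
  obtain ⟨κ₀, hκ, hκg⟩ := hK.exists_eq (e + c) ((βD d).comp u)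
  refine ⟨κ₀, hκ, fun h => ?_⟩
  induction h using DirectSum.Decomposition.inductionOn ℋR with
  | zero => rw [map_zero, map_zero, map_zero]
  | @homogeneous j h =>
    by_cases hj : j = -(e + c)
    · subst hj
      exact hκg h h.2
    · rw [hK.vanish (e + c) κ₀ hκ j hj h h.2,
        hD.vanish e d hd (j + c) (by omega) (u h) (hu j h h.2)]
  | add h h' ih ih' => rw [map_add, map_add, map_add, ih, ih']

/-- the dual of a map shifting degrees by `c` -/
theorem exists_pullback (hK : GrSeg.IsGDual R ℋR 𝒦 βK) (hD : GrSeg.IsGDual R ℋM 𝒟 βD)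
    (u : HR →ₗ[k] HM) (c : ℤ) (hu : ∀ j h, h ∈ ℋR j → u h ∈ ℋM (j + c)) (d : D) :
    ∃ κ₀, ∀ h, βK κ₀ h = βD d (u h) := by
  classical
  induction d using DirectSum.Decomposition.inductionOn 𝒟 with
  | zero => exact ⟨0, fun h => by simp⟩
  | @homogeneous e d =>
    obtain ⟨κ₀, -, hκ⟩ := exists_pullback_homog hK hD u c hu e d d.2
    exact ⟨κ₀, hκ⟩
  | add d d' ih ih' =>
    obtain ⟨κ₁, h1⟩ := ih
    obtain ⟨κ₂, h2⟩ := ih'
    exact ⟨κ₁ + κ₂, fun h => by simp only [map_add, LinearMap.add_apply, h1, h2]⟩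

/-- abstract graded duality: `D = (H_M)^*` is `Hom_R(M, K)` for `K = (H_R)^*` -/
theorem exists_equiv_hom (𝒜 : ℤ → AddSubgroup R) [GradedRing 𝒜] [SetLike.GradedSMul 𝒜 𝒦]
    {M : Type u} [AddCommGroup M] [Module R M] (ℳ : ℤ → AddSubgroup M)
    [DirectSum.Decomposition ℳ] [SetLike.GradedSMul 𝒜 ℳ] [Module.Finite R M]
    (hK : GrSeg.IsGDual R ℋR 𝒦 βK) (hD : GrSeg.IsGDual R ℋM 𝒟 βD)
    {κ : Type u} [Fintype κ] (x : κ → M)
    (hspan : Function.Surjective (Fintype.linearCombination R x))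
    (T : M →ₗ[R] HR →ₗ[R] HM)
    (hTdeg : ∀ e j m h, m ∈ ℳ e → h ∈ ℋR j → T m h ∈ ℋM (j + e))
    (hTsurj : ∀ w, ∃ h : κ → HR, w = ∑ b, T (x b) (h b))
    (hTker : ∀ h : κ → HR, ∑ b, T (x b) (h b) = 0 →
      ∃ (κ' : Type u) (_ : Fintype κ') (z : κ' → κ → R) (h' : κ' → HR),
        (∀ j, ∑ b, z j b • x b = 0) ∧ ∀ b, h b = ∑ j, z j b • h' j) :
    ∃ ε : D ≃ₗ[R] (M →ₗ[R] K), ∀ e d, d ∈ 𝒟 e → GrLC.IsGrHomDeg ℳ 𝒦 (ε d) e := by
  classical
  have hex : ∀ (d : D) (m : M), ∃ κ₀ : K, ∀ h, βK κ₀ h = βD d (T m h) := by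
    intro d m
    induction m using DirectSum.Decomposition.inductionOn ℳ with
    | zero => exact ⟨0, fun h => by simp⟩
    | @homogeneous g m =>
      exact exists_pullback hK hD ((T m).restrictScalars k) g
        (fun j h hh => hTdeg g j m h m.2 hh) d
    | add m m' ih ih' =>
      obtain ⟨κ₁, h1⟩ := ih
      obtain ⟨κ₂, h2⟩ := ih'
      exact ⟨κ₁ + κ₂, fun h => by simp only [map_add, LinearMap.add_apply, h1, h2]⟩
  choose eps heps using hex
  have hext : ∀ {κ₁ κ₂ : K}, (∀ h, βK κ₁ h = βK κ₂ h) → κ₁ = κ₂ :=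
    fun h => gdual_ext_left hK h
  obtain ⟨epsLin, hepsLin⟩ : ∃ epsLin : D → (M →ₗ[R] K),
      ∀ d m h, βK (epsLin d m) h = βD d (T m h) :=
    ⟨fun d =>
      { toFun := eps d
        map_add' := fun m m' => hext fun h => by
          simp only [map_add, LinearMap.add_apply, heps]
        map_smul' := fun r m => hext fun h => by
          simp only [RingHom.id_apply, heps, hK.map_smul, map_smul, LinearMap.smul_apply] },
      fun d m h => heps d m h⟩
  obtain ⟨epsL, hepsL⟩ : ∃ epsL : D →ₗ[R] (M →ₗ[R] K),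
      ∀ d m h, βK (epsL d m) h = βD d (T m h) :=
    ⟨{ toFun := epsLin
       map_add' := fun d d' => LinearMap.ext fun m => hext fun h => by
          simp only [map_add, LinearMap.add_apply, hepsLin]
       map_smul' := fun r d => LinearMap.ext fun m => hext fun h => by
          simp only [RingHom.id_apply, LinearMap.smul_apply, hepsLin, hD.map_smul, hK.map_smul,
            map_smul] },
      fun d m h => hepsLin d m h⟩
  have hinj : Function.Injective epsL := by
    rw [← LinearMap.ker_eq_bot, LinearMap.ker_eq_bot']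
    intro d hd
    refine gdual_eq_zero_of_forall hD d fun w => ?_
    obtain ⟨h, rfl⟩ := hTsurj w
    rw [map_sum]
    refine Finset.sum_eq_zero fun b _ => ?_
    rw [← hepsL, hd, LinearMap.zero_apply, map_zero, LinearMap.zero_apply]
  have hgr : ∀ e d, d ∈ 𝒟 e → GrLC.IsGrHomDeg ℳ 𝒦 (epsL d) e := by
    intro e d hd g m hm
    obtain ⟨κ₀, hκ₀, hκ₀'⟩ := exists_pullback_homog hK hD ((T m).restrictScalars k) g
      (fun j h hh => hTdeg g j m h hm hh) e d hd
    have h1 : epsL d m = κ₀ := hext fun h => by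
      rw [hepsL, hκ₀']
      rfl
    rw [h1, add_comm]
    exact hκ₀
  have hsurj_homog : ∀ e (f : M →ₗ[R] K), GrLC.IsGrHomDeg ℳ 𝒦 f e → ∃ d, epsL d = f := by
    intro e f hf
    obtain ⟨Φ, hΦ⟩ : ∃ Φ : (κ → HR) →ₗ[k] HM, ∀ p, Φ p = ∑ b, T (x b) (p b) :=
      ⟨∑ b, ((T (x b)).restrictScalars k).comp (LinearMap.proj b), fun p => by
        rw [LinearMap.sum_apply]
        rfl⟩
    obtain ⟨lam, hlam⟩ : ∃ lam : (κ → HR) →ₗ[k] k, ∀ p, lam p = ∑ b, βK (f (x b)) (p b) :=
      ⟨∑ b, (βK (f (x b))).comp (LinearMap.proj b), fun p => by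
        rw [LinearMap.sum_apply]
        rfl⟩
    have hΦsurj : Function.Surjective Φ := fun w => by
      obtain ⟨h, hw⟩ := hTsurj w
      exact ⟨h, by rw [hΦ, hw]⟩
    have hker : LinearMap.ker Φ ≤ LinearMap.ker lam := by
      intro p hp
      rw [LinearMap.mem_ker, hΦ] at hp
      obtain ⟨κ', hκ', z, h', hz, hp'⟩ := hTker p hp
      rw [LinearMap.mem_ker, hlam]
      calc ∑ b, βK (f (x b)) (p b) = ∑ b, ∑ j, βK (z j b • f (x b)) (h' j) := by
            refine Finset.sum_congr rfl fun b _ => ?_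
            rw [hp' b, map_sum]
            refine Finset.sum_congr rfl fun j _ => ?_
            rw [hK.map_smul]
        _ = ∑ j, ∑ b, βK (z j b • f (x b)) (h' j) := Finset.sum_comm
        _ = ∑ j, βK (f (∑ b, z j b • x b)) (h' j) := by
            refine Finset.sum_congr rfl fun j _ => ?_
            rw [map_sum, map_sum, LinearMap.sum_apply]
            refine Finset.sum_congr rfl fun b _ => ?_
            rw [map_smul f]
        _ = 0 := by
            refine Finset.sum_eq_zero fun j _ => ?_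
            rw [hz j, map_zero, map_zero, LinearMap.zero_apply]
    obtain ⟨Lam, hLam⟩ : ∃ Lam : HM →ₗ[k] k, ∀ p, Lam (Φ p) = lam p := by
      refine ⟨((LinearMap.ker Φ).liftQ lam hker).comp
        (Φ.quotKerEquivOfSurjective hΦsurj).symm.toLinearMap, fun p => ?_⟩
      rw [LinearMap.comp_apply]
      have h1 : (Φ.quotKerEquivOfSurjective hΦsurj).symm (Φ p) = Submodule.Quotient.mk p := by
        rw [LinearEquiv.symm_apply_eq, LinearMap.quotKerEquivOfSurjective_apply_mk]
      rw [LinearEquiv.coe_coe, h1, Submodule.liftQ_apply]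
    have hLamT : ∀ m h, Lam (T m h) = βK (f m) h := by
      intro m h
      obtain ⟨r, rfl⟩ := hspan m
      have h1 : T (Fintype.linearCombination R x r) h = Φ (fun b => r b • h) := by
        rw [hΦ, Fintype.linearCombination_apply, map_sum, LinearMap.sum_apply]
        refine Finset.sum_congr rfl fun b _ => ?_
        rw [map_smul T, LinearMap.smul_apply, map_smul (T (x b))]
      rw [h1, hLam, hlam, Fintype.linearCombination_apply, map_sum, map_sum,
        LinearMap.sum_apply]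
      refine Finset.sum_congr rfl fun b _ => ?_
      rw [map_smul f, hK.map_smul]
    obtain ⟨d, hd, hdLam⟩ := hD.exists_eq e Lam
    refine ⟨d, LinearMap.ext fun m => hext fun h => ?_⟩
    rw [hepsL]
    induction m using DirectSum.Decomposition.inductionOn ℳ with
    | zero => simp
    | @homogeneous g m =>
      induction h using DirectSum.Decomposition.inductionOn ℋR with
      | zero => simp
      | @homogeneous j h =>
        by_cases hjg : j + g = -e
        · rw [hdLam _ (by rw [← hjg]; exact hTdeg g j m h m.2 h.2), hLamT]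
        · rw [hD.vanish e d hd (j + g) hjg _ (hTdeg g j m h m.2 h.2),
            hK.vanish (g + e) (f m) (hf g m m.2) j (by omega) h h.2]
      | add h h' ih ih' => rw [map_add, map_add, map_add, ih, ih']
    | add m m' ih ih' =>
      rw [map_add, LinearMap.add_apply, map_add, ih, ih', map_add, map_add, LinearMap.add_apply]
  have hsurj : Function.Surjective epsL := by
    intro f
    obtain ⟨S, hS⟩ := exists_finset_sum_degPart 𝒜 ℳ 𝒦 f
    have hdeg : ∀ e, GrLC.IsGrHomDeg ℳ 𝒦 (degPart 𝒜 ℳ 𝒦 f e) e := fun e g m hm => by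
      rw [degPart_of_mem 𝒜 ℳ 𝒦 f e hm]
      exact SetLike.coe_mem _
    choose dd hdd using fun e => hsurj_homog e (degPart 𝒜 ℳ 𝒦 f e) (hdeg e)
    refine ⟨∑ e ∈ S, dd e, ?_⟩
    rw [map_sum]
    refine LinearMap.ext fun m => ?_
    rw [LinearMap.sum_apply, hS m]
    exact Finset.sum_congr rfl fun e _ => by rw [hdd]
  exact ⟨LinearEquiv.ofBijective epsL ⟨hinj, hsurj⟩, fun e d hd => hgr e d hd⟩

end Groth.Agent.H98.GrDualHom
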