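import Groth.Agent.H98.GrTens
import Groth.Agent.H98.GrDualHom
import Groth.Agent.H98.GrConv

/-!
# Helper library (helper98): graded duality `(H^n_a(M))^* ≅ Hom_R(M, (H^n_a(R))^*)`, `n = dim R`,
for a Noetherian `ℤ`-graded ring (pieces of any subgroup-like type) containing a field.
-/

set_option autoImplicit false
universe u

open DirectSum

namespace Groth.Agent.H98.GrDualHom

open Groth.Agent.H98.GrCat Groth.Agent.H98.GrConv

theorem exists_gdual_equiv_hom {k : Type u} [Field k] {R : Type u} [CommRing R] [Algebra k R]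
    {σ : Type u} [SetLike σ R] [AddSubgroupClass σ R] (𝒜 : ℤ → σ) [GradedRing 𝒜]
    [IsNoetherianRing R] (mR : HomogeneousIdeal 𝒜) (n : ℕ) (hn : ringKrullDim R = n)
    (I : GrLC.StarInjRes 𝒜 𝒜) [Module k (I.H mR n)] [IsScalarTower k R (I.H mR n)]
    [DirectSum.Decomposition (I.Hgr mR n)]
    {K : Type u} [AddCommGroup K] [Module R K] [Module k K] [IsScalarTower k R K]
    (𝒦 : ℤ → AddSubgroup K) [DirectSum.Decomposition 𝒦] [SetLike.GradedSMul 𝒜 𝒦]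
    (βK : K →ₗ[k] I.H mR n →ₗ[k] k) (hK : GrSeg.IsGDual R (I.Hgr mR n) 𝒦 βK)
    {M : Type u} [AddCommGroup M] [Module R M] (ℳ : ℤ → AddSubgroup M)
    [DirectSum.Decomposition ℳ] [SetLike.GradedSMul 𝒜 ℳ] [Module.Finite R M]
    (EM : GrLC.StarInjRes 𝒜 ℳ) [Module k (EM.H mR n)] [IsScalarTower k R (EM.H mR n)]
    [DirectSum.Decomposition (EM.Hgr mR n)]
    {D : Type u} [AddCommGroup D] [Module R D] [Module k D] [IsScalarTower k R D]
    (𝒟 : ℤ → AddSubgroup D) [DirectSum.Decomposition 𝒟]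
    (βD : D →ₗ[k] EM.H mR n →ₗ[k] k) (hD : GrSeg.IsGDual R (EM.Hgr mR n) 𝒟 βD) :
    ∃ ε : D ≃ₗ[R] (M →ₗ[R] K), ∀ e d, d ∈ 𝒟 e → GrLC.IsGrHomDeg ℳ 𝒦 (ε d) e := by
  have : SetLike.GradedSMul (toAS 𝒜) 𝒦 := gsmul_conv 𝒜 𝒦
  have : SetLike.GradedSMul (toAS 𝒜) ℳ := gsmul_conv 𝒜 ℳ
  obtain ⟨κ, hκ, x, T, hspan, hTdeg, hTsurj, hTker⟩ :=
    exists_pairing (convRes I) (convRes EM) (convI mR) n hn
  exact exists_equiv_hom (toAS 𝒜) ℳ hK hD x hspan
    (T : M →ₗ[R] I.H mR n →ₗ[R] EM.H mR n)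
    (fun e j m h hm hh => hTdeg e j m h hm hh) (fun w => hTsurj w) (fun h hh => hTker h hh)

end Groth.Agent.H98.GrDualHom
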