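import Groth.Agent.H98.GrHV

/-!
# Helper library (helper98): graded Koszul complexes, built by iterated mapping cones, and
Castelnuovo–Mumford type consequences for graded local cohomology with support in the irrelevant
ideal of a homogeneous (standard graded) Noetherian ring.
-/

set_option autoImplicit false
universe u

open DirectSum

namespace Groth.Agent.H98.GrCat

variable {R : Type u} [CommRing R]

/-- a chain complex of graded modules `⋯ → K 2 → K 1 → K 0` -/
structure GCx (𝒜 : ℤ → AddSubgroup R) [GradedRing 𝒜] : Type (u + 1) where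
  /-- the terms -/
  K : ℕ → GrLC.GMod.{u} 𝒜
  /-- the differentials -/
  d : ∀ p : ℕ, (K (p + 1)).carrier →ₗ[R] (K p).carrier
  d_gr : ∀ p : ℕ, GrLC.IsGrHom (K (p + 1)).gr (K p).gr (d p)
  d_d : ∀ (p : ℕ) (y : (K (p + 1 + 1)).carrier), d p (d (p + 1) y) = 0

variable {𝒜 : ℤ → AddSubgroup R} [GradedRing 𝒜]

/-- multiplication by `x` is null-homotopic on the complex -/
def NullH (C : GCx 𝒜) (x : R) : Prop :=
  ∃ h : ∀ p : ℕ, (C.K p).carrier →ₗ[R] (C.K (p + 1)).carrier,
    (∀ y, C.d 0 (h 0 y) = x • y) ∧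
      ∀ (p : ℕ) (y : (C.K (p + 1)).carrier), C.d (p + 1) (h (p + 1) y) + h p (C.d p y) = x • y

section Cone

variable (C : GCx 𝒜)

/-- the terms of the mapping cone of multiplication by an element of degree one -/
noncomputable def coneK : ℕ → GrLC.GMod.{u} 𝒜
  | 0 => C.K 0
  | p + 1 => prodG 𝒜 (C.K (p + 1)) (shiftG 𝒜 (C.K p).gr (-1))

/-- pairs as elements of the cone -/
def coneMk (p : ℕ) (u : (C.K (p + 1)).carrier) (v : (C.K p).carrier) :
    (coneK C (p + 1)).carrier := ((u, v) : (C.K (p + 1)).carrier × (C.K p).carrier)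

theorem exists_coneMk (p : ℕ) (y : (coneK C (p + 1)).carrier) : ∃ u v, y = coneMk C p u v :=
  ⟨(y : (C.K (p + 1)).carrier × (C.K p).carrier).1,
    (y : (C.K (p + 1)).carrier × (C.K p).carrier).2, rfl⟩

theorem coneMk_mem (p : ℕ) (n : ℤ) (u : (C.K (p + 1)).carrier) (v : (C.K p).carrier) :
    coneMk C p u v ∈ (coneK C (p + 1)).gr n ↔ u ∈ (C.K (p + 1)).gr n ∧ v ∈ (C.K p).gr (n + -1) :=
  Iff.rfl

theorem coneMk_ext (p : ℕ) {u u' : (C.K (p + 1)).carrier} {v v' : (C.K p).carrier}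
    (hu : u = u') (hv : v = v') : coneMk C p u v = coneMk C p u' v' := by
  rw [hu, hv]

/-- the differentials of the mapping cone -/
noncomputable def coneD (x : R) : ∀ p : ℕ, (coneK C (p + 1)).carrier →ₗ[R] (coneK C p).carrier
  | 0 => LinearMap.coprod (C.d 0) (LinearMap.lsmul R (C.K 0).carrier x)
  | p + 1 => LinearMap.prod
      (LinearMap.coprod (C.d (p + 1)) (LinearMap.lsmul R (C.K (p + 1)).carrier x))
      (-((C.d p).comp (LinearMap.snd R (C.K (p + 1 + 1)).carrier (C.K (p + 1)).carrier)))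

theorem coneD_zero (x : R) (u : (C.K 1).carrier) (v : (C.K 0).carrier) :
    coneD C x 0 (coneMk C 0 u v) = C.d 0 u + x • v := rfl

theorem coneD_succ (x : R) (p : ℕ) (u : (C.K (p + 1 + 1)).carrier) (v : (C.K (p + 1)).carrier) :
    coneD C x (p + 1) (coneMk C (p + 1) u v) = coneMk C p (C.d (p + 1) u + x • v) (-(C.d p v)) :=
  rfl

theorem coneD_gr (x : R) (hx : x ∈ 𝒜 1) :
    ∀ p : ℕ, GrLC.IsGrHom (coneK C (p + 1)).gr (coneK C p).gr (coneD C x p) := by
  have key : ∀ (p : ℕ) (n : ℤ) (u : (C.K (p + 1)).carrier) (v : (C.K p).carrier),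
      u ∈ (C.K (p + 1)).gr n → v ∈ (C.K p).gr (n + -1) → C.d p u + x • v ∈ (C.K p).gr n := by
    intro p n u v hu hv
    refine add_mem (C.d_gr p n u hu) ?_
    have h := gsmul_mem 𝒜 (C.K p).gr hx hv
    have e : (1 : ℤ) + (n + -1) = n := by ring
    rwa [e] at h
  intro p
  cases p with
  | zero =>
    intro n y hy
    obtain ⟨u, v, rfl⟩ := exists_coneMk C 0 y
    rw [coneD_zero]
    exact key 0 n u v hy.1 hy.2
  | succ p =>
    intro n y hy
    obtain ⟨u, v, rfl⟩ := exists_coneMk C (p + 1) y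
    rw [coneD_succ]
    have h2 : -(C.d p v) ∈ (C.K p).gr (n + -1) := neg_mem (C.d_gr p _ v hy.2)
    exact ⟨key (p + 1) n u v hy.1 hy.2, h2⟩

theorem coneD_d (x : R) : ∀ (p : ℕ) (y : (coneK C (p + 1 + 1)).carrier),
    coneD C x p (coneD C x (p + 1) y) = 0 := by
  have key : ∀ (p : ℕ) (u : (C.K (p + 1 + 1)).carrier) (v : (C.K (p + 1)).carrier),
      C.d p (C.d (p + 1) u + x • v) + x • (-(C.d p v)) = 0 := by
    intro p u v
    rw [map_add, C.d_d, zero_add, map_smul, smul_neg, add_neg_cancel]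
  intro p
  cases p with
  | zero =>
    intro y
    obtain ⟨u, v, rfl⟩ := exists_coneMk C 1 y
    rw [coneD_succ, coneD_zero]
    exact key 0 u v
  | succ p =>
    intro y
    obtain ⟨u, v, rfl⟩ := exists_coneMk C (p + 1 + 1) y
    rw [coneD_succ, coneD_succ]
    have h2 : -(C.d p (-(C.d (p + 1) v))) = 0 := by
      rw [map_neg, neg_neg, C.d_d]
    rw [coneMk_ext C p (key (p + 1) u v) h2]
    rfl

/-- the mapping cone of multiplication by an element of degree one on `C(-1) → C` -/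
noncomputable def cone (x : R) (hx : x ∈ 𝒜 1) : GCx 𝒜 where
  K := coneK C
  d := coneD C x
  d_gr := coneD_gr C x hx
  d_d := coneD_d C x

/-- the homotopy for the new element -/
noncomputable def coneH : ∀ p : ℕ, (coneK C p).carrier →ₗ[R] (coneK C (p + 1)).carrier
  | 0 => LinearMap.inr R (C.K 1).carrier (C.K 0).carrier
  | p + 1 => (LinearMap.inr R (C.K (p + 1 + 1)).carrier (C.K (p + 1)).carrier).comp
      (LinearMap.fst R (C.K (p + 1)).carrier (C.K p).carrier)

theorem coneH_zero (v : (C.K 0).carrier) : coneH C 0 v = coneMk C 0 0 v := rfl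

theorem coneH_succ (p : ℕ) (u : (C.K (p + 1)).carrier) (v : (C.K p).carrier) :
    coneH C (p + 1) (coneMk C p u v) = coneMk C (p + 1) 0 u := rfl

theorem smul_coneMk (x : R) (p : ℕ) (u : (C.K (p + 1)).carrier) (v : (C.K p).carrier) :
    x • coneMk C p u v = coneMk C p (x • u) (x • v) := rfl

theorem coneMk_add (p : ℕ) (u u' : (C.K (p + 1)).carrier) (v v' : (C.K p).carrier) :
    coneMk C p u v + coneMk C p u' v' = coneMk C p (u + u') (v + v') := rfl

theorem coneH_spec0 (x : R) (y : (C.K 0).carrier) :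
    coneD C x 0 (coneH C 0 y) = x • y := by
  rw [coneH_zero, coneD_zero, map_zero, zero_add]

theorem coneH_spec (x : R) (p : ℕ) (y : (coneK C (p + 1)).carrier) :
    coneD C x (p + 1) (coneH C (p + 1) y) + coneH C p (coneD C x p y) = x • y := by
  obtain ⟨u, v, rfl⟩ := exists_coneMk C p y
  rw [coneH_succ, coneD_succ, map_zero, zero_add, smul_coneMk]
  cases p with
  | zero =>
    rw [coneD_zero, coneH_zero, coneMk_add]
    exact coneMk_ext C 0 (add_zero _) (by abel)
  | succ p =>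
    rw [coneD_succ, coneH_succ, coneMk_add]
    exact coneMk_ext C (p + 1) (add_zero _) (by abel)

theorem nullH_cone_self (x : R) (hx : x ∈ 𝒜 1) : NullH (cone C x hx) x :=
  ⟨coneH C, coneH_spec0 C x, coneH_spec C x⟩

/-- homotopies of the base lift to the cone -/
noncomputable def coneL (h : ∀ p : ℕ, (C.K p).carrier →ₗ[R] (C.K (p + 1)).carrier) :
    ∀ p : ℕ, (coneK C p).carrier →ₗ[R] (coneK C (p + 1)).carrier
  | 0 => LinearMap.prod (h 0) 0
  | p + 1 => LinearMap.prod
      ((h (p + 1)).comp (LinearMap.fst R (C.K (p + 1)).carrier (C.K p).carrier))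
      (-((h p).comp (LinearMap.snd R (C.K (p + 1)).carrier (C.K p).carrier)))

theorem coneL_zero (h : ∀ p : ℕ, (C.K p).carrier →ₗ[R] (C.K (p + 1)).carrier)
    (v : (C.K 0).carrier) : coneL C h 0 v = coneMk C 0 (h 0 v) 0 := rfl

theorem coneL_succ (h : ∀ p : ℕ, (C.K p).carrier →ₗ[R] (C.K (p + 1)).carrier) (p : ℕ)
    (u : (C.K (p + 1)).carrier) (v : (C.K p).carrier) :
    coneL C h (p + 1) (coneMk C p u v) = coneMk C (p + 1) (h (p + 1) u) (-(h p v)) := rfl

theorem coneL_spec0 (x x' : R) (h : ∀ p : ℕ, (C.K p).carrier →ₗ[R] (C.K (p + 1)).carrier)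
    (h0 : ∀ y, C.d 0 (h 0 y) = x' • y) (y : (C.K 0).carrier) :
    coneD C x 0 (coneL C h 0 y) = x' • y := by
  rw [coneL_zero, coneD_zero, smul_zero, add_zero]
  exact h0 y

theorem coneL_spec (x x' : R) (h : ∀ p : ℕ, (C.K p).carrier →ₗ[R] (C.K (p + 1)).carrier)
    (h0 : ∀ y, C.d 0 (h 0 y) = x' • y)
    (hn : ∀ (p : ℕ) (y : (C.K (p + 1)).carrier),
      C.d (p + 1) (h (p + 1) y) + h p (C.d p y) = x' • y)
    (p : ℕ) (y : (coneK C (p + 1)).carrier) :
    coneD C x (p + 1) (coneL C h (p + 1) y) + coneL C h p (coneD C x p y) = x' • y := by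
  obtain ⟨u, v, rfl⟩ := exists_coneMk C p y
  rw [coneL_succ, coneD_succ, smul_coneMk]
  cases p with
  | zero =>
    rw [coneD_zero, coneL_zero, coneMk_add]
    refine coneMk_ext C 0 ?_ ?_
    · rw [map_add, map_smul, smul_neg, ← hn 0 u]
      abel
    · rw [map_neg, neg_neg, add_zero]
      exact h0 v
  | succ p =>
    rw [coneD_succ, coneL_succ, coneMk_add]
    refine coneMk_ext C (p + 1) ?_ ?_
    · rw [map_add, map_smul, smul_neg, ← hn (p + 1) u]
      abel
    · rw [map_neg, neg_neg, map_neg, neg_neg]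
      exact hn p v

theorem nullH_cone_of (x : R) (hx : x ∈ 𝒜 1) (x' : R) (hC : NullH C x') :
    NullH (cone C x hx) x' := by
  obtain ⟨h, h0, hn⟩ := hC
  exact ⟨coneL C h, coneL_spec0 C x x' h h0, coneL_spec C x x' h h0 hn⟩

end Cone

end Groth.Agent.H98.GrCat

namespace Groth.Agent.H98.GrCat

variable {R : Type u} [CommRing R] {𝒜 : ℤ → AddSubgroup R} [GradedRing 𝒜]

section Generic

/-- the span of a set of homogeneous elements is a homogeneous submodule -/
theorem span_isHomogeneous {X : Type u} [AddCommGroup X] [Module R X] (𝓧 : ℤ → AddSubgroup X)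
    [DirectSum.Decomposition 𝓧] [SetLike.GradedSMul 𝒜 𝓧] (S : Set X)
    (hS : ∀ y ∈ S, ∃ k, y ∈ 𝓧 k) : (Submodule.span R S).IsHomogeneous 𝓧 := by
  intro n z hz
  obtain ⟨c, f, g, rfl⟩ := Submodule.mem_span_set'.1 hz
  choose k hk using fun j => hS (g j) (g j).2
  rw [comp_sum_smul 𝒜 𝓧 f (fun j => (g j : X)) k hk n]
  exact Submodule.sum_mem _ fun j _ => Submodule.smul_mem _ _ (Submodule.subset_span (g j).2)

variable (a : HomogeneousIdeal 𝒜)

/-- a quotient killed by `a` is `a`-torsion -/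
theorem gam_quotG_eq_top (X : GrLC.GMod.{u} 𝒜) (Q : Submodule R X.carrier)
    (hQh : Q.IsHomogeneous X.gr) (h : ∀ r ∈ a.toIdeal, ∀ y : X.carrier, r • y ∈ Q) :
    GrLC.gam a.toIdeal (quotG 𝒜 X.gr Q hQh).carrier = ⊤ := by
  rw [eq_top_iff]
  intro q _
  obtain ⟨y, rfl⟩ := Q.mkQ_surjective q
  refine ⟨1, fun r hr => ?_⟩
  rw [pow_one] at hr
  have h1 : r • Q.mkQ y = Q.mkQ (r • y) := (map_smul Q.mkQ r y).symm
  have h2 : Q.mkQ (r • y) = 0 := (Submodule.Quotient.mk_eq_zero _).2 (h r hr y)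
  exact h1.trans h2

section Inj

variable {A X : GrLC.GMod.{u} 𝒜} (ι : A.carrier →ₗ[R] X.carrier)
  (hι : GrLC.IsGrHom A.gr X.gr ι) (hinj : Function.Injective ι) (Q : Submodule R X.carrier)
  (hQh : Q.IsHomogeneous X.gr) (hQ : ∀ y, y ∈ Q ↔ ∃ z, ι z = y) (i : ℕ) (n : ℤ)

include hι hinj hQ in
theorem hv_mid_inj (hA : HV a A i n) (hC : HV a (quotG 𝒜 X.gr Q hQh) i n) : HV a X i n := by
  obtain ⟨g, hgdef⟩ : ∃ g : X.carrier →ₗ[R] (quotG 𝒜 X.gr Q hQh).carrier,
      ∀ v, g v = Q.mkQ v := ⟨Q.mkQ, fun _ => rfl⟩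
  refine hv_mid ι g hι (fun k z hz => ⟨z, hz, (hgdef z).symm⟩) hinj ?_ ?_ ?_ a i n hA hC
  · intro q
    obtain ⟨v, hv⟩ := Q.mkQ_surjective q
    exact ⟨v, by rw [hgdef]; exact hv⟩
  · intro b hb
    rw [hgdef] at hb
    exact (hQ b).1 ((Submodule.Quotient.mk_eq_zero _).1 hb)
  · intro z
    rw [hgdef]
    exact (Submodule.Quotient.mk_eq_zero _).2 ((hQ _).2 ⟨z, rfl⟩)

include hι hinj hQ in
theorem hv_right_inj (hX : HV a X i n) (hA : HV a A (i + 1) n) :
    HV a (quotG 𝒜 X.gr Q hQh) i n := by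
  obtain ⟨g, hgdef⟩ : ∃ g : X.carrier →ₗ[R] (quotG 𝒜 X.gr Q hQh).carrier,
      ∀ v, g v = Q.mkQ v := ⟨Q.mkQ, fun _ => rfl⟩
  refine hv_right ι g hι (fun k z hz => ⟨z, hz, (hgdef z).symm⟩) hinj ?_ ?_ ?_ a i n hX hA
  · intro q
    obtain ⟨v, hv⟩ := Q.mkQ_surjective q
    exact ⟨v, by rw [hgdef]; exact hv⟩
  · intro b hb
    rw [hgdef] at hb
    exact (hQ b).1 ((Submodule.Quotient.mk_eq_zero _).1 hb)
  · intro z
    rw [hgdef]
    exact (Submodule.Quotient.mk_eq_zero _).2 ((hQ _).2 ⟨z, rfl⟩)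

end Inj

/-- for a homogeneous map `d : X → Y`, the sequence `0 → ker d → X → im d → 0` -/
theorem hv_right_hom {X Y : GrLC.GMod.{u} 𝒜} (d : X.carrier →ₗ[R] Y.carrier)
    (hd : GrLC.IsGrHom X.gr Y.gr d) (i : ℕ) (n : ℤ) (hX : HV a X i n)
    (hK : HV a (subG 𝒜 X.gr (LinearMap.ker d) (ker_isHomogeneous X.gr Y.gr hd)) (i + 1) n) :
    HV a (subG 𝒜 Y.gr (LinearMap.range d) (range_isHomogeneous X.gr Y.gr hd)) i n := by
  obtain ⟨f, hfdef⟩ : ∃ f : (subG 𝒜 X.gr (LinearMap.ker d)
      (ker_isHomogeneous X.gr Y.gr hd)).carrier →ₗ[R] X.carrier,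
      ∀ z, f z = (LinearMap.ker d).subtype z := ⟨(LinearMap.ker d).subtype, fun _ => rfl⟩
  obtain ⟨g, hgdef⟩ : ∃ g : X.carrier →ₗ[R] (subG 𝒜 Y.gr (LinearMap.range d)
      (range_isHomogeneous X.gr Y.gr hd)).carrier,
      ∀ y, g y = d.rangeRestrict y := ⟨d.rangeRestrict, fun _ => rfl⟩
  refine hv_right f g ?_ ?_ ?_ ?_ ?_ ?_ a i n hX hK
  · intro k z hz
    rw [hfdef]
    exact hz
  · intro k y hy
    rw [hgdef]
    exact hd k y hy
  · intro u v huv
    rw [hfdef, hfdef] at huv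
    exact Subtype.ext huv
  · intro q
    obtain ⟨y, hy⟩ := d.surjective_rangeRestrict q
    exact ⟨y, by rw [hgdef]; exact hy⟩
  · intro b hb
    rw [hgdef] at hb
    have h1 : d b = 0 := congrArg Subtype.val hb
    exact ⟨⟨b, LinearMap.mem_ker.2 h1⟩, by rw [hfdef]; rfl⟩
  · intro z
    rw [hgdef, hfdef]
    exact Subtype.ext (LinearMap.mem_ker.1 (Subtype.property _))

end Generic

section Base

/-- a zero graded module -/
noncomputable def zeroG (A : GrLC.GMod.{u} 𝒜) : GrLC.GMod.{u} 𝒜 :=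
  subG 𝒜 A.gr ⊥ (bot_isHomogeneous A.gr)

instance (A : GrLC.GMod.{u} 𝒜) : Subsingleton (zeroG A).carrier :=
  inferInstanceAs (Subsingleton ↥(⊥ : Submodule R A.carrier))

/-- the terms of the complex with `A` in degree zero -/
noncomputable def baseK (A : GrLC.GMod.{u} 𝒜) : ℕ → GrLC.GMod.{u} 𝒜
  | 0 => A
  | _ + 1 => zeroG A

/-- the complex with `A` in degree zero -/
noncomputable def baseC (A : GrLC.GMod.{u} 𝒜) : GCx 𝒜 where
  K := baseK A
  d := fun _ => 0
  d_gr := fun p n y _ => by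
    rw [LinearMap.zero_apply]
    exact zero_mem _
  d_d := fun _ _ => rfl

end Base

section Exists

variable [IsNoetherianRing R] (a : HomogeneousIdeal 𝒜)

/-- the Koszul complex of a graded module on a list of elements of degree one, with the
properties needed below -/
theorem exists_kos (A : GrLC.GMod.{u} 𝒜) (xs : List R) (hxs : ∀ x ∈ xs, x ∈ 𝒜 1) :
    ∃ C : GCx 𝒜, C.K 0 = A ∧ (∀ x ∈ xs, NullH C x) ∧
      (∀ (p i : ℕ) (n : ℤ), 1 ≤ i → HV a (C.K 0) i (n - p) → HV a (C.K p) i n) ∧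
      (∀ p : ℕ, xs.length < p → Subsingleton (C.K p).carrier) ∧
      (∀ I : Ideal R, (∀ x ∈ xs, x ∈ I) →
        ∀ y, C.d 0 y ∈ I • (⊤ : Submodule R (C.K 0).carrier)) := by
  induction xs with
  | nil =>
    refine ⟨baseC A, rfl, fun x hx => absurd hx List.not_mem_nil, ?_, ?_, ?_⟩
    · intro p i n hi h
      cases p with
      | zero =>
        rw [Nat.cast_zero, sub_zero] at h
        exact h
      | succ p =>
        haveI : Subsingleton ((baseC A).K (p + 1)).carrier :=
          inferInstanceAs (Subsingleton (zeroG A).carrier)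
        exact hv_subsingleton a _ i hi n
    · intro p hp
      cases p with
      | zero => exact absurd hp (by simp)
      | succ p => exact inferInstanceAs (Subsingleton (zeroG A).carrier)
    · intro I _ y
      exact zero_mem _
  | cons x xs ih =>
    obtain ⟨C, hC0, hnull, hHV, hsub, hI⟩ := ih (fun x' hx' => hxs x' (List.mem_cons_of_mem _ hx'))
    have hx : x ∈ 𝒜 1 := hxs x List.mem_cons_self
    refine ⟨cone C x hx, hC0, ?_, ?_, ?_, ?_⟩
    · intro x' hx'
      rcases List.mem_cons.1 hx' with rfl | h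
      · exact nullH_cone_self C x' hx
      · exact nullH_cone_of C x hx x' (hnull x' h)
    · intro p i n hi h
      cases p with
      | zero =>
        rw [Nat.cast_zero, sub_zero] at h
        exact h
      | succ p =>
        have h' : HV a (C.K 0) i (n - ((p + 1 : ℕ) : ℤ)) := h
        have h'' : HV a (C.K 0) i (n + -1 - (p : ℤ)) := by
          have e : n - ((p + 1 : ℕ) : ℤ) = n + -1 - (p : ℤ) := by
            push_cast
            ring
          rw [e] at h'
          exact h'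
        show HV a (prodG 𝒜 (C.K (p + 1)) (shiftG 𝒜 (C.K p).gr (-1))) i n
        exact hv_prod a _ _ i n (hHV (p + 1) i n hi h')
          (hv_shift a (C.K p) i n (-1) (hHV p i (n + -1) hi h''))
    · intro p hp
      cases p with
      | zero => exact absurd hp (by simp)
      | succ p =>
        rw [List.length_cons] at hp
        haveI := hsub (p + 1) (by omega)
        haveI := hsub p (by omega)
        show Subsingleton ((C.K (p + 1)).carrier × (C.K p).carrier)
        infer_instance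
    · intro I hxI y
      obtain ⟨u, v, rfl⟩ := exists_coneMk C 0 y
      change C.d 0 u + x • v ∈ I • (⊤ : Submodule R (C.K 0).carrier)
      refine add_mem (hI I (fun x' hx' => hxI x' (List.mem_cons_of_mem _ hx')) u) ?_
      exact Submodule.smul_mem_smul (hxI x List.mem_cons_self) trivial

end Exists

section Chain

variable [IsNoetherianRing R] (a : HomogeneousIdeal 𝒜) (C : GCx 𝒜)

/-- boundaries -/
noncomputable def Bd (p : ℕ) : GrLC.GMod.{u} 𝒜 :=
  subG 𝒜 (C.K p).gr (LinearMap.range (C.d p))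
    (range_isHomogeneous (C.K (p + 1)).gr (C.K p).gr (C.d_gr p))

/-- cycles -/
noncomputable def Zy (p : ℕ) : GrLC.GMod.{u} 𝒜 :=
  subG 𝒜 (C.K (p + 1)).gr (LinearMap.ker (C.d p))
    (ker_isHomogeneous (C.K (p + 1)).gr (C.K p).gr (C.d_gr p))

variable (S : Set R) (hS : ∀ x ∈ S, NullH C x) (hspan : a.toIdeal = Ideal.span S)

include hS hspan in
theorem smul_cycle_mem (p : ℕ) (r : R) (hr : r ∈ a.toIdeal) (z : (C.K (p + 1)).carrier)
    (hz : C.d p z = 0) : r • z ∈ LinearMap.range (C.d (p + 1)) := by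
  rw [hspan] at hr
  induction hr using Submodule.span_induction with
  | mem x hx =>
    obtain ⟨h, -, hn⟩ := hS x hx
    refine ⟨h (p + 1) z, ?_⟩
    have h1 := hn p z
    rw [hz, map_zero, add_zero] at h1
    exact h1
  | zero =>
    rw [zero_smul]
    exact zero_mem _
  | add r r' _ _ h h' =>
    rw [add_smul]
    exact add_mem h h'
  | smul c r _ h =>
    rw [smul_eq_mul, mul_smul]
    exact Submodule.smul_mem _ c h

include hS hspan in
theorem smul_mem_range_zero (r : R) (hr : r ∈ a.toIdeal) (y : (C.K 0).carrier) :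
    r • y ∈ LinearMap.range (C.d 0) := by
  rw [hspan] at hr
  induction hr using Submodule.span_induction with
  | mem x hx =>
    obtain ⟨h, h0, -⟩ := hS x hx
    exact ⟨h 0 y, h0 y⟩
  | zero =>
    rw [zero_smul]
    exact zero_mem _
  | add r r' _ _ h h' =>
    rw [add_smul]
    exact add_mem h h'
  | smul c r _ h =>
    rw [smul_eq_mul, mul_smul]
    exact Submodule.smul_mem _ c h

include hS hspan in
/-- the descending induction along the Koszul complex -/
theorem kos_chain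
    (hHV : ∀ (p i : ℕ) (n : ℤ), 1 ≤ i → HV a (C.K 0) i (n - p) → HV a (C.K p) i n)
    (m : ℕ) (hsub : ∀ p : ℕ, m < p → Subsingleton (C.K p).carrier)
    (i₀ : ℕ) (hi₀ : 1 ≤ i₀) (n : ℤ) (hW : ∀ p : ℕ, HV a (C.K 0) (i₀ + p) (n - p - 1)) :
    ∀ p : ℕ, HV a (Bd C p) (i₀ + p) n := by
  have key : ∀ k p : ℕ, m + 1 ≤ p + k → HV a (Bd C p) (i₀ + p) n := by
    intro k
    induction k with
    | zero =>
      intro p hp
      haveI := hsub p (by omega)
      haveI : Subsingleton (Bd C p).carrier :=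
        inferInstanceAs (Subsingleton ↥(LinearMap.range (C.d p)))
      exact hv_subsingleton a _ _ (by omega) n
    | succ k ih =>
      intro p hp
      have hU : HV a (Bd C (p + 1)) (i₀ + p + 1) n := ih (p + 1) (by omega)
      -- the inclusion of the boundaries in the cycles
      have hle : LinearMap.range (C.d (p + 1)) ≤ LinearMap.ker (C.d p) := by
        rintro _ ⟨y, rfl⟩
        exact LinearMap.mem_ker.2 (C.d_d p y)
      obtain ⟨ι, hιdef⟩ : ∃ ι : (Bd C (p + 1)).carrier →ₗ[R] (Zy C p).carrier,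
          ∀ z, (LinearMap.ker (C.d p)).subtype (ι z) =
            (LinearMap.range (C.d (p + 1))).subtype z :=
        ⟨Submodule.inclusion hle, fun _ => rfl⟩
      have hιgr : GrLC.IsGrHom (Bd C (p + 1)).gr (Zy C p).gr ι := by
        intro j z hz
        show (LinearMap.ker (C.d p)).subtype (ι z) ∈ (C.K (p + 1)).gr j
        rw [hιdef]
        exact hz
      have hιinj : Function.Injective ι := by
        intro z z' h
        apply (LinearMap.range (C.d (p + 1))).injective_subtype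
        rw [← hιdef, ← hιdef, h]
      have hQh : (LinearMap.range ι).IsHomogeneous (Zy C p).gr :=
        range_isHomogeneous (Bd C (p + 1)).gr (Zy C p).gr hιgr
      have htor : GrLC.gam a.toIdeal (quotG 𝒜 (Zy C p).gr (LinearMap.range ι) hQh).carrier = ⊤ := by
        refine gam_quotG_eq_top a (Zy C p) (LinearMap.range ι) hQh ?_
        intro r hr z
        have hz' : (LinearMap.ker (C.d p)).subtype z ∈ LinearMap.ker (C.d p) :=
          Subtype.property _
        have h1 := smul_cycle_mem a C S hS hspan p r hr _ (LinearMap.mem_ker.1 hz')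
        refine ⟨⟨_, h1⟩, ?_⟩
        apply (LinearMap.ker (C.d p)).injective_subtype
        rw [hιdef]
        rfl
      have hZ : HV a (Zy C p) (i₀ + p + 1) n :=
        hv_mid_inj a ι hιgr hιinj (LinearMap.range ι) hQh (fun y => Iff.rfl) (i₀ + p + 1) n hU
          (hv_torsion a _ htor (i₀ + p + 1) (by omega) n)
      have hW' : HV a (C.K 0) (i₀ + p) (n - ((p + 1 : ℕ) : ℤ)) := by
        have e : n - ((p + 1 : ℕ) : ℤ) = n - (p : ℤ) - 1 := by
          push_cast
          ring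
        rw [e]
        exact hW p
      exact hv_right_hom a (C.d p) (C.d_gr p) (i₀ + p) n
        (hHV (p + 1) (i₀ + p) n (by omega) hW') hZ
  intro p
  exact key (m + 1) p (by omega)

end Chain

end Groth.Agent.H98.GrCat

namespace Groth.Agent.H98.GrCat

variable {R : Type u} [CommRing R] [IsNoetherianRing R] {𝒜 : ℤ → AddSubgroup R} [GradedRing 𝒜]

section Main

variable (a : HomogeneousIdeal 𝒜)
  (hhom : a.toIdeal = Ideal.span ((𝒜 1 : AddSubgroup R) : Set R))

include hhom in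
/-- a finite list of elements of degree one generating the irrelevant ideal -/
theorem exists_gens : ∃ xs : List R, (∀ x ∈ xs, x ∈ 𝒜 1) ∧
    a.toIdeal = Ideal.span {x | x ∈ xs} := by
  classical
  have hfg : (Submodule.span R ((𝒜 1 : AddSubgroup R) : Set R)).FG := by
    have h := IsNoetherian.noetherian a.toIdeal
    rw [hhom] at h
    exact h
  obtain ⟨s, hsub, hspan⟩ := (Submodule.fg_span_iff_fg_span_finset_subset _).1 hfg
  refine ⟨s.toList, fun x hx => hsub (Finset.mem_coe.2 (Finset.mem_toList.1 hx)), ?_⟩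
  rw [hhom]
  have e : {x | x ∈ s.toList} = (s : Set R) := by
    ext x
    simp
  rw [e]
  exact hspan

include hhom in
/-- **the Castelnuovo–Mumford step**: vanishing of graded local cohomology along an anti-diagonal
propagates to the next anti-diagonal (cohomological degrees `≥ 1`) -/
theorem hv_step (A : GrLC.GMod.{u} 𝒜) (i₀ : ℕ) (hi₀ : 1 ≤ i₀) (n : ℤ)
    (hW : ∀ p : ℕ, HV a A (i₀ + p) (n - p - 1)) : HV a A i₀ n := by
  obtain ⟨xs, hxs, hspan⟩ := exists_gens a hhom
  obtain ⟨C, hC0, hnull, hHV, hsub, -⟩ := exists_kos a A xs hxs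
  subst hC0
  have hU := kos_chain a C {x | x ∈ xs} hnull hspan hHV xs.length hsub i₀ hi₀ n hW 0
  obtain ⟨ι, hιdef⟩ : ∃ ι : (Bd C 0).carrier →ₗ[R] (C.K 0).carrier,
      ∀ z, ι z = (LinearMap.range (C.d 0)).subtype z :=
    ⟨(LinearMap.range (C.d 0)).subtype, fun _ => rfl⟩
  have hQh : (LinearMap.range (C.d 0)).IsHomogeneous (C.K 0).gr :=
    range_isHomogeneous (C.K 1).gr (C.K 0).gr (C.d_gr 0)
  have htor : GrLC.gam a.toIdeal (quotG 𝒜 (C.K 0).gr (LinearMap.range (C.d 0)) hQh).carrier = ⊤ :=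
    gam_quotG_eq_top a (C.K 0) _ hQh
      (fun r hr y => smul_mem_range_zero a C {x | x ∈ xs} hnull hspan r hr y)
  refine hv_mid_inj a ι ?_ ?_ (LinearMap.range (C.d 0)) hQh ?_ i₀ n hU
    (hv_torsion a _ htor i₀ hi₀ n)
  · intro j z hz
    rw [hιdef]
    exact hz
  · intro z z' h
    rw [hιdef, hιdef] at h
    exact (LinearMap.range (C.d 0)).injective_subtype h
  · intro y
    constructor
    · intro hy
      exact ⟨⟨y, hy⟩, by rw [hιdef]; rfl⟩
    · rintro ⟨z, rfl⟩
      rw [hιdef]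
      exact Subtype.property _

include hhom in
/-- **generation in degrees bounded by the regularity**: if all `H^i(A)_{n-i}` vanish, then
`A_n ⊆ R_+ A` -/
theorem gen_step (A : GrLC.GMod.{u} 𝒜) (n : ℤ) (hW : ∀ i : ℕ, HV a A i (n - i)) :
    ∀ y ∈ A.gr n, y ∈ a.toIdeal • (⊤ : Submodule R A.carrier) := by
  obtain ⟨xs, hxs, hspan⟩ := exists_gens a hhom
  obtain ⟨C, hC0, hnull, hHV, hsub, hI⟩ := exists_kos a A xs hxs
  subst hC0
  have hW' : ∀ p : ℕ, HV a (C.K 0) (1 + p) (n - p - 1) := by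
    intro p
    have e : n - (p : ℤ) - 1 = n - ((1 + p : ℕ) : ℤ) := by
      push_cast
      ring
    rw [e]
    exact hW (1 + p)
  have hU : HV a (Bd C 0) (0 + 1) n :=
    kos_chain a C {x | x ∈ xs} hnull hspan hHV xs.length hsub 1 le_rfl n hW' 0
  obtain ⟨ι, hιdef⟩ : ∃ ι : (Bd C 0).carrier →ₗ[R] (C.K 0).carrier,
      ∀ z, ι z = (LinearMap.range (C.d 0)).subtype z :=
    ⟨(LinearMap.range (C.d 0)).subtype, fun _ => rfl⟩
  have hQh : (LinearMap.range (C.d 0)).IsHomogeneous (C.K 0).gr :=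
    range_isHomogeneous (C.K 1).gr (C.K 0).gr (C.d_gr 0)
  have htor : GrLC.gam a.toIdeal (quotG 𝒜 (C.K 0).gr (LinearMap.range (C.d 0)) hQh).carrier = ⊤ :=
    gam_quotG_eq_top a (C.K 0) _ hQh
      (fun r hr y => smul_mem_range_zero a C {x | x ∈ xs} hnull hspan r hr y)
  have hK0 : HV a (C.K 0) 0 n := by
    have h := hW 0
    rw [Nat.cast_zero, sub_zero] at h
    exact h
  have hH0 : HV a (quotG 𝒜 (C.K 0).gr (LinearMap.range (C.d 0)) hQh) 0 n := by
    refine hv_right_inj a ι ?_ ?_ (LinearMap.range (C.d 0)) hQh ?_ 0 n hK0 hU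
    · intro j z hz
      rw [hιdef]
      exact hz
    · intro z z' h
      rw [hιdef, hιdef] at h
      exact (LinearMap.range (C.d 0)).injective_subtype h
    · intro y
      constructor
      · intro hy
        exact ⟨⟨y, hy⟩, by rw [hιdef]; rfl⟩
      · rintro ⟨z, rfl⟩
        rw [hιdef]
        exact Subtype.property _
  intro y hy
  obtain ⟨G, -⟩ : ∃ G : GrLC.StarInjRes 𝒜
      (quotG 𝒜 (C.K 0).gr (LinearMap.range (C.d 0)) hQh).gr, True := ⟨starInjRes 𝒜 _, trivial⟩
  obtain ⟨q, hqdef⟩ : ∃ q : (quotG 𝒜 (C.K 0).gr (LinearMap.range (C.d 0)) hQh).carrier,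
      q = (LinearMap.range (C.d 0)).mkQ y := ⟨_, rfl⟩
  have hqn : q ∈ (quotG 𝒜 (C.K 0).gr (LinearMap.range (C.d 0)) hQh).gr n :=
    ⟨y, hy, hqdef.symm⟩
  have hqt : q ∈ GrLC.gam a.toIdeal (quotG 𝒜 (C.K 0).gr (LinearMap.range (C.d 0)) hQh).carrier := by
    rw [htor]
    trivial
  have hc : G.ε q ∈ G.cocyc a 0 :=
    ⟨gam_map a.toIdeal G.ε hqt, LinearMap.mem_ker.2 (StarInjRes_d_ε G q)⟩
  have h0 : G.ε q ∈ G.cobdy a 0 := hH0 G _ hc (G.ε_grHom n q hqn)
  have h1 : G.ε q = 0 := (Submodule.mem_bot R).1 h0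
  have h2 : q = 0 := G.ε_injective (by rw [h1, map_zero])
  rw [hqdef] at h2
  obtain ⟨z, rfl⟩ : y ∈ LinearMap.range (C.d 0) := (Submodule.Quotient.mk_eq_zero _).1 h2
  refine hI a.toIdeal (fun x hx => ?_) z
  rw [hspan]
  exact Ideal.subset_span hx

end Main

end Groth.Agent.H98.GrCat
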