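import Groth.Agent.H98.GrFree
import Groth.Agent.H98.GrKos
import Groth.Prelude.Def_GrSyz

/-!
# Helper library (helper98): the Eisenbud–Goto comparison between the generator degrees of a
(minimal) graded free resolution and the vanishing of graded local cohomology, over a graded ring
whose own graded local cohomology is concentrated in one cohomological degree `P` and vanishes
above internal degree `-P` there (e.g. a standard graded polynomial ring in `P` variables).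
-/

set_option autoImplicit false
universe u

open DirectSum

namespace Groth.Agent.H98.GrCat

section EG

variable {R : Type u} [CommRing R] [IsNoetherianRing R] {𝒜 : ℤ → AddSubgroup R} [GradedRing 𝒜]
variable {M : Type u} [AddCommGroup M] [Module R M] {ℳ : ℤ → AddSubgroup M}
  [DirectSum.Decomposition ℳ] [SetLike.GradedSMul 𝒜 ℳ] (F : GrSyz.FreeRes 𝒜 ℳ)

/-- the differential as a map of graded free modules -/
noncomputable def dL (q : ℕ) :
    (ffG 𝒜 (F.deg (q + 1))).carrier →ₗ[R] (ffG 𝒜 (F.deg q)).carrier := F.dLin q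

theorem dL_isGrHom (q : ℕ) :
    GrLC.IsGrHom (ffG 𝒜 (F.deg (q + 1))).gr (ffG 𝒜 (F.deg q)).gr (dL F q) :=
  mulVecLin_isGrHom (F.deg q) (F.deg (q + 1)) (F.d q) (F.d_mem q)

/-- the syzygy submodule of the `q`-th free module -/
noncomputable def Zq (q : ℕ) : Submodule R (ffG 𝒜 (F.deg q)).carrier := LinearMap.range (dL F q)

theorem zq_isHomogeneous (q : ℕ) : (Zq F q).IsHomogeneous (ffG 𝒜 (F.deg q)).gr :=
  range_isHomogeneous (ffG 𝒜 (F.deg (q + 1))).gr (ffG 𝒜 (F.deg q)).gr (dL_isGrHom F q)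

/-- the `(q+1)`-st syzygy module as a bundled graded module -/
noncomputable def SyzG (q : ℕ) : GrLC.GMod.{u} 𝒜 :=
  subG 𝒜 (ffG 𝒜 (F.deg q)).gr (Zq F q) (zq_isHomogeneous F q)

/-- `φ : F_q → C` presents `C` as the `q`-th syzygy module -/
def Lev (q : ℕ) (C : GrLC.GMod.{u} 𝒜) (φ : (ffG 𝒜 (F.deg q)).carrier →ₗ[R] C.carrier) : Prop :=
  GrLC.IsGrHom (ffG 𝒜 (F.deg q)).gr C.gr φ ∧ Function.Surjective φ ∧ LinearMap.ker φ = Zq F q

theorem exists_lev_zero : ∃ φ : (ffG 𝒜 (F.deg 0)).carrier →ₗ[R] (GrLC.GMod.of 𝒜 M ℳ).carrier,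
    Lev F 0 (GrLC.GMod.of 𝒜 M ℳ) φ := by
  refine ⟨F.augLin, ?_, F.aug_surjective, F.exact_zero⟩
  have h := linearCombination_isGrHom (𝒜 := 𝒜) (ℳ := ℳ) (F.deg 0) F.aug F.aug_mem
  exact h

theorem exists_lev_succ (q : ℕ) :
    ∃ φ : (ffG 𝒜 (F.deg (q + 1))).carrier →ₗ[R] (SyzG F q).carrier, Lev F (q + 1) (SyzG F q) φ := by
  refine ⟨(dL F q).rangeRestrict, ?_, LinearMap.surjective_rangeRestrict _, ?_⟩
  · intro j v hv
    exact dL_isGrHom F q j v hv
  · exact (LinearMap.ker_rangeRestrict (dL F q)).trans (F.exact_succ q)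

section Steps

variable {F} {q : ℕ} {C : GrLC.GMod.{u} 𝒜} {φ : (ffG 𝒜 (F.deg q)).carrier →ₗ[R] C.carrier}
  (hL : Lev F q C φ) (a : HomogeneousIdeal 𝒜)

include hL in
theorem lev_right (i : ℕ) (j : ℤ) (hB : HV a (ffG 𝒜 (F.deg q)) i j)
    (hA : HV a (SyzG F q) (i + 1) j) : HV a C i j := by
  obtain ⟨f, hf⟩ : ∃ f : (SyzG F q).carrier →ₗ[R] (ffG 𝒜 (F.deg q)).carrier,
      ∀ z : Zq F q, f z = (z : (ffG 𝒜 (F.deg q)).carrier) := ⟨(Zq F q).subtype, fun _ => rfl⟩
  refine hv_right f φ ?_ hL.1 ?_ hL.2.1 ?_ ?_ a i j hB hA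
  · intro k z hz
    rw [hf]
    exact hz
  · intro z z' h
    rw [hf, hf] at h
    exact Subtype.ext h
  · intro b hb
    have h1 : b ∈ LinearMap.ker φ := LinearMap.mem_ker.2 hb
    rw [hL.2.2] at h1
    exact ⟨⟨b, h1⟩, hf _⟩
  · intro z
    have h1 : f z ∈ LinearMap.ker φ := by
      rw [hL.2.2, hf]
      exact Subtype.property _
    exact LinearMap.mem_ker.1 h1

include hL in
theorem lev_left (i : ℕ) (j : ℤ) (hC : HV a C i j)
    (hB : HV a (ffG 𝒜 (F.deg q)) (i + 1) j) : HV a (SyzG F q) (i + 1) j := by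
  obtain ⟨f, hf⟩ : ∃ f : (SyzG F q).carrier →ₗ[R] (ffG 𝒜 (F.deg q)).carrier,
      ∀ z : Zq F q, f z = (z : (ffG 𝒜 (F.deg q)).carrier) := ⟨(Zq F q).subtype, fun _ => rfl⟩
  refine hv_left f φ ?_ hL.1 ?_ hL.2.1 ?_ ?_ a i j hC hB
  · intro k z hz
    rw [hf]
    exact hz
  · intro z z' h
    rw [hf, hf] at h
    exact Subtype.ext h
  · intro b hb
    have h1 : b ∈ LinearMap.ker φ := LinearMap.mem_ker.2 hb
    rw [hL.2.2] at h1
    exact ⟨⟨b, h1⟩, hf _⟩
  · intro z
    have h1 : f z ∈ LinearMap.ker φ := by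
      rw [hL.2.2, hf]
      exact Subtype.property _
    exact LinearMap.mem_ker.1 h1

theorem lev_zero (j : ℤ) (hB : HV a (ffG 𝒜 (F.deg q)) 0 j) : HV a (SyzG F q) 0 j := by
  obtain ⟨f, hf⟩ : ∃ f : (SyzG F q).carrier →ₗ[R] (ffG 𝒜 (F.deg q)).carrier,
      ∀ z : Zq F q, f z = (z : (ffG 𝒜 (F.deg q)).carrier) := ⟨(Zq F q).subtype, fun _ => rfl⟩
  refine hv_zero_of_injective f ?_ ?_ a j hB
  · intro k z hz
    rw [hf]
    exact hz
  · intro z z' h
    rw [hf, hf] at h
    exact Subtype.ext h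

include hL in
/-- if `C` is generated in degrees `≤ e` and the resolution is minimal, the basis degrees of `F_q`
are `≤ e` -/
theorem deg_le_of_gen (hmin : F.IsMinimal a.toIdeal) (h1a : (1 : R) ∉ a.toIdeal) (e : ℤ)
    (hgen : ∀ n, e < n → ∀ y ∈ C.gr n, y ∈ a.toIdeal • (⊤ : Submodule R C.carrier)) :
    ∀ b, F.deg q b ≤ e := by
  classical
  intro b₀
  by_contra hlt
  rw [not_le] at hlt
  obtain ⟨v, hv⟩ : ∃ v : (ffG 𝒜 (F.deg q)).carrier, v = (Pi.single b₀ (1 : R) : Fin (F.rk q) → R) :=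
    ⟨_, rfl⟩
  have hvgr : v ∈ (ffG 𝒜 (F.deg q)).gr (F.deg q b₀) := by
    intro b
    rw [hv]
    by_cases hb : b = b₀
    · subst hb
      rw [Pi.single_eq_same, sub_self]
      exact SetLike.GradedOne.one_mem
    · rw [Pi.single_eq_of_ne hb]
      exact zero_mem _
  have hy := hgen _ hlt (φ v) (hL.1 _ v hvgr)
  have hmap : (a.toIdeal • (⊤ : Submodule R C.carrier)) =
      (a.toIdeal • (⊤ : Submodule R (ffG 𝒜 (F.deg q)).carrier)).map φ := by
    rw [Submodule.map_smul'', Submodule.map_top, LinearMap.range_eq_top.2 hL.2.1]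
  rw [hmap] at hy
  obtain ⟨u, hu, huv⟩ := hy
  have hcoord : ∀ w ∈ a.toIdeal • (⊤ : Submodule R (ffG 𝒜 (F.deg q)).carrier),
      ∀ b, (w : Fin (F.rk q) → R) b ∈ a.toIdeal := by
    intro w hw
    refine Submodule.smul_induction_on hw ?_ ?_
    · intro r hr n _ b
      show r * (n : Fin (F.rk q) → R) b ∈ a.toIdeal
      exact Ideal.mul_mem_right _ _ hr
    · intro x y hx hy' b
      exact a.toIdeal.add_mem (hx b) (hy' b)
  have hker : v - u ∈ Zq F q := by
    rw [← hL.2.2, LinearMap.mem_ker, map_sub, huv, sub_self]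
  obtain ⟨t, ht⟩ := hker
  have hrange : ((v - u : (ffG 𝒜 (F.deg q)).carrier) : Fin (F.rk q) → R) b₀ ∈ a.toIdeal := by
    rw [← ht]
    show (Matrix.mulVecLin (F.d q) t) b₀ ∈ a.toIdeal
    simp only [Matrix.mulVecLin_apply, Matrix.mulVec, dotProduct]
    exact Ideal.sum_mem _ (fun c _ => Ideal.mul_mem_right _ _ (hmin q b₀ c))
  have h1 : (v : Fin (F.rk q) → R) b₀ ∈ a.toIdeal := by
    have h2 := a.toIdeal.add_mem hrange (hcoord u hu b₀)
    have h3 : ((v - u : (ffG 𝒜 (F.deg q)).carrier) : Fin (F.rk q) → R) b₀ +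
        (u : Fin (F.rk q) → R) b₀ = (v : Fin (F.rk q) → R) b₀ := by
      show (v - u + u : Fin (F.rk q) → R) b₀ = _
      rw [sub_add_cancel]
    rwa [h3] at h2
  rw [hv, Pi.single_eq_same] at h1
  exact h1a h1

end Steps

section Main

variable (a : HomogeneousIdeal 𝒜)
  (P : ℕ) (hP1 : ∀ i, i ≠ P → ∀ j, HV a (GrLC.GMod.of 𝒜 R 𝒜) i j)
  (hP2 : ∀ j : ℤ, -(P : ℤ) < j → HV a (GrLC.GMod.of 𝒜 R 𝒜) P j)
  (hP3 : ∀ (A : GrLC.GMod.{u} 𝒜) (i : ℕ), P < i → ∀ j, HV a A i j)

include hP1 hP2 in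
theorem hv_ff {n : ℕ} (dg : Fin n → ℤ) (i : ℕ) (j : ℤ) (hj : i = P → ∀ b, dg b - P < j) :
    HV a (ffG 𝒜 dg) i j := by
  refine hv_free 𝒜 dg a i j (fun b => ?_)
  by_cases hi : i = P
  · subst hi
    refine hP2 _ ?_
    have := hj rfl b
    omega
  · exact hP1 i hi _

include hP1 hP2 hP3 in
/-- generator degrees `≤ d + i` imply the vanishing of graded local cohomology above the
diagonal `d - i` -/
theorem lc_of_isGenLE (d : ℤ) (hF : F.IsGenLE d) :
    ∀ (p q : ℕ) (C : GrLC.GMod.{u} 𝒜) (φ : (ffG 𝒜 (F.deg q)).carrier →ₗ[R] C.carrier),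
      Lev F q C φ → ∀ i : ℕ, P + 1 ≤ i + p → ∀ j : ℤ, d + q - i < j → HV a C i j := by
  intro p
  induction p with
  | zero =>
    intro q C φ _ i hi j _
    exact hP3 C i (by omega) j
  | succ p ih =>
    intro q C φ hL i hi j hj
    by_cases hPi : P < i
    · exact hP3 C i hPi j
    · refine lev_right hL a i j ?_ ?_
      · refine hv_ff a P hP1 hP2 (F.deg q) i j (fun hiP b => ?_)
        have h1 := hF q b
        subst hiP
        omega
      · obtain ⟨φ', hL'⟩ := exists_lev_succ F q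
        refine ih (q + 1) (SyzG F q) φ' hL' (i + 1) (by omega) j ?_
        push_cast
        omega

variable (hhom : a.toIdeal = Ideal.span ((𝒜 1 : AddSubgroup R) : Set R)) (hP0 : 1 ≤ P)
  (h1a : (1 : R) ∉ a.toIdeal)

include hP1 hP2 hhom hP0 h1a in
/-- for a minimal resolution, vanishing of graded local cohomology above the diagonals bounds
the generator degrees -/
theorem isGenLE_of_lc (d : ℤ) (hmin : F.IsMinimal a.toIdeal) :
    ∀ (p q q' : ℕ), q' = q + p → ∀ (C : GrLC.GMod.{u} 𝒜)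
      (φ : (ffG 𝒜 (F.deg q)).carrier →ₗ[R] C.carrier), Lev F q C φ →
      (∀ (i : ℕ) (j : ℤ), d + q - i < j → HV a C i j) →
      ∀ b : Fin (F.rk q'), F.deg q' b ≤ d + q' := by
  have U0 : ∀ (q : ℕ) (C : GrLC.GMod.{u} 𝒜)
      (φ : (ffG 𝒜 (F.deg q)).carrier →ₗ[R] C.carrier), Lev F q C φ →
      (∀ (i : ℕ) (j : ℤ), d + q - i < j → HV a C i j) → ∀ b, F.deg q b ≤ d + q := by
    intro q C φ hL hreg
    refine deg_le_of_gen hL a hmin h1a (d + q) (fun n hn => ?_)
    exact gen_step a hhom C n (fun i => hreg i (n - i) (by omega))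
  intro p
  induction p with
  | zero =>
    intro q q' hq' C φ hL hreg
    have e : q' = q := by omega
    subst e
    exact U0 q' C φ hL hreg
  | succ p ih =>
    intro q q' hq' C φ hL hreg
    have hdeg := U0 q C φ hL hreg
    obtain ⟨φ', hL'⟩ := exists_lev_succ F q
    refine ih (q + 1) q' (by omega) (SyzG F q) φ' hL' ?_
    intro i j hj
    have hj' : d + (q : ℤ) + 1 - i < j := by
      push_cast at hj
      omega
    cases i with
    | zero =>
      refine lev_zero a j ?_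
      exact hv_ff a P hP1 hP2 (F.deg q) 0 j (fun h0 => by omega)
    | succ i =>
      refine lev_left hL a i j (hreg i j ?_) ?_
      · push_cast at hj'
        omega
      · refine hv_ff a P hP1 hP2 (F.deg q) (i + 1) j (fun hiP b => ?_)
        have h1 := hdeg b
        push_cast at hj'
        have h2 : ((i + 1 : ℕ) : ℤ) = (P : ℤ) := by exact_mod_cast hiP
        push_cast at h2
        omega

end Main

end EG

end Groth.Agent.H98.GrCat
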