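import Groth.Agent.H98.GrArt
import Mathlib.LinearAlgebra.FreeModule.Finite.Basic
import Mathlib.LinearAlgebra.Pi

/-!
# Helper library (helper98): embedding an Artinian graded module in a finite sum of shifted copies of
the graded dual of `R`.
-/

set_option autoImplicit false
universe u
open scoped TensorProduct

namespace Groth.Agent.H98

section Emb

variable {k : Type u} [Field k] {R : Type u} [CommRing R] [Algebra k R]
  (𝒜 : ℤ → Submodule k R) [GradedAlgebra 𝒜]
  {M : Type u} [AddCommGroup M] [Module R M] [Module k M] [IsScalarTower k R M]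
  (ℳ : ℤ → AddSubgroup M) [DirectSum.Decomposition ℳ] [SetLike.GradedSMul 𝒜 ℳ]
  {D : Type u} [AddCommGroup D] [Module R D] [Module k D] [IsScalarTower k R D]
  (𝒟 : ℤ → AddSubgroup D) [DirectSum.Decomposition 𝒟] [SetLike.GradedSMul 𝒜 𝒟]
  {β : D →ₗ[k] R →ₗ[k] k}

/-- graded maps (of degree `s`) into the graded dual of `R` from functionals supported in
degree `-s`. -/
theorem exists_grHom_of_functional (hD : GrSeg.IsGDual R 𝒜 𝒟 β) (lam : M →ₗ[k] k) (s : ℤ)
    (hlam : ∀ i, i ≠ -s → ∀ x ∈ ℳ i, lam x = 0) :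
    ∃ f : M →ₗ[R] D, (∀ g x, x ∈ ℳ g → f x ∈ 𝒟 (g + s)) ∧ ∀ x r, β (f x) r = lam (r • x) := by
  classical
  have hhom : ∀ (i : ℤ) (b : M), b ∈ ℳ i →
      ∃ d ∈ 𝒟 (i + s), ∀ r : R, β d r = lam (r • b) := by
    intro i b hb
    obtain ⟨d, hd, hdφ⟩ := gdual_exists_rep_left hD (n := i + s) (j := -(i + s)) rfl
      (lam ∘ₗ ((LinearMap.toSpanSingleton R M b).restrictScalars k)) (by
        intro j hj r hr
        change lam (r • b) = 0
        exact hlam (j + i) (by omega) _ (gsmul_mem 𝒜 ℳ hr hb))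
    exact ⟨d, hd, fun r => hdφ r⟩
  have hex : ∀ b : M, ∃ d : D, ∀ r : R, β d r = lam (r • b) := by
    intro b
    induction b using DirectSum.Decomposition.inductionOn ℳ with
    | zero => exact ⟨0, fun r => by simp⟩
    | @homogeneous i b =>
      obtain ⟨d, _, hd⟩ := hhom i b b.2
      exact ⟨d, hd⟩
    | add b b' hb hb' =>
      obtain ⟨d, hd⟩ := hb
      obtain ⟨d', hd'⟩ := hb'
      exact ⟨d + d', fun r => by rw [map_add, LinearMap.add_apply, hd, hd', smul_add, map_add]⟩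
  choose h0 hh0 using hex
  let h : M →ₗ[R] D :=
    { toFun := h0
      map_add' := fun b b' => gdual_ext_left hD (fun r => by
        rw [hh0, map_add, LinearMap.add_apply, hh0, hh0, smul_add, map_add])
      map_smul' := fun s b => gdual_ext_left hD (fun r => by
        rw [RingHom.id_apply, hh0, hD.map_smul, hh0, smul_eq_mul, smul_smul, mul_comm]) }
  have hh : ∀ b, h b = h0 b := fun _ => rfl
  refine ⟨h, ?_, fun x r => hh0 x r⟩
  intro i b hb
  obtain ⟨d, hd, hdr⟩ := hhom i b hb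
  have : h b = d := gdual_ext_left hD (fun r => by rw [hh, hh0, hdr])
  rw [this]; exact hd

omit [Module k M] [IsScalarTower k R M] in
/-- the socle of `M` with respect to the ideal `I`. -/
def socSub (I : Ideal R) : Submodule R M where
  carrier := {y | ∀ s ∈ I, s • y = 0}
  add_mem' := by
    intro x y hx hy s hs
    rw [smul_add, hx s hs, hy s hs, add_zero]
  zero_mem' := by
    intro s _
    exact smul_zero s
  smul_mem' := by
    intro r y hy s hs
    rw [smul_comm, hy s hs, smul_zero]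

omit [Module k M] [IsScalarTower k R M] in
theorem mem_socSub_of_hom (I : Ideal R)
    (hI : I = Ideal.span (⋃ n ∈ Set.Ioi (0 : ℤ), (𝒜 n : Set R))) {x : M}
    (hall : ∀ (a : ℤ), 0 < a → ∀ s ∈ 𝒜 a, s • x = 0) : x ∈ socSub (M := M) I := by
  have hkill : ∀ s : R, s ∈ Submodule.span R (⋃ n ∈ Set.Ioi (0 : ℤ), (𝒜 n : Set R)) →
      s • x = 0 := by
    intro s hs'
    induction hs' using Submodule.span_induction with
    | mem s hs =>
      simp only [Set.mem_iUnion, Set.mem_Ioi, SetLike.mem_coe, exists_prop] at hs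
      obtain ⟨a, ha, hsa⟩ := hs
      exact hall a ha s hsa
    | zero => exact zero_smul _ _
    | add s s' _ _ h h' => rw [add_smul, h, h', add_zero]
    | smul c s _ h => rw [smul_eq_mul, mul_smul, h, smul_zero]
  intro s hs
  rw [hI] at hs
  exact hkill s hs

omit [Module k M] [IsScalarTower k R M] in
/-- in a graded module bounded above, every nonzero element has a nonzero multiple in the socle. -/
theorem exists_smul_mem_socSub (hpos : ∀ n : ℤ, n < 0 → 𝒜 n = ⊥) (I : Ideal R)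
    (hI : I = Ideal.span (⋃ n ∈ Set.Ioi (0 : ℤ), (𝒜 n : Set R))) (n1 : ℤ)
    (hn1 : ∀ n, n1 ≤ n → ∀ x ∈ ℳ n, x = 0) (x : M) (hx : x ≠ 0) :
    ∃ r : R, r • x ≠ 0 ∧ r • x ∈ socSub (M := M) I := by
  classical
  have key : ∀ (t : ℕ) (g0 : ℤ), n1 ≤ g0 + t → ∀ x ∈ geSub 𝒜 ℳ hpos g0, x ≠ 0 →
      ∃ r : R, r • x ≠ 0 ∧ r • x ∈ socSub (M := M) I := by
    intro t
    induction t with
    | zero =>
      intro g0 hg0 x hxge hx0
      exfalso
      apply hx0
      refine eq_zero_of_comp_eq_zero ℳ (fun j => ?_)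
      by_cases hj : j < g0
      · exact hxge j hj
      · exact hn1 j (by push_cast at hg0; omega) _ (SetLike.coe_mem _)
    | succ t ih =>
      intro g0 hg0 x hxge hx0
      by_cases hall : ∀ (a : ℤ), 0 < a → ∀ s ∈ 𝒜 a, s • x = 0
      · exact ⟨1, by rwa [one_smul], by rw [one_smul]; exact mem_socSub_of_hom 𝒜 I hI hall⟩
      · push_neg at hall
        obtain ⟨a, ha, s, hs, hsx⟩ := hall
        have hge : s • x ∈ geSub 𝒜 ℳ hpos (g0 + a) := by
          intro j hj
          rw [comp_smul_eq 𝒜 ℳ hs (show j = a + (j - a) by ring) x, hxge (j - a) (by omega),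
            smul_zero]
        obtain ⟨r', hr', hr'soc⟩ := ih (g0 + a) (by push_cast at hg0 ⊢; omega) (s • x) hge hsx
        exact ⟨r' * s, by rwa [mul_smul], by rw [mul_smul]; exact hr'soc⟩
  obtain ⟨b, hb⟩ := Finset.exists_le
    ((DirectSum.decompose ℳ x).support.image (fun j : ℤ => -j))
  have hxge : x ∈ geSub 𝒜 ℳ hpos (-b) := by
    intro j hj
    by_contra hne
    have hsup : j ∈ (DirectSum.decompose ℳ x).support := by
      rw [DFinsupp.mem_support_iff]
      intro h
      apply hne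
      rw [h]; rfl
    have h1 := hb _ (Finset.mem_image.mpr ⟨j, hsup, rfl⟩)
    omega
  exact key (Int.toNat (n1 - (-b))) (-b) (by have := Int.self_le_toNat (n1 - (-b)); omega) x hxge hx

omit [Module k M] [IsScalarTower k R M] in
/-- the socle is a homogeneous submodule. -/
theorem socSub_comp_mem (I : Ideal R)
    (hI : I = Ideal.span (⋃ n ∈ Set.Ioi (0 : ℤ), (𝒜 n : Set R))) {y : M}
    (hy : y ∈ socSub (M := M) I) (g : ℤ) :
    ((DirectSum.decompose ℳ y g : ℳ g) : M) ∈ socSub (M := M) I := by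
  classical
  apply mem_socSub_of_hom 𝒜 I hI
  intro a ha s hs
  have hsI : s ∈ I := by
    rw [hI]; exact Ideal.subset_span (Set.mem_biUnion (Set.mem_Ioi.mpr ha) hs)
  rw [← comp_smul_eq 𝒜 ℳ hs (rfl : a + g = a + g) y, hy s hsI]
  simp

/-- the socle of an Artinian graded module is finite-dimensional. -/
theorem socSub_finite (hpos : ∀ n : ℤ, n < 0 → 𝒜 n = ⊥)
    (h0 : 𝒜 0 = Submodule.span k {(1 : R)}) (I : Ideal R)
    (hI : I = Ideal.span (⋃ n ∈ Set.Ioi (0 : ℤ), (𝒜 n : Set R))) [IsArtinian R M] :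
    Module.Finite k ((socSub (M := M) I).restrictScalars k) := by
  classical
  have hsm : ∀ (r : R) (y : M), y ∈ socSub (M := M) I → ∃ c : k, r • y = c • y := by
    intro r y hy
    obtain ⟨c, hc⟩ := exists_sub_mem_irr 𝒜 hpos h0 r
    rw [← hI] at hc
    refine ⟨c, ?_⟩
    have := hy _ hc
    rwa [sub_smul, smul_assoc, one_smul, sub_eq_zero] at this
  let Λ : Submodule k ((socSub (M := M) I).restrictScalars k) → Submodule R M := fun W =>
    { carrier := {y | ∃ w ∈ W, (w : M) = y}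
      add_mem' := by
        rintro _ _ ⟨w, hw, rfl⟩ ⟨w', hw', rfl⟩
        exact ⟨w + w', W.add_mem hw hw', rfl⟩
      zero_mem' := ⟨0, W.zero_mem, rfl⟩
      smul_mem' := by
        rintro r _ ⟨w, hw, rfl⟩
        obtain ⟨c, hc⟩ := hsm r (w : M) w.2
        exact ⟨c • w, W.smul_mem c hw, by rw [hc]; rfl⟩ }
  have hmono : StrictMono Λ := by
    intro W W' hlt
    refine lt_of_le_of_ne ?_ ?_
    · rintro _ ⟨w, hw, rfl⟩
      exact ⟨w, hlt.le hw, rfl⟩
    · intro heq
      obtain ⟨w, hwW', hwW⟩ := SetLike.exists_of_lt hlt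
      have hmem : (w : M) ∈ Λ W' := ⟨w, hwW', rfl⟩
      rw [← heq] at hmem
      obtain ⟨w', hw'W, hw'⟩ := hmem
      have : w' = w := Subtype.ext hw'
      exact hwW (this ▸ hw'W)
  haveI : IsArtinian k ((socSub (M := M) I).restrictScalars k) := hmono.wellFoundedLT
  exact finite_of_isArtinian_field _

/-- An Artinian graded module embeds in a finite direct sum of shifted copies of the graded dual
of `R`. -/
theorem exists_embedding_of_isArtinian (hpos : ∀ n : ℤ, n < 0 → 𝒜 n = ⊥)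
    (h0 : 𝒜 0 = Submodule.span k {(1 : R)}) (hD : GrSeg.IsGDual R 𝒜 𝒟 β) [IsArtinian R M] :
    ∃ (t : ℕ) (sh : Fin t → ℤ) (f : M →ₗ[R] (Fin t → D)), Function.Injective f ∧
      ∀ (i : Fin t) (g : ℤ) (x : M), x ∈ ℳ g → f x i ∈ 𝒟 (g + sh i) := by
  classical
  obtain ⟨n1, hn1⟩ := exists_bound_above_of_isArtinian 𝒜 ℳ hpos
  haveI hVfin : Module.Finite k ((socSub (M := M)
      (Ideal.span (⋃ n ∈ Set.Ioi (0 : ℤ), (𝒜 n : Set R)))).restrictScalars k) :=
    socSub_finite 𝒜 hpos h0 _ rfl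
  let b := Module.finBasis k ((socSub (M := M)
      (Ideal.span (⋃ n ∈ Set.Ioi (0 : ℤ), (𝒜 n : Set R)))).restrictScalars k)
  have hext : ∀ i, ∃ μ : M →ₗ[k] k, μ ∘ₗ ((socSub (M := M)
      (Ideal.span (⋃ n ∈ Set.Ioi (0 : ℤ), (𝒜 n : Set R)))).restrictScalars k).subtype = b.coord i :=
    fun i => LinearMap.exists_extend (b.coord i)
  choose μ hμ using hext
  let G : Finset ℤ := Finset.univ.biUnion
    (fun i => (DirectSum.decompose ℳ ((b i : _) : M)).support)
  let lam : (Fin (Module.finrank k ((socSub (M := M)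
      (Ideal.span (⋃ n ∈ Set.Ioi (0 : ℤ), (𝒜 n : Set R)))).restrictScalars k)) × G) → (M →ₗ[k] k) :=
    fun p => (μ p.1) ∘ₗ (gproj (subPiece 𝒜 ℳ) (p.2 : ℤ))
  have hlam : ∀ p i, i ≠ -(-(p.2 : ℤ)) → ∀ x ∈ ℳ i, lam p x = 0 := by
    intro p i hi x hx
    change μ p.1 (gproj (subPiece 𝒜 ℳ) (p.2 : ℤ) x) = 0
    rw [gproj_of_mem_ne (subPiece 𝒜 ℳ) (show x ∈ subPiece 𝒜 ℳ i from hx) (by omega), map_zero]
  have hF : ∀ p, ∃ f : M →ₗ[R] D, (∀ g x, x ∈ ℳ g → f x ∈ 𝒟 (g + (-(p.2 : ℤ)))) ∧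
      ∀ x r, β (f x) r = lam p (r • x) :=
    fun p => exists_grHom_of_functional 𝒜 ℳ 𝒟 hD (lam p) (-(p.2 : ℤ)) (hlam p)
  choose F hFgr hFβ using hF
  let e := Fintype.equivFin (Fin (Module.finrank k ((socSub (M := M)
      (Ideal.span (⋃ n ∈ Set.Ioi (0 : ℤ), (𝒜 n : Set R)))).restrictScalars k)) × G)
  refine ⟨_, fun j => -((e.symm j).2 : ℤ), LinearMap.pi (fun j => F (e.symm j)), ?_, ?_⟩
  · rw [← LinearMap.ker_eq_bot, LinearMap.ker_eq_bot']
    intro x hx
    by_contra hx0
    obtain ⟨r, hrx, hrsoc⟩ := exists_smul_mem_socSub 𝒜 ℳ hpos _ rfl n1 hn1 x hx0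
    obtain ⟨g, hg⟩ : ∃ g, ((DirectSum.decompose ℳ (r • x) g : ℳ g) : M) ≠ 0 := by
      by_contra hall
      push_neg at hall
      exact hrx (eq_zero_of_comp_eq_zero ℳ hall)
    have hyg_soc := socSub_comp_mem 𝒜 ℳ _ rfl hrsoc g
    let v : ((socSub (M := M)
      (Ideal.span (⋃ n ∈ Set.Ioi (0 : ℤ), (𝒜 n : Set R)))).restrictScalars k) := ⟨_, hyg_soc⟩
    have hvM : (v : M) = ((DirectSum.decompose ℳ (r • x) g : ℳ g) : M) := rfl
    have hv0 : v ≠ 0 := fun h => hg (by rw [← hvM, h]; rfl)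
    obtain ⟨i, hi⟩ : ∃ i, b.coord i v ≠ 0 := by
      by_contra hall
      push_neg at hall
      exact hv0 ((b.forall_coord_eq_zero_iff).mp hall)
    have hgG : g ∈ G := by
      by_contra hgG
      apply hv0
      have hsum : (v : M) = ∑ i, (b.repr v i) • ((b i : _) : M) := by
        have h := congrArg (Subtype.val) (b.sum_repr v)
        simp only [AddSubmonoidClass.coe_finset_sum, SetLike.val_smul] at h
        exact h.symm
      have hcomp : ∀ i, gproj (subPiece 𝒜 ℳ) g ((b i : _) : M) = 0 := by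
        intro i
        by_contra hne
        apply hgG
        refine Finset.mem_biUnion.mpr ⟨i, Finset.mem_univ _, ?_⟩
        rw [DFinsupp.mem_support_iff]
        intro h
        apply hne
        rw [gproj_apply, subDecomp_apply, h]
        rfl
      have h1 : gproj (subPiece 𝒜 ℳ) g (v : M) = (v : M) :=
        gproj_of_mem_same _ (show (v : M) ∈ subPiece 𝒜 ℳ g from
          SetLike.coe_mem (DirectSum.decompose ℳ (r • x) g))
      have h2 : gproj (subPiece 𝒜 ℳ) g (v : M) = 0 := by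
        rw [hsum, map_sum]
        exact Finset.sum_eq_zero (fun i _ => by rw [map_smul, hcomp i, smul_zero])
      exact Subtype.ext (h1.symm.trans h2)
    have hx' : F (i, ⟨g, hgG⟩) x = 0 := by
      have h1 := congrFun hx (e (i, ⟨g, hgG⟩))
      simpa using h1
    have h3 : lam (i, ⟨g, hgG⟩) (r • x) = 0 := by
      rw [← hFβ, hx', map_zero, LinearMap.zero_apply]
    apply hi
    have h4 : lam (i, ⟨g, hgG⟩) (r • x) = b.coord i v := by
      change μ i (gproj (subPiece 𝒜 ℳ) g (r • x)) = _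
      rw [← hμ i]
      rfl
    rw [← h4, h3]
  · intro j g x hx
    exact hFgr (e.symm j) g x hx

end Emb

end Groth.Agent.H98
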