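import Groth.Agent.H98.GrCof
import Mathlib.LinearAlgebra.Span.Basic
import Mathlib.LinearAlgebra.Prod

/-!
# Helper library (helper98): *essential extensions inside a graded module, maximal *essential
extensions (Zorn), complements in *injective modules.
-/

set_option autoImplicit false
universe u

open DirectSum

namespace Groth.Agent.H98.GrCat

variable {ι : Type} [AddCommGroup ι] [DecidableEq ι]
variable {R : Type u} [CommRing R] (𝒜 : ι → AddSubgroup R) [GradedRing 𝒜]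
variable {I : Type u} [AddCommGroup I] [Module R I] (ℐ : ι → AddSubgroup I)
  [DirectSum.Decomposition ℐ] [SetLike.GradedSMul 𝒜 ℐ]

section Hom

omit [Module R I] in
theorem exists_homogeneous_mem {σ : Type*} [SetLike σ I] [AddSubmonoidClass σ I] (P : σ)
    (hP : SetLike.IsHomogeneous ℐ P) (hne : ∃ p ∈ P, p ≠ 0) :
    ∃ g, ∃ p ∈ P, p ∈ ℐ g ∧ p ≠ 0 := by
  obtain ⟨p, hp, hp0⟩ := hne
  obtain ⟨g, hg⟩ := exists_comp_ne_zero ℐ hp0
  exact ⟨g, _, hP g hp, SetLike.coe_mem _, hg⟩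

omit [GradedRing 𝒜] [SetLike.GradedSMul 𝒜 ℐ] in
theorem bot_isHomogeneous : (⊥ : Submodule R I).IsHomogeneous ℐ := by
  intro i x hx
  rw [(Submodule.mem_bot R).1 hx, decompose_zero, DirectSum.zero_apply, ZeroMemClass.coe_zero]
  exact zero_mem _

omit [GradedRing 𝒜] [SetLike.GradedSMul 𝒜 ℐ] in
theorem sup_isHomogeneous {P Q : Submodule R I} (hP : P.IsHomogeneous ℐ)
    (hQ : Q.IsHomogeneous ℐ) : (P ⊔ Q).IsHomogeneous ℐ := by
  intro i x hx
  obtain ⟨a, ha, b, hb, rfl⟩ := Submodule.mem_sup.1 hx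
  rw [decompose_add, DirectSum.add_apply, AddMemClass.coe_add]
  exact Submodule.add_mem_sup (hP i ha) (hQ i hb)

omit [GradedRing 𝒜] [SetLike.GradedSMul 𝒜 ℐ] in
theorem sSup_isHomogeneous {c : Set (Submodule R I)} (hne : c.Nonempty)
    (hdir : DirectedOn (· ≤ ·) c) (hc : ∀ Y ∈ c, Y.IsHomogeneous ℐ) :
    (sSup c).IsHomogeneous ℐ := by
  intro i x hx
  obtain ⟨Y, hY, hxY⟩ := (Submodule.mem_sSup_of_directed hne hdir).1 hx
  exact (le_sSup hY : Y ≤ sSup c) (hc Y hY i hxY)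

end Hom

/-- `X` is *essential over `N₀` (both inside the graded module `I`), in element form -/
def EssIn (N₀ X : Submodule R I) : Prop :=
  ∀ x ∈ X, ∀ g, x ∈ ℐ g → x ≠ 0 → ∃ r : R, r • x ∈ N₀ ∧ r • x ≠ 0

section Ess

variable {ℐ}
variable {N₀ X Y : Submodule R I}

omit [DecidableEq ι] [DirectSum.Decomposition ℐ] in
theorem essIn_self (N₀ : Submodule R I) : EssIn ℐ N₀ N₀ :=
  fun x hx _ _ h0 => ⟨1, by rwa [one_smul], by rwa [one_smul]⟩

omit [DecidableEq ι] [DirectSum.Decomposition ℐ] in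
theorem EssIn.mono (h : EssIn ℐ N₀ Y) (hXY : X ≤ Y) : EssIn ℐ N₀ X :=
  fun x hx g hg h0 => h x (hXY hx) g hg h0

include 𝒜 in
/-- homogeneous multiplier version -/
theorem EssIn.hom (h : EssIn ℐ N₀ X) (hN : N₀.IsHomogeneous ℐ) {x : I} (hx : x ∈ X) {g : ι}
    (hg : x ∈ ℐ g) (h0 : x ≠ 0) : ∃ c, ∃ r ∈ 𝒜 c, r • x ∈ N₀ ∧ r • x ≠ 0 := by
  obtain ⟨r, hr, hr0⟩ := h x hx g hg h0
  obtain ⟨d, hd⟩ := exists_comp_ne_zero ℐ hr0
  have hmem := hN d hr
  rw [comp_smul_hom 𝒜 ℐ hg r d] at hd hmem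
  exact ⟨d - g, _, SetLike.coe_mem _, hmem, hd⟩

include 𝒜 in
theorem EssIn.trans (h1 : EssIn ℐ N₀ X) (h2 : EssIn ℐ X Y) (hX : X.IsHomogeneous ℐ) :
    EssIn ℐ N₀ Y := by
  intro y hy g hg h0
  obtain ⟨c, r, hr, hrX, hr0⟩ := h2.hom 𝒜 hX hy hg h0
  obtain ⟨r', hr', hr'0⟩ := h1 (r • y) hrX (c + g) (gsmul_mem 𝒜 ℐ hr hg) hr0
  exact ⟨r' * r, by rwa [mul_smul], by rwa [mul_smul]⟩

omit [SetLike.GradedSMul 𝒜 ℐ] in
/-- the Prelude's form of essentiality follows from the element form -/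
theorem EssIn.inf_ne_bot (h : EssIn ℐ N₀ X) {P : Submodule R I} (hP : P.IsHomogeneous ℐ)
    (hPX : P ≤ X) (hne : P ≠ ⊥) : P ⊓ N₀ ≠ ⊥ := by
  obtain ⟨p, hp, hp0⟩ := Submodule.exists_mem_ne_zero_of_ne_bot hne
  obtain ⟨g, q, hq, hqg, hq0⟩ := exists_homogeneous_mem ℐ P hP ⟨p, hp, hp0⟩
  obtain ⟨r, hr, hr0⟩ := h q (hPX hq) g hqg hq0
  intro hbot
  apply hr0
  have : r • q ∈ P ⊓ N₀ := ⟨Submodule.smul_mem _ _ hq, hr⟩
  rw [hbot] at this
  exact (Submodule.mem_bot R).1 this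

include 𝒜 in
/-- *essential extensions are essential -/
theorem EssIn.all (h : EssIn ℐ N₀ X) (hN : N₀.IsHomogeneous ℐ) (hX : X.IsHomogeneous ℐ) :
    ∀ x ∈ X, x ≠ 0 → ∃ r : R, r • x ∈ N₀ ∧ r • x ≠ 0 := by
  classical
  have key : ∀ n : ℕ, ∀ x ∈ X, x ≠ 0 →
      (∃ s : Finset ι, s.card ≤ n ∧ ∀ j ∉ s, ((decompose ℐ x j : ℐ j) : I) = 0) →
      ∃ c, ∃ r ∈ 𝒜 c, r • x ∈ N₀ ∧ r • x ≠ 0 := by
    intro n
    induction n with
    | zero =>
      rintro x _ hx0 ⟨s, hs, hs0⟩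
      exfalso
      obtain ⟨g, hg⟩ := exists_comp_ne_zero ℐ hx0
      have : s = ∅ := Finset.card_eq_zero.1 (Nat.le_zero.1 hs)
      exact hg (hs0 g (by rw [this]; exact Finset.notMem_empty g))
    | succ n ih =>
      rintro x hx hx0 ⟨s, hs, hs0⟩
      obtain ⟨g, hg⟩ := exists_comp_ne_zero ℐ hx0
      have hgs : g ∈ s := by
        by_contra hgs
        exact hg (hs0 g hgs)
      obtain ⟨xg, hxg⟩ : ∃ xg : I, xg = ((decompose ℐ x g : ℐ g) : I) := ⟨_, rfl⟩
      have hxgX : xg ∈ X := hxg ▸ hX g hx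
      have hxgg : xg ∈ ℐ g := hxg ▸ SetLike.coe_mem _
      have hxg0 : xg ≠ 0 := hxg ▸ hg
      obtain ⟨c, r, hr, hrN, hr0⟩ := h.hom 𝒜 hN hxgX hxgg hxg0
      have hz : ∀ k, ((decompose ℐ (x - xg) k : ℐ k) : I) =
          if k = g then 0 else ((decompose ℐ x k : ℐ k) : I) := by
        intro k
        rw [decompose_sub, DirectSum.sub_apply, AddSubgroupClass.coe_sub]
        by_cases hk : k = g
        · subst hk
          rw [if_pos rfl, decompose_of_mem_same ℐ hxgg, hxg, sub_self]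
        · rw [if_neg hk, decompose_of_mem_ne ℐ hxgg (Ne.symm hk), sub_zero]
      by_cases hx' : r • (x - xg) = 0
      · refine ⟨c, r, hr, ?_, ?_⟩
        · have : r • x = r • xg := by
            rw [smul_sub, sub_eq_zero] at hx'
            exact hx'
          rw [this]; exact hrN
        · have : r • x = r • xg := by
            rw [smul_sub, sub_eq_zero] at hx'
            exact hx'
          rw [this]; exact hr0
      · have hx'X : r • (x - xg) ∈ X := Submodule.smul_mem _ _ (Submodule.sub_mem _ hx hxgX)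
        obtain ⟨c', r', hr', hr'N, hr'0⟩ := ih (r • (x - xg)) hx'X hx'
          ⟨(s.erase g).image (fun k => c + k), by
            refine Finset.card_image_le.trans ?_
            rw [Finset.card_erase_of_mem hgs]
            omega, by
            intro j hj
            rw [comp_smul 𝒜 ℐ hr j (x - xg), hz]
            by_cases hk : j - c = g
            · rw [if_pos hk, smul_zero]
            · rw [if_neg hk]
              have hks : j - c ∉ s := by
                intro hks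
                apply hj
                exact Finset.mem_image.2 ⟨j - c, Finset.mem_erase.2 ⟨hk, hks⟩, by abel⟩
              rw [hs0 _ hks, smul_zero]⟩
        refine ⟨c' + c, r' * r, SetLike.mul_mem_graded hr' hr, ?_, ?_⟩
        · have : (r' * r) • x = r' • (r • (x - xg)) + r' • (r • xg) := by
            rw [← smul_add, ← smul_add, sub_add_cancel, mul_smul]
          rw [this]
          exact Submodule.add_mem _ hr'N (Submodule.smul_mem _ _ hrN)
        · intro hzero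
          apply hr'0
          have hsum : r' • (r • (x - xg)) + (r' * r) • xg = 0 := by
            rw [mul_smul, ← smul_add, ← smul_add, sub_add_cancel, ← mul_smul]
            exact hzero
          have hw : r' • (r • (x - xg)) = -((r' * r) • xg) := eq_neg_of_add_eq_zero_left hsum
          have hwmem : r' • (r • (x - xg)) ∈ ℐ (c' + c + g) := by
            rw [hw]
            exact neg_mem (gsmul_mem 𝒜 ℐ (SetLike.mul_mem_graded hr' hr) hxgg)
          have h1 := decompose_of_mem_same ℐ hwmem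
          rw [← mul_smul, comp_smul 𝒜 ℐ (SetLike.mul_mem_graded hr' hr) (c' + c + g) (x - xg),
            hz, if_pos (by abel), smul_zero] at h1
          rw [← mul_smul]
          exact h1.symm
  intro x hx hx0
  obtain ⟨c, r, _, hr, hr0⟩ := key (decompose ℐ x).support.card x hx hx0
    ⟨(decompose ℐ x).support, le_rfl, fun j hj => by
      rw [DFinsupp.notMem_support_iff.1 hj]; rfl⟩
  exact ⟨r, hr, hr0⟩

end Ess

section Zorn

variable {ℐ}

include 𝒜 in
omit [GradedRing 𝒜] [SetLike.GradedSMul 𝒜 ℐ] in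
/-- maximal *essential extensions inside `I` exist -/
theorem exists_maximal_ess (N₀ : Submodule R I) (hN : N₀.IsHomogeneous ℐ) :
    ∃ X : Submodule R I, N₀ ≤ X ∧ X.IsHomogeneous ℐ ∧ EssIn ℐ N₀ X ∧
      ∀ Y : Submodule R I, X ≤ Y → Y.IsHomogeneous ℐ → EssIn ℐ N₀ Y → Y = X := by
  have ih : ∀ c ⊆ {X : Submodule R I | N₀ ≤ X ∧ X.IsHomogeneous ℐ ∧ EssIn ℐ N₀ X},
      IsChain (· ≤ ·) c → ∀ y ∈ c,
      ∃ ub ∈ {X : Submodule R I | N₀ ≤ X ∧ X.IsHomogeneous ℐ ∧ EssIn ℐ N₀ X},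
        ∀ z ∈ c, z ≤ ub := by
    intro c hcS hc y hy
    refine ⟨sSup c, ⟨(hcS hy).1.trans (le_sSup hy),
      sSup_isHomogeneous ℐ ⟨y, hy⟩ hc.directedOn (fun Y hY => (hcS hY).2.1), ?_⟩,
      fun z hz => le_sSup hz⟩
    intro x hx g hg h0
    obtain ⟨Y, hY, hxY⟩ := (Submodule.mem_sSup_of_directed ⟨y, hy⟩ hc.directedOn).1 hx
    exact (hcS hY).2.2 x hxY g hg h0
  obtain ⟨X, hNX, hXS, hXmax⟩ := zorn_le_nonempty₀
    {X : Submodule R I | N₀ ≤ X ∧ X.IsHomogeneous ℐ ∧ EssIn ℐ N₀ X} ih N₀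
    ⟨le_rfl, hN, essIn_self N₀⟩
  exact ⟨X, hXS.1, hXS.2.1, hXS.2.2, fun Y hXY hY hess =>
    le_antisymm (hXmax ⟨hXS.1.trans hXY, hY, hess⟩ hXY) hXY⟩

omit 𝒜 [GradedRing 𝒜] [SetLike.GradedSMul 𝒜 ℐ] in
/-- maximal homogeneous submodules disjoint from `X` exist -/
theorem exists_maximal_disjoint (X : Submodule R I) :
    ∃ Q : Submodule R I, Q.IsHomogeneous ℐ ∧ Q ⊓ X = ⊥ ∧
      ∀ Q' : Submodule R I, Q ≤ Q' → Q'.IsHomogeneous ℐ → Q' ⊓ X = ⊥ → Q' = Q := by
  have ih : ∀ c ⊆ {Q : Submodule R I | Q.IsHomogeneous ℐ ∧ Q ⊓ X = ⊥},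
      IsChain (· ≤ ·) c → ∀ y ∈ c,
      ∃ ub ∈ {Q : Submodule R I | Q.IsHomogeneous ℐ ∧ Q ⊓ X = ⊥}, ∀ z ∈ c, z ≤ ub := by
    intro c hcS hc y hy
    refine ⟨sSup c, ⟨sSup_isHomogeneous ℐ ⟨y, hy⟩ hc.directedOn (fun Y hY => (hcS hY).1), ?_⟩,
      fun z hz => le_sSup hz⟩
    rw [Submodule.eq_bot_iff]
    rintro x ⟨hx, hxX⟩
    obtain ⟨Y, hY, hxY⟩ := (Submodule.mem_sSup_of_directed ⟨y, hy⟩ hc.directedOn).1 hx
    have : x ∈ Y ⊓ X := ⟨hxY, hxX⟩
    rw [(hcS hY).2] at this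
    exact (Submodule.mem_bot R).1 this
  obtain ⟨Q, _, hQS, hQmax⟩ := zorn_le_nonempty₀
    {Q : Submodule R I | Q.IsHomogeneous ℐ ∧ Q ⊓ X = ⊥} ih ⊥
    ⟨bot_isHomogeneous ℐ, bot_inf_eq X⟩
  exact ⟨Q, hQS.1, hQS.2, fun Q' hQQ' hQ' hdis =>
    le_antisymm (hQmax ⟨hQ', hdis⟩ hQQ') hQQ'⟩

end Zorn

section Proj

omit [DecidableEq ι] in
/-- the projection onto a direct summand -/
theorem exists_proj (X Q : Submodule R I) (hd : X ⊓ Q = ⊥) (hcod : X ⊔ Q = ⊤) :
    ∃ p : I →ₗ[R] X, (∀ x : X, p x = x) ∧ (∀ y, y - p y ∈ Q) := by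
  have hinj : Function.Injective (X.subtype.coprod Q.subtype) := by
    refine (injective_iff_map_eq_zero _).2 ?_
    rintro ⟨x, q⟩ h
    rw [LinearMap.coprod_apply] at h
    have hx : (x : I) ∈ X ⊓ Q := by
      refine ⟨x.2, ?_⟩
      have : (x : I) = -(q : I) := eq_neg_of_add_eq_zero_left h
      rw [this]
      exact neg_mem q.2
    rw [hd] at hx
    have hx0 : (x : I) = 0 := (Submodule.mem_bot R).1 hx
    have hq0 : (q : I) = 0 := by
      change (x : I) + (q : I) = 0 at h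
      rwa [hx0, zero_add] at h
    exact Prod.ext (Subtype.ext hx0) (Subtype.ext hq0)
  have hsurj : Function.Surjective (X.subtype.coprod Q.subtype) := by
    intro y
    have hy : y ∈ X ⊔ Q := hcod ▸ Submodule.mem_top
    obtain ⟨a, ha, b, hb, rfl⟩ := Submodule.mem_sup.1 hy
    exact ⟨(⟨a, ha⟩, ⟨b, hb⟩), rfl⟩
  let e := LinearEquiv.ofBijective (X.subtype.coprod Q.subtype) ⟨hinj, hsurj⟩
  refine ⟨(LinearMap.fst R X Q).comp e.symm.toLinearMap, fun x => ?_, fun y => ?_⟩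
  · have : e.symm (x : I) = (x, 0) := by
      rw [LinearEquiv.symm_apply_eq]
      show (x : I) = (x : I) + ((0 : Q) : I)
      rw [ZeroMemClass.coe_zero, add_zero]
    rw [LinearMap.comp_apply, LinearEquiv.coe_coe, this]
    rfl
  · have h1 : y = ((e.symm y).1 : I) + ((e.symm y).2 : I) := by
      conv_lhs => rw [← e.apply_symm_apply y]
      rfl
    have h2 : y - ((e.symm y).1 : I) = ((e.symm y).2 : I) := by
      rw [sub_eq_iff_eq_add']
      exact h1
    show y - (((LinearMap.fst R X Q).comp e.symm.toLinearMap) y : I) ∈ Q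
    rw [LinearMap.comp_apply, LinearEquiv.coe_coe, LinearMap.fst_apply, h2]
    exact SetLike.coe_mem _

end Proj

section Compl

variable {𝒜 ℐ}

/-- a homogeneous submodule of a *injective module without proper *essential extensions inside
it is a direct summand, with homogeneous complement -/
theorem exists_compl_of_maximal (hI : GrLC.IsStarInj 𝒜 ℐ) (X : Submodule R I)
    (hX : X.IsHomogeneous ℐ)
    (hmax : ∀ Y : Submodule R I, X ≤ Y → Y.IsHomogeneous ℐ → EssIn ℐ X Y → Y = X) :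
    ∃ Q : Submodule R I, Q.IsHomogeneous ℐ ∧ X ⊓ Q = ⊥ ∧ X ⊔ Q = ⊤ := by
  obtain ⟨Q, hQ, hQX, hQmax⟩ := exists_maximal_disjoint (ℐ := ℐ) X
  have hXQ : X ⊓ Q = ⊥ := by rw [inf_comm]; exact hQX
  -- the sum X ⊕ Q inside I
  have hinj : Function.Injective (X.subtype.coprod Q.subtype) := by
    refine (injective_iff_map_eq_zero _).2 ?_
    rintro ⟨x, q⟩ h
    rw [LinearMap.coprod_apply] at h
    have hx : (x : I) ∈ X ⊓ Q := by
      refine ⟨x.2, ?_⟩
      have : (x : I) = -(q : I) := eq_neg_of_add_eq_zero_left h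
      rw [this]
      exact neg_mem q.2
    rw [hXQ] at hx
    have hx0 : (x : I) = 0 := (Submodule.mem_bot R).1 hx
    have hq0 : (q : I) = 0 := by
      change (x : I) + (q : I) = 0 at h
      rwa [hx0, zero_add] at h
    exact Prod.ext (Subtype.ext hx0) (Subtype.ext hq0)
  obtain ⟨P, hPdef⟩ : ∃ P : Submodule R I, P = LinearMap.range (X.subtype.coprod Q.subtype) :=
    ⟨_, rfl⟩
  have hPmem : ∀ (x : X) (q : Q), (x : I) + (q : I) ∈ P := by
    intro x q
    rw [hPdef]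
    exact ⟨(x, q), rfl⟩
  have hP : P.IsHomogeneous ℐ := by
    rw [hPdef]
    rintro i _ ⟨⟨x, q⟩, rfl⟩
    rw [LinearMap.coprod_apply, decompose_add, DirectSum.add_apply, AddMemClass.coe_add]
    exact ⟨(⟨_, hX i x.2⟩, ⟨_, hQ i q.2⟩), rfl⟩
  -- the projection P → X ⊆ I
  obtain ⟨π, hπ⟩ : ∃ π : P →ₗ[R] I, ∀ (x : X) (q : Q) (h : (x : I) + (q : I) ∈ P),
      π ⟨(x : I) + (q : I), h⟩ = x := by
    subst hPdef
    let e := LinearEquiv.ofInjective (X.subtype.coprod Q.subtype) hinj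
    refine ⟨X.subtype.comp ((LinearMap.fst R X Q).comp e.symm.toLinearMap), fun x q h => ?_⟩
    have : e.symm ⟨(x : I) + (q : I), h⟩ = (x, q) := by
      rw [LinearEquiv.symm_apply_eq]
      exact Subtype.ext rfl
    rw [LinearMap.comp_apply, LinearMap.comp_apply, LinearEquiv.coe_coe, this]
    rfl
  have hπgr : GrLC.IsGrHom (subGr ℐ P) ℐ π := by
    intro g y hy
    have hyg : (y : I) ∈ ℐ g := hy
    have hyP : (y : I) ∈ LinearMap.range (X.subtype.coprod Q.subtype) := hPdef ▸ y.2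
    obtain ⟨⟨x, q⟩, hxq⟩ := hyP
    rw [LinearMap.coprod_apply] at hxq
    change (x : I) + (q : I) = (y : I) at hxq
    have hy' : y = ⟨(x : I) + (q : I), hPmem x q⟩ := Subtype.ext hxq.symm
    rw [hy', hπ x q]
    -- x = x_g
    have h1 := decompose_of_mem_same ℐ hyg
    rw [← hxq, decompose_add, DirectSum.add_apply, AddMemClass.coe_add] at h1
    have h2 : (X.subtype.coprod Q.subtype)
        ((⟨_, hX g x.2⟩ : X), (⟨_, hQ g q.2⟩ : Q)) = (X.subtype.coprod Q.subtype) (x, q) := h1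
    have h3 := congrArg Prod.fst (hinj h2)
    have h4 : ((decompose ℐ (x : I) g : ℐ g) : I) = (x : I) := congrArg Subtype.val h3
    rw [← h4]
    exact SetLike.coe_mem _
  obtain ⟨φ, hφgr', hφ⟩ : ∃ φ : I →ₗ[R] I, GrLC.IsGrHom ℐ ℐ φ ∧ ∀ y : P, φ (y : I) = π y := by
    obtain ⟨φ, hφgr, hφ⟩ := hI (subG 𝒜 ℐ P hP) (GrLC.GMod.of 𝒜 I ℐ) P.subtype
      (subtype_isGrHom ℐ P) P.injective_subtype π hπgr
    exact ⟨φ, hφgr, fun y => LinearMap.congr_fun hφ y⟩
  have hφX : ∀ x ∈ X, φ x = x := by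
    intro x hx
    have h1 : (⟨x, hx⟩ : X).1 + ((0 : Q) : I) ∈ P := hPmem ⟨x, hx⟩ 0
    have h2 : φ ((⟨x, hx⟩ : X).1 + ((0 : Q) : I)) = x :=
      (hφ ⟨_, h1⟩).trans (hπ ⟨x, hx⟩ 0 h1)
    rwa [ZeroMemClass.coe_zero, add_zero] at h2
  have hφQ : ∀ q ∈ Q, φ q = 0 := by
    intro q hq
    have h1 : ((0 : X) : I) + (⟨q, hq⟩ : Q).1 ∈ P := hPmem 0 ⟨q, hq⟩
    have h2 : φ (((0 : X) : I) + (⟨q, hq⟩ : Q).1) = ((0 : X) : I) :=
      (hφ ⟨_, h1⟩).trans (hπ 0 ⟨q, hq⟩ h1)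
    rwa [ZeroMemClass.coe_zero, zero_add] at h2
  -- the kernel of φ is Q
  have hK : LinearMap.ker φ = Q := by
    refine hQmax _ (fun q hq => LinearMap.mem_ker.2 (hφQ q hq)) (ker_isHomogeneous ℐ ℐ hφgr') ?_
    rw [Submodule.eq_bot_iff]
    rintro x ⟨hxK, hxX⟩
    rw [← hφX x hxX]
    exact LinearMap.mem_ker.1 hxK
  -- the range of φ is X
  have hY : LinearMap.range φ = X := by
    refine hmax _ (fun x hx => ⟨x, hφX x hx⟩) (range_isHomogeneous ℐ ℐ hφgr') ?_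
    rintro y ⟨z, rfl⟩ g hg h0
    obtain ⟨zg, hzg⟩ : ∃ zg : I, zg = ((decompose ℐ z g : ℐ g) : I) := ⟨_, rfl⟩
    have hzgg : zg ∈ ℐ g := hzg ▸ SetLike.coe_mem _
    have hφzg : φ zg = φ z := by
      rw [hzg, ← grHom_comp ℐ ℐ hφgr' z g, decompose_of_mem_same ℐ hg]
    have hzgQ : zg ∉ Q := by
      intro hzgQ
      apply h0
      rw [← hφzg]
      exact hφQ zg hzgQ
    have hne : Q ⊔ Submodule.span R {zg} ≠ Q := by
      intro heq
      apply hzgQ
      rw [← heq]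
      exact (le_sup_right : Submodule.span R {zg} ≤ _) (Submodule.mem_span_singleton_self zg)
    have hdis : (Q ⊔ Submodule.span R {zg}) ⊓ X ≠ ⊥ := fun hdis =>
      hne (hQmax _ le_sup_left
        (sup_isHomogeneous ℐ hQ (span_singleton_isHomogeneous 𝒜 ℐ hzgg)) hdis)
    obtain ⟨x, hx, hx0⟩ := Submodule.exists_mem_ne_zero_of_ne_bot hdis
    obtain ⟨q, hq, w, hw, hqw⟩ := Submodule.mem_sup.1 hx.1
    obtain ⟨r, rfl⟩ := Submodule.mem_span_singleton.1 hw
    refine ⟨r, ?_, ?_⟩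
    · have : r • φ z = x := by
        rw [← hφX x hx.2, ← hqw, map_add, hφQ q hq, zero_add, map_smul, hφzg]
      rw [this]; exact hx.2
    · have : r • φ z = x := by
        rw [← hφX x hx.2, ← hqw, map_add, hφQ q hq, zero_add, map_smul, hφzg]
      rw [this]; exact hx0
  refine ⟨Q, hQ, hXQ, ?_⟩
  rw [eq_top_iff]
  intro y _
  have h1 : φ y ∈ X := hY ▸ (⟨y, rfl⟩ : φ y ∈ LinearMap.range φ)
  have h2 : y - φ y ∈ Q := by
    rw [← hK, LinearMap.mem_ker, map_sub, hφX _ h1, sub_self]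
  have : y = φ y + (y - φ y) := by abel
  rw [this]
  exact Submodule.add_mem_sup h1 h2

/-- a homogeneous direct summand of a *injective module is *injective -/
theorem isStarInj_of_compl (hI : GrLC.IsStarInj 𝒜 ℐ) (X Q : Submodule R I)
    (hX : X.IsHomogeneous ℐ) (hQ : Q.IsHomogeneous ℐ) (hd : X ⊓ Q = ⊥) (hcod : X ⊔ Q = ⊤) :
    GrLC.IsStarInj 𝒜 (subG 𝒜 ℐ X hX).gr := by
  obtain ⟨p, hpX, hpQ⟩ := exists_proj X Q hd hcod
  have hpgr : GrLC.IsGrHom ℐ (subGr ℐ X) p := by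
    intro g y hy
    show ((p y : X) : I) ∈ ℐ g
    have h1 := decompose_of_mem_same ℐ hy
    have hy2 : y = (p y : I) + (y - p y) := by abel
    have h3 : ((decompose ℐ ((p y : X) : I) g : ℐ g) : I) - ((p y : X) : I) =
        (y - p y) - ((decompose ℐ (y - (p y : I)) g : ℐ g) : I) := by
      have h4 : ((decompose ℐ y g : ℐ g) : I) =
          ((decompose ℐ ((p y : X) : I) g : ℐ g) : I) +
            ((decompose ℐ (y - (p y : I)) g : ℐ g) : I) := by
        conv_lhs => rw [hy2]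
        rw [decompose_add, DirectSum.add_apply, AddMemClass.coe_add]
      rw [h1] at h4
      rw [sub_eq_sub_iff_add_eq_add, ← h4]
      abel
    have h5 : ((decompose ℐ ((p y : X) : I) g : ℐ g) : I) - ((p y : X) : I) ∈ X ⊓ Q := by
      refine ⟨Submodule.sub_mem _ (hX g (p y).2) (p y).2, ?_⟩
      rw [h3]
      exact Submodule.sub_mem _ (hpQ y) (hQ g (hpQ y))
    rw [hd] at h5
    have h6 := sub_eq_zero.1 ((Submodule.mem_bot R).1 h5)
    rw [← h6]
    exact SetLike.coe_mem _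
  intro A B f hf hfinj G hG
  obtain ⟨h, hh, hhf⟩ := hI A B f hf hfinj (X.subtype.comp G)
    (fun g a ha => hG g a ha)
  have key : ∀ a, p (h (f a)) = G a := by
    intro a
    have h7 : h (f a) = X.subtype (G a) := LinearMap.congr_fun hhf a
    rw [h7]
    exact hpX (G a)
  exact ⟨(p.comp h : B.carrier →ₗ[R] X), fun g b hb => hpgr g _ (hh g b hb),
    LinearMap.ext fun a => key a⟩

end Compl

end Groth.Agent.H98.GrCat
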