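import Groth.Agent.H98.GrLes3
import Groth.Agent.H98.GrFin
import Groth.Agent.H98.GrHV

/-!
# Helper library (helper98): additivity of the Euler characteristic of the pieces of graded local
cohomology along short exact sequences; lengths as rational numbers.
-/

set_option autoImplicit false
universe u v

open DirectSum

namespace Groth.Agent.H98.GrCat

section Len

variable (R₀ : Type v) [Ring R₀]

/-- the length of a module, as a rational number (zero when infinite) -/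
noncomputable def len (X : Type u) [AddCommGroup X] [Module R₀ X] : ℚ :=
  ((Module.length R₀ X).toNat : ℚ)

variable {R₀}

theorem len_add_of_exact {X Y Z : Type u} [AddCommGroup X] [Module R₀ X] [AddCommGroup Y]
    [Module R₀ Y] [AddCommGroup Z] [Module R₀ Z] (f : X →ₗ[R₀] Y) (g : Y →ₗ[R₀] Z)
    (hf : Function.Injective f) (hg : Function.Surjective g) (hex : Function.Exact f g)
    (hY : IsFiniteLength R₀ Y) : len R₀ Y = len R₀ X + len R₀ Z := by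
  have h := Module.length_eq_add_of_exact f g hf hg hex
  have hYt : Module.length R₀ Y ≠ ⊤ := Module.length_ne_top_iff.2 hY
  have hX : Module.length R₀ X ≠ ⊤ := by
    intro h1
    rw [h1, top_add] at h
    exact hYt h
  have hZ : Module.length R₀ Z ≠ ⊤ := by
    intro h1
    rw [h1, add_top] at h
    exact hYt h
  unfold len
  rw [h, ENat.toNat_add hX hZ, Nat.cast_add]

theorem len_ker_add_range {X Y : Type u} [AddCommGroup X] [Module R₀ X] [AddCommGroup Y]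
    [Module R₀ Y] (f : X →ₗ[R₀] Y) (hX : IsFiniteLength R₀ X) :
    len R₀ X = len R₀ (LinearMap.ker f) + len R₀ (LinearMap.range f) := by
  refine len_add_of_exact (LinearMap.ker f).subtype f.rangeRestrict
    (Submodule.subtype_injective _) (LinearMap.surjective_rangeRestrict f) ?_ hX
  intro y
  constructor
  · intro hy
    have h0 : f y = 0 := by
      have := congrArg Subtype.val hy
      simpa using this
    exact ⟨⟨y, LinearMap.mem_ker.2 h0⟩, rfl⟩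
  · rintro ⟨z, rfl⟩
    apply Subtype.ext
    exact LinearMap.mem_ker.1 z.2

theorem len_eq_zero_of_subsingleton (X : Type u) [AddCommGroup X] [Module R₀ X]
    [Subsingleton X] : len R₀ X = 0 := by
  unfold len
  rw [Module.length_eq_zero]
  rfl

theorem tele (a : ℕ → ℚ) (d : ℕ) :
    ∑ i ∈ Finset.range (d + 1), (-1 : ℚ) ^ i * (a i + a (i + 1)) =
      a 0 + (-1 : ℚ) ^ d * a (d + 1) := by
  induction d with
  | zero => simp
  | succ d ih =>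
    rw [Finset.sum_range_succ, ih, pow_succ]
    ring

/-- the Euler characteristic of a long exact sequence of modules of finite length vanishes -/
theorem euler_zero (A B C : ℕ → Type u) [∀ i, AddCommGroup (A i)] [∀ i, Module R₀ (A i)]
    [∀ i, AddCommGroup (B i)] [∀ i, Module R₀ (B i)] [∀ i, AddCommGroup (C i)]
    [∀ i, Module R₀ (C i)]
    (α : ∀ i, A i →ₗ[R₀] B i) (β : ∀ i, B i →ₗ[R₀] C i) (δ : ∀ i, C i →ₗ[R₀] A (i + 1))
    (hA : ∀ i, IsFiniteLength R₀ (A i)) (hB : ∀ i, IsFiniteLength R₀ (B i))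
    (hC : ∀ i, IsFiniteLength R₀ (C i))
    (h1 : ∀ i, LinearMap.range (α i) = LinearMap.ker (β i))
    (h2 : ∀ i, LinearMap.range (β i) = LinearMap.ker (δ i))
    (h3 : ∀ i, LinearMap.range (δ i) = LinearMap.ker (α (i + 1)))
    (h0 : LinearMap.ker (α 0) = ⊥) (d : ℕ) (hd : Subsingleton (A (d + 1))) :
    ∑ i ∈ Finset.range (d + 1), (-1 : ℚ) ^ i * len R₀ (B i) =
      ∑ i ∈ Finset.range (d + 1), (-1 : ℚ) ^ i * len R₀ (A i) +
        ∑ i ∈ Finset.range (d + 1), (-1 : ℚ) ^ i * len R₀ (C i) := by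
  have hAi : ∀ i, len R₀ (A i) = len R₀ (LinearMap.ker (α i)) + len R₀ (LinearMap.ker (β i)) := by
    intro i
    rw [len_ker_add_range (α i) (hA i), h1]
  have hBi : ∀ i, len R₀ (B i) = len R₀ (LinearMap.ker (β i)) + len R₀ (LinearMap.ker (δ i)) := by
    intro i
    rw [len_ker_add_range (β i) (hB i), h2]
  have hCi : ∀ i, len R₀ (C i) =
      len R₀ (LinearMap.ker (δ i)) + len R₀ (LinearMap.ker (α (i + 1))) := by
    intro i
    rw [len_ker_add_range (δ i) (hC i), h3]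
  have key : ∀ i, (-1 : ℚ) ^ i * len R₀ (A i) + (-1 : ℚ) ^ i * len R₀ (C i) =
      (-1 : ℚ) ^ i * len R₀ (B i) + (-1 : ℚ) ^ i *
        (len R₀ (LinearMap.ker (α i)) + len R₀ (LinearMap.ker (α (i + 1)))) := by
    intro i
    rw [hAi, hBi, hCi]
    ring
  have ha0 : len R₀ (LinearMap.ker (α 0)) = 0 := by
    rw [h0]
    exact len_eq_zero_of_subsingleton _
  have had : len R₀ (LinearMap.ker (α (d + 1))) = 0 := len_eq_zero_of_subsingleton _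
  rw [← Finset.sum_add_distrib, Finset.sum_congr rfl (fun i _ => key i), Finset.sum_add_distrib,
    tele (fun i => len R₀ (LinearMap.ker (α i))) d, ha0, had, mul_zero, add_zero, add_zero]

end Len

section Pc

variable {ι : Type} [AddCommGroup ι] [DecidableEq ι]
variable {R : Type u} [CommRing R] {𝒜 : ι → AddSubgroup R} [GradedRing 𝒜]
variable {M₁ M₂ M₃ : Type u} [AddCommGroup M₁] [Module R M₁] [AddCommGroup M₂] [Module R M₂]
  [AddCommGroup M₃] [Module R M₃]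
  {ℳ₁ : ι → AddSubgroup M₁} [DirectSum.Decomposition ℳ₁] [SetLike.GradedSMul 𝒜 ℳ₁]
  {ℳ₂ : ι → AddSubgroup M₂} [DirectSum.Decomposition ℳ₂] [SetLike.GradedSMul 𝒜 ℳ₂]
  {ℳ₃ : ι → AddSubgroup M₃} [DirectSum.Decomposition ℳ₃] [SetLike.GradedSMul 𝒜 ℳ₃]

/-- the map induced on pieces of graded local cohomology -/
noncomputable def Hpc (E₁ : GrLC.StarInjRes 𝒜 ℳ₁) (E₂ : GrLC.StarInjRes 𝒜 ℳ₂)
    (a : HomogeneousIdeal 𝒜) (i j : ℕ) (κ : (E₁.X i).carrier →ₗ[R] (E₂.X j).carrier)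
    (hz : ∀ c, c ∈ E₁.cocyc a i → κ c ∈ E₂.cocyc a j)
    (hb : ∀ c, c ∈ E₁.cobdy a i → κ c ∈ E₂.cobdy a j) (n n' : ι)
    (hg : ∀ c, c ∈ (E₁.X i).gr n → κ c ∈ (E₂.X j).gr n') :
    E₁.Hcomp a i n →ₗ[GrLC.deg0 𝒜] E₂.Hcomp a j n' :=
  ((Hind E₁ E₂ a i j κ hz hb).restrictScalars (GrLC.deg0 𝒜)).restrict
    (fun _ hy => Hind_mem_Hcomp E₁ E₂ a i j κ hz hb hg hy)

theorem Hpc_coe (E₁ : GrLC.StarInjRes 𝒜 ℳ₁) (E₂ : GrLC.StarInjRes 𝒜 ℳ₂)
    (a : HomogeneousIdeal 𝒜) (i j : ℕ) (κ : (E₁.X i).carrier →ₗ[R] (E₂.X j).carrier)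
    (hz : ∀ c, c ∈ E₁.cocyc a i → κ c ∈ E₂.cocyc a j)
    (hb : ∀ c, c ∈ E₁.cobdy a i → κ c ∈ E₂.cobdy a j) (n n' : ι)
    (hg : ∀ c, c ∈ (E₁.X i).gr n → κ c ∈ (E₂.X j).gr n') (y : E₁.Hcomp a i n) :
    ((Hpc E₁ E₂ a i j κ hz hb n n' hg y : E₂.Hcomp a j n') : E₂.H a j) =
      Hind E₁ E₂ a i j κ hz hb (y : E₁.H a i) := rfl

/-- exactness of the maps induced on pieces, from exactness in cocycle form -/
theorem Hpc_exact (E₁ : GrLC.StarInjRes 𝒜 ℳ₁) (E₂ : GrLC.StarInjRes 𝒜 ℳ₂)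
    (E₃ : GrLC.StarInjRes 𝒜 ℳ₃) (a : HomogeneousIdeal 𝒜) (i₁ i₂ i₃ : ℕ) (n₁ n₂ n₃ : ι)
    (κ₁ : (E₁.X i₁).carrier →ₗ[R] (E₂.X i₂).carrier)
    (κ₂ : (E₂.X i₂).carrier →ₗ[R] (E₃.X i₃).carrier)
    (h1z : ∀ c, c ∈ E₁.cocyc a i₁ → κ₁ c ∈ E₂.cocyc a i₂)
    (h1b : ∀ c, c ∈ E₁.cobdy a i₁ → κ₁ c ∈ E₂.cobdy a i₂)
    (h1g : ∀ c, c ∈ (E₁.X i₁).gr n₁ → κ₁ c ∈ (E₂.X i₂).gr n₂)
    (h2z : ∀ c, c ∈ E₂.cocyc a i₂ → κ₂ c ∈ E₃.cocyc a i₃)
    (h2b : ∀ c, c ∈ E₂.cobdy a i₂ → κ₂ c ∈ E₃.cobdy a i₃)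
    (h2g : ∀ c, c ∈ (E₂.X i₂).gr n₂ → κ₂ c ∈ (E₃.X i₃).gr n₃)
    (hex : ∀ b, b ∈ E₂.cocyc a i₂ → b ∈ (E₂.X i₂).gr n₂ → κ₂ b ∈ E₃.cobdy a i₃ →
      ∃ c, c ∈ E₁.cocyc a i₁ ∧ c ∈ (E₁.X i₁).gr n₁ ∧ b - κ₁ c ∈ E₂.cobdy a i₂)
    (hzero : ∀ c, c ∈ E₁.cocyc a i₁ → κ₂ (κ₁ c) ∈ E₃.cobdy a i₃) :
    LinearMap.range (Hpc E₁ E₂ a i₁ i₂ κ₁ h1z h1b n₁ n₂ h1g) =
      LinearMap.ker (Hpc E₂ E₃ a i₂ i₃ κ₂ h2z h2b n₂ n₃ h2g) := by
  apply le_antisymm
  · rintro _ ⟨x, rfl⟩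
    rw [LinearMap.mem_ker]
    apply Subtype.ext
    rw [Hpc_coe, Hpc_coe]
    obtain ⟨z, hzn, hzx⟩ := x.2
    rw [← hzx, Hind_toH, Hind_toH]
    exact (Submodule.Quotient.mk_eq_zero _).2 (hzero z z.2)
  · intro y hy
    obtain ⟨z, hzn, hzy⟩ := y.2
    have h0 : Hind E₂ E₃ a i₂ i₃ κ₂ h2z h2b (y : E₂.H a i₂) = 0 := by
      rw [← Hpc_coe E₂ E₃ a i₂ i₃ κ₂ h2z h2b n₂ n₃ h2g, LinearMap.mem_ker.1 hy]
      rfl
    rw [← hzy, Hind_toH] at h0
    have h1' : (⟨κ₂ z, h2z z z.2⟩ : E₃.cocyc a i₃) ∈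
        (E₃.cobdy a i₃).comap (E₃.cocyc a i₃).subtype := (Submodule.Quotient.mk_eq_zero _).1 h0
    have h1 : κ₂ z ∈ E₃.cobdy a i₃ := h1'
    obtain ⟨c, hc, hcn, hcb⟩ := hex z z.2 hzn h1
    refine ⟨⟨E₁.toH a i₁ ⟨c, hc⟩, ⟨⟨c, hc⟩, hcn, rfl⟩⟩, ?_⟩
    apply Subtype.ext
    rw [Hpc_coe, ← hzy]
    show Hind E₁ E₂ a i₁ i₂ κ₁ h1z h1b (E₁.toH a i₁ ⟨c, hc⟩) = E₂.toH a i₂ z
    rw [Hind_toH]
    refine (Submodule.Quotient.eq _).2 ?_
    show κ₁ c - z ∈ E₂.cobdy a i₂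
    have h2 := neg_mem hcb
    rwa [neg_sub] at h2

end Pc

section Chi

variable {ι : Type} [AddCommGroup ι] [DecidableEq ι]
variable {R : Type u} [CommRing R] {𝒜 : ι → AddSubgroup R} [GradedRing 𝒜]

/-- the Euler characteristic, up to cohomological degree `d`, of the pieces of degree `n` of
graded local cohomology -/
noncomputable def chi {M : Type u} [AddCommGroup M] [Module R M] {ℳ : ι → AddSubgroup M}
    [DirectSum.Decomposition ℳ] [SetLike.GradedSMul 𝒜 ℳ] (E : GrLC.StarInjRes 𝒜 ℳ)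
    (a : HomogeneousIdeal 𝒜) (d : ℕ) (n : ι) : ℚ :=
  ∑ i ∈ Finset.range (d + 1), (-1 : ℚ) ^ i * len (GrLC.deg0 𝒜) (E.Hcomp a i n)

variable {A B C : GrLC.GMod.{u} 𝒜} (f : A.carrier →ₗ[R] B.carrier)
  (g : B.carrier →ₗ[R] C.carrier)
  (hf : GrLC.IsGrHom A.gr B.gr f) (hg : GrLC.IsGrHom B.gr C.gr g)
  (hfinj : Function.Injective f) (hgsurj : Function.Surjective g)
  (hex : ∀ b, g b = 0 → ∃ a', f a' = b) (hgf : ∀ a', g (f a') = 0)
  (a : HomogeneousIdeal 𝒜)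

include hf hg hfinj hgsurj hex hgf in
/-- additivity of the Euler characteristic of graded local cohomology along a short exact
sequence -/
theorem chi_additive (F : GrLC.StarInjRes 𝒜 A.gr) (EB : GrLC.StarInjRes 𝒜 B.gr)
    (G : GrLC.StarInjRes 𝒜 C.gr) (d : ℕ) (n : ι)
    (hfinF : ∀ i, IsFiniteLength (GrLC.deg0 𝒜) (F.Hcomp a i n))
    (hfinB : ∀ i, IsFiniteLength (GrLC.deg0 𝒜) (EB.Hcomp a i n))
    (hfinG : ∀ i, IsFiniteLength (GrLC.deg0 𝒜) (G.Hcomp a i n))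
    (hvan : Vn F a (d + 1) n) : chi EB a d n = chi F a d n + chi G a d n := by
  obtain ⟨φ, hφdeg, hφ0, hφc⟩ := exists_lift F EB 0 f
    (fun k z hz => by rw [add_zero]; exact hf k z hz)
  have hφgr : ∀ k, GrLC.IsGrHom (F.X k).gr (EB.X k).gr (φ k) := by
    intro k j z hz
    have h := hφdeg k j z hz
    rwa [add_zero] at h
  obtain ⟨ψ, hψdeg, hψ0, hψc⟩ := exists_lift EB G 0 g
    (fun k z hz => by rw [add_zero]; exact hg k z hz)
  have hψgr : ∀ k, GrLC.IsGrHom (EB.X k).gr (G.X k).gr (ψ k) := by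
    intro k j z hz
    have h := hψdeg k j z hz
    rwa [add_zero] at h
  obtain ⟨θ, hθgr, hθz, hθb, hBs, hCs, hAs, hZ1, hZ2, hZ3⟩ :=
    les_full (F := F) (G := G) hf hg hfinj hgsurj hex hgf a EB φ hφgr hφc hφ0 ψ hψgr hψc hψ0
  have h1z : ∀ i c, c ∈ F.cocyc a i → φ i c ∈ EB.cocyc a i :=
    fun i c hc => chain_cocyc F EB a φ hφc hc
  have h1b : ∀ i c, c ∈ F.cobdy a i → φ i c ∈ EB.cobdy a i :=
    fun i c hc => chain_cobdy F EB a φ hφc hc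
  have h2z : ∀ i c, c ∈ EB.cocyc a i → ψ i c ∈ G.cocyc a i :=
    fun i c hc => chain_cocyc EB G a ψ hψc hc
  have h2b : ∀ i c, c ∈ EB.cobdy a i → ψ i c ∈ G.cobdy a i :=
    fun i c hc => chain_cobdy EB G a ψ hψc hc
  unfold chi
  refine euler_zero (R₀ := GrLC.deg0 𝒜) (fun i => F.Hcomp a i n) (fun i => EB.Hcomp a i n)
    (fun i => G.Hcomp a i n)
    (fun i => Hpc F EB a i i (φ i) (h1z i) (h1b i) n n (hφgr i n))
    (fun i => Hpc EB G a i i (ψ i) (h2z i) (h2b i) n n (hψgr i n))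
    (fun i => Hpc G F a i (i + 1) (θ i) (hθz i) (hθb i) n n (hθgr i n))
    hfinF hfinB hfinG
    (fun i => Hpc_exact F EB G a i i i n n n (φ i) (ψ i) (h1z i) (h1b i) (hφgr i n) (h2z i)
      (h2b i) (hψgr i n) (hBs i n) (hZ1 i))
    (fun i => Hpc_exact EB G F a i i (i + 1) n n n (ψ i) (θ i) (h2z i) (h2b i) (hψgr i n)
      (hθz i) (hθb i) (hθgr i n) (hCs i n) (hZ2 i))
    (fun i => Hpc_exact G F EB a i (i + 1) (i + 1) n n n (θ i) (φ (i + 1)) (hθz i) (hθb i)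
      (hθgr i n) (h1z (i + 1)) (h1b (i + 1)) (hφgr (i + 1) n) (hAs i n) (hZ3 i))
    ?_ d ?_
  · rw [LinearMap.ker_eq_bot']
    intro x hx
    obtain ⟨z, hzn, hzx⟩ := x.2
    have h0 : Hind F EB a 0 0 (φ 0) (h1z 0) (h1b 0) (x : F.H a 0) = 0 := by
      rw [← Hpc_coe F EB a 0 0 (φ 0) (h1z 0) (h1b 0) n n (hφgr 0 n), hx]
      rfl
    rw [← hzx, Hind_toH] at h0
    have h1' : (⟨φ 0 z, h1z 0 z z.2⟩ : EB.cocyc a 0) ∈
        (EB.cobdy a 0).comap (EB.cocyc a 0).subtype := (Submodule.Quotient.mk_eq_zero _).1 h0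
    have h1 : φ 0 (z : (F.X 0).carrier) = 0 := h1'
    have h2 : (z : (F.X 0).carrier) ∈ LinearMap.range F.ε := by
      rw [← F.exact_zero]
      exact z.2.2
    obtain ⟨x', hx'⟩ := h2
    rw [← hx', hφ0] at h1
    have h3 : f x' = 0 := EB.ε_injective (h1.trans (map_zero EB.ε).symm)
    have h4 : x' = 0 := hfinj (h3.trans (map_zero f).symm)
    have h5 : z = 0 := by
      apply Subtype.ext
      rw [← hx', h4, map_zero]
      rfl
    apply Subtype.ext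
    rw [← hzx, h5, map_zero]
    rfl
  · show Subsingleton (F.Hcomp a (d + 1) n)
    rw [Hcomp_eq_bot_of_vn hvan]
    infer_instance

end Chi

end Groth.Agent.H98.GrCat
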