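import Groth.Agent.H98.GrEss

/-!
# Helper library (helper98): *injective envelopes inside a *injective graded module; conversions
between the Prelude's `GrLC.IsStarEss` and the element form `EssIn`.
-/

set_option autoImplicit false
universe u

open DirectSum

namespace Groth.Agent.H98.GrCat

variable {ι : Type} [AddCommGroup ι] [DecidableEq ι]
variable {R : Type u} [CommRing R] (𝒜 : ι → AddSubgroup R) [GradedRing 𝒜]
variable {I : Type u} [AddCommGroup I] [Module R I] (ℐ : ι → AddSubgroup I)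
  [DirectSum.Decomposition ℐ] [SetLike.GradedSMul 𝒜 ℐ]
variable {M : Type u} [AddCommGroup M] [Module R M]

omit [GradedRing 𝒜] [SetLike.GradedSMul 𝒜 ℐ] in
theorem top_isHomogeneous : (⊤ : Submodule R I).IsHomogeneous ℐ :=
  fun _ _ _ => Submodule.mem_top

include 𝒜 in
/-- Prelude *essential ⇒ element form -/
theorem essIn_of_isStarEss {τ : Type u} [SetLike τ M] [AddSubgroupClass τ M] (ℳ' : ι → τ)
    {f : M →ₗ[R] I} (hf : GrLC.IsStarEss ℳ' ℐ f) : EssIn ℐ (LinearMap.range f) ⊤ := by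
  intro x _ g hg h0
  have hP := span_singleton_isHomogeneous 𝒜 ℐ hg
  have hne : Submodule.span R {x} ≠ ⊥ := by
    rw [Ne, Submodule.span_singleton_eq_bot]; exact h0
  have h1 := hf.essential _ hP hne
  obtain ⟨y, hy, hy0⟩ := Submodule.exists_mem_ne_zero_of_ne_bot h1
  obtain ⟨r, rfl⟩ := Submodule.mem_span_singleton.1 hy.1
  exact ⟨r, hy.2, hy0⟩

omit [GradedRing 𝒜] [SetLike.GradedSMul 𝒜 ℐ] in
/-- element form ⇒ Prelude *essential -/
theorem isStarEss_of_essIn {τ : Type u} [SetLike τ M] [AddSubgroupClass τ M] (ℳ' : ι → τ)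
    {f : M →ₗ[R] I} (hinj : Function.Injective f) (hgr : GrLC.IsGrHom ℳ' ℐ f)
    (hess : EssIn ℐ (LinearMap.range f) ⊤) : GrLC.IsStarEss ℳ' ℐ f :=
  ⟨hinj, hgr, fun _ hP hne => hess.inf_ne_bot hP le_top hne⟩

/-- codomain restriction to a homogeneous submodule, typed into the bundled graded module -/
def codR {X : Submodule R I} (hX : X.IsHomogeneous ℐ) (f : M →ₗ[R] I) (hle : ∀ m, f m ∈ X) :
    M →ₗ[R] (subG 𝒜 ℐ X hX).carrier := f.codRestrict X hle

theorem codR_apply {X : Submodule R I} (hX : X.IsHomogeneous ℐ) (f : M →ₗ[R] I)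
    (hle : ∀ m, f m ∈ X) (m : M) : X.subtype (codR 𝒜 ℐ hX f hle m) = f m := rfl

/-- a homogeneous injection whose range is *essential in `X` is a *essential extension
`M → X` -/
theorem isStarEss_codRestrict {τ : Type u} [SetLike τ M] [AddSubgroupClass τ M] (ℳ' : ι → τ)
    {f : M →ₗ[R] I} (hinj : Function.Injective f)
    (hgr : GrLC.IsGrHom ℳ' ℐ f) {X : Submodule R I} (hX : X.IsHomogeneous ℐ)
    (hle : ∀ m, f m ∈ X) (hess : EssIn ℐ (LinearMap.range f) X) :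
    GrLC.IsStarEss ℳ' (subG 𝒜 ℐ X hX).gr (codR 𝒜 ℐ hX f hle) := by
  refine ⟨fun a b hab => hinj (congrArg X.subtype hab), fun g m hm => hgr g m hm, ?_⟩
  intro P hP hne
  obtain ⟨p, hp, hp0⟩ := Submodule.exists_mem_ne_zero_of_ne_bot hne
  obtain ⟨g, q, hq, hqg, hq0⟩ := exists_homogeneous_mem (subG 𝒜 ℐ X hX).gr P hP ⟨p, hp, hp0⟩
  have hqI : X.subtype q ∈ ℐ g := hqg
  have hq0' : X.subtype q ≠ 0 := fun h => hq0 (Subtype.ext h)
  have hqX : X.subtype q ∈ X := SetLike.coe_mem (show ↥X from q)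
  obtain ⟨r, ⟨m, hm⟩, hr0⟩ := hess (X.subtype q) hqX g hqI hq0'
  intro hbot
  apply hr0
  have h1 : r • q ∈ P ⊓ LinearMap.range (codR 𝒜 ℐ hX f hle) := by
    refine ⟨Submodule.smul_mem _ _ hq, m, ?_⟩
    exact Subtype.ext hm
  rw [hbot] at h1
  have h2 : r • q = 0 := (Submodule.mem_bot R).1 h1
  have h3 : r • X.subtype q = 0 := congrArg X.subtype h2
  exact h3

/-- a graded retract of a *injective module is *injective -/
theorem isStarInj_of_retract {N : Type u} [AddCommGroup N] [Module R N] (𝒩 : ι → AddSubgroup N)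
    [DirectSum.Decomposition 𝒩] [SetLike.GradedSMul 𝒜 𝒩]
    (ℳ : ι → AddSubgroup M) [DirectSum.Decomposition ℳ] [SetLike.GradedSMul 𝒜 ℳ]
    (u : M →ₗ[R] N) (v : N →ₗ[R] M) (hu : GrLC.IsGrHom ℳ 𝒩 u) (hv : GrLC.IsGrHom 𝒩 ℳ v)
    (huv : ∀ m, v (u m) = m) (hN : GrLC.IsStarInj 𝒜 𝒩) : GrLC.IsStarInj 𝒜 ℳ := by
  intro A B f hf hfinj G hG
  obtain ⟨h, hh, hhf⟩ := hN A B f hf hfinj (u.comp G) (fun g a ha => hu g _ (hG g a ha))
  refine ⟨v.comp h, fun g b hb => hv g _ (hh g b hb), LinearMap.ext fun a => ?_⟩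
  have h1 : h (f a) = u (G a) := LinearMap.congr_fun hhf a
  rw [LinearMap.comp_apply, LinearMap.comp_apply, h1, huv]

variable {𝒜 ℐ}

/-- inside a *injective module every homogeneous submodule has a maximal *essential extension,
which is a homogeneous direct summand and hence *injective -/
theorem exists_hull_in (hI : GrLC.IsStarInj 𝒜 ℐ) (N₀ : Submodule R I) (hN : N₀.IsHomogeneous ℐ) :
    ∃ X : Submodule R I, N₀ ≤ X ∧ ∃ hX : X.IsHomogeneous ℐ, EssIn ℐ N₀ X ∧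
      GrLC.IsStarInj 𝒜 (subG 𝒜 ℐ X hX).gr ∧
      (∃ Q : Submodule R I, Q.IsHomogeneous ℐ ∧ X ⊓ Q = ⊥ ∧ X ⊔ Q = ⊤) ∧
      (∀ Y : Submodule R I, X ≤ Y → Y.IsHomogeneous ℐ → EssIn ℐ N₀ Y → Y = X) := by
  obtain ⟨X, hNX, hX, hess, hmax⟩ := exists_maximal_ess 𝒜 N₀ hN
  have hmax' : ∀ Y : Submodule R I, X ≤ Y → Y.IsHomogeneous ℐ → EssIn ℐ X Y → Y = X :=
    fun Y hXY hY hessY => hmax Y hXY hY (hess.trans 𝒜 hessY hX)
  obtain ⟨Q, hQ, hd, hcod⟩ := exists_compl_of_maximal hI X hX hmax'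
  exact ⟨X, hNX, hX, hess, isStarInj_of_compl hI X Q hX hQ hd hcod, ⟨Q, hQ, hd, hcod⟩, hmax⟩

end Groth.Agent.H98.GrCat
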