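import Groth.Agent.H98.GrReg

/-!
# Helper library (helper98): `d`-regularity (vanishing of graded local cohomology above the
diagonals) of a finitely generated graded module `A` is read off from the quotient of `A` by a
regular sequence of linear forms, when that quotient is torsion.
-/

set_option autoImplicit false
universe u

open DirectSum Pointwise

namespace Groth.Agent.H98.GrCat

section RegSeq

variable {R : Type u} [CommRing R] [IsNoetherianRing R] {𝒜 : ℤ → AddSubgroup R} [GradedRing 𝒜]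

/-- `d`-regularity with respect to a homogeneous ideal -/
def DReg (a : HomogeneousIdeal 𝒜) (A : GrLC.GMod.{u} 𝒜) (d : ℤ) : Prop :=
  (∀ e : ℤ, d < e → HV a A 0 e) ∧ ∀ i : ℕ, 0 < i → HV a A i (d - (i : ℤ) + 1)

theorem dreg_iff_of_torsion (a : HomogeneousIdeal 𝒜) (A : GrLC.GMod.{u} 𝒜)
    (htor : GrLC.gam a.toIdeal A.carrier = ⊤) (d : ℤ) :
    DReg a A d ↔ ∀ e : ℤ, d < e → A.gr e = ⊥ := by
  constructor
  · intro h e he
    exact piece_eq_bot_of_vn_zero (starInjRes 𝒜 A.gr) a e htor (h.1 e he _)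
  · intro h
    exact ⟨fun e he => hv_of_vn (starInjRes 𝒜 A.gr) (vn_zero_of_piece_eq_bot _ a e (h e he)),
      fun i hi => hv_torsion a A htor i hi _⟩

/-- a regular element of the ideal kills `H^0` -/
theorem hv_zero_of_regular (a : HomogeneousIdeal 𝒜) (A : GrLC.GMod.{u} 𝒜) (x : R)
    (hxa : x ∈ a.toIdeal) (hreg : IsSMulRegular A.carrier x) (e : ℤ) : HV a A 0 e := by
  intro E c hc _
  have hcd : c ∈ LinearMap.ker (E.d 0) := (Submodule.mem_inf.1 hc).2
  have hcg : c ∈ GrLC.gam a.toIdeal (E.X 0).carrier := (Submodule.mem_inf.1 hc).1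
  rw [E.exact_zero] at hcd
  obtain ⟨z, rfl⟩ := hcd
  obtain ⟨t, ht⟩ := hcg
  have h1 : x ^ t • E.ε z = 0 := ht _ (Ideal.pow_mem_pow hxa t)
  rw [← map_smul] at h1
  have h2 : x ^ t • z = 0 := E.ε_injective (by rw [h1, map_zero])
  have h3 : z = 0 := (hreg.pow t) (by
    show x ^ t • z = x ^ t • 0
    rw [h2, smul_zero])
  rw [h3, map_zero]
  exact zero_mem _

theorem dreg_step (hpos : ∀ n : ℤ, n < 0 → 𝒜 n = ⊥) (a : HomogeneousIdeal 𝒜)
    (hhom : a.toIdeal = Ideal.span ((𝒜 1 : AddSubgroup R) : Set R))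
    (ha : a.toIdeal = Ideal.span (⋃ n ∈ Set.Ioi (0 : ℤ), (𝒜 n : Set R)))
    (A B : GrLC.GMod.{u} 𝒜) (hfin : Module.Finite R A.carrier) (x : R) (hx : x ∈ 𝒜 1)
    (hxreg : IsSMulRegular A.carrier x) (π' : A.carrier →ₗ[R] B.carrier)
    (hπ's : Function.Surjective π') (hπ'g : GrLC.IsGrHom A.gr B.gr π')
    (hker' : LinearMap.ker π' =
      LinearMap.range (x • (LinearMap.id : A.carrier →ₗ[R] A.carrier))) (d : ℤ) :
    DReg a A d ↔ DReg a B d := by
  have hxa : x ∈ a.toIdeal := by
    rw [hhom]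
    exact Ideal.subset_span hx
  have hK : ∀ z : A.carrier, x • z = 0 → z ∈ GrLC.gam a.toIdeal A.carrier := by
    intro z hz
    have h0 : z = 0 := hxreg (by
      show x • z = x • 0
      rw [hz, smul_zero])
    rw [h0]
    exact zero_mem _
  obtain ⟨hQR1, hQR2⟩ := qr_core a A.gr B.gr x hx hK π' hπ's hπ'g hker'
  have hfv : ∀ j : ℕ, ∃ r₀ : ℤ, ∀ n : ℤ, r₀ ≤ n → HV a A j n := by
    intro j
    obtain ⟨-, r₀, hr₀⟩ := fv 𝒜 hpos a ha j A.carrier A.gr (starInjRes 𝒜 A.gr)
    exact ⟨r₀, fun n hn => hv_of_vn _ (hr₀ n hn)⟩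
  have key := dreg_iff a hhom A B hQR1 hQR2 hfv d
  exact ⟨fun h => (key.1 h).1,
    fun h => key.2 ⟨h, fun e _ => hv_zero_of_regular a A x hxa hxreg e⟩⟩

/-- **regularity and regular sequences of linear forms** -/
theorem dreg_seq (hpos : ∀ n : ℤ, n < 0 → 𝒜 n = ⊥) (a : HomogeneousIdeal 𝒜)
    (hhom : a.toIdeal = Ideal.span ((𝒜 1 : AddSubgroup R) : Set R))
    (ha : a.toIdeal = Ideal.span (⋃ n ∈ Set.Ioi (0 : ℤ), (𝒜 n : Set R))) (d : ℤ) :
    ∀ (ys : List R) (A : GrLC.GMod.{u} 𝒜) (_ : Module.Finite R A.carrier) (C : GrLC.GMod.{u} 𝒜)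
      (π : A.carrier →ₗ[R] C.carrier), (∀ y ∈ ys, y ∈ 𝒜 1) →
      RingTheory.Sequence.IsWeaklyRegular A.carrier ys → Function.Surjective π →
      GrLC.IsGrHom A.gr C.gr π →
      LinearMap.ker π = Ideal.ofList ys • (⊤ : Submodule R A.carrier) →
      GrLC.gam a.toIdeal C.carrier = ⊤ → (DReg a A d ↔ ∀ e : ℤ, d < e → C.gr e = ⊥) := by
  intro ys
  induction ys with
  | nil =>
    intro A hfin C π _ _ hπ hπg hker htor
    have hker0 : LinearMap.ker π = ⊥ := by rw [hker, Ideal.ofList_nil, Submodule.bot_smul]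
    have hinj : Function.Injective π := LinearMap.ker_eq_bot.1 hker0
    have htorA : GrLC.gam a.toIdeal A.carrier = ⊤ := by
      rw [eq_top_iff]
      intro z _
      have hz : π z ∈ GrLC.gam a.toIdeal C.carrier := by
        rw [htor]
        exact Submodule.mem_top
      obtain ⟨t, ht⟩ := hz
      exact ⟨t, fun r hr => hinj (by rw [map_smul, ht r hr, map_zero])⟩
    rw [dreg_iff_of_torsion a A htorA d]
    constructor
    · intro h e he
      rw [eq_bot_iff]
      intro c hc
      obtain ⟨x, rfl⟩ := hπ c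
      have h2 : ((decompose C.gr (π x) e : C.gr e) : C.carrier) = π x :=
        decompose_of_mem_same C.gr hc
      rw [grHom_comp A.gr C.gr hπg x e] at h2
      have h5 : ∀ w ∈ A.gr e, w = 0 := by
        rw [h e he]
        intro w hw
        exact AddSubgroup.mem_bot.1 hw
      have h3 : ((decompose A.gr x e : A.gr e) : A.carrier) = 0 :=
        h5 _ (SetLike.coe_mem (decompose A.gr x e))
      rw [AddSubgroup.mem_bot, ← h2, h3, map_zero]
    · intro h e he
      rw [eq_bot_iff]
      intro x hx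
      have h1 : π x ∈ C.gr e := hπg e x hx
      rw [h e he] at h1
      exact AddSubgroup.mem_bot.2 (hinj (by rw [AddSubgroup.mem_bot.1 h1, map_zero]))
  | cons y ys ih =>
    intro A hfin C π hys hreg hπ hπg hker htor
    have hy : y ∈ 𝒜 1 := hys y List.mem_cons_self
    have hys' : ∀ z ∈ ys, z ∈ 𝒜 1 := fun z hz => hys z (List.mem_cons_of_mem _ hz)
    obtain ⟨hyreg, hreg'⟩ := (RingTheory.Sequence.isWeaklyRegular_cons_iff A.carrier y ys).1 hreg
    have hBmem : ∀ w : A.carrier, w ∈ y • (⊤ : Submodule R A.carrier) ↔ ∃ z : A.carrier, y • z = w := by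
      intro w
      rw [Submodule.mem_smul_pointwise_iff_exists]
      constructor
      · rintro ⟨z, -, hz⟩
        exact ⟨z, hz⟩
      · rintro ⟨z, hz⟩
        exact ⟨z, Submodule.mem_top, hz⟩
    have hBh : (y • (⊤ : Submodule R A.carrier)).IsHomogeneous A.gr := by
      intro j w hw
      obtain ⟨z, rfl⟩ := (hBmem w).1 hw
      rw [comp_smul 𝒜 A.gr hy j z]
      exact (hBmem _).2 ⟨_, rfl⟩
    haveI := hfin
    have hfin' : Module.Finite R (quotG 𝒜 A.gr (y • (⊤ : Submodule R A.carrier)) hBh).carrier :=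
      (inferInstance : Module.Finite R (A.carrier ⧸ y • (⊤ : Submodule R A.carrier)))
    obtain ⟨q, hq⟩ : ∃ q : A.carrier →ₗ[R]
        (quotG 𝒜 A.gr (y • (⊤ : Submodule R A.carrier)) hBh).carrier,
        ∀ z, q z = (y • (⊤ : Submodule R A.carrier)).mkQ z :=
      ⟨(y • (⊤ : Submodule R A.carrier)).mkQ, fun _ => rfl⟩
    have hqs : Function.Surjective q := fun w => by
      obtain ⟨z, hz⟩ := (y • (⊤ : Submodule R A.carrier)).mkQ_surjective w
      exact ⟨z, (hq z).trans hz⟩
    have hqg : GrLC.IsGrHom A.gr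
        (quotG 𝒜 A.gr (y • (⊤ : Submodule R A.carrier)) hBh).gr q := by
      intro j z hz
      rw [hq]
      exact (mem_quotGr' A.gr (y • (⊤ : Submodule R A.carrier))).2 ⟨z, hz, rfl⟩
    have hqk : LinearMap.ker q =
        LinearMap.range (y • (LinearMap.id : A.carrier →ₗ[R] A.carrier)) := by
      ext w
      rw [LinearMap.mem_ker, hq, LinearMap.mem_range]
      constructor
      · intro h
        have hw : w ∈ y • (⊤ : Submodule R A.carrier) := (Submodule.Quotient.mk_eq_zero _).1 h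
        obtain ⟨z, hz⟩ := (hBmem w).1 hw
        exact ⟨z, hz⟩
      · rintro ⟨z, hz⟩
        exact (Submodule.Quotient.mk_eq_zero _).2 ((hBmem w).2 ⟨z, hz⟩)
    have hstep := dreg_step hpos a hhom ha A
      (quotG 𝒜 A.gr (y • (⊤ : Submodule R A.carrier)) hBh) hfin y hy hyreg q hqs hqg hqk d
    have hkerπ : LinearMap.ker π = y • (⊤ : Submodule R A.carrier) ⊔
        Ideal.ofList ys • (⊤ : Submodule R A.carrier) := by
      rw [hker, Ideal.ofList_cons_smul]
    have hBle : y • (⊤ : Submodule R A.carrier) ≤ LinearMap.ker π := by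
      rw [hkerπ]
      exact le_sup_left
    obtain ⟨π', hπ'⟩ : ∃ π' : (quotG 𝒜 A.gr (y • (⊤ : Submodule R A.carrier)) hBh).carrier →ₗ[R]
        C.carrier, ∀ z, π' (q z) = π z :=
      ⟨(y • (⊤ : Submodule R A.carrier)).liftQ π hBle, fun z => by rw [hq]; rfl⟩
    have hπ's : Function.Surjective π' := fun c => by
      obtain ⟨z, rfl⟩ := hπ c
      exact ⟨q z, hπ' z⟩
    have hπ'g : GrLC.IsGrHom (quotG 𝒜 A.gr (y • (⊤ : Submodule R A.carrier)) hBh).gr C.gr π' := by
      intro j w hw
      obtain ⟨z, hz, hzw⟩ := (mem_quotGr' A.gr (y • (⊤ : Submodule R A.carrier))).1 hw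
      have hzw' : q z = w := (hq z).trans hzw
      rw [← hzw', hπ']
      exact hπg j z hz
    have hπ'k : LinearMap.ker π' = Ideal.ofList ys •
        (⊤ : Submodule R (quotG 𝒜 A.gr (y • (⊤ : Submodule R A.carrier)) hBh).carrier) := by
      apply le_antisymm
      · intro w hw
        obtain ⟨z, rfl⟩ := hqs w
        have hz : z ∈ LinearMap.ker π := by
          rw [LinearMap.mem_ker, ← hπ']
          exact LinearMap.mem_ker.1 hw
        rw [hkerπ] at hz
        obtain ⟨b, hb, c, hc, rfl⟩ := Submodule.mem_sup.1 hz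
        have hb0 : q b = 0 := by
          rw [hq]
          exact (Submodule.Quotient.mk_eq_zero _).2 hb
        rw [map_add, hb0, zero_add]
        have h1 : q c ∈ (Ideal.ofList ys • (⊤ : Submodule R A.carrier)).map q :=
          Submodule.mem_map_of_mem hc
        rw [Submodule.map_smul''] at h1
        have hle2 : Ideal.ofList ys • Submodule.map q ⊤ ≤ Ideal.ofList ys •
            (⊤ : Submodule R (quotG 𝒜 A.gr (y • (⊤ : Submodule R A.carrier)) hBh).carrier) :=
          smul_mono_right _ le_top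
        exact hle2 h1
      · intro w hw
        refine Submodule.smul_induction_on hw ?_ ?_
        · intro r hr v _
          obtain ⟨z, rfl⟩ := hqs v
          rw [LinearMap.mem_ker, ← map_smul, hπ']
          have h1 : r • z ∈ LinearMap.ker π := by
            rw [hkerπ]
            exact Submodule.mem_sup_right (Submodule.smul_mem_smul hr Submodule.mem_top)
          exact LinearMap.mem_ker.1 h1
        · intro v v' hv hv'
          exact Submodule.add_mem _ hv hv'
    exact hstep.trans (ih (quotG 𝒜 A.gr (y • (⊤ : Submodule R A.carrier)) hBh) hfin' C π' hys'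
      hreg' hπ's hπ'g hπ'k htor)

end RegSeq

end Groth.Agent.H98.GrCat
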