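import Groth.Agent.H98.GrTens
import Groth.Agent.H98.GrHPoly
import Groth.Agent.H98.GrSeq
import Groth.Agent.H98.GrRegSeq

/-!
# Helper library (helper98): the Hilbert function of the top graded local cohomology of a positively
graded ring possessing a homogeneous regular sequence of parameters of positive degrees modulo which
the ring is concentrated in degree `0` (e.g. weighted polynomial rings):
`dim H^d_{R_+}(R)_n = dim R_{-n - Σ deg}`.
-/

set_option autoImplicit false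
universe u

open DirectSum

namespace Groth.Agent.H98.GrCat

open Groth.Agent.H98.GrHt

section Iso

variable {ι : Type} [AddCommGroup ι] [DecidableEq ι]
variable {R : Type u} [CommRing R] {𝒜 : ι → AddSubgroup R} [GradedRing 𝒜]
variable {M N : Type u} [AddCommGroup M] [Module R M] [AddCommGroup N] [Module R N]
  {ℳ : ι → AddSubgroup M} [DirectSum.Decomposition ℳ] [SetLike.GradedSMul 𝒜 ℳ]
  {𝒩 : ι → AddSubgroup N} [DirectSum.Decomposition 𝒩] [SetLike.GradedSMul 𝒜 𝒩]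

/-- a homogeneous isomorphism induces isomorphisms of the pieces of graded local cohomology -/
theorem len_Hcomp_of_equiv (e : M ≃ₗ[R] N) (he : GrLC.IsGrHom ℳ 𝒩 e.toLinearMap)
    (E : GrLC.StarInjRes 𝒜 ℳ) (F : GrLC.StarInjRes 𝒜 𝒩) (a : HomogeneousIdeal 𝒜) (i : ℕ)
    (n : ι) :
    len (GrLC.deg0 𝒜) (E.Hcomp a i n) = len (GrLC.deg0 𝒜) (F.Hcomp a i n) := by
  have he' : GrLC.IsGrHom 𝒩 ℳ e.symm.toLinearMap := grHom_symm ℳ 𝒩 e he
  have h0 : GrLC.IsGrHomDeg ℳ 𝒩 e.toLinearMap 0 := fun k x hx => by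
    rw [add_zero]
    exact he k x hx
  have h0' : GrLC.IsGrHomDeg 𝒩 ℳ e.symm.toLinearMap 0 := fun k x hx => by
    rw [add_zero]
    exact he' k x hx
  have hid : (LinearMap.id : M →ₗ[R] M) = e.symm.toLinearMap.comp e.toLinearMap := by
    refine LinearMap.ext fun x => ?_
    simp
  have hid' : (LinearMap.id : N →ₗ[R] N) = e.toLinearMap.comp e.symm.toLinearMap := by
    refine LinearMap.ext fun x => ?_
    simp
  have huv : ∀ y : E.H a i, Tm F E a 0 e.symm.toLinearMap h0' i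
      (Tm E F a 0 e.toLinearMap h0 i y) = y := fun y => by
    rw [← Tm_comp' a h0 h0' (isGrHomDeg_id (ℳ := ℳ)) (add_zero 0).symm hid i y, Tm_id]
    rfl
  have hvu : ∀ y : F.H a i, Tm E F a 0 e.toLinearMap h0 i
      (Tm F E a 0 e.symm.toLinearMap h0' i y) = y := fun y => by
    rw [← Tm_comp' a h0' h0 (isGrHomDeg_id (ℳ := 𝒩)) (add_zero 0).symm hid' i y, Tm_id]
    rfl
  obtain ⟨f, hf⟩ : ∃ f : E.Hcomp a i n →ₗ[GrLC.deg0 𝒜] F.Hcomp a i n,
      ∀ y, ((f y : F.Hcomp a i n) : F.H a i) = Tm E F a 0 e.toLinearMap h0 i (y : E.H a i) :=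
    ⟨((Tm E F a 0 e.toLinearMap h0 i).restrictScalars (GrLC.deg0 𝒜)).restrict (fun y hy => by
      have h1 := Tm_mem_Hgr (F := E) (E := F) a h0 i (show y ∈ E.Hgr a i n from hy)
      rw [add_zero] at h1
      exact h1), fun _ => rfl⟩
  have hinj : Function.Injective f := by
    intro y y' hyy
    apply Subtype.ext
    have h1 := congrArg (fun z : F.Hcomp a i n => (z : F.H a i)) hyy
    simp only [hf] at h1
    have h2 := congrArg (Tm F E a 0 e.symm.toLinearMap h0' i) h1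
    rwa [huv, huv] at h2
  have hsurj : Function.Surjective f := by
    intro z
    have hz : Tm F E a 0 e.symm.toLinearMap h0' i (z : F.H a i) ∈ E.Hcomp a i n := by
      have h1 := Tm_mem_Hgr (F := F) (E := E) a h0' i (show (z : F.H a i) ∈ F.Hgr a i n from z.2)
      rw [add_zero] at h1
      exact h1
    refine ⟨⟨_, hz⟩, Subtype.ext ?_⟩
    rw [hf]
    exact hvu _
  unfold len
  rw [(LinearEquiv.ofBijective f ⟨hinj, hsurj⟩).length_eq]

/-- a homogeneous isomorphism induces isomorphisms of the pieces -/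
theorem len_comp_of_equiv (e : M ≃ₗ[R] N) (he : GrLC.IsGrHom ℳ 𝒩 e.toLinearMap) (n : ι) :
    len (GrLC.deg0 𝒜) (GrLC.comp 𝒜 ℳ n) = len (GrLC.deg0 𝒜) (GrLC.comp 𝒜 𝒩 n) := by
  have he' : GrLC.IsGrHom 𝒩 ℳ e.symm.toLinearMap := grHom_symm ℳ 𝒩 e he
  obtain ⟨f, hf⟩ : ∃ f : GrLC.comp 𝒜 ℳ n →ₗ[GrLC.deg0 𝒜] GrLC.comp 𝒜 𝒩 n,
      ∀ y, ((f y : GrLC.comp 𝒜 𝒩 n) : N) = e (y : M) :=
    ⟨(e.toLinearMap.restrictScalars (GrLC.deg0 𝒜)).restrict (fun y hy => he n y hy),
      fun _ => rfl⟩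
  have hinj : Function.Injective f := by
    intro y y' hyy
    apply Subtype.ext
    have h1 := congrArg (fun z : GrLC.comp 𝒜 𝒩 n => (z : N)) hyy
    simp only [hf] at h1
    exact e.injective h1
  have hsurj : Function.Surjective f := by
    intro z
    refine ⟨⟨e.symm (z : N), he' n _ z.2⟩, Subtype.ext ?_⟩
    rw [hf]
    exact e.apply_symm_apply _
  unfold len
  rw [(LinearEquiv.ofBijective f ⟨hinj, hsurj⟩).length_eq]

end Iso

section MulX

variable {R : Type u} [CommRing R] {𝒜 : ℤ → AddSubgroup R} [GradedRing 𝒜]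
variable {M N : Type u} [AddCommGroup M] [Module R M] [AddCommGroup N] [Module R N]
  {ℳ : ℤ → AddSubgroup M} [DirectSum.Decomposition ℳ] [SetLike.GradedSMul 𝒜 ℳ]
  {𝒩 : ℤ → AddSubgroup N} [DirectSum.Decomposition 𝒩] [SetLike.GradedSMul 𝒜 𝒩]

/-- if `H^i_a(M/xM) = 0` for a homogeneous `M`-regular `x ∈ a`, then `H^{i+1}_a(M) = 0` -/
theorem vn_of_mulx (a : HomogeneousIdeal 𝒜) (x : R) (k : ℤ) (hxk : x ∈ 𝒜 k)
    (hxa : x ∈ a.toIdeal) (hreg : IsSMulRegular M x) (π : M →ₗ[R] N)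
    (hπ : Function.Surjective π) (hπg : GrLC.IsGrHom ℳ 𝒩 π)
    (hker : ∀ y, π y = 0 → ∃ z, x • z = y) (hker' : ∀ z, π (x • z) = 0)
    (E : GrLC.StarInjRes 𝒜 ℳ) (F : GrLC.StarInjRes 𝒜 𝒩) (i : ℕ) (hF : ∀ n, Vn F a i n)
    (n : ℤ) : Vn E a (i + 1) n := by
  obtain ⟨hA1, -⟩ := mulx_les a x k hxk hreg π hπ hπg hker hker' E F i
  have key : ∀ (p : ℕ) (n : ℤ) (c : (E.X (i + 1)).carrier), c ∈ E.cocyc a (i + 1) →
      c ∈ (E.X (i + 1)).gr n → x ^ p • c ∈ E.cobdy a (i + 1) → c ∈ E.cobdy a (i + 1) := by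
    intro p
    induction p with
    | zero =>
      intro n c _ _ h
      rwa [pow_zero, one_smul] at h
    | succ p ih =>
      intro n c hc hcn h
      refine ih n c hc hcn ?_
      have hpk : x ^ p ∈ 𝒜 (p • k) := SetLike.pow_mem_graded p hxk
      have h1 : x ^ p • c ∈ (E.X (i + 1)).gr (p • k + n) := gsmul_mem 𝒜 (E.X (i + 1)).gr hpk hcn
      have e1 : p • k + n = (p • k + n + k) + -k := by ring
      rw [e1] at h1
      refine hA1 (p • k + n + k) (x ^ p • c) (Submodule.smul_mem _ _ hc) h1 ?_ (hF _)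
      rw [smul_smul, ← pow_succ']
      exact h
  intro c hc hcn
  obtain ⟨N₀, hN₀⟩ : ∃ N₀ : ℕ, ∀ r ∈ a.toIdeal ^ N₀, r • c = 0 := (Submodule.mem_inf.1 hc).1
  refine key N₀ n c hc hcn ?_
  rw [hN₀ _ (Ideal.pow_mem_pow hxa N₀)]
  exact zero_mem _

end MulX

section Main

variable {R : Type u} [CommRing R] [IsNoetherianRing R] (𝒜 : ℤ → AddSubgroup R) [GradedRing 𝒜]
  [IsArtinianRing (GrLC.deg0 𝒜)]

/-- invariance of `Dfun` under homogeneous isomorphisms -/
theorem dfun_of_equiv {M N : Type u} [AddCommGroup M] [Module R M] [AddCommGroup N] [Module R N]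
    {ℳ : ℤ → AddSubgroup M} [DirectSum.Decomposition ℳ] [SetLike.GradedSMul 𝒜 ℳ]
    {𝒩 : ℤ → AddSubgroup N} [DirectSum.Decomposition 𝒩] [SetLike.GradedSMul 𝒜 𝒩]
    (e : M ≃ₗ[R] N) (he : GrLC.IsGrHom ℳ 𝒩 e.toLinearMap)
    (E : GrLC.StarInjRes 𝒜 ℳ) (F : GrLC.StarInjRes 𝒜 𝒩) (d : ℕ) (n : ℤ) :
    Dfun 𝒜 E d n = Dfun 𝒜 F d n := by
  unfold Dfun chi
  rw [len_comp_of_equiv e he n]
  congr 1
  exact Finset.sum_congr rfl fun i _ => by rw [len_Hcomp_of_equiv e he E F (irr 𝒜) i n]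

/-- Hilbert function of `R/(l_0, …, l_{s-1})` -/
noncomputable def Lq (l : List R) (hB : ∀ s, (Bq l s).IsHomogeneous 𝒜) (s : ℕ) (n : ℤ) : ℚ :=
  len (GrLC.deg0 𝒜) (GrLC.comp 𝒜 (quotG 𝒜 𝒜 (Bq l s) (hB s)).gr n)

variable (hpos : ∀ n : ℤ, n < 0 → 𝒜 n = ⊥)

include hpos in
/-- **the Hilbert function of the top graded local cohomology** of a positively graded ring with a
homogeneous regular sequence of parameters, of positive degrees, modulo which nothing survives
outside degree `0` -/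
theorem len_H_top_of_regular_seq (d : ℕ) (hd : ringKrullDim R = d)
    (f : Fin d → R) (deg : Fin d → ℤ) (hdeg : ∀ i, 0 < deg i) (hfdeg : ∀ i, f i ∈ 𝒜 (deg i))
    (hreg : RingTheory.Sequence.IsRegular R (List.ofFn f))
    (hq : ∀ n : ℤ, n ≠ 0 → ∀ r ∈ 𝒜 n, r ∈ Ideal.span (Set.range f))
    (I : GrLC.StarInjRes 𝒜 𝒜) :
    (∀ i, i < d → ∀ n, Vn I (irr 𝒜) i n) ∧
    ∀ n : ℤ, len (GrLC.deg0 𝒜) (I.Hcomp (irr 𝒜) d n) =
      len (GrLC.deg0 𝒜) (GrLC.comp 𝒜 𝒜 (-n - ∑ i, deg i)) := by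
  classical
  obtain ⟨l, hl⟩ : ∃ l : List R, l = List.ofFn f := ⟨_, rfl⟩
  have hlen : l.length = d := by rw [hl, List.length_ofFn]
  have hget : ∀ (s : ℕ) (hs : s < d) (hs' : s < l.length), l[s] = f ⟨s, hs⟩ := by
    intro s hs hs'
    subst hl
    exact List.getElem_ofFn hs'
  rw [← hl] at hreg
  have hlhom : ∀ r ∈ l, ∃ j, r ∈ 𝒜 j := by
    intro r hr
    rw [hl] at hr
    obtain ⟨i, rfl⟩ := List.mem_ofFn.1 hr
    exact ⟨deg i, hfdeg i⟩
  have hB := bq_isHomogeneous (𝒜 := 𝒜) l hlhom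
  obtain ⟨dg, hdg⟩ : ∃ dg : ℕ → ℤ, ∀ j, dg j = if h : j < d then deg ⟨j, h⟩ else 0 :=
    ⟨_, fun _ => rfl⟩
  obtain ⟨A, hA⟩ : ∃ A : ℕ → ℤ, ∀ s, A s = ∑ j ∈ Finset.Ico s d, dg j := ⟨_, fun _ => rfl⟩
  have hAd : A d = 0 := by rw [hA, Finset.Ico_self, Finset.sum_empty]
  have hAs : ∀ s, s < d → A s = dg s + A (s + 1) := by
    intro s hs
    rw [hA, hA, Finset.sum_eq_sum_Ico_succ_bot hs]
  have hA0 : A 0 = ∑ i, deg i := by
    rw [hA, ← Finset.range_eq_Ico, Finset.sum_range]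
    refine Finset.sum_congr rfl fun i _ => ?_
    rw [hdg, dif_pos i.2]
  -- the pieces of the quotients vanish in negative degrees
  have hLneg : ∀ s (n : ℤ), n < 0 → Lq 𝒜 l hB s n = 0 := by
    intro s n hn
    unfold Lq
    haveI : Subsingleton (GrLC.comp 𝒜 (quotG 𝒜 𝒜 (Bq l s) (hB s)).gr n) := by
      refine ⟨fun y y' => Subtype.ext ?_⟩
      obtain ⟨z, hz, hzy⟩ := (mem_quotGr' 𝒜 (Bq l s)).1 y.2
      obtain ⟨z', hz', hzy'⟩ := (mem_quotGr' 𝒜 (Bq l s)).1 y'.2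
      rw [hpos n hn, AddSubgroup.mem_bot] at hz hz'
      rw [← hzy, ← hzy', hz, hz']
    exact len_eq_zero_of_subsingleton _
  have hspan : Bq l d = Ideal.span (Set.range f) := by
    rw [bq_eq, List.take_of_length_le (le_of_eq hlen)]
    show Ideal.span {r | r ∈ l} = _
    congr 1
    ext r
    rw [hl]
    simp [List.mem_ofFn]
  have hirr : (irr 𝒜).toIdeal ≤ Ideal.span (Set.range f) := by
    rw [irr_toIdeal, Ideal.span_le]
    intro y hy
    obtain ⟨n, hn, hy'⟩ := Set.mem_iUnion₂.1 hy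
    exact hq n (ne_of_gt hn) y hy'
  have key : ∀ u s : ℕ, s + u = d →
      ∀ E : GrLC.StarInjRes 𝒜 (quotG 𝒜 𝒜 (Bq l s) (hB s)).gr,
      (∀ i, i < u → ∀ n, Vn E (irr 𝒜) i n) ∧
      ∀ n : ℤ, Dfun 𝒜 E d n = Lq 𝒜 l hB s n - (-1 : ℚ) ^ u * Lq 𝒜 l hB s (-n - A s) := by
    intro u
    induction u with
    | zero =>
      intro s hs E
      have hsd : s = d := by omega
      subst hsd
      refine ⟨fun i hi => absurd hi (Nat.not_lt_zero i), fun n => ?_⟩
      have htor : ∀ z : (quotG 𝒜 𝒜 (Bq l s) (hB s)).carrier, ∀ r ∈ (irr 𝒜).toIdeal,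
          r • z = 0 := by
        intro z r hr
        obtain ⟨c, rfl⟩ := (Bq l s).mkQ_surjective z
        have h5 : r • ((Bq l s).mkQ c : R ⧸ Bq l s) = 0 := by
          rw [← LinearMap.map_smul]
          refine (Submodule.Quotient.mk_eq_zero _).2 ?_
          rw [hspan, smul_eq_mul]
          exact Ideal.mul_mem_right _ _ (hirr hr)
        exact h5
      have hgam : GrLC.gam (irr 𝒜).toIdeal (quotG 𝒜 𝒜 (Bq l s) (hB s)).carrier = ⊤ := by
        rw [eq_top_iff]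
        intro z _
        exact ⟨1, fun r hr => htor z r (by rwa [pow_one] at hr)⟩
      have hchi : chi E (irr 𝒜) s n = Lq 𝒜 l hB s n := by
        unfold chi
        rw [Finset.sum_range_succ', pow_zero, one_mul,
          len_H0_of_torsion (irr 𝒜) E htor n]
        have hz : ∑ i ∈ Finset.range s, (-1 : ℚ) ^ (i + 1) *
            len (GrLC.deg0 𝒜) (E.Hcomp (irr 𝒜) (i + 1) n) = 0 := by
          refine Finset.sum_eq_zero fun i _ => ?_
          have hv := hv_torsion (irr 𝒜) (quotG 𝒜 𝒜 (Bq l s) (hB s)) hgam (i + 1)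
            (Nat.le_add_left 1 i) n E
          rw [Hcomp_eq_bot_of_vn hv]
          rw [len_eq_zero_of_subsingleton, mul_zero]
        rw [hz, zero_add]
        rfl
      have hsym : Lq 𝒜 l hB s n = Lq 𝒜 l hB s (-n) := by
        by_cases hn : n = 0
        · rw [hn, neg_zero]
        · have hz : ∀ n' : ℤ, n' ≠ 0 → Lq 𝒜 l hB s n' = 0 := by
            intro n' hn'
            unfold Lq
            haveI : Subsingleton (GrLC.comp 𝒜 (quotG 𝒜 𝒜 (Bq l s) (hB s)).gr n') := by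
              refine ⟨fun y y' => Subtype.ext ?_⟩
              obtain ⟨z, hz, hzy⟩ := (mem_quotGr' 𝒜 (Bq l s)).1 y.2
              obtain ⟨z', hz', hzy'⟩ := (mem_quotGr' 𝒜 (Bq l s)).1 y'.2
              have h1 : (Bq l s).mkQ z = 0 := by
                refine (Submodule.Quotient.mk_eq_zero _).2 ?_
                rw [hspan]
                exact hq n' hn' z hz
              have h2 : (Bq l s).mkQ z' = 0 := by
                refine (Submodule.Quotient.mk_eq_zero _).2 ?_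
                rw [hspan]
                exact hq n' hn' z' hz'
              rw [← hzy, ← hzy', h1, h2]
            exact len_eq_zero_of_subsingleton _
          rw [hz n hn, hz (-n) (neg_ne_zero.2 hn)]
      have hD : Dfun 𝒜 E s n = 0 := by
        unfold Dfun
        rw [hchi]
        exact sub_self _
      rw [hD, hAd, sub_zero, pow_zero, one_mul, ← hsym, sub_self]
    | succ u ih =>
      intro s hsu E
      have hs : s < d := by omega
      have hs' : s < l.length := by rw [hlen]; exact hs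
      obtain ⟨E', -⟩ : ∃ E' : GrLC.StarInjRes 𝒜 (quotG 𝒜 𝒜 (Bq l (s + 1)) (hB (s + 1))).gr,
          True := ⟨starInjRes 𝒜 _, trivial⟩
      obtain ⟨ihV, ihQ⟩ := ih (s + 1) (by omega) E'
      obtain ⟨x, hx⟩ : ∃ x : R, x = l[s] := ⟨_, rfl⟩
      have hxf : x = f ⟨s, hs⟩ := by rw [hx]; exact hget s hs hs'
      obtain ⟨δ, hδ⟩ : ∃ δ : ℤ, δ = deg ⟨s, hs⟩ := ⟨_, rfl⟩
      have hδpos : 0 < δ := by rw [hδ]; exact hdeg _
      have hdgs : dg s = δ := by rw [hdg, dif_pos hs, hδ]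
      have hxk : x ∈ 𝒜 δ := by rw [hxf, hδ]; exact hfdeg _
      have hxm : x ∈ (irr 𝒜).toIdeal := by
        rw [irr_toIdeal]
        exact Ideal.subset_span (Set.mem_iUnion₂.2 ⟨δ, hδpos, hxk⟩)
      have hxreg : IsSMulRegular (quotG 𝒜 𝒜 (Bq l s) (hB s)).carrier x := by
        rw [hx]
        exact hreg.toIsWeaklyRegular.regular_mod_prev s hs'
      have hle : Bq l s ≤ Bq l (s + 1) := by
        intro r hr
        exact (mem_bq_succ l s hs' r).2 ⟨r, hr, 0, by rw [zero_mul, add_zero]⟩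
      obtain ⟨π', hπ'⟩ : ∃ π' : (quotG 𝒜 𝒜 (Bq l s) (hB s)).carrier →ₗ[R]
          (quotG 𝒜 𝒜 (Bq l (s + 1)) (hB (s + 1))).carrier,
          ∀ r : R, π' ((Bq l s).mkQ r) = (Bq l (s + 1)).mkQ r :=
        ⟨Submodule.mapQ (Bq l s) (Bq l (s + 1)) LinearMap.id hle, fun r => rfl⟩
      have hπ's : Function.Surjective π' := by
        intro y
        obtain ⟨r, rfl⟩ := (Bq l (s + 1)).mkQ_surjective y
        exact ⟨(Bq l s).mkQ r, hπ' r⟩
      have hπ'g : GrLC.IsGrHom (quotG 𝒜 𝒜 (Bq l s) (hB s)).gr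
          (quotG 𝒜 𝒜 (Bq l (s + 1)) (hB (s + 1))).gr π' := by
        intro j y hy
        obtain ⟨z, hz, rfl⟩ := (mem_quotGr' 𝒜 (Bq l s)).1 hy
        rw [hπ']
        exact (mem_quotGr' 𝒜 (Bq l (s + 1))).2 ⟨z, hz, rfl⟩
      have hker : ∀ y, π' y = 0 → ∃ z, x • z = y := by
        intro y hy
        obtain ⟨r, rfl⟩ := (Bq l s).mkQ_surjective y
        rw [hπ'] at hy
        have h1 : r ∈ Bq l (s + 1) := (Submodule.Quotient.mk_eq_zero _).1 hy
        obtain ⟨b, hb, c, hc⟩ := (mem_bq_succ l s hs' r).1 h1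
        refine ⟨(Bq l s).mkQ c, ?_⟩
        have h5 : x • ((Bq l s).mkQ c : R ⧸ Bq l s) = (Bq l s).mkQ r := by
          rw [← LinearMap.map_smul]
          refine (Submodule.Quotient.eq _).2 ?_
          rw [← hc, ← hx, smul_eq_mul]
          have e1 : x * c - (b + c * x) = -b := by ring
          rw [e1]
          exact neg_mem hb
        exact h5
      have hker' : ∀ z, π' (x • z) = 0 := by
        intro z
        obtain ⟨c, rfl⟩ := (Bq l s).mkQ_surjective z
        rw [map_smul, hπ']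
        have h5 : x • ((Bq l (s + 1)).mkQ c : R ⧸ Bq l (s + 1)) = 0 := by
          rw [← LinearMap.map_smul]
          refine (Submodule.Quotient.mk_eq_zero _).2 ?_
          exact (mem_bq_succ l s hs' _).2 ⟨0, zero_mem _, c, by
            rw [zero_add, ← hx, smul_eq_mul, mul_comm]⟩
        exact h5
      constructor
      · intro i hi n
        cases i with
        | zero =>
          exact hv_zero_of_regular (irr 𝒜) (quotG 𝒜 𝒜 (Bq l s) (hB s)) x hxm hxreg n E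
        | succ i =>
          exact vn_of_mulx (irr 𝒜) x δ hxk hxm hxreg π' hπ's hπ'g hker hker' E E' i
            (fun n' => ihV i (by omega) n') n
      · -- the two difference equations
        haveI hBfin : Module.Finite R (quotG 𝒜 𝒜 (Bq l s) (hB s)).carrier :=
          (inferInstance : Module.Finite R (R ⧸ Bq l s))
        haveI hCfin : Module.Finite R (quotG 𝒜 𝒜 (Bq l (s + 1)) (hB (s + 1))).carrier :=
          (inferInstance : Module.Finite R (R ⧸ Bq l (s + 1)))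
        haveI hAfin : Module.Finite R
            (shiftG 𝒜 (quotG 𝒜 𝒜 (Bq l s) (hB s)).gr (-δ)).carrier :=
          (inferInstance : Module.Finite R (R ⧸ Bq l s))
        obtain ⟨f₂, hf₂⟩ : ∃ f₂ : (shiftG 𝒜 (quotG 𝒜 𝒜 (Bq l s) (hB s)).gr (-δ)).carrier →ₗ[R]
            (quotG 𝒜 𝒜 (Bq l s) (hB s)).carrier,
            ∀ z : (quotG 𝒜 𝒜 (Bq l s) (hB s)).carrier, f₂ z = x • z :=
          ⟨LinearMap.lsmul R (quotG 𝒜 𝒜 (Bq l s) (hB s)).carrier x, fun _ => rfl⟩
        have hf₂g : GrLC.IsGrHom (shiftG 𝒜 (quotG 𝒜 𝒜 (Bq l s) (hB s)).gr (-δ)).gr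
            (quotG 𝒜 𝒜 (Bq l s) (hB s)).gr f₂ := by
          intro j v hv
          rw [hf₂]
          have h := gsmul_mem 𝒜 (quotG 𝒜 𝒜 (Bq l s) (hB s)).gr hxk
            (show (v : (quotG 𝒜 𝒜 (Bq l s) (hB s)).carrier) ∈
              (quotG 𝒜 𝒜 (Bq l s) (hB s)).gr (j + -δ) from hv)
          have e : δ + (j + -δ) = j := by ring
          rwa [e] at h
        have hf₂inj : Function.Injective f₂ := by
          intro v w hvw
          rw [hf₂, hf₂] at hvw
          exact hxreg hvw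
        have hex : ∀ b, π' b = 0 → ∃ a', f₂ a' = b := by
          intro b hb
          obtain ⟨z, hz⟩ := hker b hb
          exact ⟨z, by rw [hf₂]; exact hz⟩
        have hgf : ∀ a', π' (f₂ a') = 0 := by
          intro a'
          rw [hf₂]
          exact hker' _
        have hR2 : ∀ n : ℤ, Dfun 𝒜 E d n = Dfun 𝒜 E d (n + -δ) + Dfun 𝒜 E' d n := by
          intro n
          have h2 := dfun_additive 𝒜 hpos d hd
            (A := shiftG 𝒜 (quotG 𝒜 𝒜 (Bq l s) (hB s)).gr (-δ))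
            (B := quotG 𝒜 𝒜 (Bq l s) (hB s))
            (C := quotG 𝒜 𝒜 (Bq l (s + 1)) (hB (s + 1))) f₂ π' hf₂g hπ'g hf₂inj hπ's hex hgf
            (shiftRes E (-δ)) E E' n
          rw [dfun_shift 𝒜 d E (-δ) n] at h2
          exact h2
        have hR1 : ∀ n : ℤ, Lq 𝒜 l hB s n = Lq 𝒜 l hB s (n + -δ) + Lq 𝒜 l hB (s + 1) n := by
          intro n
          have h2 := hilb_additive
            (A := shiftG 𝒜 (quotG 𝒜 𝒜 (Bq l s) (hB s)).gr (-δ))
            (B := quotG 𝒜 𝒜 (Bq l s) (hB s))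
            (C := quotG 𝒜 𝒜 (Bq l (s + 1)) (hB (s + 1))) f₂ π' hf₂g hπ'g hf₂inj hπ's hex hgf n
            (finLen_comp 𝒜 (quotG 𝒜 𝒜 (Bq l s) (hB s)).carrier (quotG 𝒜 𝒜 (Bq l s) (hB s)).gr n)
          exact h2
        obtain ⟨Z, hZ⟩ : ∃ Z : ℤ → ℚ, ∀ n, Z n = Dfun 𝒜 E d n -
            (Lq 𝒜 l hB s n - (-1 : ℚ) ^ (u + 1) * Lq 𝒜 l hB s (-n - A s)) := ⟨_, fun _ => rfl⟩
        have hper : ∀ n, Z n = Z (n + -δ) := by
          intro n
          rw [hZ, hZ, hR2 n, ihQ n, hR1 n]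
          have e1 : -(n + -δ) - A s = (-n - A (s + 1)) := by
            rw [hAs s hs, hdgs]
            ring
          have e2 : -n - A s = (-n - A (s + 1)) + -δ := by
            rw [hAs s hs, hdgs]
            ring
          rw [e1, hR1 (-n - A (s + 1)), ← e2, pow_succ]
          ring
        obtain ⟨N₁, hN₁⟩ := exists_vn_bound 𝒜 hpos (quotG 𝒜 𝒜 (Bq l s) (hB s)).carrier
          (quotG 𝒜 𝒜 (Bq l s) (hB s)).gr E (d + 1)
        have hev : ∀ n, max N₁ (-A s + 1) ≤ n → Z n = 0 := by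
          intro n hn
          have hn1 : N₁ ≤ n := le_trans (le_max_left _ _) hn
          have hn2 : -n - A s < 0 := by
            have := le_trans (le_max_right _ _) hn
            omega
          have hchi : chi E (irr 𝒜) d n = 0 := by
            unfold chi
            refine Finset.sum_eq_zero fun i hi => ?_
            rw [Hcomp_eq_bot_of_vn (hN₁ i (Finset.mem_range.1 hi) n hn1),
              len_eq_zero_of_subsingleton, mul_zero]
          rw [hZ, hLneg s _ hn2]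
          unfold Dfun
          rw [hchi]
          unfold Lq
          ring
        have hshift : ∀ (K : ℕ) (n : ℤ), Z n = Z (n + K * δ) := by
          intro K
          induction K with
          | zero =>
            intro n
            rw [Nat.cast_zero, zero_mul, add_zero]
          | succ K ihK =>
            intro n
            rw [ihK n, hper (n + ((K + 1 : ℕ) : ℤ) * δ)]
            congr 1
            push_cast
            ring
        have hZ0 : ∀ n, Z n = 0 := by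
          intro n
          obtain ⟨K, hK⟩ : ∃ K : ℕ, max N₁ (-A s + 1) ≤ n + K * δ := by
            refine ⟨(max N₁ (-A s + 1) - n).toNat, ?_⟩
            have h1 : max N₁ (-A s + 1) - n ≤ ((max N₁ (-A s + 1) - n).toNat : ℤ) :=
              Int.self_le_toNat _
            have h2 : (((max N₁ (-A s + 1) - n).toNat : ℕ) : ℤ) ≤
                ((max N₁ (-A s + 1) - n).toNat : ℤ) * δ := by
              have h3 : (0 : ℤ) ≤ ((max N₁ (-A s + 1) - n).toNat : ℤ) := Int.natCast_nonneg _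
              nlinarith
            linarith
          rw [hshift K n]
          exact hev _ hK
        intro n
        have h1 := hZ0 n
        rw [hZ] at h1
        exact sub_eq_zero.1 h1
  -- the case `s = 0`: transfer to the ring itself
  obtain ⟨E₀, -⟩ : ∃ E₀ : GrLC.StarInjRes 𝒜 (quotG 𝒜 𝒜 (Bq l 0) (hB 0)).gr, True :=
    ⟨starInjRes 𝒜 _, trivial⟩
  obtain ⟨hV, hQ⟩ := key d 0 (by omega) E₀
  have hB0 : Bq l 0 = ⊥ := by
    rw [bq_eq, List.take_zero, Ideal.ofList_nil]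
  obtain ⟨e, he⟩ : ∃ e : R ≃ₗ[R] (quotG 𝒜 𝒜 (Bq l 0) (hB 0)).carrier,
      ∀ r, e r = (Bq l 0).mkQ r :=
    ⟨(Submodule.quotEquivOfEqBot _ hB0).symm, fun r => rfl⟩
  have heg : GrLC.IsGrHom 𝒜 (quotG 𝒜 𝒜 (Bq l 0) (hB 0)).gr e.toLinearMap := by
    intro j r hr
    show e r ∈ _
    rw [he]
    exact (mem_quotGr' 𝒜 (Bq l 0)).2 ⟨r, hr, rfl⟩
  have heg' := grHom_symm 𝒜 (quotG 𝒜 𝒜 (Bq l 0) (hB 0)).gr e heg
  have hVI : ∀ i, i < d → ∀ n, Vn I (irr 𝒜) i n := fun i hi n =>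
    vn_of_equiv e.symm heg' E₀ I (irr 𝒜) i n (hV i hi n)
  refine ⟨hVI, fun n => ?_⟩
  have hD : Dfun 𝒜 I d n = Dfun 𝒜 E₀ d n := dfun_of_equiv 𝒜 e heg I E₀ d n
  have hL : ∀ n', len (GrLC.deg0 𝒜) (GrLC.comp 𝒜 𝒜 n') = Lq 𝒜 l hB 0 n' := fun n' =>
    len_comp_of_equiv e heg n'
  have hchi : chi I (irr 𝒜) d n =
      (-1 : ℚ) ^ d * len (GrLC.deg0 𝒜) (I.Hcomp (irr 𝒜) d n) := by
    unfold chi
    rw [Finset.sum_range_succ]
    have hz : ∑ i ∈ Finset.range d, (-1 : ℚ) ^ i *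
        len (GrLC.deg0 𝒜) (I.Hcomp (irr 𝒜) i n) = 0 := by
      refine Finset.sum_eq_zero fun i hi => ?_
      rw [Hcomp_eq_bot_of_vn (hVI i (Finset.mem_range.1 hi) n), len_eq_zero_of_subsingleton,
        mul_zero]
    rw [hz, zero_add]
  have h1 : Dfun 𝒜 I d n = len (GrLC.deg0 𝒜) (GrLC.comp 𝒜 𝒜 n) -
      (-1 : ℚ) ^ d * len (GrLC.deg0 𝒜) (I.Hcomp (irr 𝒜) d n) := by
    unfold Dfun
    rw [hchi]
  rw [hD, hQ n, ← hL n, ← hL (-n - A 0), hA0] at h1
  have h2 : (-1 : ℚ) ^ d * len (GrLC.deg0 𝒜) (GrLC.comp 𝒜 𝒜 (-n - ∑ i, deg i)) =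
      (-1 : ℚ) ^ d * len (GrLC.deg0 𝒜) (I.Hcomp (irr 𝒜) d n) := by linarith
  have h3 : ((-1 : ℚ) ^ d) ≠ 0 := pow_ne_zero _ (by norm_num)
  exact (mul_left_cancel₀ h3 h2).symm

end Main

end Groth.Agent.H98.GrCat
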