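import Groth.Agent.H98.GrProd

/-!
# Helper library (helper98): the horseshoe lemma for *injective resolutions of a short exact
sequence of graded modules, in the hand-rolled setting of `GrLC.StarInjRes`.
-/

set_option autoImplicit false
universe u

open DirectSum

namespace Groth.Agent.H98.GrCat

variable {ι : Type} [AddCommGroup ι] [DecidableEq ι]
variable {R : Type u} [CommRing R] {𝒜 : ι → AddSubgroup R} [GradedRing 𝒜]

section Horse

variable {A B C : Type u} [AddCommGroup A] [Module R A] [AddCommGroup B] [Module R B]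
  [AddCommGroup C] [Module R C]
  {𝒜A : ι → AddSubgroup A} [DirectSum.Decomposition 𝒜A] [SetLike.GradedSMul 𝒜 𝒜A]
  {𝒜B : ι → AddSubgroup B} [DirectSum.Decomposition 𝒜B] [SetLike.GradedSMul 𝒜 𝒜B]
  {𝒜C : ι → AddSubgroup C} [DirectSum.Decomposition 𝒜C] [SetLike.GradedSMul 𝒜 𝒜C]
  (f : A →ₗ[R] B) (g : B →ₗ[R] C)
  (F : GrLC.StarInjRes 𝒜 𝒜A) (G : GrLC.StarInjRes 𝒜 𝒜C)

/-- the state of the recursive construction of the twisting maps -/
structure HsSt (n : ℕ) where
  /-- the twisting map -/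
  θ : (G.X n).carrier →ₗ[R] (F.X (n + 1)).carrier
  hgr : GrLC.IsGrHom (G.X n).gr (F.X (n + 1)).gr θ
  hker : ∀ c, G.d n c = 0 → F.d (n + 1) (θ c) = 0

variable {F G}

theorem HsSt.exists_next {n : ℕ} (s : HsSt F G n) :
    ∃ t : HsSt F G (n + 1), ∀ c, t.θ (G.d n c) = - F.d (n + 1) (s.θ c) := by
  obtain ⟨h, hh, hhj⟩ := exists_extension_gr 𝒜 (F.X (n + 1 + 1)).gr (F.starInj (n + 1 + 1))
    (G.X n) (G.X (n + 1)) (G.d n) (G.d_grHom n) (-((F.d (n + 1)).comp s.θ))
    (fun k c hc => neg_mem (F.d_grHom (n + 1) k _ (s.hgr k c hc)))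
    (fun c hc => by
      rw [LinearMap.neg_apply, LinearMap.comp_apply, s.hker c hc, neg_zero])
  refine ⟨⟨h, hh, fun c hc => ?_⟩, fun c => ?_⟩
  · have h1 : c ∈ LinearMap.range (G.d n) := by
      rw [← G.exact_succ n]
      exact LinearMap.mem_ker.2 hc
    obtain ⟨c', rfl⟩ := h1
    rw [hhj, LinearMap.neg_apply, LinearMap.comp_apply, map_neg, StarInjRes_d_d F (n + 1),
      neg_zero]
  · rw [hhj, LinearMap.neg_apply, LinearMap.comp_apply]

/-- the next state -/
noncomputable def HsSt.next {n : ℕ} (s : HsSt F G n) : HsSt F G (n + 1) :=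
  Classical.choose s.exists_next

theorem HsSt.next_spec {n : ℕ} (s : HsSt F G n) (c : (G.X n).carrier) :
    s.next.θ (G.d n c) = - F.d (n + 1) (s.θ c) :=
  Classical.choose_spec s.exists_next c

/-- the sequence of states -/
noncomputable def hsSeq (s0 : HsSt F G 0) : ∀ n, HsSt F G n :=
  fun n => Nat.rec s0 (fun _ s => s.next) n

variable (F G)

/-- the data of a horseshoe resolution: an extension `σ` of the augmentation and twisting maps -/
structure HsData where
  /-- the extension of the augmentation of `A` to `B` -/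
  σ : B →ₗ[R] (F.X 0).carrier
  hσgr : GrLC.IsGrHom 𝒜B (F.X 0).gr σ
  hσf : ∀ a, σ (f a) = F.ε a
  /-- the twisting maps -/
  θ : ∀ n, (G.X n).carrier →ₗ[R] (F.X (n + 1)).carrier
  hθgr : ∀ n, GrLC.IsGrHom (G.X n).gr (F.X (n + 1)).gr (θ n)
  hθ0 : ∀ b, θ 0 (G.ε (g b)) = - F.d 0 (σ b)
  hθs : ∀ n c, θ (n + 1) (G.d n c) = - F.d (n + 1) (θ n c)

variable {f g}
variable (hf : GrLC.IsGrHom 𝒜A 𝒜B f) (hg : GrLC.IsGrHom 𝒜B 𝒜C g)
  (hfinj : Function.Injective f) (hgsurj : Function.Surjective g)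
  (hex : ∀ b, g b = 0 → ∃ a, f a = b) (hgf : ∀ a, g (f a) = 0)

include hf hg hfinj hgsurj hex in
theorem nonempty_hsData : Nonempty (HsData (𝒜B := 𝒜B) f g F G) := by
  obtain ⟨σ, hσgr, hσf⟩ : ∃ σ : B →ₗ[R] (F.X 0).carrier,
      GrLC.IsGrHom 𝒜B (F.X 0).gr σ ∧ ∀ a, σ (f a) = F.ε a :=
    exists_extension_gr 𝒜 (F.X 0).gr (F.starInj 0) (GrLC.GMod.of 𝒜 A 𝒜A)
      (GrLC.GMod.of 𝒜 B 𝒜B) f hf F.ε F.ε_grHom
      (fun a ha => by
        have h0 : (a : A) = 0 := hfinj (ha.trans (map_zero f).symm)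
        exact (congrArg F.ε h0).trans (map_zero F.ε))
  obtain ⟨θ₀, hθ₀gr, hθ₀⟩ : ∃ θ₀ : (G.X 0).carrier →ₗ[R] (F.X (0 + 1)).carrier,
      GrLC.IsGrHom (G.X 0).gr (F.X (0 + 1)).gr θ₀ ∧
        ∀ b : B, θ₀ (G.ε (g b)) = -(F.d 0 (σ b)) :=
    exists_extension_gr 𝒜 (F.X (0 + 1)).gr (F.starInj (0 + 1)) (GrLC.GMod.of 𝒜 B 𝒜B) (G.X 0)
      (G.ε.comp g) (fun k b hb => G.ε_grHom k _ (hg k b hb)) (-((F.d 0).comp σ))
      (fun k b hb => neg_mem (F.d_grHom 0 k _ (hσgr k b hb)))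
      (fun b hb => by
        have h1 : g b = 0 := G.ε_injective (hb.trans (map_zero G.ε).symm)
        obtain ⟨a, ha⟩ := hex b h1
        show -(F.d 0 (σ b)) = 0
        rw [← ha, hσf, StarInjRes_d_ε, neg_zero])
  have hker₀ : ∀ c, G.d 0 c = 0 → F.d (0 + 1) (θ₀ c) = 0 := by
    intro c hc
    have h1 : c ∈ LinearMap.range G.ε := by
      rw [← G.exact_zero]
      exact LinearMap.mem_ker.2 hc
    obtain ⟨c', rfl⟩ := h1
    obtain ⟨b, rfl⟩ := hgsurj c'
    rw [hθ₀, map_neg, StarInjRes_d_d F 0, neg_zero]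
  exact ⟨{ σ := σ
           hσgr := hσgr
           hσf := hσf
           θ := fun n => (hsSeq (⟨θ₀, hθ₀gr, hker₀⟩ : HsSt F G 0) n).θ
           hθgr := fun n => (hsSeq (⟨θ₀, hθ₀gr, hker₀⟩ : HsSt F G 0) n).hgr
           hθ0 := hθ₀
           hθs := fun n c => (hsSeq (⟨θ₀, hθ₀gr, hker₀⟩ : HsSt F G 0) n).next_spec c }⟩

variable {F G}
variable (D : HsData (𝒜B := 𝒜B) f g F G)

include hg hgsurj hex hgf in
/-- the horseshoe resolution of the middle term -/
noncomputable def hsRes : GrLC.StarInjRes 𝒜 𝒜B where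
  X := fun n => prodG 𝒜 (F.X n) (G.X n)
  d := fun n => LinearMap.prod
    ((F.d n).comp (LinearMap.fst R (F.X n).carrier (G.X n).carrier) +
      (D.θ n).comp (LinearMap.snd R (F.X n).carrier (G.X n).carrier))
    ((G.d n).comp (LinearMap.snd R (F.X n).carrier (G.X n).carrier))
  ε := LinearMap.prod D.σ (G.ε.comp g)
  d_grHom := fun n k p hp =>
    ⟨add_mem (F.d_grHom n k _ hp.1) (D.hθgr n k _ hp.2), G.d_grHom n k _ hp.2⟩
  ε_grHom := fun k b hb => ⟨D.hσgr k b hb, G.ε_grHom k _ (hg k b hb)⟩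
  ε_injective := by
    intro b b' h
    have h1 : D.σ b = D.σ b' := congrArg Prod.fst h
    have h2 : G.ε (g b) = G.ε (g b') := congrArg Prod.snd h
    have h3 : g (b - b') = 0 := by rw [map_sub, G.ε_injective h2, sub_self]
    obtain ⟨a, ha⟩ := hex _ h3
    have h4 : F.ε a = 0 := by rw [← D.hσf, ha, map_sub, h1, sub_self]
    have h5 : a = 0 := F.ε_injective (h4.trans (map_zero F.ε).symm)
    rw [h5, map_zero] at ha
    exact sub_eq_zero.1 ha.symm
  exact_zero := by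
    ext p
    obtain ⟨x, c⟩ := p
    rw [LinearMap.mem_ker, LinearMap.mem_range]
    constructor
    · intro h
      have h1 : F.d 0 x + D.θ 0 c = 0 := congrArg Prod.fst h
      have h2 : G.d 0 c = 0 := congrArg Prod.snd h
      have h3 : c ∈ LinearMap.range G.ε := by
        rw [← G.exact_zero]
        exact LinearMap.mem_ker.2 h2
      obtain ⟨c', rfl⟩ := h3
      obtain ⟨b, rfl⟩ := hgsurj c'
      rw [D.hθ0, ← sub_eq_add_neg, ← map_sub] at h1
      have h4 : x - D.σ b ∈ LinearMap.range F.ε := by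
        rw [← F.exact_zero]
        exact LinearMap.mem_ker.2 h1
      obtain ⟨a', ha'⟩ := h4
      refine ⟨b + f a', Prod.ext ?_ ?_⟩
      · show D.σ (b + f a') = x
        rw [map_add, D.hσf, ha']
        abel
      · show G.ε (g (b + f a')) = G.ε (g b)
        rw [map_add, hgf, add_zero]
    · rintro ⟨b, hb⟩
      rw [← hb]
      refine Prod.ext ?_ ?_
      · show F.d 0 (D.σ b) + D.θ 0 (G.ε (g b)) = 0
        rw [D.hθ0, add_neg_cancel]
      · show G.d 0 (G.ε (g b)) = 0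
        exact StarInjRes_d_ε G _
  exact_succ := by
    intro n
    ext p
    obtain ⟨x, c⟩ := p
    rw [LinearMap.mem_ker, LinearMap.mem_range]
    constructor
    · intro h
      have h1 : F.d (n + 1) x + D.θ (n + 1) c = 0 := congrArg Prod.fst h
      have h2 : G.d (n + 1) c = 0 := congrArg Prod.snd h
      have h3 : c ∈ LinearMap.range (G.d n) := by
        rw [← G.exact_succ n]
        exact LinearMap.mem_ker.2 h2
      obtain ⟨c', rfl⟩ := h3
      rw [D.hθs, ← sub_eq_add_neg, ← map_sub] at h1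
      have h4 : x - D.θ n c' ∈ LinearMap.range (F.d n) := by
        rw [← F.exact_succ n]
        exact LinearMap.mem_ker.2 h1
      obtain ⟨x', hx'⟩ := h4
      refine ⟨(x', c'), Prod.ext ?_ rfl⟩
      show F.d n x' + D.θ n c' = x
      rw [hx']
      abel
    · rintro ⟨⟨x', c'⟩, hb⟩
      rw [← hb]
      refine Prod.ext ?_ ?_
      · show F.d (n + 1) (F.d n x' + D.θ n c') + D.θ (n + 1) (G.d n c') = 0
        rw [map_add, StarInjRes_d_d F n, zero_add, D.hθs, add_neg_cancel]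
      · show G.d (n + 1) (G.d n c') = 0
        exact StarInjRes_d_d G n _
  starInj := fun n => prodG_isStarInj 𝒜 (F.starInj n) (G.starInj n)

end Horse

end Groth.Agent.H98.GrCat
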