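import Mathlib

/-!
# Helper library (helper98): comparing the length over a ring `S` with the length over a
coefficient field `k` (for modules killed by a power of an ideal `m` with `S = k + m`), and the
length of a graded vector space against the lengths of finitely many pieces.
-/

set_option autoImplicit false
universe u v w

namespace Groth.Agent.H98.GrLen

section A

variable {k : Type v} [Field k] {S : Type w} [CommRing S] [Algebra k S] (m : Ideal S)
  (hm : ∀ s : S, ∃ c : k, s - algebraMap k S c ∈ m)

include hm in
/-- over a module killed by `m`, `k`-subspaces are `S`-submodules -/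
theorem length_le_of_smul_eq_zero (N : Type u) [AddCommGroup N] [Module S N] [Module k N]
    [IsScalarTower k S N] (h : ∀ s ∈ m, ∀ z : N, s • z = 0) :
    Module.length k N ≤ Module.length S N := by
  rw [← WithBot.coe_le_coe, Module.coe_length, Module.coe_length]
  refine Order.krullDim_le_of_strictMono (fun V : Submodule k N =>
    ({ carrier := V
       add_mem' := V.add_mem
       zero_mem' := V.zero_mem
       smul_mem' := fun s z hz => by
         obtain ⟨c, hc⟩ := hm s
         have h1 := h _ hc z
         rw [sub_smul, algebraMap_smul] at h1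
         have h2 : s • z = c • z := sub_eq_zero.1 h1
         rw [h2]
         exact V.smul_mem c hz } : Submodule S N)) ?_
  intro V W hVW
  exact SetLike.coe_ssubset_coe.1 (SetLike.coe_ssubset_coe.2 hVW)

include hm in
/-- for a module killed by a power of `m`, the length over `S` is at least the length over `k` -/
theorem length_le_of_pow (c : ℕ) : ∀ (N : Type u) [AddCommGroup N] [Module S N] [Module k N]
    [IsScalarTower k S N], (∀ s ∈ m ^ c, ∀ z : N, s • z = 0) →
    Module.length k N ≤ Module.length S N := by
  induction c with
  | zero =>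
    intro N _ _ _ _ h
    have hs : Subsingleton N := ⟨fun a b => by
      have ha := h 1 (by simp) a
      have hb := h 1 (by simp) b
      rw [one_smul] at ha hb
      rw [ha, hb]⟩
    rw [Module.length_eq_zero]
    exact bot_le
  | succ c ih =>
    intro N _ _ _ _ h
    have h1 : Module.length S N = Module.length S (m • (⊤ : Submodule S N) : Submodule S N) +
        Module.length S (N ⧸ (m • (⊤ : Submodule S N))) :=
      Module.length_eq_add_of_exact (m • (⊤ : Submodule S N)).subtype
        (m • (⊤ : Submodule S N)).mkQ (Submodule.subtype_injective _)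
        (Submodule.mkQ_surjective _) (LinearMap.exact_subtype_mkQ _)
    have h2 : Module.length k N = Module.length k (m • (⊤ : Submodule S N) : Submodule S N) +
        Module.length k (N ⧸ (m • (⊤ : Submodule S N))) := by
      obtain ⟨f₁, hf₁⟩ : ∃ f₁ : (m • (⊤ : Submodule S N) : Submodule S N) →ₗ[k] N,
          ∀ z, f₁ z = (z : N) :=
        ⟨(m • (⊤ : Submodule S N)).subtype.restrictScalars k, fun _ => rfl⟩
      obtain ⟨g₁, hg₁⟩ : ∃ g₁ : N →ₗ[k] (N ⧸ (m • (⊤ : Submodule S N))),
          ∀ z, g₁ z = Submodule.Quotient.mk z :=
        ⟨(m • (⊤ : Submodule S N)).mkQ.restrictScalars k, fun _ => rfl⟩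
      refine Module.length_eq_add_of_exact f₁ g₁ ?_ ?_ ?_
      · intro a b hab
        rw [hf₁, hf₁] at hab
        exact Subtype.ext hab
      · intro z
        obtain ⟨w, rfl⟩ := Submodule.mkQ_surjective _ z
        exact ⟨w, hg₁ w⟩
      · intro z
        rw [hg₁, Submodule.Quotient.mk_eq_zero]
        constructor
        · intro hz
          exact ⟨⟨z, hz⟩, hf₁ _⟩
        · rintro ⟨y, rfl⟩
          rw [hf₁]
          exact y.2
    have h3 : Module.length k (m • (⊤ : Submodule S N) : Submodule S N) ≤
        Module.length S (m • (⊤ : Submodule S N) : Submodule S N) := by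
      refine ih _ (fun s hs z => ?_)
      apply Subtype.ext
      show s • (z : N) = 0
      refine Submodule.smul_induction_on z.2 (fun a ha w _ => ?_) (fun x y hx hy => ?_)
      · rw [← mul_smul]
        refine h _ ?_ w
        rw [pow_succ]
        exact Ideal.mul_mem_mul hs ha
      · rw [smul_add, hx, hy, add_zero]
    have h4 : Module.length k (N ⧸ (m • (⊤ : Submodule S N))) ≤
        Module.length S (N ⧸ (m • (⊤ : Submodule S N))) := by
      refine length_le_of_smul_eq_zero m hm _ (fun s hs z => ?_)
      obtain ⟨w, rfl⟩ := Submodule.mkQ_surjective _ z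
      rw [← map_smul]
      exact (Submodule.Quotient.mk_eq_zero _).2 (Submodule.smul_mem_smul hs Submodule.mem_top)
    rw [h1, h2]
    exact add_le_add h3 h4

end A

section B

variable {k : Type v} [Field k] {N : Type u} [AddCommGroup N] [Module k N]
  (𝒩 : ℤ → Submodule k N) [DirectSum.Decomposition 𝒩]

/-- the lengths of finitely many pieces of a graded vector space add up to at most its length -/
theorem sum_length_le (J : Finset ℤ) :
    ∑ j ∈ J, Module.length k (𝒩 j) ≤ Module.length k N := by
  classical
  obtain ⟨f, hf⟩ : ∃ f : N →ₗ[k] (∀ j : J, 𝒩 j), ∀ z j, f z j = DirectSum.decompose 𝒩 z j :=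
    ⟨LinearMap.pi (fun j => (DirectSum.component k ℤ (fun i => 𝒩 i) j).comp
      (DirectSum.decomposeLinearEquiv 𝒩).toLinearMap), fun _ _ => rfl⟩
  have hsurj : Function.Surjective f := by
    intro w
    refine ⟨∑ j : J, (w j : N), ?_⟩
    funext j
    rw [hf, DirectSum.decompose_sum, DFinsupp.finsetSum_apply]
    rw [Finset.sum_eq_single j]
    · rw [DirectSum.decompose_coe, DirectSum.of_eq_same]
    · intro j' _ hne
      rw [DirectSum.decompose_coe, DirectSum.of_eq_of_ne]
      exact fun h => hne (Subtype.ext h.symm)
    · intro h
      exact absurd (Finset.mem_univ j) h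
  have h1 := Module.length_le_of_surjective f hsurj
  rw [Module.length_pi_of_fintype] at h1
  rwa [Finset.sum_coe_sort J (fun j => Module.length k (𝒩 j))] at h1

end B

end Groth.Agent.H98.GrLen
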