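import Groth.Agent.H98.GrEss
import Mathlib.LinearAlgebra.Quotient.Basic

/-!
# Helper library (helper98): sub-quotients of graded modules are graded (internal direct sums);
homogeneity of `Γ_a` for a homogeneous ideal, of images and of intersections.
-/

set_option autoImplicit false
universe u

open DirectSum

namespace Groth.Agent.H98.GrCat

variable {ι : Type} [AddCommGroup ι] [DecidableEq ι]
variable {R : Type u} [CommRing R] (𝒜 : ι → AddSubgroup R) [GradedRing 𝒜]

section SubQuot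

variable {X : Type u} [AddCommGroup X] [Module R X] (𝓧 : ι → AddSubgroup X)
  [DirectSum.Decomposition 𝓧]

omit [GradedRing 𝒜] in
/-- a sub-quotient `C / (B ∩ C)` of a graded module by homogeneous submodules is the internal
direct sum of the images of the homogeneous pieces of `C` -/
theorem subquot_isInternal (C B : Submodule R X) (hC : C.IsHomogeneous 𝓧) (hB : B.IsHomogeneous 𝓧)
    (𝓗 : ι → AddSubgroup (↥C ⧸ B.comap C.subtype))
    (h𝓗 : ∀ g h, h ∈ 𝓗 g ↔ ∃ z : ↥C, (z : X) ∈ 𝓧 g ∧ (B.comap C.subtype).mkQ z = h) :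
    DirectSum.IsInternal 𝓗 := by
  classical
  constructor
  · rw [injective_iff_map_eq_zero]
    intro y hy
    have hrep : ∀ g, ∃ z : ↥C, (z : X) ∈ 𝓧 g ∧ (B.comap C.subtype).mkQ z = (y g : ↥C ⧸ _) :=
      fun g => (h𝓗 g _).1 (y g).2
    choose z hz hzy using hrep
    rw [DirectSum.coeAddMonoidHom_eq_dfinsuppSum, DFinsupp.sum] at hy
    have h1 : (B.comap C.subtype).mkQ (∑ g ∈ y.support, z g) = 0 := by
      rw [map_sum, ← hy]
      exact Finset.sum_congr rfl fun g _ => hzy g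
    have h2 : ∑ g ∈ y.support, z g ∈ B.comap C.subtype :=
      (Submodule.Quotient.mk_eq_zero _).1 h1
    have h2' : ∑ g ∈ y.support, (z g : X) ∈ B := by
      have h3 : C.subtype (∑ g ∈ y.support, z g) ∈ B := h2
      rwa [map_sum] at h3
    refine DFinsupp.ext fun g => ?_
    rw [DirectSum.zero_apply]
    by_cases hg : g ∈ y.support
    · have h3 := hB g h2'
      have h4 : ((decompose 𝓧 (∑ g' ∈ y.support, (z g' : X)) g : 𝓧 g) : X) = (z g : X) := by
        rw [decompose_sum, DFinsupp.finsetSum_apply, AddSubmonoidClass.coe_finsetSum,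
          Finset.sum_eq_single_of_mem g hg
            (fun j _ hj => decompose_of_mem_ne 𝓧 (hz j) hj),
          decompose_of_mem_same 𝓧 (hz g)]
      rw [h4] at h3
      apply Subtype.ext
      rw [ZeroMemClass.coe_zero, ← hzy g]
      exact (Submodule.Quotient.mk_eq_zero _).2 h3
    · exact DFinsupp.notMem_support_iff.1 hg
  · intro h
    obtain ⟨x, rfl⟩ := (B.comap C.subtype).mkQ_surjective h
    refine ⟨∑ g ∈ (decompose 𝓧 (x : X)).support, DirectSum.of (fun g => 𝓗 g) g
      ⟨(B.comap C.subtype).mkQ ⟨(decompose 𝓧 (x : X) g : X), hC g x.2⟩,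
        (h𝓗 g _).2 ⟨_, SetLike.coe_mem (decompose 𝓧 (x : X) g), rfl⟩⟩, ?_⟩
    rw [map_sum]
    simp only [DirectSum.coeAddMonoidHom_of]
    rw [← map_sum]
    congr 1
    apply Subtype.ext
    rw [Submodule.coe_sum]
    exact sum_support_decompose 𝓧 (x : X)

end SubQuot

section Homog

variable {M : Type u} [AddCommGroup M] [Module R M] (ℳ : ι → AddSubgroup M)
  [DirectSum.Decomposition ℳ] [SetLike.GradedSMul 𝒜 ℳ]
variable {N : Type u} [AddCommGroup N] [Module R N] (𝒩 : ι → AddSubgroup N)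
  [DirectSum.Decomposition 𝒩]

theorem pow_isHomogeneous (a : HomogeneousIdeal 𝒜) (n : ℕ) :
    (a.toIdeal ^ n).IsHomogeneous 𝒜 := by
  induction n with
  | zero =>
    rw [pow_zero, Ideal.one_eq_top]
    exact Ideal.IsHomogeneous.top 𝒜
  | succ n ih =>
    rw [pow_succ]
    exact ih.mul a.isHomogeneous

/-- `Γ_a` of a graded module is a homogeneous submodule, for a homogeneous ideal `a` -/
theorem gam_isHomogeneous (a : HomogeneousIdeal 𝒜) :
    (GrLC.gam a.toIdeal M).IsHomogeneous ℳ := by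
  classical
  rintro g x ⟨n, hn⟩
  refine ⟨n, fun r hr => ?_⟩
  have hc : ∀ c, ((decompose 𝒜 r c : 𝒜 c) : R) • ((decompose ℳ x g : ℳ g) : M) = 0 := by
    intro c
    have h1 := comp_smul 𝒜 ℳ (SetLike.coe_mem (decompose 𝒜 r c)) (g + c) x
    rw [add_sub_cancel_right, hn _ (pow_isHomogeneous 𝒜 a n c hr), decompose_zero,
      DirectSum.zero_apply, ZeroMemClass.coe_zero] at h1
    exact h1.symm
  have hr' := sum_support_decompose 𝒜 r
  calc r • ((decompose ℳ x g : ℳ g) : M)
      = (∑ c ∈ (decompose 𝒜 r).support, ((decompose 𝒜 r c : 𝒜 c) : R)) •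
          ((decompose ℳ x g : ℳ g) : M) := by rw [hr']
    _ = 0 := by
      rw [Finset.sum_smul]
      exact Finset.sum_eq_zero fun c _ => hc c

omit [GradedRing 𝒜] [SetLike.GradedSMul 𝒜 ℳ] in
theorem map_isHomogeneous {f : M →ₗ[R] N} (hf : GrLC.IsGrHom ℳ 𝒩 f) {P : Submodule R M}
    (hP : P.IsHomogeneous ℳ) : (P.map f).IsHomogeneous 𝒩 := by
  rintro g _ ⟨y, hy, rfl⟩
  rw [grHom_comp ℳ 𝒩 hf y g]
  exact ⟨_, hP g hy, rfl⟩

omit [GradedRing 𝒜] [SetLike.GradedSMul 𝒜 ℳ] in
theorem inf_isHomogeneous {P Q : Submodule R M} (hP : P.IsHomogeneous ℳ)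
    (hQ : Q.IsHomogeneous ℳ) : (P ⊓ Q).IsHomogeneous ℳ :=
  fun g _ hx => ⟨hP g hx.1, hQ g hx.2⟩

end Homog

section ResHomog

variable {𝒜}
variable {M : Type u} [AddCommGroup M] [Module R M] {ℳ : ι → AddSubgroup M}
  [DirectSum.Decomposition ℳ] [SetLike.GradedSMul 𝒜 ℳ]

theorem cocyc_isHomogeneous (E : GrLC.StarInjRes 𝒜 ℳ) (a : HomogeneousIdeal 𝒜) (i : ℕ) :
    (E.cocyc a i).IsHomogeneous (E.X i).gr :=
  inf_isHomogeneous (E.X i).gr (gam_isHomogeneous 𝒜 (E.X i).gr a)
    (ker_isHomogeneous (E.X i).gr (E.X (i + 1)).gr (E.d_grHom i))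

theorem cobdy_isHomogeneous (E : GrLC.StarInjRes 𝒜 ℳ) (a : HomogeneousIdeal 𝒜) (i : ℕ) :
    (E.cobdy a i).IsHomogeneous (E.X i).gr := by
  cases i with
  | zero => exact bot_isHomogeneous (E.X 0).gr
  | succ n =>
    exact map_isHomogeneous (E.X n).gr (E.X (n + 1)).gr (E.d_grHom n)
      (gam_isHomogeneous 𝒜 (E.X n).gr a)

/-- the graded local cohomology computed from a *injective resolution is the internal direct sum
of its homogeneous pieces -/
theorem Hgr_isInternal (E : GrLC.StarInjRes 𝒜 ℳ) (a : HomogeneousIdeal 𝒜) (i : ℕ) :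
    DirectSum.IsInternal (E.Hgr a i) :=
  subquot_isInternal (E.X i).gr (E.cocyc a i) (E.cobdy a i) (cocyc_isHomogeneous E a i)
    (cobdy_isHomogeneous E a i) (E.Hgr a i) (fun _ _ => Iff.rfl)

end ResHomog

end Groth.Agent.H98.GrCat
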