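import Groth.Agent.H98.GrHorse
import Groth.Agent.H98.GrQuot

/-!
# Helper library (helper98): chain maps of *injective resolutions and graded local cohomology;
exactness in the middle of the long exact sequence of graded local cohomology (hand-rolled:
stated for cocycles, with degrees); shifts of *injective resolutions.
-/

set_option autoImplicit false
universe u

open DirectSum

namespace Groth.Agent.H98.GrCat

variable {ι : Type} [AddCommGroup ι] [DecidableEq ι]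
variable {R : Type u} [CommRing R] {𝒜 : ι → AddSubgroup R} [GradedRing 𝒜]

section Chain

variable {M₁ M₂ : Type u} [AddCommGroup M₁] [Module R M₁] [AddCommGroup M₂] [Module R M₂]
  {ℳ₁ : ι → AddSubgroup M₁} [DirectSum.Decomposition ℳ₁] [SetLike.GradedSMul 𝒜 ℳ₁]
  {ℳ₂ : ι → AddSubgroup M₂} [DirectSum.Decomposition ℳ₂] [SetLike.GradedSMul 𝒜 ℳ₂]
  (E₁ : GrLC.StarInjRes 𝒜 ℳ₁) (E₂ : GrLC.StarInjRes 𝒜 ℳ₂) (a : HomogeneousIdeal 𝒜)
  (φ : ∀ n, (E₁.X n).carrier →ₗ[R] (E₂.X n).carrier)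

/-- chain maps preserve cocycles of `Γ_a` -/
theorem chain_cocyc (hφ : ∀ n x, φ (n + 1) (E₁.d n x) = E₂.d n (φ n x)) {i : ℕ}
    {z : (E₁.X i).carrier} (hz : z ∈ E₁.cocyc a i) : φ i z ∈ E₂.cocyc a i :=
  ⟨gam_map a.toIdeal (φ i) hz.1,
    LinearMap.mem_ker.2 (by rw [← hφ, LinearMap.mem_ker.1 hz.2, map_zero])⟩

/-- chain maps preserve coboundaries of `Γ_a` -/
theorem chain_cobdy (hφ : ∀ n x, φ (n + 1) (E₁.d n x) = E₂.d n (φ n x)) {i : ℕ}
    {z : (E₁.X i).carrier} (hz : z ∈ E₁.cobdy a i) : φ i z ∈ E₂.cobdy a i := by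
  cases i with
  | zero =>
    have h0 : z = 0 := hz
    rw [h0, map_zero]
    exact zero_mem _
  | succ n =>
    obtain ⟨y, hy, rfl⟩ := hz
    exact ⟨φ n y, gam_map a.toIdeal (φ n) hy, (hφ n y).symm⟩

/-- a null-homotopic map sends cocycles to coboundaries -/
theorem htpy_cobdy (s : ∀ n, (E₁.X (n + 1)).carrier →ₗ[R] (E₂.X n).carrier)
    (hs0 : ∀ x, φ 0 x = s 0 (E₁.d 0 x))
    (hsn : ∀ n x, φ (n + 1) x = E₂.d n (s n x) + s (n + 1) (E₁.d (n + 1) x)) {i : ℕ}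
    {z : (E₁.X i).carrier} (hz : z ∈ E₁.cocyc a i) : φ i z ∈ E₂.cobdy a i := by
  cases i with
  | zero =>
    rw [hs0, LinearMap.mem_ker.1 hz.2, map_zero]
    exact zero_mem _
  | succ n =>
    rw [hsn, LinearMap.mem_ker.1 hz.2, map_zero, add_zero]
    exact ⟨s n z, gam_map a.toIdeal (s n) hz.1, rfl⟩

end Chain

section Shift

variable {M : Type u} [AddCommGroup M] [Module R M] {ℳ : ι → AddSubgroup M}
  [DirectSum.Decomposition ℳ] [SetLike.GradedSMul 𝒜 ℳ]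

/-- the shift of a *injective resolution: a *injective resolution of the shifted module, with
the same underlying complex -/
noncomputable def shiftRes (E : GrLC.StarInjRes 𝒜 ℳ) (g : ι) :
    GrLC.StarInjRes 𝒜 (shiftG 𝒜 ℳ g).gr where
  X := fun n => shiftG 𝒜 (E.X n).gr g
  d := fun n => E.d n
  ε := E.ε
  d_grHom := fun n k x hx => E.d_grHom n (k + g) x hx
  ε_grHom := fun k x hx => E.ε_grHom (k + g) x hx
  ε_injective := E.ε_injective
  exact_zero := E.exact_zero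
  exact_succ := E.exact_succ
  starInj := fun n => isStarInj_shift 𝒜 (E.X n).gr (E.starInj n) g

end Shift

section Mid

variable {A B C : Type u} [AddCommGroup A] [Module R A] [AddCommGroup B] [Module R B]
  [AddCommGroup C] [Module R C]
  {𝒜A : ι → AddSubgroup A} [DirectSum.Decomposition 𝒜A] [SetLike.GradedSMul 𝒜 𝒜A]
  {𝒜B : ι → AddSubgroup B} [DirectSum.Decomposition 𝒜B] [SetLike.GradedSMul 𝒜 𝒜B]
  {𝒜C : ι → AddSubgroup C} [DirectSum.Decomposition 𝒜C] [SetLike.GradedSMul 𝒜 𝒜C]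
  {f : A →ₗ[R] B} {g : B →ₗ[R] C}
  {F : GrLC.StarInjRes 𝒜 𝒜A} {G : GrLC.StarInjRes 𝒜 𝒜C}
  (hf : GrLC.IsGrHom 𝒜A 𝒜B f) (hg : GrLC.IsGrHom 𝒜B 𝒜C g)
  (hfinj : Function.Injective f) (hgsurj : Function.Surjective g)
  (hex : ∀ b, g b = 0 → ∃ a, f a = b) (hgf : ∀ a, g (f a) = 0)
  (D : HsData (𝒜B := 𝒜B) f g F G) (a : HomogeneousIdeal 𝒜)

/-- the inclusion of the sub-resolution -/
def hsInl (n : ℕ) : (F.X n).carrier →ₗ[R] ((hsRes hg hgsurj hex hgf D).X n).carrier :=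
  LinearMap.inl R (F.X n).carrier (G.X n).carrier

/-- the projection onto the quotient resolution -/
def hsSnd (n : ℕ) : ((hsRes hg hgsurj hex hgf D).X n).carrier →ₗ[R] (G.X n).carrier :=
  LinearMap.snd R (F.X n).carrier (G.X n).carrier

/-- a pair, as an element of the horseshoe resolution -/
def hsMk (n : ℕ) (x : (F.X n).carrier) (c : (G.X n).carrier) :
    ((hsRes hg hgsurj hex hgf D).X n).carrier := (x, c)

theorem hsInl_chain (n : ℕ) (x : (F.X n).carrier) :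
    hsInl hg hgsurj hex hgf D (n + 1) (F.d n x) =
      (hsRes hg hgsurj hex hgf D).d n (hsInl hg hgsurj hex hgf D n x) := by
  refine Prod.ext ?_ ?_
  · show F.d n x = F.d n x + D.θ n 0
    rw [map_zero, add_zero]
  · show (0 : (G.X (n + 1)).carrier) = G.d n 0
    rw [map_zero]

theorem hsInl_grHom (n : ℕ) : GrLC.IsGrHom (F.X n).gr ((hsRes hg hgsurj hex hgf D).X n).gr
    (hsInl hg hgsurj hex hgf D n) :=
  fun _ _ hx => ⟨hx, zero_mem _⟩

theorem hsInl_eps (x : A) :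
    hsInl hg hgsurj hex hgf D 0 (F.ε x) = (hsRes hg hgsurj hex hgf D).ε (f x) := by
  refine Prod.ext ?_ ?_
  · show F.ε x = D.σ (f x)
    rw [D.hσf]
  · show (0 : (G.X 0).carrier) = G.ε (g (f x))
    rw [hgf, map_zero]

theorem hsSnd_chain (n : ℕ) (p : ((hsRes hg hgsurj hex hgf D).X n).carrier) :
    hsSnd hg hgsurj hex hgf D (n + 1) ((hsRes hg hgsurj hex hgf D).d n p) =
      G.d n (hsSnd hg hgsurj hex hgf D n p) := rfl

/-- exactness in the middle for the horseshoe resolution, with degrees -/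
theorem hs_exact_mid (i : ℕ) (n : ι) (x : (F.X i).carrier) (c : (G.X i).carrier)
    (hp : hsMk hg hgsurj hex hgf D i x c ∈ (hsRes hg hgsurj hex hgf D).cocyc a i)
    (hxn : x ∈ (F.X i).gr n) (hcn : c ∈ (G.X i).gr n) (hc : c ∈ G.cobdy a i) :
    ∃ a', a' ∈ F.cocyc a i ∧ a' ∈ (F.X i).gr n ∧
      hsMk hg hgsurj hex hgf D i x c - hsInl hg hgsurj hex hgf D i a' ∈
        (hsRes hg hgsurj hex hgf D).cobdy a i := by
  have hgam := (gam_prod_iff a.toIdeal ((x, c) : (F.X i).carrier × (G.X i).carrier)).1 hp.1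
  have hd := LinearMap.mem_ker.1 hp.2
  cases i with
  | zero =>
    have hc0 : c = 0 := hc
    have h1 : F.d 0 x + D.θ 0 c = 0 := congrArg Prod.fst hd
    rw [hc0, map_zero, add_zero] at h1
    refine ⟨x, ⟨hgam.1, LinearMap.mem_ker.2 h1⟩, hxn, ?_⟩
    have h2 : hsMk hg hgsurj hex hgf D 0 x c - hsInl hg hgsurj hex hgf D 0 x = 0 := by
      refine Prod.ext ?_ ?_
      · show x - x = 0
        rw [sub_self]
      · show c - 0 = 0
        rw [hc0, sub_self]
    rw [h2]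
    exact zero_mem _
  | succ m =>
    have h1 : F.d (m + 1) x + D.θ (m + 1) c = 0 := congrArg Prod.fst hd
    obtain ⟨c', hc', hcc'⟩ := hc
    have hc''gam : ((decompose (G.X m).gr c' n : (G.X m).gr n) : (G.X m).carrier) ∈
        GrLC.gam a.toIdeal (G.X m).carrier := gam_isHomogeneous 𝒜 (G.X m).gr a n hc'
    have hc''d : G.d m ((decompose (G.X m).gr c' n : (G.X m).gr n) : (G.X m).carrier) = c := by
      rw [← grHom_comp (G.X m).gr (G.X (m + 1)).gr (G.d_grHom m) c' n, hcc',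
        decompose_of_mem_same (G.X (m + 1)).gr hcn]
    obtain ⟨c'', hc''def⟩ : ∃ c'' : (G.X m).carrier,
        c'' = ((decompose (G.X m).gr c' n : (G.X m).gr n) : (G.X m).carrier) := ⟨_, rfl⟩
    rw [← hc''def] at hc''gam hc''d
    have hc''n : c'' ∈ (G.X m).gr n := by
      rw [hc''def]
      exact SetLike.coe_mem _
    refine ⟨x - D.θ m c'', ⟨sub_mem hgam.1 (gam_map a.toIdeal (D.θ m) hc''gam),
      LinearMap.mem_ker.2 ?_⟩, sub_mem hxn (D.hθgr m n c'' hc''n), ?_⟩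
    · have h2 := D.hθs m c''
      rw [hc''d] at h2
      rw [map_sub, sub_eq_add_neg, ← h2]
      exact h1
    · refine ⟨((0, c'') : (F.X m).carrier × (G.X m).carrier),
        (gam_prod_iff a.toIdeal _).2 ⟨zero_mem _, hc''gam⟩, ?_⟩
      refine Prod.ext ?_ ?_
      · show F.d m 0 + D.θ m c'' = x - (x - D.θ m c'')
        rw [map_zero, zero_add]
        abel
      · show G.d m c'' = c - 0
        rw [hc''d, sub_zero]

variable (EB : GrLC.StarInjRes 𝒜 𝒜B)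

include hf hg hfinj hgsurj hex hgf in
/-- **exactness in the middle** of the long exact sequence of graded local cohomology, for
arbitrary *injective resolutions `F`, `EB`, `G` of the terms of a short exact sequence
`0 → A → B → C → 0` of graded modules, a chain map `φ : F → EB` lifting `f`, with degrees:
a cocycle of `Γ_a(EB)` of degree `n` whose image in `H^i(C)_n` vanishes (here: `H^i(C)_n = 0`)
is cohomologous to the image of a cocycle of `Γ_a(F)` of degree `n` -/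
theorem exact_mid (φ : ∀ n, (F.X n).carrier →ₗ[R] (EB.X n).carrier)
    (hφgr : ∀ n, GrLC.IsGrHom (F.X n).gr (EB.X n).gr (φ n))
    (hφ : ∀ n x, φ (n + 1) (F.d n x) = EB.d n (φ n x))
    (hφε : ∀ x, φ 0 (F.ε x) = EB.ε (f x))
    (i : ℕ) (n : ι)
    (hC : ∀ c, c ∈ G.cocyc a i → c ∈ (G.X i).gr n → c ∈ G.cobdy a i)
    (b : (EB.X i).carrier) (hb : b ∈ EB.cocyc a i) (hbn : b ∈ (EB.X i).gr n) :
    ∃ a', a' ∈ F.cocyc a i ∧ a' ∈ (F.X i).gr n ∧ b - φ i a' ∈ EB.cobdy a i := by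
  obtain ⟨D⟩ := nonempty_hsData (𝒜B := 𝒜B) F G hf hg hfinj hgsurj hex
  have hdeg0 : ∀ (Mx : Type u) [AddCommGroup Mx] [Module R Mx] (ℳx : ι → AddSubgroup Mx),
      GrLC.IsGrHomDeg ℳx ℳx (LinearMap.id : Mx →ₗ[R] Mx) 0 := by
    intro Mx _ _ ℳx k x hx
    rw [add_zero]
    exact hx
  obtain ⟨Φ, hΦdeg, hΦ0, hΦc⟩ := exists_lift EB (hsRes hg hgsurj hex hgf D) 0 LinearMap.id
    (hdeg0 B 𝒜B)
  obtain ⟨Ψ, hΨdeg, hΨ0, hΨc⟩ := exists_lift (hsRes hg hgsurj hex hgf D) EB 0 LinearMap.id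
    (hdeg0 B 𝒜B)
  have hΦgr : ∀ n, GrLC.IsGrHom (EB.X n).gr ((hsRes hg hgsurj hex hgf D).X n).gr (Φ n) := by
    intro n k x hx
    have h := hΦdeg n k x hx
    rwa [add_zero] at h
  have hΨgr : ∀ n, GrLC.IsGrHom ((hsRes hg hgsurj hex hgf D).X n).gr (EB.X n).gr (Ψ n) := by
    intro n k x hx
    have h := hΨdeg n k x hx
    rwa [add_zero] at h
  -- `Ψ Φ - 1` is null-homotopic
  obtain ⟨w1, hw1⟩ : ∃ w1 : ∀ n, (EB.X n).carrier →ₗ[R] (EB.X n).carrier,
      ∀ n x, w1 n x = Ψ n (Φ n x) - x :=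
    ⟨fun n => (Ψ n).comp (Φ n) - LinearMap.id, fun _ _ => rfl⟩
  obtain ⟨s1, hs10, hs1n⟩ := exists_homotopy EB EB w1
    (fun n k x hx => by
      rw [hw1]
      exact sub_mem (hΨgr n k _ (hΦgr n k x hx)) hx)
    (fun n x => by rw [hw1, hw1, map_sub, hΦc, hΨc])
    (fun x => by
      rw [hw1, hΦ0, LinearMap.id_apply, hΨ0, LinearMap.id_apply, sub_self])
  -- `Ψ ∘ inl - φ` is null-homotopic
  obtain ⟨w2, hw2⟩ : ∃ w2 : ∀ n, (F.X n).carrier →ₗ[R] (EB.X n).carrier,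
      ∀ n x, w2 n x = Ψ n (hsInl hg hgsurj hex hgf D n x) - φ n x :=
    ⟨fun n => (Ψ n).comp (hsInl hg hgsurj hex hgf D n) - φ n, fun _ _ => rfl⟩
  obtain ⟨s2, hs20, hs2n⟩ := exists_homotopy F EB w2
    (fun n k x hx => by
      rw [hw2]
      exact sub_mem (hΨgr n k _ (hsInl_grHom hg hgsurj hex hgf D n k x hx)) (hφgr n k x hx))
    (fun n x => by rw [hw2, hw2, map_sub, hsInl_chain, hΨc, hφ])
    (fun x => by
      rw [hw2, hsInl_eps, hΨ0, LinearMap.id_apply, hφε, sub_self])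
  -- the chase
  have hp : Φ i b ∈ (hsRes hg hgsurj hex hgf D).cocyc a i :=
    chain_cocyc EB (hsRes hg hgsurj hex hgf D) a Φ hΦc hb
  have hpn := hΦgr i n b hbn
  obtain ⟨x, c, hxc⟩ : ∃ (x : (F.X i).carrier) (c : (G.X i).carrier),
      Φ i b = hsMk hg hgsurj hex hgf D i x c := ⟨(Φ i b).1, (Φ i b).2, rfl⟩
  rw [hxc] at hp hpn
  have hccoc : c ∈ G.cocyc a i :=
    chain_cocyc (hsRes hg hgsurj hex hgf D) G a (hsSnd hg hgsurj hex hgf D)
      (hsSnd_chain hg hgsurj hex hgf D) hp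
  obtain ⟨a', ha', ha'n, hcob⟩ := hs_exact_mid hg hgsurj hex hgf D a i n x c hp hpn.1 hpn.2
    (hC c hccoc hpn.2)
  refine ⟨a', ha', ha'n, ?_⟩
  have h1 := chain_cobdy (hsRes hg hgsurj hex hgf D) EB a Ψ hΨc hcob
  rw [map_sub, ← hxc] at h1
  have h2 := htpy_cobdy EB EB a w1 s1 hs10 hs1n hb
  rw [hw1] at h2
  have h3 := htpy_cobdy F EB a w2 s2 hs20 hs2n ha'
  rw [hw2] at h3
  have h4 : b - φ i a' = -(Ψ i (Φ i b) - b) +
      (Ψ i (Φ i b) - Ψ i (hsInl hg hgsurj hex hgf D i a')) +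
      (Ψ i (hsInl hg hgsurj hex hgf D i a') - φ i a') := by abel
  rw [h4]
  exact add_mem (add_mem (neg_mem h2) h1) h3

end Mid

end Groth.Agent.H98.GrCat
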