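import Groth.Agent.H98.GrLes

/-!
# Helper library (helper98): the long exact sequence of graded local cohomology, in cocycle form
with degrees, for arbitrary *injective resolutions of the three terms of a short exact sequence:
exactness at all three spots, with the connecting homomorphism induced by a homogeneous linear
map on the terms of the resolutions.  Also: the map induced on cohomology by a chain map.
-/

set_option autoImplicit false
universe u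

open DirectSum

namespace Groth.Agent.H98.GrCat

variable {ι : Type} [AddCommGroup ι] [DecidableEq ι]
variable {R : Type u} [CommRing R] {𝒜 : ι → AddSubgroup R} [GradedRing 𝒜]

/-- a homogeneous preimage, inside `Γ_a`, of a homogeneous element under a homogeneous map -/
theorem exists_homog_preimage {X Y : GrLC.GMod.{u} 𝒜} (d : X.carrier →ₗ[R] Y.carrier)
    (hd : GrLC.IsGrHom X.gr Y.gr d) (a : HomogeneousIdeal 𝒜) {y : X.carrier}
    (hy : y ∈ GrLC.gam a.toIdeal X.carrier) {n : ι} (hz : d y ∈ Y.gr n) :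
    ∃ y' ∈ GrLC.gam a.toIdeal X.carrier, y' ∈ X.gr n ∧ d y' = d y := by
  refine ⟨((decompose X.gr y n : X.gr n) : X.carrier), gam_isHomogeneous 𝒜 X.gr a n hy,
    SetLike.coe_mem _, ?_⟩
  rw [← grHom_comp X.gr Y.gr hd y n, decompose_of_mem_same Y.gr hz]

section Induced

variable {M₁ M₂ : Type u} [AddCommGroup M₁] [Module R M₁] [AddCommGroup M₂] [Module R M₂]
  {ℳ₁ : ι → AddSubgroup M₁} [DirectSum.Decomposition ℳ₁] [SetLike.GradedSMul 𝒜 ℳ₁]
  {ℳ₂ : ι → AddSubgroup M₂} [DirectSum.Decomposition ℳ₂] [SetLike.GradedSMul 𝒜 ℳ₂]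
  (E₁ : GrLC.StarInjRes 𝒜 ℳ₁) (E₂ : GrLC.StarInjRes 𝒜 ℳ₂) (a : HomogeneousIdeal 𝒜)
  (u : ∀ n, (E₁.X n).carrier →ₗ[R] (E₂.X n).carrier)
  (hu : ∀ n x, u (n + 1) (E₁.d n x) = E₂.d n (u n x))

/-- the map induced on graded local cohomology by a chain map -/
noncomputable def Hchain (i : ℕ) : E₁.H a i →ₗ[R] E₂.H a i :=
  Submodule.mapQ _ _ ((u i).restrict (fun _ hz => chain_cocyc E₁ E₂ a u hu hz))
    (fun _ hz => chain_cobdy E₁ E₂ a u hu hz)

theorem Hchain_toH (i : ℕ) (z : E₁.cocyc a i) :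
    Hchain E₁ E₂ a u hu i (E₁.toH a i z) =
      E₂.toH a i ⟨u i z, chain_cocyc E₁ E₂ a u hu z.2⟩ := rfl

end Induced

section Mid

variable {A B C : Type u} [AddCommGroup A] [Module R A] [AddCommGroup B] [Module R B]
  [AddCommGroup C] [Module R C]
  {𝒜A : ι → AddSubgroup A} [DirectSum.Decomposition 𝒜A] [SetLike.GradedSMul 𝒜 𝒜A]
  {𝒜B : ι → AddSubgroup B} [DirectSum.Decomposition 𝒜B] [SetLike.GradedSMul 𝒜 𝒜B]
  {𝒜C : ι → AddSubgroup C} [DirectSum.Decomposition 𝒜C] [SetLike.GradedSMul 𝒜 𝒜C]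
  {f : A →ₗ[R] B} {g : B →ₗ[R] C}
  {F : GrLC.StarInjRes 𝒜 𝒜A} {G : GrLC.StarInjRes 𝒜 𝒜C}
  (hf : GrLC.IsGrHom 𝒜A 𝒜B f) (hg : GrLC.IsGrHom 𝒜B 𝒜C g)
  (hfinj : Function.Injective f) (hgsurj : Function.Surjective g)
  (hex : ∀ b, g b = 0 → ∃ a, f a = b) (hgf : ∀ a, g (f a) = 0)
  (D : HsData (𝒜B := 𝒜B) f g F G) (a : HomogeneousIdeal 𝒜)

theorem hsTheta_cocyc (i : ℕ) {c : (G.X i).carrier} (hc : c ∈ G.cocyc a i) :
    D.θ i c ∈ F.cocyc a (i + 1) :=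
  ⟨gam_map a.toIdeal (D.θ i) hc.1, LinearMap.mem_ker.2 (by
    have h := D.hθs i c
    rw [LinearMap.mem_ker.1 hc.2, map_zero] at h
    exact neg_eq_zero.1 h.symm)⟩

theorem hsTheta_cobdy (i : ℕ) {c : (G.X i).carrier} (hc : c ∈ G.cobdy a i) :
    D.θ i c ∈ F.cobdy a (i + 1) := by
  cases i with
  | zero =>
    have h0 : c = 0 := hc
    rw [h0, map_zero]
    exact zero_mem _
  | succ m =>
    obtain ⟨c', hc', rfl⟩ := hc
    rw [D.hθs]
    exact neg_mem ⟨D.θ m c', gam_map a.toIdeal (D.θ m) hc', rfl⟩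

/-- lifting a cocycle of the quotient to the horseshoe resolution -/
theorem hs_right (i : ℕ) (n : ι) (c : (G.X i).carrier) (hc : c ∈ G.cocyc a i)
    (hcn : c ∈ (G.X i).gr n) (hθ : D.θ i c ∈ F.cobdy a (i + 1)) :
    ∃ x : (F.X i).carrier, x ∈ (F.X i).gr n ∧
      hsMk hg hgsurj hex hgf D i x c ∈ (hsRes hg hgsurj hex hgf D).cocyc a i := by
  obtain ⟨a₀, ha₀, ha₀d⟩ := hθ
  obtain ⟨a₁, ha₁, ha₁n, ha₁d⟩ := exists_homog_preimage (F.d i) (F.d_grHom i) a ha₀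
    (by rw [ha₀d]; exact D.hθgr i n c hcn)
  refine ⟨-a₁, neg_mem ha₁n, ⟨?_, LinearMap.mem_ker.2 ?_⟩⟩
  · exact (gam_prod_iff a.toIdeal ((-a₁, c) : (F.X i).carrier × (G.X i).carrier)).2
      ⟨neg_mem ha₁, hc.1⟩
  · refine Prod.ext ?_ ?_
    · show F.d i (-a₁) + D.θ i c = 0
      rw [map_neg, ha₁d, ha₀d, neg_add_cancel]
    · show G.d i c = 0
      exact LinearMap.mem_ker.1 hc.2

/-- a cocycle of the sub-resolution bounding in the horseshoe resolution comes from the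
quotient through the twisting map -/
theorem hs_left (i : ℕ) (n : ι) (a' : (F.X (i + 1)).carrier)
    (ha'n : a' ∈ (F.X (i + 1)).gr n)
    (hcob : hsInl hg hgsurj hex hgf D (i + 1) a' ∈
      (hsRes hg hgsurj hex hgf D).cobdy a (i + 1)) :
    ∃ c, c ∈ G.cocyc a i ∧ c ∈ (G.X i).gr n ∧ a' - D.θ i c ∈ F.cobdy a (i + 1) := by
  obtain ⟨p, hp, hpd⟩ := hcob
  have hn : (hsRes hg hgsurj hex hgf D).d i p ∈ ((hsRes hg hgsurj hex hgf D).X (i + 1)).gr n := by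
    rw [hpd]
    exact hsInl_grHom hg hgsurj hex hgf D (i + 1) n a' ha'n
  obtain ⟨p', hp', hp'n, hp'd⟩ := exists_homog_preimage ((hsRes hg hgsurj hex hgf D).d i)
    ((hsRes hg hgsurj hex hgf D).d_grHom i) a hp hn
  rw [hpd] at hp'd
  obtain ⟨x, c, rfl⟩ : ∃ x c, p' = hsMk hg hgsurj hex hgf D i x c := ⟨p'.1, p'.2, rfl⟩
  have hgam := (gam_prod_iff a.toIdeal ((x, c) : (F.X i).carrier × (G.X i).carrier)).1 hp'
  have h1 : F.d i x + D.θ i c = a' := congrArg Prod.fst hp'd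
  have h2 : G.d i c = 0 := congrArg Prod.snd hp'd
  refine ⟨c, ⟨hgam.2, LinearMap.mem_ker.2 h2⟩, hp'n.2, ?_⟩
  rw [← h1, add_sub_cancel_right]
  exact ⟨x, hgam.1, rfl⟩

variable (EB : GrLC.StarInjRes 𝒜 𝒜B)

include hf hg hfinj hgsurj hex hgf in
/-- **the long exact sequence of graded local cohomology**, in cocycle form with degrees, for
arbitrary *injective resolutions `F`, `EB`, `G` of the terms of a short exact sequence
`0 → A → B → C → 0` of graded modules and chain maps `φ : F → EB`, `ψ : EB → G` lifting the two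
maps: there are homogeneous linear maps `θ' i : G^i → F^{i+1}` inducing a connecting homomorphism,
with exactness at `B`, at `C` and at `A`. -/
theorem les_core (φ : ∀ n, (F.X n).carrier →ₗ[R] (EB.X n).carrier)
    (hφgr : ∀ n, GrLC.IsGrHom (F.X n).gr (EB.X n).gr (φ n))
    (hφ : ∀ n x, φ (n + 1) (F.d n x) = EB.d n (φ n x))
    (hφε : ∀ x, φ 0 (F.ε x) = EB.ε (f x))
    (ψ : ∀ n, (EB.X n).carrier →ₗ[R] (G.X n).carrier)
    (hψgr : ∀ n, GrLC.IsGrHom (EB.X n).gr (G.X n).gr (ψ n))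
    (hψ : ∀ n x, ψ (n + 1) (EB.d n x) = G.d n (ψ n x))
    (hψε : ∀ b, ψ 0 (EB.ε b) = G.ε (g b)) :
    ∃ θ' : ∀ i, (G.X i).carrier →ₗ[R] (F.X (i + 1)).carrier,
      (∀ i, GrLC.IsGrHom (G.X i).gr (F.X (i + 1)).gr (θ' i)) ∧
      (∀ i c, c ∈ G.cocyc a i → θ' i c ∈ F.cocyc a (i + 1)) ∧
      (∀ i c, c ∈ G.cobdy a i → θ' i c ∈ F.cobdy a (i + 1)) ∧
      (∀ i n b, b ∈ EB.cocyc a i → b ∈ (EB.X i).gr n → ψ i b ∈ G.cobdy a i →
        ∃ a', a' ∈ F.cocyc a i ∧ a' ∈ (F.X i).gr n ∧ b - φ i a' ∈ EB.cobdy a i) ∧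
      (∀ i n c, c ∈ G.cocyc a i → c ∈ (G.X i).gr n → θ' i c ∈ F.cobdy a (i + 1) →
        ∃ b, b ∈ EB.cocyc a i ∧ b ∈ (EB.X i).gr n ∧ c - ψ i b ∈ G.cobdy a i) ∧
      (∀ i n a', a' ∈ F.cocyc a (i + 1) → a' ∈ (F.X (i + 1)).gr n →
        φ (i + 1) a' ∈ EB.cobdy a (i + 1) →
        ∃ c, c ∈ G.cocyc a i ∧ c ∈ (G.X i).gr n ∧ a' - θ' i c ∈ F.cobdy a (i + 1)) := by
  obtain ⟨D⟩ := nonempty_hsData (𝒜B := 𝒜B) F G hf hg hfinj hgsurj hex
  have hdeg0 : GrLC.IsGrHomDeg 𝒜B 𝒜B (LinearMap.id : B →ₗ[R] B) 0 := by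
    intro k x hx
    rw [add_zero]
    exact hx
  obtain ⟨Φ, hΦdeg, hΦ0, hΦc⟩ := exists_lift EB (hsRes hg hgsurj hex hgf D) 0 LinearMap.id hdeg0
  obtain ⟨Ψ, hΨdeg, hΨ0, hΨc⟩ := exists_lift (hsRes hg hgsurj hex hgf D) EB 0 LinearMap.id hdeg0
  have hΦgr : ∀ n, GrLC.IsGrHom (EB.X n).gr ((hsRes hg hgsurj hex hgf D).X n).gr (Φ n) := by
    intro n k x hx
    have h := hΦdeg n k x hx
    rwa [add_zero] at h
  have hΨgr : ∀ n, GrLC.IsGrHom ((hsRes hg hgsurj hex hgf D).X n).gr (EB.X n).gr (Ψ n) := by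
    intro n k x hx
    have h := hΨdeg n k x hx
    rwa [add_zero] at h
  -- `Ψ Φ - 1` is null-homotopic
  obtain ⟨w1, hw1⟩ : ∃ w1 : ∀ n, (EB.X n).carrier →ₗ[R] (EB.X n).carrier,
      ∀ n x, w1 n x = Ψ n (Φ n x) - x :=
    ⟨fun n => (Ψ n).comp (Φ n) - LinearMap.id, fun _ _ => rfl⟩
  obtain ⟨s1, hs10, hs1n⟩ := exists_homotopy EB EB w1
    (fun n k x hx => by
      rw [hw1]
      exact sub_mem (hΨgr n k _ (hΦgr n k x hx)) hx)
    (fun n x => by rw [hw1, hw1, map_sub, hΦc, hΨc])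
    (fun x => by
      rw [hw1, hΦ0, LinearMap.id_apply, hΨ0, LinearMap.id_apply, sub_self])
  -- `Ψ ∘ inl - φ` is null-homotopic
  obtain ⟨w2, hw2⟩ : ∃ w2 : ∀ n, (F.X n).carrier →ₗ[R] (EB.X n).carrier,
      ∀ n x, w2 n x = Ψ n (hsInl hg hgsurj hex hgf D n x) - φ n x :=
    ⟨fun n => (Ψ n).comp (hsInl hg hgsurj hex hgf D n) - φ n, fun _ _ => rfl⟩
  obtain ⟨s2, hs20, hs2n⟩ := exists_homotopy F EB w2
    (fun n k x hx => by
      rw [hw2]
      exact sub_mem (hΨgr n k _ (hsInl_grHom hg hgsurj hex hgf D n k x hx)) (hφgr n k x hx))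
    (fun n x => by rw [hw2, hw2, map_sub, hsInl_chain, hΨc, hφ])
    (fun x => by
      rw [hw2, hsInl_eps, hΨ0, LinearMap.id_apply, hφε, sub_self])
  -- `snd - ψ Ψ` is null-homotopic
  obtain ⟨w3, hw3⟩ : ∃ w3 : ∀ n, ((hsRes hg hgsurj hex hgf D).X n).carrier →ₗ[R] (G.X n).carrier,
      ∀ n p, w3 n p = hsSnd hg hgsurj hex hgf D n p - ψ n (Ψ n p) :=
    ⟨fun n => hsSnd hg hgsurj hex hgf D n - (ψ n).comp (Ψ n), fun _ _ => rfl⟩
  obtain ⟨s3, hs30, hs3n⟩ := exists_homotopy (hsRes hg hgsurj hex hgf D) G w3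
    (fun n k p hp => by
      rw [hw3]
      exact sub_mem hp.2 (hψgr n k _ (hΨgr n k p hp)))
    (fun n p => by rw [hw3, hw3, map_sub, hsSnd_chain, hΨc, hψ])
    (fun b => by
      rw [hw3, hΨ0, LinearMap.id_apply, hψε]
      exact sub_self _)
  -- `inl - Φ φ` is null-homotopic
  obtain ⟨w4, hw4⟩ : ∃ w4 : ∀ n, (F.X n).carrier →ₗ[R] ((hsRes hg hgsurj hex hgf D).X n).carrier,
      ∀ n x, w4 n x = hsInl hg hgsurj hex hgf D n x - Φ n (φ n x) :=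
    ⟨fun n => hsInl hg hgsurj hex hgf D n - (Φ n).comp (φ n), fun _ _ => rfl⟩
  obtain ⟨s4, hs40, hs4n⟩ := exists_homotopy F (hsRes hg hgsurj hex hgf D) w4
    (fun n k x hx => by
      rw [hw4]
      exact sub_mem (hsInl_grHom hg hgsurj hex hgf D n k x hx) (hΦgr n k _ (hφgr n k x hx)))
    (fun n x => by rw [hw4, hw4, map_sub, hsInl_chain, hφ, hΦc])
    (fun x => by
      rw [hw4, hsInl_eps, hφε, hΦ0, LinearMap.id_apply, sub_self])
  -- `snd Φ - ψ` is null-homotopic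
  obtain ⟨w5, hw5⟩ : ∃ w5 : ∀ n, (EB.X n).carrier →ₗ[R] (G.X n).carrier,
      ∀ n x, w5 n x = hsSnd hg hgsurj hex hgf D n (Φ n x) - ψ n x :=
    ⟨fun n => (hsSnd hg hgsurj hex hgf D n).comp (Φ n) - ψ n, fun _ _ => rfl⟩
  obtain ⟨s5, hs50, hs5n⟩ := exists_homotopy EB G w5
    (fun n k x hx => by
      rw [hw5]
      exact sub_mem (hΦgr n k x hx).2 (hψgr n k x hx))
    (fun n x => by rw [hw5, hw5, map_sub, hΦc, hsSnd_chain, hψ])
    (fun b => by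
      rw [hw5, hΦ0, LinearMap.id_apply, hψε]
      exact sub_self _)
  refine ⟨D.θ, D.hθgr, fun i c hc => hsTheta_cocyc D a i hc, fun i c hc => hsTheta_cobdy D a i hc,
    ?_, ?_, ?_⟩
  · -- exactness at `B`
    intro i n b hb hbn hψb
    have hp : Φ i b ∈ (hsRes hg hgsurj hex hgf D).cocyc a i :=
      chain_cocyc EB (hsRes hg hgsurj hex hgf D) a Φ hΦc hb
    have hpn := hΦgr i n b hbn
    obtain ⟨x, c, hxc⟩ : ∃ (x : (F.X i).carrier) (c : (G.X i).carrier),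
        Φ i b = hsMk hg hgsurj hex hgf D i x c := ⟨(Φ i b).1, (Φ i b).2, rfl⟩
    have hc5 := htpy_cobdy EB G a w5 s5 hs50 hs5n hb
    rw [hw5] at hc5
    have hccob : c ∈ G.cobdy a i := by
      have h6 := add_mem hc5 hψb
      rw [sub_add_cancel, hxc] at h6
      exact h6
    rw [hxc] at hp hpn
    obtain ⟨a', ha', ha'n, hcob⟩ := hs_exact_mid hg hgsurj hex hgf D a i n x c hp hpn.1 hpn.2 hccob
    refine ⟨a', ha', ha'n, ?_⟩
    have h1 := chain_cobdy (hsRes hg hgsurj hex hgf D) EB a Ψ hΨc hcob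
    rw [map_sub, ← hxc] at h1
    have h2 := htpy_cobdy EB EB a w1 s1 hs10 hs1n hb
    rw [hw1] at h2
    have h3 := htpy_cobdy F EB a w2 s2 hs20 hs2n ha'
    rw [hw2] at h3
    have h4 : b - φ i a' = -(Ψ i (Φ i b) - b) +
        (Ψ i (Φ i b) - Ψ i (hsInl hg hgsurj hex hgf D i a')) +
        (Ψ i (hsInl hg hgsurj hex hgf D i a') - φ i a') := by abel
    rw [h4]
    exact add_mem (add_mem (neg_mem h2) h1) h3
  · -- exactness at `C`
    intro i n c hc hcn hθc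
    obtain ⟨x, hxn, hp⟩ := hs_right hg hgsurj hex hgf D a i n c hc hcn hθc
    have hpn : hsMk hg hgsurj hex hgf D i x c ∈ ((hsRes hg hgsurj hex hgf D).X i).gr n :=
      ⟨hxn, hcn⟩
    refine ⟨Ψ i (hsMk hg hgsurj hex hgf D i x c),
      chain_cocyc (hsRes hg hgsurj hex hgf D) EB a Ψ hΨc hp, hΨgr i n _ hpn, ?_⟩
    have h3 := htpy_cobdy (hsRes hg hgsurj hex hgf D) G a w3 s3 hs30 hs3n hp
    rw [hw3] at h3
    exact h3
  · -- exactness at `A`
    intro i n a' ha' ha'n hφa'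
    have h4 := htpy_cobdy F (hsRes hg hgsurj hex hgf D) a w4 s4 hs40 hs4n ha'
    rw [hw4] at h4
    have h5 := chain_cobdy EB (hsRes hg hgsurj hex hgf D) a Φ hΦc hφa'
    have h6 := add_mem h4 h5
    rw [sub_add_cancel] at h6
    exact hs_left hg hgsurj hex hgf D a i n a' ha'n h6

end Mid

end Groth.Agent.H98.GrCat
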