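import Groth.Agent.H98.GrLes2

/-!
# Helper library (helper98): the long exact sequence of graded local cohomology in cocycle form,
full version: exactness (both inclusions) at the three spots.
-/

set_option autoImplicit false
universe u

open DirectSum

namespace Groth.Agent.H98.GrCat

variable {ι : Type} [AddCommGroup ι] [DecidableEq ι]
variable {R : Type u} [CommRing R] {𝒜 : ι → AddSubgroup R} [GradedRing 𝒜]

section Mid


variable {A B C : Type u} [AddCommGroup A] [Module R A] [AddCommGroup B] [Module R B]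
  [AddCommGroup C] [Module R C]
  {𝒜A : ι → AddSubgroup A} [DirectSum.Decomposition 𝒜A] [SetLike.GradedSMul 𝒜 𝒜A]
  {𝒜B : ι → AddSubgroup B} [DirectSum.Decomposition 𝒜B] [SetLike.GradedSMul 𝒜 𝒜B]
  {𝒜C : ι → AddSubgroup C} [DirectSum.Decomposition 𝒜C] [SetLike.GradedSMul 𝒜 𝒜C]
  {f : A →ₗ[R] B} {g : B →ₗ[R] C}
  {F : GrLC.StarInjRes 𝒜 𝒜A} {G : GrLC.StarInjRes 𝒜 𝒜C}
  (hf : GrLC.IsGrHom 𝒜A 𝒜B f) (hg : GrLC.IsGrHom 𝒜B 𝒜C g)
  (hfinj : Function.Injective f) (hgsurj : Function.Surjective g)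
  (hex : ∀ b, g b = 0 → ∃ a, f a = b) (hgf : ∀ a, g (f a) = 0)
  (D : HsData (𝒜B := 𝒜B) f g F G) (a : HomogeneousIdeal 𝒜)

variable (EB : GrLC.StarInjRes 𝒜 𝒜B)

include hf hg hfinj hgsurj hex hgf in
/-- the long exact sequence in cocycle form, with both inclusions at each spot -/
theorem les_full (φ : ∀ n, (F.X n).carrier →ₗ[R] (EB.X n).carrier)
    (hφgr : ∀ n, GrLC.IsGrHom (F.X n).gr (EB.X n).gr (φ n))
    (hφ : ∀ n x, φ (n + 1) (F.d n x) = EB.d n (φ n x))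
    (hφε : ∀ x, φ 0 (F.ε x) = EB.ε (f x))
    (ψ : ∀ n, (EB.X n).carrier →ₗ[R] (G.X n).carrier)
    (hψgr : ∀ n, GrLC.IsGrHom (EB.X n).gr (G.X n).gr (ψ n))
    (hψ : ∀ n x, ψ (n + 1) (EB.d n x) = G.d n (ψ n x))
    (hψε : ∀ b, ψ 0 (EB.ε b) = G.ε (g b)) :
    ∃ θ' : ∀ i, (G.X i).carrier →ₗ[R] (F.X (i + 1)).carrier,
      (∀ i, GrLC.IsGrHom (G.X i).gr (F.X (i + 1)).gr (θ' i)) ∧
      (∀ i c, c ∈ G.cocyc a i → θ' i c ∈ F.cocyc a (i + 1)) ∧
      (∀ i c, c ∈ G.cobdy a i → θ' i c ∈ F.cobdy a (i + 1)) ∧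
      (∀ i n b, b ∈ EB.cocyc a i → b ∈ (EB.X i).gr n → ψ i b ∈ G.cobdy a i →
        ∃ a', a' ∈ F.cocyc a i ∧ a' ∈ (F.X i).gr n ∧ b - φ i a' ∈ EB.cobdy a i) ∧
      (∀ i n c, c ∈ G.cocyc a i → c ∈ (G.X i).gr n → θ' i c ∈ F.cobdy a (i + 1) →
        ∃ b, b ∈ EB.cocyc a i ∧ b ∈ (EB.X i).gr n ∧ c - ψ i b ∈ G.cobdy a i) ∧
      (∀ i n a', a' ∈ F.cocyc a (i + 1) → a' ∈ (F.X (i + 1)).gr n →
        φ (i + 1) a' ∈ EB.cobdy a (i + 1) →
        ∃ c, c ∈ G.cocyc a i ∧ c ∈ (G.X i).gr n ∧ a' - θ' i c ∈ F.cobdy a (i + 1)) ∧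
      (∀ i a', a' ∈ F.cocyc a i → ψ i (φ i a') ∈ G.cobdy a i) ∧
      (∀ i b, b ∈ EB.cocyc a i → θ' i (ψ i b) ∈ F.cobdy a (i + 1)) ∧
      (∀ i c, c ∈ G.cocyc a i → φ (i + 1) (θ' i c) ∈ EB.cobdy a (i + 1)) := by
  obtain ⟨D⟩ := nonempty_hsData (𝒜B := 𝒜B) F G hf hg hfinj hgsurj hex
  have hdeg0 : GrLC.IsGrHomDeg 𝒜B 𝒜B (LinearMap.id : B →ₗ[R] B) 0 := by
    intro k x hx
    rw [add_zero]
    exact hx
  obtain ⟨Φ, hΦdeg, hΦ0, hΦc⟩ := exists_lift EB (hsRes hg hgsurj hex hgf D) 0 LinearMap.id hdeg0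
  obtain ⟨Ψ, hΨdeg, hΨ0, hΨc⟩ := exists_lift (hsRes hg hgsurj hex hgf D) EB 0 LinearMap.id hdeg0
  have hΦgr : ∀ n, GrLC.IsGrHom (EB.X n).gr ((hsRes hg hgsurj hex hgf D).X n).gr (Φ n) := by
    intro n k x hx
    have h := hΦdeg n k x hx
    rwa [add_zero] at h
  have hΨgr : ∀ n, GrLC.IsGrHom ((hsRes hg hgsurj hex hgf D).X n).gr (EB.X n).gr (Ψ n) := by
    intro n k x hx
    have h := hΨdeg n k x hx
    rwa [add_zero] at h
  -- `Ψ Φ - 1` is null-homotopic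
  obtain ⟨w1, hw1⟩ : ∃ w1 : ∀ n, (EB.X n).carrier →ₗ[R] (EB.X n).carrier,
      ∀ n x, w1 n x = Ψ n (Φ n x) - x :=
    ⟨fun n => (Ψ n).comp (Φ n) - LinearMap.id, fun _ _ => rfl⟩
  obtain ⟨s1, hs10, hs1n⟩ := exists_homotopy EB EB w1
    (fun n k x hx => by
      rw [hw1]
      exact sub_mem (hΨgr n k _ (hΦgr n k x hx)) hx)
    (fun n x => by rw [hw1, hw1, map_sub, hΦc, hΨc])
    (fun x => by
      rw [hw1, hΦ0, LinearMap.id_apply, hΨ0, LinearMap.id_apply, sub_self])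
  -- `Ψ ∘ inl - φ` is null-homotopic
  obtain ⟨w2, hw2⟩ : ∃ w2 : ∀ n, (F.X n).carrier →ₗ[R] (EB.X n).carrier,
      ∀ n x, w2 n x = Ψ n (hsInl hg hgsurj hex hgf D n x) - φ n x :=
    ⟨fun n => (Ψ n).comp (hsInl hg hgsurj hex hgf D n) - φ n, fun _ _ => rfl⟩
  obtain ⟨s2, hs20, hs2n⟩ := exists_homotopy F EB w2
    (fun n k x hx => by
      rw [hw2]
      exact sub_mem (hΨgr n k _ (hsInl_grHom hg hgsurj hex hgf D n k x hx)) (hφgr n k x hx))
    (fun n x => by rw [hw2, hw2, map_sub, hsInl_chain, hΨc, hφ])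
    (fun x => by
      rw [hw2, hsInl_eps, hΨ0, LinearMap.id_apply, hφε, sub_self])
  -- `snd - ψ Ψ` is null-homotopic
  obtain ⟨w3, hw3⟩ : ∃ w3 : ∀ n, ((hsRes hg hgsurj hex hgf D).X n).carrier →ₗ[R] (G.X n).carrier,
      ∀ n p, w3 n p = hsSnd hg hgsurj hex hgf D n p - ψ n (Ψ n p) :=
    ⟨fun n => hsSnd hg hgsurj hex hgf D n - (ψ n).comp (Ψ n), fun _ _ => rfl⟩
  obtain ⟨s3, hs30, hs3n⟩ := exists_homotopy (hsRes hg hgsurj hex hgf D) G w3
    (fun n k p hp => by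
      rw [hw3]
      exact sub_mem hp.2 (hψgr n k _ (hΨgr n k p hp)))
    (fun n p => by rw [hw3, hw3, map_sub, hsSnd_chain, hΨc, hψ])
    (fun b => by
      rw [hw3, hΨ0, LinearMap.id_apply, hψε]
      exact sub_self _)
  -- `inl - Φ φ` is null-homotopic
  obtain ⟨w4, hw4⟩ : ∃ w4 : ∀ n, (F.X n).carrier →ₗ[R] ((hsRes hg hgsurj hex hgf D).X n).carrier,
      ∀ n x, w4 n x = hsInl hg hgsurj hex hgf D n x - Φ n (φ n x) :=
    ⟨fun n => hsInl hg hgsurj hex hgf D n - (Φ n).comp (φ n), fun _ _ => rfl⟩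
  obtain ⟨s4, hs40, hs4n⟩ := exists_homotopy F (hsRes hg hgsurj hex hgf D) w4
    (fun n k x hx => by
      rw [hw4]
      exact sub_mem (hsInl_grHom hg hgsurj hex hgf D n k x hx) (hΦgr n k _ (hφgr n k x hx)))
    (fun n x => by rw [hw4, hw4, map_sub, hsInl_chain, hφ, hΦc])
    (fun x => by
      rw [hw4, hsInl_eps, hφε, hΦ0, LinearMap.id_apply, sub_self])
  -- `snd Φ - ψ` is null-homotopic
  obtain ⟨w5, hw5⟩ : ∃ w5 : ∀ n, (EB.X n).carrier →ₗ[R] (G.X n).carrier,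
      ∀ n x, w5 n x = hsSnd hg hgsurj hex hgf D n (Φ n x) - ψ n x :=
    ⟨fun n => (hsSnd hg hgsurj hex hgf D n).comp (Φ n) - ψ n, fun _ _ => rfl⟩
  obtain ⟨s5, hs50, hs5n⟩ := exists_homotopy EB G w5
    (fun n k x hx => by
      rw [hw5]
      exact sub_mem (hΦgr n k x hx).2 (hψgr n k x hx))
    (fun n x => by rw [hw5, hw5, map_sub, hΦc, hsSnd_chain, hψ])
    (fun b => by
      rw [hw5, hΦ0, LinearMap.id_apply, hψε]
      exact sub_self _)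
  -- `ψ φ` is null-homotopic
  obtain ⟨w6, hw6⟩ : ∃ w6 : ∀ n, (F.X n).carrier →ₗ[R] (G.X n).carrier,
      ∀ n x, w6 n x = ψ n (φ n x) :=
    ⟨fun n => (ψ n).comp (φ n), fun _ _ => rfl⟩
  obtain ⟨s6, hs60, hs6n⟩ := exists_homotopy F G w6
    (fun n k x hx => by
      rw [hw6]
      exact hψgr n k _ (hφgr n k x hx))
    (fun n x => by rw [hw6, hw6, hφ, hψ])
    (fun x => by rw [hw6, hφε, hψε, hgf, map_zero])
  refine ⟨D.θ, D.hθgr, fun i c hc => hsTheta_cocyc D a i hc, fun i c hc => hsTheta_cobdy D a i hc,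
    ?_, ?_, ?_, ?_, ?_, ?_⟩
  · -- exactness at `B`
    intro i n b hb hbn hψb
    have hp : Φ i b ∈ (hsRes hg hgsurj hex hgf D).cocyc a i :=
      chain_cocyc EB (hsRes hg hgsurj hex hgf D) a Φ hΦc hb
    have hpn := hΦgr i n b hbn
    obtain ⟨x, c, hxc⟩ : ∃ (x : (F.X i).carrier) (c : (G.X i).carrier),
        Φ i b = hsMk hg hgsurj hex hgf D i x c := ⟨(Φ i b).1, (Φ i b).2, rfl⟩
    have hc5 := htpy_cobdy EB G a w5 s5 hs50 hs5n hb
    rw [hw5] at hc5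
    have hccob : c ∈ G.cobdy a i := by
      have h6 := add_mem hc5 hψb
      rw [sub_add_cancel, hxc] at h6
      exact h6
    rw [hxc] at hp hpn
    obtain ⟨a', ha', ha'n, hcob⟩ := hs_exact_mid hg hgsurj hex hgf D a i n x c hp hpn.1 hpn.2 hccob
    refine ⟨a', ha', ha'n, ?_⟩
    have h1 := chain_cobdy (hsRes hg hgsurj hex hgf D) EB a Ψ hΨc hcob
    rw [map_sub, ← hxc] at h1
    have h2 := htpy_cobdy EB EB a w1 s1 hs10 hs1n hb
    rw [hw1] at h2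
    have h3 := htpy_cobdy F EB a w2 s2 hs20 hs2n ha'
    rw [hw2] at h3
    have h4 : b - φ i a' = -(Ψ i (Φ i b) - b) +
        (Ψ i (Φ i b) - Ψ i (hsInl hg hgsurj hex hgf D i a')) +
        (Ψ i (hsInl hg hgsurj hex hgf D i a') - φ i a') := by abel
    rw [h4]
    exact add_mem (add_mem (neg_mem h2) h1) h3
  · -- exactness at `C`
    intro i n c hc hcn hθc
    obtain ⟨x, hxn, hp⟩ := hs_right hg hgsurj hex hgf D a i n c hc hcn hθc
    have hpn : hsMk hg hgsurj hex hgf D i x c ∈ ((hsRes hg hgsurj hex hgf D).X i).gr n :=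
      ⟨hxn, hcn⟩
    refine ⟨Ψ i (hsMk hg hgsurj hex hgf D i x c),
      chain_cocyc (hsRes hg hgsurj hex hgf D) EB a Ψ hΨc hp, hΨgr i n _ hpn, ?_⟩
    have h3 := htpy_cobdy (hsRes hg hgsurj hex hgf D) G a w3 s3 hs30 hs3n hp
    rw [hw3] at h3
    exact h3
  · -- exactness at `A`
    intro i n a' ha' ha'n hφa'
    have h4 := htpy_cobdy F (hsRes hg hgsurj hex hgf D) a w4 s4 hs40 hs4n ha'
    rw [hw4] at h4
    have h5 := chain_cobdy EB (hsRes hg hgsurj hex hgf D) a Φ hΦc hφa'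
    have h6 := add_mem h4 h5
    rw [sub_add_cancel] at h6
    exact hs_left hg hgsurj hex hgf D a i n a' ha'n h6
  · -- `ψ φ = 0` on cohomology
    intro i a' ha'
    have h := htpy_cobdy F G a w6 s6 hs60 hs6n ha'
    rwa [hw6] at h
  · -- `θ ψ = 0` on cohomology
    intro i b hb
    have hp : Φ i b ∈ (hsRes hg hgsurj hex hgf D).cocyc a i :=
      chain_cocyc EB (hsRes hg hgsurj hex hgf D) a Φ hΦc hb
    obtain ⟨x, c, hxc⟩ : ∃ (x : (F.X i).carrier) (c : (G.X i).carrier),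
        Φ i b = hsMk hg hgsurj hex hgf D i x c := ⟨(Φ i b).1, (Φ i b).2, rfl⟩
    have hc5 := htpy_cobdy EB G a w5 s5 hs50 hs5n hb
    rw [hw5, hxc] at hc5
    have hc5' : c - ψ i b ∈ G.cobdy a i := hc5
    rw [hxc] at hp
    have hgam := (gam_prod_iff a.toIdeal ((x, c) : (F.X i).carrier × (G.X i).carrier)).1 hp.1
    have hd := LinearMap.mem_ker.1 hp.2
    have h1 : F.d i x + D.θ i c = 0 := congrArg Prod.fst hd
    have h2 : D.θ i c ∈ F.cobdy a (i + 1) := by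
      refine ⟨-x, neg_mem hgam.1, ?_⟩
      rw [map_neg]
      exact (eq_neg_of_add_eq_zero_right h1).symm
    have h3 := hsTheta_cobdy D a i hc5'
    rw [map_sub] at h3
    have h4 := sub_mem h2 h3
    rwa [sub_sub_cancel] at h4
  · -- `φ θ = 0` on cohomology
    intro i c hc
    have h1 : hsInl hg hgsurj hex hgf D (i + 1) (D.θ i c) ∈
        (hsRes hg hgsurj hex hgf D).cobdy a (i + 1) := by
      refine ⟨((0, c) : (F.X i).carrier × (G.X i).carrier),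
        (gam_prod_iff a.toIdeal _).2 ⟨zero_mem _, hc.1⟩, ?_⟩
      refine Prod.ext ?_ ?_
      · show F.d i 0 + D.θ i c = D.θ i c
        rw [map_zero, zero_add]
      · show G.d i c = 0
        exact LinearMap.mem_ker.1 hc.2
    have h2 := chain_cobdy (hsRes hg hgsurj hex hgf D) EB a Ψ hΨc h1
    have h3 := htpy_cobdy F EB a w2 s2 hs20 hs2n (hsTheta_cocyc D a i hc)
    rw [hw2] at h3
    have h4 := sub_mem h2 h3
    rwa [sub_sub_cancel] at h4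

end Mid

end Groth.Agent.H98.GrCat
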