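import Groth.Agent.H98.GrComp

/-!
# Helper library (helper98): lifting a homogeneous map to a chain map from an arbitrary exact
graded complex (a graded resolution whose terms need not be *injective) into a *injective
resolution.
-/

set_option autoImplicit false
universe u

open DirectSum

namespace Groth.Agent.H98.GrCat

variable {ι : Type} [AddCommGroup ι] [DecidableEq ι]
variable {R : Type u} [CommRing R] (𝒜 : ι → AddSubgroup R) [GradedRing 𝒜]

/-- a resolution of a graded module by graded modules (no injectivity requirement) -/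
structure GRes {N : Type u} [AddCommGroup N] [Module R N] (𝒩 : ι → AddSubgroup N)
    [DirectSum.Decomposition 𝒩] [SetLike.GradedSMul 𝒜 𝒩] : Type (u + 1) where
  /-- the terms -/
  X : ℕ → GrLC.GMod.{u} 𝒜
  /-- the differentials -/
  d : ∀ n : ℕ, (X n).carrier →ₗ[R] (X (n + 1)).carrier
  /-- the augmentation -/
  ε : N →ₗ[R] (X 0).carrier
  d_grHom : ∀ n : ℕ, GrLC.IsGrHom (X n).gr (X (n + 1)).gr (d n)
  ε_grHom : GrLC.IsGrHom 𝒩 (X 0).gr ε
  ε_injective : Function.Injective ε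
  exact_zero : LinearMap.ker (d 0) = LinearMap.range ε
  exact_succ : ∀ n : ℕ, LinearMap.ker (d (n + 1)) = LinearMap.range (d n)

section Lift

variable {𝒜}
variable {M : Type u} [AddCommGroup M] [Module R M] {ℳ : ι → AddSubgroup M}
  [DirectSum.Decomposition ℳ] [SetLike.GradedSMul 𝒜 ℳ]
variable {N : Type u} [AddCommGroup N] [Module R N] {𝒩 : ι → AddSubgroup N}
  [DirectSum.Decomposition 𝒩] [SetLike.GradedSMul 𝒜 𝒩]
variable (A : GRes 𝒜 𝒩) (E : GrLC.StarInjRes 𝒜 ℳ)

theorem GRes.d_d (n : ℕ) (x : (A.X n).carrier) : A.d (n + 1) (A.d n x) = 0 := by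
  have h1 : A.d n x ∈ LinearMap.ker (A.d (n + 1)) := by
    rw [A.exact_succ n]
    exact ⟨x, rfl⟩
  exact LinearMap.mem_ker.1 h1

theorem GRes.d_ε (x : N) : A.d 0 (A.ε x) = 0 := by
  have h1 : A.ε x ∈ LinearMap.ker (A.d 0) := by
    rw [A.exact_zero]
    exact ⟨x, rfl⟩
  exact LinearMap.mem_ker.1 h1

/-- the state of the recursive construction of a lift -/
structure GLiftSt (n : ℕ) where
  /-- the map -/
  φ : (A.X n).carrier →ₗ[R] (E.X n).carrier
  hdeg : GrLC.IsGrHom (A.X n).gr (E.X n).gr φ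
  hker : ∀ x, A.d n x = 0 → E.d n (φ x) = 0

variable {A E}

theorem GLiftSt.exists_next {n : ℕ} (s : GLiftSt A E n) :
    ∃ t : GLiftSt A E (n + 1), ∀ x, t.φ (A.d n x) = E.d n (s.φ x) := by
  obtain ⟨h, hh, hhj⟩ := exists_extension_gr 𝒜 (E.X (n + 1)).gr (E.starInj (n + 1))
    (A.X n) (A.X (n + 1)) (A.d n) (A.d_grHom n) ((E.d n).comp s.φ)
    (fun k a ha => E.d_grHom n _ _ (s.hdeg k a ha)) (fun a ha => s.hker a ha)
  refine ⟨⟨h, hh, fun x hx => ?_⟩, fun x => hhj x⟩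
  have h1 : x ∈ LinearMap.range (A.d n) := by
    rw [← A.exact_succ n]
    exact LinearMap.mem_ker.2 hx
  obtain ⟨y, rfl⟩ := h1
  rw [hhj y, LinearMap.comp_apply]
  exact StarInjRes_d_d E n _

/-- the next state -/
noncomputable def GLiftSt.next {n : ℕ} (s : GLiftSt A E n) : GLiftSt A E (n + 1) :=
  Classical.choose s.exists_next

theorem GLiftSt.next_spec {n : ℕ} (s : GLiftSt A E n) (x : (A.X n).carrier) :
    s.next.φ (A.d n x) = E.d n (s.φ x) :=
  Classical.choose_spec s.exists_next x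

/-- the sequence of states -/
noncomputable def gliftSeq (s0 : GLiftSt A E 0) : ∀ n, GLiftSt A E n :=
  fun n => Nat.rec s0 (fun _ s => s.next) n

variable (A E)

/-- lifting of a homogeneous map to a chain map from a graded resolution to a *injective
resolution -/
theorem exists_lift_gres (u : N →ₗ[R] M) (hu : GrLC.IsGrHom 𝒩 ℳ u) :
    ∃ φ : ∀ n, (A.X n).carrier →ₗ[R] (E.X n).carrier,
      (∀ n, GrLC.IsGrHom (A.X n).gr (E.X n).gr (φ n)) ∧
      (∀ x, φ 0 (A.ε x) = E.ε (u x)) ∧ ∀ n x, φ (n + 1) (A.d n x) = E.d n (φ n x) := by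
  obtain ⟨h, hh, hhj⟩ : ∃ h : (A.X 0).carrier →ₗ[R] (E.X 0).carrier,
      GrLC.IsGrHom (A.X 0).gr (E.X 0).gr h ∧ ∀ a : N, h (A.ε a) = E.ε (u a) := by
    obtain ⟨ε', hε'⟩ : ∃ ε' : (GrLC.GMod.of 𝒜 N 𝒩).carrier →ₗ[R] (A.X 0).carrier,
        ∀ a : N, ε' a = A.ε a := ⟨A.ε, fun _ => rfl⟩
    obtain ⟨g', hg'⟩ : ∃ g' : (GrLC.GMod.of 𝒜 N 𝒩).carrier →ₗ[R] (E.X 0).carrier,
        ∀ a : N, g' a = E.ε (u a) := ⟨E.ε.comp u, fun _ => rfl⟩
    obtain ⟨h, hh, hhj⟩ := exists_extension_gr 𝒜 (E.X 0).gr (E.starInj 0)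
      (GrLC.GMod.of 𝒜 N 𝒩) (A.X 0) ε' (fun k a ha => by
        have h1 : ε' a = A.ε a := hε' a
        rw [h1]
        exact A.ε_grHom k a ha) g'
      (fun k a ha => by
        have h1 : g' a = E.ε (u a) := hg' a
        rw [h1]
        exact E.ε_grHom _ _ (hu k a ha)) (fun a ha => by
        have h1 : ε' a = A.ε a := hε' a
        have h2 : g' a = E.ε (u a) := hg' a
        have h3 : A.ε a = A.ε 0 := by rw [← h1, ha, map_zero]
        have h0 : (a : N) = (0 : N) := A.ε_injective h3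
        have h4 : ∀ b : N, b = 0 → E.ε (u b) = 0 := fun b hb => by
          rw [hb, map_zero, map_zero]
        exact h2.trans (h4 a h0))
    refine ⟨h, hh, fun a => ?_⟩
    have h1 := hhj a
    rw [hε' a, hg' a] at h1
    exact h1
  have hker : ∀ x, A.d 0 x = 0 → E.d 0 (h x) = 0 := by
    intro x hx
    have h1 : x ∈ LinearMap.range A.ε := by
      rw [← A.exact_zero]
      exact LinearMap.mem_ker.2 hx
    obtain ⟨y, rfl⟩ := h1
    rw [hhj y]
    exact StarInjRes_d_ε E _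
  refine ⟨fun n => (gliftSeq (⟨h, hh, hker⟩ : GLiftSt A E 0) n).φ,
    fun n => (gliftSeq (⟨h, hh, hker⟩ : GLiftSt A E 0) n).hdeg, fun x => hhj x, fun n x => ?_⟩
  exact (gliftSeq (⟨h, hh, hker⟩ : GLiftSt A E 0) n).next_spec x

end Lift

end Groth.Agent.H98.GrCat
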