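import Mathlib
import Groth.Agent.H98.GrAInvMain

/-!
# Helper library (helper98): linear prime avoidance over an infinite residue field, linear regular
elements and linear regular sequences in a Cohen–Macaulay standard graded *local ring.
-/

set_option autoImplicit false
universe u

open DirectSum

namespace Groth.Agent.H98.GrLin

open Groth.Agent.H98.GrCat Groth.Agent.H98.GrHt

section Avoid

variable {R : Type u} [CommRing R] (𝒜 : ℤ → AddSubgroup R) [GradedRing 𝒜]

/-- a homogeneous element outside the *maximal ideal is a unit -/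
theorem isUnit_of_homog_notMem [IsNoetherianRing R] (m : HomogeneousIdeal 𝒜)
    (hm : GrLC.IsStarLocal 𝒜 m) {a : R} {k : ℤ} (ha : a ∈ 𝒜 k) (ham : a ∉ m.toIdeal) :
    IsUnit a := by
  have hJ : (Ideal.span {a}).IsHomogeneous 𝒜 :=
    Ideal.homogeneous_span 𝒜 _ (fun r hr => by
      rw [Set.mem_singleton_iff] at hr
      exact ⟨k, hr ▸ ha⟩)
  by_contra hu
  have hne : (⟨Ideal.span {a}, hJ⟩ : HomogeneousIdeal 𝒜) ≠ ⊤ := by
    intro h
    apply hu
    rw [← Ideal.span_singleton_eq_top]
    exact congrArg HomogeneousIdeal.toIdeal h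
  have hle := le_of_isStarLocal 𝒜 m hm _ hne
  have hle' : Ideal.span {a} ≤ m.toIdeal := hle
  exact ham (hle' (Ideal.subset_span rfl))

theorem sub_cp_zero_mem (hpos : ∀ n : ℤ, n < 0 → 𝒜 n = ⊥) (m : HomogeneousIdeal 𝒜)
    (hm : IsCoatom m) (r : R) : r - cp 𝒜 r 0 ∈ m.toIdeal := by
  classical
  refine DirectSum.Decomposition.inductionOn 𝒜 (motive := fun r => r - cp 𝒜 r 0 ∈ m.toIdeal)
    ?_ ?_ ?_ r
  · rw [cp_zero, sub_zero]
    exact zero_mem _
  · intro i a
    rw [cp_of_mem 𝒜 a.2]
    by_cases hi : (0 : ℤ) = i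
    · rw [if_pos hi, sub_self]
      exact zero_mem _
    · rw [if_neg hi, sub_zero]
      rcases lt_or_gt_of_ne hi with h | h
      · exact mem_of_pos_degree 𝒜 hpos m hm h a.2
      · have h' : (a : R) ∈ (⊥ : AddSubgroup R) := by
          rw [← hpos i h]
          exact a.2
        rw [AddSubgroup.mem_bot.1 h']
        exact zero_mem _
  · intro a b ha hb
    rw [cp_add]
    have e : a + b - (cp 𝒜 a 0 + cp 𝒜 b 0) = (a - cp 𝒜 a 0) + (b - cp 𝒜 b 0) := by ring
    rw [e]
    exact add_mem ha hb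

/-- infinitely many degree-zero scalars, pairwise incongruent modulo the *maximal ideal -/
theorem exists_scalars (hpos : ∀ n : ℤ, n < 0 → 𝒜 n = ⊥) (m : HomogeneousIdeal 𝒜)
    (hm : IsCoatom m) (hinf : Infinite (R ⧸ m.toIdeal)) :
    ∃ c : ℕ → R, (∀ j, c j ∈ 𝒜 0) ∧ ∀ i j, c i - c j ∈ m.toIdeal → i = j := by
  haveI := hinf
  obtain f := Infinite.natEmbedding (R ⧸ m.toIdeal)
  have hsurj := Ideal.Quotient.mk_surjective (I := m.toIdeal)
  choose g hg using fun j => hsurj (f j)
  refine ⟨fun j => cp 𝒜 (g j) 0, fun j => cp_mem 𝒜 _ 0, ?_⟩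
  intro i j hij
  apply f.injective
  rw [← hg i, ← hg j, Ideal.Quotient.eq]
  have h1 := sub_cp_zero_mem 𝒜 hpos m hm (g i)
  have h2 := sub_cp_zero_mem 𝒜 hpos m hm (g j)
  have e : g i - g j = (g i - cp 𝒜 (g i) 0) - (g j - cp 𝒜 (g j) 0) +
      (cp 𝒜 (g i) 0 - cp 𝒜 (g j) 0) := by ring
  rw [e]
  exact add_mem (sub_mem h1 h2) hij

/-- **linear prime avoidance**: over an infinite residue field, finitely many primes none of which
contains `R_1` are simultaneously avoided by a single linear form -/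
theorem exists_linear_avoid [IsNoetherianRing R] (hpos : ∀ n : ℤ, n < 0 → 𝒜 n = ⊥)
    (m : HomogeneousIdeal 𝒜) (hm : GrLC.IsStarLocal 𝒜 m) (hinf : Infinite (R ⧸ m.toIdeal))
    (P : Finset (Ideal R)) (hP : ∀ p ∈ P, p.IsPrime ∧ ∃ y ∈ 𝒜 1, y ∉ p) :
    ∃ x ∈ 𝒜 1, ∀ p ∈ P, x ∉ p := by
  classical
  obtain ⟨c, hc0, hcinj⟩ := exists_scalars 𝒜 hpos m hm.1 hinf
  induction P using Finset.induction_on with
  | empty => exact ⟨0, zero_mem _, fun p hp => absurd hp (Finset.notMem_empty p)⟩
  | insert p P' hpP' ih =>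
    obtain ⟨x, hx1, hxP'⟩ := ih (fun q hq => hP q (Finset.mem_insert_of_mem hq))
    obtain ⟨hpprime, y, hy1, hyp⟩ := hP p (Finset.mem_insert_self p P')
    by_cases hxp : x ∉ p
    · exact ⟨x, hx1, fun q hq => by
        rcases Finset.mem_insert.1 hq with rfl | hq'
        · exact hxp
        · exact hxP' q hq'⟩
    · rw [not_not] at hxp
      have hcand : ∀ j, y + c j * x ∈ 𝒜 1 := by
        intro j
        refine add_mem hy1 ?_
        have := SetLike.mul_mem_graded (hc0 j) hx1
        rwa [zero_add] at this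
      have hcp : ∀ j, y + c j * x ∉ p := by
        intro j h
        apply hyp
        have e : y = (y + c j * x) - c j * x := by ring
        rw [e]
        exact sub_mem h (p.mul_mem_left _ hxp)
      by_contra hcon
      push_neg at hcon
      have hq : ∀ j, ∃ q ∈ P', y + c j * x ∈ q := by
        intro j
        obtain ⟨q, hq, hmem⟩ := hcon _ (hcand j)
        rcases Finset.mem_insert.1 hq with rfl | hq'
        · exact absurd hmem (hcp j)
        · exact ⟨q, hq', hmem⟩
      choose qf hqf hqmem using hq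
      obtain ⟨i, -, j, -, hij, hqij⟩ := Finset.exists_ne_map_eq_of_card_lt_of_maps_to
        (s := Finset.range (P'.card + 1)) (t := P') (f := qf)
        (by rw [Finset.card_range]; omega) (fun j _ => hqf j)
      have h1 : (c i - c j) * x ∈ qf i := by
        have h2 := hqmem i
        have h3 := hqmem j
        rw [← hqij] at h3
        have e : (c i - c j) * x = (y + c i * x) - (y + c j * x) := by ring
        rw [e]
        exact sub_mem h2 h3
      have hqprime : (qf i).IsPrime := (hP _ (Finset.mem_insert_of_mem (hqf i))).1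
      rcases hqprime.mem_or_mem h1 with h | h
      · have hu : IsUnit (c i - c j) :=
          isUnit_of_homog_notMem 𝒜 m hm (sub_mem (hc0 i) (hc0 j))
            (fun hmem => hij (hcinj i j hmem))
        exact hqprime.ne_top (Ideal.eq_top_of_isUnit_mem _ h hu)
      · exact hxP' _ (hqf i) h

/-- a finitely generated module without `m`-torsion over a standard graded *local ring with
infinite residue field admits a regular linear form -/
theorem exists_linear_regular [IsNoetherianRing R] [IsArtinianRing (GrLC.deg0 𝒜)]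
    (hpos : ∀ n : ℤ, n < 0 → 𝒜 n = ⊥)
    (hstd : Ideal.span (⋃ n ∈ Set.Ioi (0 : ℤ), (𝒜 n : Set R)) =
      Ideal.span ((𝒜 1 : AddSubgroup R) : Set R))
    (m : HomogeneousIdeal 𝒜) (hm : GrLC.IsStarLocal 𝒜 m) (hinf : Infinite (R ⧸ m.toIdeal))
    (M : Type u) [AddCommGroup M] [Module R M] [Module.Finite R M]
    (htor : DRing.torsionSub m.toIdeal M = ⊥) : ∃ x ∈ 𝒜 1, IsSMulRegular M x := by
  classical
  have hP : ∀ p ∈ (associatedPrimes.finite R M).toFinset,
      p.IsPrime ∧ ∃ y ∈ 𝒜 1, y ∉ p := by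
    intro p hp
    rw [Set.Finite.mem_toFinset] at hp
    have hprime : p.IsPrime := hp.isPrime
    refine ⟨hprime, ?_⟩
    by_contra hcon
    push_neg at hcon
    have h1 : (irr 𝒜).toIdeal ≤ p := by
      rw [irr_toIdeal, hstd, Ideal.span_le]
      exact fun y hy => hcon y hy
    have h2 : m.toIdeal ≤ p :=
      (le_radical_irr 𝒜 hpos m hm).trans (hprime.radical_le_iff.2 h1)
    obtain ⟨_, z, hz⟩ := isAssociatedPrime_iff.1 hp
    have hzt : z ∈ DRing.torsionSub m.toIdeal M := ⟨1, fun r hr => by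
      rw [pow_one] at hr
      have h5 : r ∈ (⊥ : Submodule R M).colon {z} := by
        rw [← hz]
        exact h2 hr
      rw [Submodule.mem_colon_singleton, Submodule.mem_bot] at h5
      exact h5⟩
    rw [htor, Submodule.mem_bot] at hzt
    apply hprime.ne_top
    rw [hz, hzt, eq_top_iff]
    intro r _
    rw [Submodule.mem_colon_singleton, smul_zero]
    exact zero_mem _
  obtain ⟨x, hx1, hxP⟩ := exists_linear_avoid 𝒜 hpos m hm hinf _ hP
  refine ⟨x, hx1, ?_⟩
  by_contra hreg
  have h5 : x ∈ ({r : R | IsSMulRegular M r}ᶜ : Set R) := hreg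
  rw [← biUnion_associatedPrimes_eq_compl_regular R M] at h5
  obtain ⟨p₀, hp₀, hxp⟩ := Set.mem_iUnion₂.1 h5
  exact hxP p₀ ((Set.Finite.mem_toFinset _).2 hp₀) hxp

end Avoid

section Dim

open RingTheory.Sequence in
/-- over any commutative ring, a weakly regular sequence on a finite module drops the dimension of
the support by at least its length -/
theorem supportDim_add_length_le {R : Type*} [CommRing R] (M : Type*) [AddCommGroup M]
    [Module R M] [Module.Finite R M] (rs : List R) (reg : IsWeaklyRegular M rs) :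
    Module.supportDim R (M ⧸ Ideal.ofList rs • (⊤ : Submodule R M)) + rs.length ≤
      Module.supportDim R M := by
  induction rs generalizing M with
  | nil =>
    rw [Ideal.ofList_nil, Submodule.bot_smul]
    simpa using (Module.supportDim_eq_of_equiv (Submodule.quotEquivOfEqBot (⊥ : Submodule R M)
      rfl)).le
  | cons x rs' ih =>
    obtain ⟨h1, h2⟩ := (isWeaklyRegular_cons_iff M _ _).mp reg
    have h3 := ih (QuotSMulTop x M) h2
    have h4 := Module.supportDim_quotSMulTop_succ_le_of_notMem_minimalPrimes (M := M) (x := x)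
      (fun _ => h1.notMem_of_mem_minimalPrimes)
    rw [Module.supportDim_eq_of_equiv
      (Submodule.quotOfListConsSMulTopEquivQuotSMulTopInner M x rs')]
    calc Module.supportDim R (QuotSMulTop x M ⧸
            Ideal.ofList rs' • (⊤ : Submodule R (QuotSMulTop x M))) +
          ((x :: rs').length : ℕ)
        = Module.supportDim R (QuotSMulTop x M ⧸
            Ideal.ofList rs' • (⊤ : Submodule R (QuotSMulTop x M))) + rs'.length + 1 := by
          rw [List.length_cons]
          push_cast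
          rw [add_assoc]
      _ ≤ Module.supportDim R (QuotSMulTop x M) + 1 := by gcongr
      _ ≤ Module.supportDim R M := h4

end Dim

section Seq

variable {R : Type u} [CommRing R] {𝒜 : ℤ → AddSubgroup R} [GradedRing 𝒜]

/-- the lower local cohomology of the quotient by a homogeneous weakly regular sequence vanishes
in the expected range -/
theorem vn_quot_list (m : HomogeneousIdeal 𝒜) (I : GrLC.StarInjRes 𝒜 𝒜) (n : ℕ)
    (hvan : ∀ i, i < n → ∀ j, Vn I m i j) (l : List R) (hlhom : ∀ r ∈ l, ∃ j, r ∈ 𝒜 j)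
    (hreg : RingTheory.Sequence.IsWeaklyRegular R l) :
    ∀ s : ℕ, s ≤ l.length →
      ∀ E : GrLC.StarInjRes 𝒜 (quotG 𝒜 𝒜 (Bq l s) (bq_isHomogeneous l hlhom s)).gr,
        ∀ i, i < n - s → ∀ j, Vn E m i j := by
  classical
  have hB := bq_isHomogeneous (𝒜 := 𝒜) l hlhom
  intro s
  induction s with
  | zero =>
    intro _ E
    have hB0 : Bq l 0 = ⊥ := by
      rw [bq_eq, List.take_zero, Ideal.ofList_nil]
    obtain ⟨e, he⟩ : ∃ e : R ≃ₗ[R] (quotG 𝒜 𝒜 (Bq l 0) (hB 0)).carrier,
        ∀ r, e r = (Bq l 0).mkQ r :=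
      ⟨(Submodule.quotEquivOfEqBot _ hB0).symm, fun r => rfl⟩
    have heg : GrLC.IsGrHom 𝒜 (quotG 𝒜 𝒜 (Bq l 0) (hB 0)).gr e.toLinearMap := by
      intro j r hr
      show e r ∈ _
      rw [he]
      exact (mem_quotGr' 𝒜 (Bq l 0)).2 ⟨r, hr, rfl⟩
    intro i hi j
    exact vn_of_equiv e heg I E m i j (hvan i (by omega) j)
  | succ s ih =>
    intro hs1 E'
    have hs' : s < l.length := hs1
    obtain ⟨E, -⟩ : ∃ E : GrLC.StarInjRes 𝒜 (quotG 𝒜 𝒜 (Bq l s) (hB s)).gr, True :=
      ⟨starInjRes 𝒜 _, trivial⟩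
    have ihV := ih (by omega) E
    obtain ⟨x, hx⟩ : ∃ x : R, x = l[s] := ⟨_, rfl⟩
    obtain ⟨k, hxk'⟩ := hlhom l[s] (List.getElem_mem hs')
    have hxk : x ∈ 𝒜 k := hx ▸ hxk'
    have hxreg : IsSMulRegular (quotG 𝒜 𝒜 (Bq l s) (hB s)).carrier x := by
      rw [hx]
      exact hreg.regular_mod_prev s hs'
    have hle : Bq l s ≤ Bq l (s + 1) := by
      intro r hr
      exact (mem_bq_succ l s hs' r).2 ⟨r, hr, 0, by rw [zero_mul, add_zero]⟩
    obtain ⟨π', hπ'⟩ : ∃ π' : (quotG 𝒜 𝒜 (Bq l s) (hB s)).carrier →ₗ[R]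
        (quotG 𝒜 𝒜 (Bq l (s + 1)) (hB (s + 1))).carrier,
        ∀ r : R, π' ((Bq l s).mkQ r) = (Bq l (s + 1)).mkQ r :=
      ⟨Submodule.mapQ (Bq l s) (Bq l (s + 1)) LinearMap.id hle, fun r => rfl⟩
    have hπ's : Function.Surjective π' := by
      intro y
      obtain ⟨r, rfl⟩ := (Bq l (s + 1)).mkQ_surjective y
      exact ⟨(Bq l s).mkQ r, hπ' r⟩
    have hπ'g : GrLC.IsGrHom (quotG 𝒜 𝒜 (Bq l s) (hB s)).gr
        (quotG 𝒜 𝒜 (Bq l (s + 1)) (hB (s + 1))).gr π' := by
      intro j y hy
      obtain ⟨z, hz, rfl⟩ := (mem_quotGr' 𝒜 (Bq l s)).1 hy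
      rw [hπ']
      exact (mem_quotGr' 𝒜 (Bq l (s + 1))).2 ⟨z, hz, rfl⟩
    have hker : ∀ y, π' y = 0 → ∃ z, x • z = y := by
      intro y hy
      obtain ⟨r, rfl⟩ := (Bq l s).mkQ_surjective y
      rw [hπ'] at hy
      have h1 : r ∈ Bq l (s + 1) := (Submodule.Quotient.mk_eq_zero _).1 hy
      obtain ⟨b, hb, c, hc⟩ := (mem_bq_succ l s hs' r).1 h1
      refine ⟨(Bq l s).mkQ c, ?_⟩
      have h5 : x • ((Bq l s).mkQ c : R ⧸ Bq l s) = (Bq l s).mkQ r := by
        rw [← LinearMap.map_smul]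
        refine (Submodule.Quotient.eq _).2 ?_
        rw [← hc, ← hx, smul_eq_mul]
        have e1 : x * c - (b + c * x) = -b := by ring
        rw [e1]
        exact neg_mem hb
      exact h5
    have hker' : ∀ z, π' (x • z) = 0 := by
      intro z
      obtain ⟨c, rfl⟩ := (Bq l s).mkQ_surjective z
      rw [map_smul, hπ']
      have h5 : x • ((Bq l (s + 1)).mkQ c : R ⧸ Bq l (s + 1)) = 0 := by
        rw [← LinearMap.map_smul]
        refine (Submodule.Quotient.mk_eq_zero _).2 ?_
        exact (mem_bq_succ l s hs' _).2 ⟨0, zero_mem _, c, by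
          rw [zero_add, ← hx, smul_eq_mul, mul_comm]⟩
      exact h5
    intro i hi j
    exact (mulx_les m x k hxk hxreg π' hπ's hπ'g hker hker' E E' i).2 j
      (ihV i (by omega) j) (ihV (i + 1) (by omega) _)

end Seq

section LinSeq

variable {R : Type u} [CommRing R] [LocCoh.IsCohenMacaulayRing R] (𝒜 : ℤ → AddSubgroup R)
  [GradedRing 𝒜]

/-- **linear regular sequences**: in a Cohen–Macaulay standard graded *local ring of dimension `d`
with infinite residue field there is a regular sequence of `s` linear forms, for every `s ≤ d` -/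
theorem exists_linear_seq [IsArtinianRing (GrLC.deg0 𝒜)] (hpos : ∀ n : ℤ, n < 0 → 𝒜 n = ⊥)
    (hstd : Ideal.span (⋃ n ∈ Set.Ioi (0 : ℤ), (𝒜 n : Set R)) =
      Ideal.span ((𝒜 1 : AddSubgroup R) : Set R))
    (m : HomogeneousIdeal 𝒜) (hm : GrLC.IsStarLocal 𝒜 m) (hinf : Infinite (R ⧸ m.toIdeal))
    (d : ℕ) (hd : ringKrullDim R = d) (I : GrLC.StarInjRes 𝒜 𝒜) :
    ∀ s : ℕ, s ≤ d → ∃ l : List R, l.length = s ∧ (∀ r ∈ l, r ∈ 𝒜 1) ∧
      RingTheory.Sequence.IsWeaklyRegular R l := by
  classical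
  intro s
  induction s with
  | zero => exact fun _ => ⟨[], rfl, fun r hr => absurd hr (List.not_mem_nil), .nil R R⟩
  | succ s ih =>
    intro hs
    obtain ⟨l, hlen, hl1, hreg⟩ := ih (by omega)
    subst hlen
    have hlhom : ∀ r ∈ l, ∃ j, r ∈ 𝒜 j := fun r hr => ⟨1, hl1 r hr⟩
    have hB := bq_isHomogeneous (𝒜 := 𝒜) l hlhom l.length
    obtain ⟨E, -⟩ : ∃ E : GrLC.StarInjRes 𝒜 (quotG 𝒜 𝒜 (Bq l l.length) hB).gr, True :=
      ⟨starInjRes 𝒜 _, trivial⟩
    have hV : ∀ j, Vn E m 0 j :=
      vn_quot_list m I d (fun i hi j => vn_of_cm hpos m hm d hd I i hi j) l hlhom hreg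
        l.length le_rfl E 0 (by omega)
    have htor := torsionSub_eq_bot_of_vn_zero E m hV
    have hfin : Module.Finite R (quotG 𝒜 𝒜 (Bq l l.length) hB).carrier :=
      inferInstanceAs (Module.Finite R (R ⧸ Bq l l.length))
    obtain ⟨x, hx1, hxreg⟩ := exists_linear_regular 𝒜 hpos hstd m hm hinf
      (quotG 𝒜 𝒜 (Bq l l.length) hB).carrier htor
    have hxreg' : IsSMulRegular (R ⧸ (Ideal.ofList l • ⊤ : Submodule R R)) x := by
      have h1 : IsSMulRegular (R ⧸ Bq l l.length) x := hxreg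
      unfold Bq at h1
      rw [List.take_length] at h1
      exact h1
    refine ⟨l ++ [x], by rw [List.length_append, List.length_singleton], ?_, ?_⟩
    · intro r hr
      rcases List.mem_append.1 hr with h | h
      · exact hl1 r h
      · rw [List.mem_singleton.1 h]
        exact hx1
    · exact (RingTheory.Sequence.isWeaklyRegular_append_iff R l [x]).2
        ⟨hreg, (RingTheory.Sequence.isWeaklyRegular_singleton_iff _ x).2 hxreg'⟩

end LinSeq

end Groth.Agent.H98.GrLin
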