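import Groth.Agent.H98.GrEG

/-!
# Helper library (helper98): existence of minimal graded free resolutions of finitely generated
graded modules over a Noetherian `ℤ`-graded ring `R` with an ideal `m` containing every homogeneous
element of nonzero degree and such that the homogeneous elements of degree zero outside `m` are
units (e.g. a standard graded polynomial ring over a field with its irrelevant ideal).
-/

set_option autoImplicit false
universe u

open DirectSum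

namespace Groth.Agent.H98.GrCat

/-- there is a homogeneous generating family with `n` elements -/
def IsHG (R : Type u) [CommRing R] {M : Type u} [AddCommGroup M] [Module R M]
    (ℳ : ℤ → AddSubgroup M) (n : ℕ) : Prop :=
  ∃ (dg : Fin n → ℤ) (c : Fin n → M), (∀ b, c b ∈ ℳ (dg b)) ∧
    Submodule.span R (Set.range c) = ⊤

theorem exists_isHG {R : Type u} [CommRing R] {M : Type u} [AddCommGroup M] [Module R M]
    (ℳ : ℤ → AddSubgroup M) [DirectSum.Decomposition ℳ] [Module.Finite R M] :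
    ∃ n, IsHG R ℳ n := by
  classical
  obtain ⟨t, ht⟩ := (Module.Finite.fg_top : (⊤ : Submodule R M).FG)
  obtain ⟨T, hT⟩ : ∃ T : Finset M, T = t.biUnion (fun x => (decompose ℳ x).support.image
      (fun g => ((decompose ℳ x g : ℳ g) : M))) := ⟨_, rfl⟩
  have hThom : ∀ y ∈ T, ∃ g, y ∈ ℳ g := by
    intro y hy
    rw [hT] at hy
    obtain ⟨x, _, hy⟩ := Finset.mem_biUnion.1 hy
    obtain ⟨g, _, rfl⟩ := Finset.mem_image.1 hy
    exact ⟨g, SetLike.coe_mem _⟩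
  have hTspan : Submodule.span R (T : Set M) = ⊤ := by
    rw [eq_top_iff, ← ht, Submodule.span_le]
    intro x hx
    rw [SetLike.mem_coe, ← sum_support_decompose ℳ x]
    refine Submodule.sum_mem _ fun g hg => Submodule.subset_span ?_
    rw [hT]
    exact Finset.mem_coe.2 (Finset.mem_biUnion.2 ⟨x, Finset.mem_coe.1 hx,
      Finset.mem_image.2 ⟨g, hg, rfl⟩⟩)
  choose! g hg using hThom
  refine ⟨T.card, fun b => g ((T.equivFin.symm b : T) : M), fun b => ((T.equivFin.symm b : T) : M),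
    fun b => hg _ (T.equivFin.symm b).2, ?_⟩
  have hr : Set.range (fun b => ((T.equivFin.symm b : T) : M)) = (T : Set M) := by
    ext y
    constructor
    · rintro ⟨b, rfl⟩
      exact (T.equivFin.symm b).2
    · intro hy
      refine ⟨T.equivFin ⟨y, hy⟩, ?_⟩
      show ((T.equivFin.symm (T.equivFin ⟨y, hy⟩) : T) : M) = y
      rw [Equiv.symm_apply_apply]
  rw [hr, hTspan]

section MinGens

variable {R : Type u} [CommRing R] (𝒜 : ℤ → AddSubgroup R) [GradedRing 𝒜] (m : Ideal R)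
variable {M : Type u} [AddCommGroup M] [Module R M] (ℳ : ℤ → AddSubgroup M)
  [DirectSum.Decomposition ℳ] [SetLike.GradedSMul 𝒜 ℳ]
variable (H1 : ∀ j : ℤ, j ≠ 0 → ∀ x ∈ 𝒜 j, x ∈ m) (H2 : ∀ x ∈ 𝒜 0, x ∉ m → IsUnit x)

attribute [local instance] ffDec ffGSMul

include H1 H2 in
/-- the relations of a homogeneous generating family with the least number of elements have their
coefficients in `m` -/
theorem rel_mem_of_min {n : ℕ} (dg : Fin n → ℤ) (c : Fin n → M) (hc : ∀ b, c b ∈ ℳ (dg b))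
    (hmin : ∀ n', n' < n → ¬ IsHG R ℳ n') (hspan : Submodule.span R (Set.range c) = ⊤)
    (v : Fin n → R) (hv : Fintype.linearCombination R c v = 0) (b₀ : Fin n) : v b₀ ∈ m := by
  classical
  by_contra hb₀
  have hπgr : GrLC.IsGrHom (ffGr 𝒜 dg) ℳ (Fintype.linearCombination R c) :=
    linearCombination_isGrHom dg c hc
  have hker := ker_isHomogeneous (ffGr 𝒜 dg) ℳ hπgr
  have hvker : v ∈ LinearMap.ker (Fintype.linearCombination R c) := LinearMap.mem_ker.2 hv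
  have hexe : ∃ e : ℤ, ((decompose (ffGr 𝒜 dg) v e : ffGr 𝒜 dg e) : Fin n → R) b₀ ∉ m := by
    by_contra hall
    apply hb₀
    have hsum := congrFun (sum_support_decompose (ffGr 𝒜 dg) v) b₀
    rw [Finset.sum_apply] at hsum
    rw [← hsum]
    refine Ideal.sum_mem _ (fun e _ => ?_)
    by_contra he
    exact hall ⟨e, he⟩
  obtain ⟨e, he⟩ := hexe
  obtain ⟨w, hwdef⟩ : ∃ w : Fin n → R,
      w = ((decompose (ffGr 𝒜 dg) v e : ffGr 𝒜 dg e) : Fin n → R) := ⟨_, rfl⟩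
  have hwker : w ∈ LinearMap.ker (Fintype.linearCombination R c) := by
    rw [hwdef]
    exact hker e hvker
  have hwgr : ∀ b, w b ∈ 𝒜 (e - dg b) := by
    rw [hwdef]
    exact SetLike.coe_mem (decompose (ffGr 𝒜 dg) v e)
  rw [← hwdef] at he
  have he0 : e - dg b₀ = 0 := by
    by_contra hne
    exact he (H1 _ hne _ (hwgr b₀))
  have hunit : IsUnit (w b₀) := H2 _ (by rw [← he0]; exact hwgr b₀) he
  have hrel : ∑ b, w b • c b = 0 := by
    have h := LinearMap.mem_ker.1 hwker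
    rw [Fintype.linearCombination_apply] at h
    exact h
  obtain ⟨n', rfl⟩ : ∃ n', n = n' + 1 := ⟨n - 1, by have := b₀.pos; omega⟩
  rw [Fin.sum_univ_succAbove _ b₀] at hrel
  obtain ⟨u, hu⟩ := hunit
  have hcb : c b₀ = -((↑u⁻¹ : R) • ∑ i : Fin n', w (b₀.succAbove i) • c (b₀.succAbove i)) := by
    have h1 : w b₀ • c b₀ = -∑ i : Fin n', w (b₀.succAbove i) • c (b₀.succAbove i) :=
      eq_neg_of_add_eq_zero_left hrel
    have h2 : c b₀ = (↑u⁻¹ : R) • (w b₀ • c b₀) := by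
      rw [smul_smul, ← hu, Units.inv_mul, one_smul]
    rw [h2, h1, smul_neg]
  refine hmin n' (Nat.lt_succ_self n') ⟨fun i => dg (b₀.succAbove i),
    fun i => c (b₀.succAbove i), fun i => hc _, ?_⟩
  rw [eq_top_iff, ← hspan, Submodule.span_le]
  rintro _ ⟨b, rfl⟩
  by_cases hb : b = b₀
  · rw [hb, hcb]
    exact Submodule.neg_mem _ (Submodule.smul_mem _ _ (Submodule.sum_mem _ fun i _ =>
      Submodule.smul_mem _ _ (Submodule.subset_span ⟨i, rfl⟩)))
  · obtain ⟨i, hi⟩ := Fin.exists_succAbove_eq hb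
    rw [← hi]
    exact Submodule.subset_span ⟨i, rfl⟩

include H1 H2 in
/-- minimal homogeneous generators -/
theorem exists_min_gens [Module.Finite R M] :
    ∃ (n : ℕ) (dg : Fin n → ℤ) (c : Fin n → M), (∀ b, c b ∈ ℳ (dg b)) ∧
      Function.Surjective (Fintype.linearCombination R c) ∧
      ∀ v : Fin n → R, Fintype.linearCombination R c v = 0 → ∀ b, v b ∈ m := by
  classical
  have hex := exists_isHG (R := R) ℳ
  obtain ⟨dg, c, hc, hspan⟩ := Nat.find_spec hex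
  refine ⟨Nat.find hex, dg, c, hc, ?_, fun v hv b =>
    rel_mem_of_min 𝒜 m ℳ H1 H2 dg c hc (fun n' hn' => Nat.find_min hex hn') hspan v hv b⟩
  rw [← LinearMap.range_eq_top, Fintype.range_linearCombination]
  exact hspan

end MinGens

section Stages

variable {R : Type u} [CommRing R] [IsNoetherianRing R] (𝒜 : ℤ → AddSubgroup R) [GradedRing 𝒜]
  (m : Ideal R)

/-- a stage of the construction: a graded free module of finite rank with a homogeneous submodule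
all of whose elements have their coordinates in `m` -/
structure MStage where
  /-- the rank -/
  n : ℕ
  /-- the basis degrees -/
  dg : Fin n → ℤ
  /-- the submodule to be covered next -/
  Z : Submodule R (ffG 𝒜 dg).carrier
  hZ : Z.IsHomogeneous (ffG 𝒜 dg).gr
  hm : ∀ v ∈ Z, ∀ b, (v : Fin n → R) b ∈ m

/-- a matrix as a map of graded free modules -/
noncomputable def mvL {p q : ℕ} (dgp : Fin p → ℤ) (dgq : Fin q → ℤ) (D : Matrix (Fin p) (Fin q) R) :
    (ffG 𝒜 dgq).carrier →ₗ[R] (ffG 𝒜 dgp).carrier := Matrix.mulVecLin D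

/-- a linear combination as a map out of a graded free module -/
noncomputable def lcL {M : Type u} [AddCommGroup M] [Module R M] {n : ℕ} (dg : Fin n → ℤ)
    (c : Fin n → M) : (ffG 𝒜 dg).carrier →ₗ[R] M := Fintype.linearCombination R c

variable (H1 : ∀ j : ℤ, j ≠ 0 → ∀ x ∈ 𝒜 j, x ∈ m) (H2 : ∀ x ∈ 𝒜 0, x ∉ m → IsUnit x)

include H1 H2 in
theorem exists_next (s : MStage 𝒜 m) :
    ∃ (n' : ℕ) (dg' : Fin n' → ℤ) (D : Matrix (Fin s.n) (Fin n') R),
      (∀ a b, D a b ∈ 𝒜 (dg' b - s.dg a)) ∧ (∀ a b, D a b ∈ m) ∧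
      LinearMap.range (mvL 𝒜 s.dg dg' D) = s.Z ∧
      ∀ v : Fin n' → R, Matrix.mulVecLin D v = 0 → ∀ b, v b ∈ m := by
  classical
  letI : DirectSum.Decomposition (subGr (ffG 𝒜 s.dg).gr s.Z) := subDec (ffG 𝒜 s.dg).gr s.Z s.hZ
  haveI : SetLike.GradedSMul 𝒜 (subGr (ffG 𝒜 s.dg).gr s.Z) := subGSMul 𝒜 (ffG 𝒜 s.dg).gr s.Z
  haveI : IsNoetherian R (ffG 𝒜 s.dg).carrier := (inferInstance : IsNoetherian R (Fin s.n → R))
  obtain ⟨n', dg', c', hc', hsurj, hrel⟩ :=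
    exists_min_gens 𝒜 m (subGr (ffG 𝒜 s.dg).gr s.Z) H1 H2
  obtain ⟨D, hD⟩ : ∃ D : Matrix (Fin s.n) (Fin n') R,
      ∀ a b, D a b = (((c' b : ↥s.Z) : (ffG 𝒜 s.dg).carrier) : Fin s.n → R) a :=
    ⟨fun a b => (((c' b : ↥s.Z) : (ffG 𝒜 s.dg).carrier) : Fin s.n → R) a, fun _ _ => rfl⟩
  have key : ∀ v : Fin n' → R, mvL 𝒜 s.dg dg' D v =
      ((Fintype.linearCombination R c' v : ↥s.Z) : (ffG 𝒜 s.dg).carrier) := by
    intro v
    funext a
    obtain ⟨L, hL⟩ : ∃ L : ↥s.Z →ₗ[R] R,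
        ∀ z, L z = ((z : (ffG 𝒜 s.dg).carrier) : Fin s.n → R) a :=
      ⟨(LinearMap.proj a : (Fin s.n → R) →ₗ[R] R).comp s.Z.subtype, fun _ => rfl⟩
    have h1 : (mvL 𝒜 s.dg dg' D v : Fin s.n → R) a = ∑ b, D a b * v b := by
      show (Matrix.mulVecLin D v) a = _
      simp only [Matrix.mulVecLin_apply, Matrix.mulVec, dotProduct]
    rw [h1, ← hL, Fintype.linearCombination_apply, map_sum]
    refine Finset.sum_congr rfl fun b _ => ?_
    rw [map_smul, hL, hD, smul_eq_mul, mul_comm]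
  refine ⟨n', dg', D, fun a b => ?_, fun a b => ?_, ?_, fun v hv b => ?_⟩
  · rw [hD]
    exact hc' b a
  · rw [hD]
    exact s.hm _ (c' b).2 a
  · ext z
    constructor
    · rintro ⟨v, rfl⟩
      rw [key]
      exact Subtype.property _
    · intro hz
      obtain ⟨v, hv⟩ := hsurj ⟨z, hz⟩
      refine ⟨v, ?_⟩
      rw [key, hv]
  · refine hrel v (Subtype.ext ?_) b
    have h2 := key v
    have h3 : mvL 𝒜 s.dg dg' D v = 0 := hv
    rw [h3] at h2
    rw [← h2]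
    rfl

/-- the rank of the next stage -/
noncomputable def nextN (s : MStage 𝒜 m) : ℕ := (exists_next 𝒜 m H1 H2 s).choose

/-- the basis degrees of the next stage -/
noncomputable def nextDg (s : MStage 𝒜 m) : Fin (nextN 𝒜 m H1 H2 s) → ℤ :=
  (exists_next 𝒜 m H1 H2 s).choose_spec.choose

/-- the matrix into a stage -/
noncomputable def nextD (s : MStage 𝒜 m) : Matrix (Fin s.n) (Fin (nextN 𝒜 m H1 H2 s)) R :=
  (exists_next 𝒜 m H1 H2 s).choose_spec.choose_spec.choose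

theorem nextD_spec (s : MStage 𝒜 m) :
    (∀ a b, nextD 𝒜 m H1 H2 s a b ∈ 𝒜 (nextDg 𝒜 m H1 H2 s b - s.dg a)) ∧
      (∀ a b, nextD 𝒜 m H1 H2 s a b ∈ m) ∧
      LinearMap.range (mvL 𝒜 s.dg (nextDg 𝒜 m H1 H2 s) (nextD 𝒜 m H1 H2 s)) = s.Z ∧
      ∀ v : Fin (nextN 𝒜 m H1 H2 s) → R,
        Matrix.mulVecLin (nextD 𝒜 m H1 H2 s) v = 0 → ∀ b, v b ∈ m :=
  (exists_next 𝒜 m H1 H2 s).choose_spec.choose_spec.choose_spec

/-- the next stage -/
noncomputable def next (s : MStage 𝒜 m) : MStage 𝒜 m where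
  n := nextN 𝒜 m H1 H2 s
  dg := nextDg 𝒜 m H1 H2 s
  Z := LinearMap.ker (mvL 𝒜 s.dg (nextDg 𝒜 m H1 H2 s) (nextD 𝒜 m H1 H2 s))
  hZ := ker_isHomogeneous (ffG 𝒜 (nextDg 𝒜 m H1 H2 s)).gr (ffG 𝒜 s.dg).gr
    (mulVecLin_isGrHom s.dg (nextDg 𝒜 m H1 H2 s) (nextD 𝒜 m H1 H2 s) (nextD_spec 𝒜 m H1 H2 s).1)
  hm := fun v hv b => (nextD_spec 𝒜 m H1 H2 s).2.2.2 v (LinearMap.mem_ker.1 hv) b

/-- the sequence of stages -/
noncomputable def stg (s₀ : MStage 𝒜 m) : ℕ → MStage 𝒜 m :=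
  fun i => Nat.rec s₀ (fun _ s => next 𝒜 m H1 H2 s) i

variable {M : Type u} [AddCommGroup M] [Module R M] (ℳ : ℤ → AddSubgroup M)
  [DirectSum.Decomposition ℳ] [SetLike.GradedSMul 𝒜 ℳ]

/-- the initial stage -/
noncomputable def mstage0 {n₀ : ℕ} (dg₀ : Fin n₀ → ℤ) (c₀ : Fin n₀ → M)
    (hc₀ : ∀ b, c₀ b ∈ ℳ (dg₀ b))
    (hrel₀ : ∀ v : Fin n₀ → R, Fintype.linearCombination R c₀ v = 0 → ∀ b, v b ∈ m) :
    MStage 𝒜 m where
  n := n₀
  dg := dg₀
  Z := LinearMap.ker (lcL 𝒜 dg₀ c₀)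
  hZ := ker_isHomogeneous (ffG 𝒜 dg₀).gr ℳ
    (linearCombination_isGrHom (𝒜 := 𝒜) (ℳ := ℳ) dg₀ c₀ hc₀)
  hm := fun v hv b => hrel₀ v (LinearMap.mem_ker.1 hv) b

include H1 H2 in
/-- **existence of minimal graded free resolutions** -/
theorem exists_minimal_freeRes [Module.Finite R M] :
    ∃ F : GrSyz.FreeRes 𝒜 ℳ, F.IsMinimal m := by
  obtain ⟨n₀, dg₀, c₀, hc₀, hsurj₀, hrel₀⟩ := exists_min_gens 𝒜 m ℳ H1 H2
  refine ⟨{ rk := fun i => (stg 𝒜 m H1 H2 (mstage0 𝒜 m ℳ dg₀ c₀ hc₀ hrel₀) i).n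
            deg := fun i => (stg 𝒜 m H1 H2 (mstage0 𝒜 m ℳ dg₀ c₀ hc₀ hrel₀) i).dg
            d := fun i => nextD 𝒜 m H1 H2 (stg 𝒜 m H1 H2 (mstage0 𝒜 m ℳ dg₀ c₀ hc₀ hrel₀) i)
            aug := c₀
            d_mem := fun i a b =>
              (nextD_spec 𝒜 m H1 H2 (stg 𝒜 m H1 H2 (mstage0 𝒜 m ℳ dg₀ c₀ hc₀ hrel₀) i)).1 a b
            aug_mem := hc₀
            aug_surjective := hsurj₀
            exact_zero := ?_
            exact_succ := fun i => ?_ }, fun i a b =>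
      (nextD_spec 𝒜 m H1 H2 (stg 𝒜 m H1 H2 (mstage0 𝒜 m ℳ dg₀ c₀ hc₀ hrel₀) i)).2.1 a b⟩
  · exact ((nextD_spec 𝒜 m H1 H2 (stg 𝒜 m H1 H2 (mstage0 𝒜 m ℳ dg₀ c₀ hc₀ hrel₀) 0)).2.2.1).symm
  · exact ((nextD_spec 𝒜 m H1 H2
      (stg 𝒜 m H1 H2 (mstage0 𝒜 m ℳ dg₀ c₀ hc₀ hrel₀) (i + 1))).2.2.1).symm

end Stages

end Groth.Agent.H98.GrCat
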