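import Groth.Agent.H98.GrStar
import Mathlib.Data.Finset.Order

/-!
# Helper library (helper98): bounded-below graded modules, homogeneity of `m • ⊤`, dual maps.
-/

set_option autoImplicit false
universe u
open scoped TensorProduct

namespace Groth.Agent.H98

section NoRing

variable {M : Type u} [AddCommGroup M] {τ : Type*} [SetLike τ M] [AddSubgroupClass τ M]
  (ℳ : ℤ → τ) [DirectSum.Decomposition ℳ]

theorem mem_of_comp_eq_zero {x : M} {n : ℤ}
    (h : ∀ j, j ≠ n → ((DirectSum.decompose ℳ x j : ℳ j) : M) = 0) : x ∈ ℳ n := by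
  classical
  have hdec : DirectSum.decompose ℳ x =
      DirectSum.of (fun i => ℳ i) n (DirectSum.decompose ℳ x n) := by
    ext j
    by_cases hj : j = n
    · subst hj
      rw [DirectSum.of_eq_same]
    · rw [DirectSum.of_eq_of_ne _ _ _ hj, h j hj]
      rfl
  have hx' : x = ((DirectSum.decompose ℳ x n : ℳ n) : M) := by
    have h1 := congrArg (DirectSum.decompose ℳ).symm hdec
    rwa [Equiv.symm_apply_apply, DirectSum.decompose_symm_of] at h1
  rw [hx']
  exact SetLike.coe_mem _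

theorem eq_zero_of_comp_eq_zero {x : M}
    (h : ∀ j, ((DirectSum.decompose ℳ x j : ℳ j) : M) = 0) : x = 0 := by
  classical
  have h0 : DirectSum.decompose ℳ x = 0 := by
    ext n
    rw [h n]; rfl
  exact (DirectSum.decompose ℳ).injective (h0.trans (DirectSum.decompose_zero ℳ).symm)

end NoRing

section Bound

variable {k : Type u} [Field k] {R : Type u} [CommRing R] [Algebra k R]
  {M : Type u} [AddCommGroup M] [Module R M]
  (𝒜 : ℤ → Submodule k R) [GradedAlgebra 𝒜]
  {τ : Type*} [SetLike τ M] [AddSubgroupClass τ M]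
  (ℳ : ℤ → τ) [DirectSum.Decomposition ℳ] [SetLike.GradedSMul 𝒜 ℳ]

/-- a finitely generated graded module over a non-negatively graded ring is bounded below. -/
theorem exists_bound_below (hpos : ∀ n : ℤ, n < 0 → 𝒜 n = ⊥) [Module.Finite R M] :
    ∃ i0 : ℤ, ∀ i < i0, ∀ x ∈ ℳ i, x = 0 := by
  classical
  obtain ⟨G, hG⟩ := (Module.Finite.fg_top : (⊤ : Submodule R M).FG)
  obtain ⟨b, hb⟩ := Finset.exists_le
    ((G.biUnion (fun x => (DirectSum.decompose ℳ x).support)).image (fun i : ℤ => -i))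
  refine ⟨-b, fun i hi x hx => ?_⟩
  have hGle : ∀ z ∈ (G : Set M), z ∈ geSub 𝒜 ℳ hpos (-b) := by
    intro z hz j hj
    by_contra hne
    have hsup : j ∈ (DirectSum.decompose ℳ z).support := by
      rw [DFinsupp.mem_support_iff]
      intro h
      apply hne
      rw [h]; rfl
    have := hb (-j) (Finset.mem_image.mpr ⟨j, Finset.mem_biUnion.mpr ⟨z, hz, hsup⟩, rfl⟩)
    omega
  have htop : (⊤ : Submodule R M) ≤ geSub 𝒜 ℳ hpos (-b) := by
    rw [← hG, Submodule.span_le]; exact hGle
  have hxge := htop (Submodule.mem_top : x ∈ ⊤) i hi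
  rwa [DirectSum.decompose_of_mem_same ℳ hx] at hxge

/-- `R = k·1 + m`. -/
theorem exists_sub_mem_irr (hpos : ∀ n : ℤ, n < 0 → 𝒜 n = ⊥)
    (h0 : 𝒜 0 = Submodule.span k {(1 : R)}) (r : R) :
    ∃ c : k, r - c • (1 : R) ∈ Ideal.span (⋃ n ∈ Set.Ioi (0 : ℤ), (𝒜 n : Set R)) := by
  classical
  induction r using DirectSum.Decomposition.inductionOn 𝒜 with
  | zero => exact ⟨0, by simp⟩
  | @homogeneous a r =>
    rcases lt_trichotomy a 0 with ha | ha | ha
    · have hr0 : (r : R) = 0 := by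
        have hall : ∀ y : R, y ∈ 𝒜 a → y = 0 := fun y hy => by
          rw [hpos a ha] at hy
          exact (Submodule.mem_bot k).mp hy
        exact hall _ r.2
      exact ⟨0, by rw [hr0]; simp⟩
    · subst ha
      have hr0 : (r : R) ∈ Submodule.span k {(1 : R)} := h0 ▸ r.2
      obtain ⟨c, hc⟩ := Submodule.mem_span_singleton.mp hr0
      exact ⟨c, by rw [hc, sub_self]; exact zero_mem _⟩
    · refine ⟨0, ?_⟩
      rw [zero_smul, sub_zero]
      exact Ideal.subset_span (Set.mem_biUnion (Set.mem_Ioi.mpr ha) r.2)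
  | add r r' hr hr' =>
    obtain ⟨c, hc⟩ := hr
    obtain ⟨c', hc'⟩ := hr'
    refine ⟨c + c', ?_⟩
    have := add_mem hc hc'
    rw [add_smul]
    convert this using 1
    abel

/-- `m • ⊤` is a homogeneous submodule, `m` the irrelevant ideal. -/
theorem irr_smul_top_isHomogeneous (I : Ideal R)
    (hI : I = Ideal.span (⋃ n ∈ Set.Ioi (0 : ℤ), (𝒜 n : Set R))) :
    (I • (⊤ : Submodule R M)).IsHomogeneous ℳ := by
  classical
  intro j z hz
  have key : ∀ r ∈ I, ∀ y : M,
      ((DirectSum.decompose ℳ (r • y) j : ℳ j) : M) ∈ I • (⊤ : Submodule R M) := by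
    intro r hr
    have hr' : r ∈ Submodule.span R (⋃ n ∈ Set.Ioi (0 : ℤ), (𝒜 n : Set R)) := by
      rw [hI] at hr; exact hr
    induction hr' using Submodule.span_induction with
    | mem r hrS =>
      intro y
      have hrI : r ∈ I := hr
      simp only [Set.mem_iUnion, Set.mem_Ioi, SetLike.mem_coe, exists_prop] at hrS
      obtain ⟨a, _, hra⟩ := hrS
      rw [comp_smul 𝒜 ℳ hra j y]
      exact Submodule.smul_mem_smul hrI Submodule.mem_top
    | zero => intro y; simp
    | add r r' hr1 hr2 h h' =>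
      intro y
      have h1 : r ∈ I := by rw [hI]; exact hr1
      have h2 : r' ∈ I := by rw [hI]; exact hr2
      rw [add_smul, DirectSum.decompose_add, DirectSum.add_apply, AddMemClass.coe_add]
      exact add_mem (h h1 y) (h' h2 y)
    | smul c r hr1 h =>
      intro y
      have h1 : r ∈ I := by rw [hI]; exact hr1
      rw [smul_eq_mul, mul_comm, mul_smul]
      exact h h1 (c • y)
  refine Submodule.smul_induction_on hz ?_ ?_
  · intro r hr y _
    exact key r hr y
  · intro y y' hy hy'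
    rw [DirectSum.decompose_add, DirectSum.add_apply, AddMemClass.coe_add]
    exact add_mem hy hy'

end Bound

section GrHom

variable {R : Type u} [CommRing R]
  {F : Type u} [AddCommGroup F] [Module R F] {τF : Type*} [SetLike τF F] [AddSubgroupClass τF F]
  (ℱ : ℤ → τF) [DirectSum.Decomposition ℱ]
  {M : Type u} [AddCommGroup M] [Module R M] {τ : Type*} [SetLike τ M] [AddSubgroupClass τ M]
  (ℳ : ℤ → τ) [DirectSum.Decomposition ℳ]

theorem grHom_comp {f : F →ₗ[R] M} (hfgr : ∀ (i : ℤ) (x : F), x ∈ ℱ i → f x ∈ ℳ i) (x : F)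
    (j : ℤ) :
    ((DirectSum.decompose ℳ (f x) j : ℳ j) : M) = f ((DirectSum.decompose ℱ x j : ℱ j) : F) := by
  classical
  induction x using DirectSum.Decomposition.inductionOn ℱ with
  | zero => simp
  | @homogeneous i x =>
    by_cases h : i = j
    · subst h
      rw [DirectSum.decompose_of_mem_same ℳ (hfgr _ _ x.2), DirectSum.decompose_of_mem_same ℱ x.2]
    · rw [DirectSum.decompose_of_mem_ne ℳ (hfgr _ _ x.2) h, DirectSum.decompose_of_mem_ne ℱ x.2 h,
        map_zero]
  | add x y hx hy =>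
    simp only [map_add, DirectSum.decompose_add, DirectSum.add_apply, AddMemClass.coe_add, hx, hy]

end GrHom

section DualMap

variable {k : Type u} [Field k] {R : Type u} [CommRing R] [Algebra k R]
  {M : Type u} [AddCommGroup M] [Module R M] [Module k M] [IsScalarTower k R M]
  {τ : Type u} [SetLike τ M] [AddSubgroupClass τ M]
  {ℳ : ℤ → τ} [DirectSum.Decomposition ℳ]
  {D : Type u} [AddCommGroup D] [Module R D] [Module k D] [IsScalarTower k R D]
  {τ' : Type u} [SetLike τ' D] [AddSubgroupClass τ' D]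
  {𝒟 : ℤ → τ'} [DirectSum.Decomposition 𝒟]
  {βM : D →ₗ[k] M →ₗ[k] k}
  {F : Type u} [AddCommGroup F] [Module R F] [Module k F] [IsScalarTower k R F]
  {τF : Type u} [SetLike τF F] [AddSubgroupClass τF F]
  {ℱ : ℤ → τF} [DirectSum.Decomposition ℱ]
  {E : Type u} [AddCommGroup E] [Module R E] [Module k E] [IsScalarTower k R E]
  {τE : Type u} [SetLike τE E] [AddSubgroupClass τE E]
  {ℰ : ℤ → τE} [DirectSum.Decomposition ℰ]
  {βF : E →ₗ[k] F →ₗ[k] k}

/-- the dual of a graded map is graded. -/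
theorem gdualMap_isGrHom (hDM : GrSeg.IsGDual R ℳ 𝒟 βM) (hDF : GrSeg.IsGDual R ℱ ℰ βF)
    {f : F →ₗ[R] M} (hfgr : ∀ (i : ℤ) (x : F), x ∈ ℱ i → f x ∈ ℳ i) {g : D →ₗ[R] E}
    (hg : GrSeg.IsGDualMap βM βF f g) : ∀ (n : ℤ) (d : D), d ∈ 𝒟 n → g d ∈ ℰ n := by
  classical
  intro n d hd
  apply mem_of_comp_eq_zero ℰ
  intro j hj
  apply hDF.eq_zero j _ (SetLike.coe_mem _)
  intro x hx
  rw [← gdual_apply_eq_comp_left hDF (by ring : j = -(-j)) hx (g d), hg]
  exact hDM.vanish n d hd (-j) (by omega) (f x) (hfgr _ _ hx)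

/-- a homogeneous element of the dual of `F` vanishing on `ker f` is in the range of the dual of the
graded surjection `f`. -/
theorem gdualMap_mem_range (hDM : GrSeg.IsGDual R ℳ 𝒟 βM) (hDF : GrSeg.IsGDual R ℱ ℰ βF)
    {f : F →ₗ[R] M} (hf : Function.Surjective f)
    (hfgr : ∀ (i : ℤ) (x : F), x ∈ ℱ i → f x ∈ ℳ i) {g : D →ₗ[R] E}
    (hg : GrSeg.IsGDualMap βM βF f g) {n : ℤ} {d' : E} (hd' : d' ∈ ℰ n)
    (hker : ∀ x, f x = 0 → βF d' x = 0) : ∃ d ∈ 𝒟 n, g d = d' := by
  classical
  let fk : F →ₗ[k] M := f.restrictScalars k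
  have hfk : ∀ x, fk x = f x := fun _ => rfl
  obtain ⟨f', hf'⟩ := LinearMap.exists_rightInverse_of_surjective fk
    (LinearMap.range_eq_top.mpr hf)
  have hf'a : ∀ y, f (f' y) = y := fun y => LinearMap.congr_fun hf' y
  have hφ : ∀ x, βF d' (f' (f x)) = βF d' x := by
    intro x
    have : βF d' (f' (f x) - x) = 0 := hker _ (by rw [map_sub, hf'a, sub_self])
    rwa [map_sub, sub_eq_zero] at this
  obtain ⟨d, hd, hdφ⟩ := hDM.exists_eq n ((βF d') ∘ₗ f')
  refine ⟨d, hd, gdual_ext_left hDF (fun x => ?_)⟩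
  rw [hg]
  induction x using DirectSum.Decomposition.inductionOn ℱ with
  | zero => simp
  | @homogeneous i x =>
    by_cases h : i = -n
    · subst h
      rw [hdφ _ (hfgr _ _ x.2), LinearMap.comp_apply, hφ]
    · rw [hDM.vanish n d hd i h _ (hfgr i _ x.2), hDF.vanish n d' hd' i h _ x.2]
  | add x y hx hy => rw [map_add, map_add, hx, hy, map_add]

end DualMap

end Groth.Agent.H98
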