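import Mathlib
import Groth.Agent.H98.GrLinReg
import Groth.Agent.H19.QReg

/-!
# Helper library (helper98): a Cohen–Macaulay standard graded *local ring with Artinian `R_0`,
infinite residue field and `a`-invariant `-dim R` is a polynomial ring over `R_0`.
-/

set_option autoImplicit false
universe u

open DirectSum

namespace Groth.Agent.H98.GrHt

open Groth.Agent.H98.GrCat Groth.Agent.H98.GrLin Groth.Agent.H98.GrConv

section PolyArt

variable {R : Type u} [CommRing R] (𝒜 : ℤ → AddSubgroup R) [GradedRing 𝒜]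
  (hpos : ∀ n : ℤ, n < 0 → 𝒜 n = ⊥)

/-- components of general finite sums -/
theorem cp_sum' {κ : Type*} (s : Finset κ) (g : κ → R) (j : ℤ) :
    cp 𝒜 (∑ i ∈ s, g i) j = ∑ i ∈ s, cp 𝒜 (g i) j := by
  classical
  induction s using Finset.induction_on with
  | empty => rw [Finset.sum_empty, Finset.sum_empty, cp_zero]
  | insert a s ha ih => rw [Finset.sum_insert ha, Finset.sum_insert ha, cp_add, ih]

include hpos in
/-- elements of the ideal generated by linear forms have no component of degree zero, and their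
component of degree one is an `R_0`-combination of the forms -/
theorem cp_of_mem_span_linear (r : ℕ) (y : Fin r → R) (hy : ∀ i, y i ∈ 𝒜 1) (z : R)
    (hz : z ∈ Ideal.span (Set.range y)) :
    cp 𝒜 z 0 = 0 ∧ cp 𝒜 z 1 ∈ Submodule.span (GrLC.deg0 𝒜) (Set.range y) := by
  refine Submodule.span_induction ?_ ?_ ?_ ?_ hz
  · rintro _ ⟨i, rfl⟩
    constructor
    · rw [cp_of_mem 𝒜 (hy i), if_neg (by norm_num)]
    · rw [cp_of_mem 𝒜 (hy i), if_pos rfl]
      exact Submodule.subset_span ⟨i, rfl⟩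
  · exact ⟨cp_zero 𝒜 0, by rw [cp_zero]; exact zero_mem _⟩
  · rintro a b _ _ ⟨ha0, ha1⟩ ⟨hb0, hb1⟩
    exact ⟨by rw [cp_add, ha0, hb0, add_zero], by rw [cp_add]; exact add_mem ha1 hb1⟩
  · rintro a z _ ⟨hz0, hz1⟩
    refine ⟨by rw [smul_eq_mul, cp_mul_zero 𝒜 hpos, hz0, mul_zero], ?_⟩
    rw [smul_eq_mul, cp_mul_one 𝒜 hpos, hz0, mul_zero, add_zero]
    have h1 := Submodule.smul_mem (Submodule.span (GrLC.deg0 𝒜) (Set.range y))
      (⟨cp 𝒜 a 0, cp_mem 𝒜 a 0⟩ : GrLC.deg0 𝒜) hz1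
    exact h1

/-- the value of a homogeneous polynomial at linear forms is homogeneous -/
theorem aeval_mem_of_isHomogeneous (r : ℕ) (y : Fin r → R) (hy : ∀ i, y i ∈ 𝒜 1)
    (P : MvPolynomial (Fin r) (GrLC.deg0 𝒜)) (n : ℕ) (hP : P.IsHomogeneous n) :
    MvPolynomial.aeval y P ∈ 𝒜 (n : ℤ) := by
  classical
  rw [← MvPolynomial.support_sum_monomial_coeff P, map_sum]
  refine sum_mem (fun s hs => ?_)
  have hdeg : s.degree = n :=
    Groth.Agent.H19.QReg.degree_eq_of_coeff_ne_zero hP (MvPolynomial.mem_support_iff.1 hs)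
  rw [MvPolynomial.aeval_monomial]
  have h0 : algebraMap (GrLC.deg0 𝒜) R (MvPolynomial.coeff s P) ∈ 𝒜 0 :=
    (MvPolynomial.coeff s P).2
  have h1 : (s.prod fun i k => y i ^ k) ∈ 𝒜 ((n : ℕ) : ℤ) := by
    have h2 := SetLike.prod_pow_mem_graded 𝒜 (fun _ : Fin r => (1 : ℤ)) y (F := s.support)
      (fun i => s i) (fun i _ => hy i)
    have e : (∑ k ∈ s.support, s k • (1 : ℤ)) = ((n : ℕ) : ℤ) := by
      rw [← hdeg]
      simp [Finsupp.degree]
    rw [e] at h2
    exact h2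
  have h3 := SetLike.mul_mem_graded h0 h1
  rwa [zero_add] at h3

include hpos in
/-- **algebraic independence**: linear forms forming a weakly regular sequence are algebraically
independent over `R_0` -/
theorem aeval_injective_of_isWeaklyRegular (r : ℕ) (y : Fin r → R) (hy : ∀ i, y i ∈ 𝒜 1)
    (hreg : RingTheory.Sequence.IsWeaklyRegular R (List.ofFn y)) :
    Function.Injective
      (MvPolynomial.aeval y : MvPolynomial (Fin r) (GrLC.deg0 𝒜) →ₐ[GrLC.deg0 𝒜] R) := by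
  classical
  have hq := Groth.Agent.H19.QReg.isQuasiRegular_of_isWeaklyRegular r y hreg
  rw [injective_iff_map_eq_zero]
  intro P hP
  have hmemc : ∀ i : ℕ, MvPolynomial.aeval y (MvPolynomial.homogeneousComponent i P) ∈
      𝒜 (i : ℤ) := fun i =>
    aeval_mem_of_isHomogeneous 𝒜 r y hy _ i (MvPolynomial.homogeneousComponent_isHomogeneous i P)
  have hcomp : ∀ n ∈ Finset.range (P.totalDegree + 1),
      MvPolynomial.aeval y (MvPolynomial.homogeneousComponent n P) = 0 := by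
    intro n hn
    have h1 : MvPolynomial.aeval y P = ∑ i ∈ Finset.range (P.totalDegree + 1),
        MvPolynomial.aeval y (MvPolynomial.homogeneousComponent i P) := by
      conv_lhs => rw [← MvPolynomial.sum_homogeneousComponent P]
      rw [map_sum]
    have h2 : cp 𝒜 (MvPolynomial.aeval y P) (n : ℤ) =
        MvPolynomial.aeval y (MvPolynomial.homogeneousComponent n P) := by
      rw [h1, cp_sum', Finset.sum_eq_single n]
      · rw [cp_of_mem 𝒜 (hmemc n), if_pos rfl]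
      · intro i _ hi
        rw [cp_of_mem 𝒜 (hmemc i), if_neg]
        intro h
        exact hi (by exact_mod_cast h.symm)
      · intro h
        exact absurd hn h
    rw [← h2, hP, cp_zero]
  have hzero : ∀ n ∈ Finset.range (P.totalDegree + 1),
      MvPolynomial.homogeneousComponent n P = 0 := by
    intro n hn
    have hQhom : (MvPolynomial.map (algebraMap (GrLC.deg0 𝒜) R)
        (MvPolynomial.homogeneousComponent n P)).IsHomogeneous n :=
      (MvPolynomial.homogeneousComponent_isHomogeneous n P).map _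
    have heval : MvPolynomial.eval y (MvPolynomial.map (algebraMap (GrLC.deg0 𝒜) R)
        (MvPolynomial.homogeneousComponent n P)) = 0 := by
      rw [MvPolynomial.eval_map, ← MvPolynomial.aeval_def]
      exact hcomp n hn
    have hmem := hq n _ hQhom (by rw [heval]; exact zero_mem _)
    ext s
    rw [MvPolynomial.coeff_zero]
    have h3 := (cp_of_mem_span_linear 𝒜 hpos r y hy _ (hmem s)).1
    rw [MvPolynomial.coeff_map] at h3
    have h4 : algebraMap (GrLC.deg0 𝒜) R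
        (MvPolynomial.coeff s (MvPolynomial.homogeneousComponent n P)) ∈ 𝒜 0 :=
      (MvPolynomial.coeff s (MvPolynomial.homogeneousComponent n P)).2
    rw [cp_of_mem 𝒜 h4, if_pos rfl] at h3
    have h5 : ((MvPolynomial.coeff s (MvPolynomial.homogeneousComponent n P) : GrLC.deg0 𝒜) : R) =
        ((0 : GrLC.deg0 𝒜) : R) := h3
    exact h5
  rw [← MvPolynomial.sum_homogeneousComponent P]
  exact Finset.sum_eq_zero hzero

theorem withBot_enat_le_zero_of_add_le (a : WithBot ℕ∞) (n : ℕ)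
    (h : a + (n : WithBot ℕ∞) ≤ (n : WithBot ℕ∞)) : a ≤ 0 := by
  induction a using WithBot.recBotCoe with
  | bot => exact bot_le
  | coe e =>
    have h' : ((e + (n : ℕ∞) : ℕ∞) : WithBot ℕ∞) ≤ ((n : ℕ∞) : WithBot ℕ∞) := by
      exact_mod_cast h
    rw [WithBot.coe_le_coe] at h'
    have h2 : e + (n : ℕ∞) ≤ 0 + (n : ℕ∞) := by rwa [zero_add]
    have h3 := (ENat.add_le_add_iff_right (ENat.natCast_ne_top n)).1 h2
    exact_mod_cast h3

include hpos in
/-- **`a(R) = -dim R` forces a polynomial ring** (Artinian `R_0`, infinite residue field) -/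
theorem exists_poly_of_ainv_artinian [LocCoh.IsCohenMacaulayRing R]
    [IsArtinianRing (GrLC.deg0 𝒜)]
    (hstd : Ideal.span (⋃ n ∈ Set.Ioi (0 : ℤ), (𝒜 n : Set R)) =
      Ideal.span ((𝒜 1 : AddSubgroup R) : Set R))
    (m : HomogeneousIdeal 𝒜) (hm : GrLC.IsStarLocal 𝒜 m) (hinf : Infinite (R ⧸ m.toIdeal))
    (d : ℕ) (hd : ringKrullDim R = d) (I : GrLC.StarInjRes 𝒜 𝒜)
    (ha : GrLC.endDeg (I.Hgr m d) = (((-(d : ℤ) : ℤ) : WithTop ℤ) : WithBot (WithTop ℤ))) :
    ∃ e : MvPolynomial (Fin d) (GrLC.deg0 𝒜) ≃ₐ[GrLC.deg0 𝒜] R,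
      ∀ t : Fin d, e (MvPolynomial.X t) ∈ 𝒜 1 := by
  classical
  obtain ⟨l, hlen, hl1, hreg⟩ := exists_linear_seq 𝒜 hpos hstd m hm hinf d hd I d le_rfl
  subst hlen
  obtain ⟨y, hy⟩ : ∃ y : Fin l.length → R, y = l.get := ⟨_, rfl⟩
  have hofFn : List.ofFn y = l := by rw [hy]; exact List.ofFn_get l
  have hy1 : ∀ i, y i ∈ 𝒜 1 := fun i => by rw [hy]; exact hl1 _ (List.get_mem l i)
  have hym : ∀ i, y i ∈ m.toIdeal := fun i =>
    mem_of_pos_degree 𝒜 hpos m hm.1 one_pos (hy1 i)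
  have hmax : m.toIdeal.IsMaximal := isMaximal_of_isCoatom 𝒜 hpos m hm.1
  obtain ⟨B, hBdef⟩ : ∃ B : Submodule R R, B = Ideal.span (Set.range y) := ⟨_, rfl⟩
  have hBl : B = (Ideal.ofList l • ⊤ : Submodule R R) := by
    rw [hBdef, smul_eq_mul, Ideal.mul_top, hy, Set.range_list_get]
  have hBhom : B.IsHomogeneous 𝒜 := by
    rw [hBdef]
    exact Ideal.homogeneous_span 𝒜 _ (by rintro _ ⟨i, rfl⟩; exact ⟨1, hy1 i⟩)
  have hBm : B ≤ m.toIdeal := by
    rw [hBdef]
    exact Ideal.span_le.2 (by rintro _ ⟨i, rfl⟩; exact hym i)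
  have hregular : RingTheory.Sequence.IsRegular R (List.ofFn y) := by
    rw [hofFn]
    refine ⟨hreg, ?_⟩
    rw [← hBl]
    intro h
    exact hmax.ne_top (eq_top_iff.2 (h.le.trans hBm))
  obtain ⟨π, hπ⟩ : ∃ π : R →ₗ[R] (quotG 𝒜 𝒜 B hBhom).carrier, ∀ r, π r = B.mkQ r :=
    ⟨B.mkQ, fun _ => rfl⟩
  have hπg : GrLC.IsGrHom 𝒜 (quotG 𝒜 𝒜 B hBhom).gr π := by
    intro j r hr
    rw [hπ]
    exact (mem_quotGr' 𝒜 B).2 ⟨r, hr, rfl⟩
  have hπs : Function.Surjective π := by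
    intro z
    obtain ⟨r, rfl⟩ := B.mkQ_surjective z
    exact ⟨r, hπ r⟩
  have hπk : LinearMap.ker π = Ideal.span (Set.range y) := by
    rw [← hBdef]
    ext r
    rw [LinearMap.mem_ker, hπ]
    exact Submodule.Quotient.mk_eq_zero _
  obtain ⟨F, -⟩ : ∃ F : GrLC.StarInjRes 𝒜 (quotG 𝒜 𝒜 B hBhom).gr, True :=
    ⟨starInjRes 𝒜 _, trivial⟩
  have hend := endDeg_quot_seq hpos m I l.length
    (fun i hi j => vn_of_cm hpos m hm l.length hd I i hi j) l.length le_rfl y (fun _ => 1) hy1 hym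
    hregular π hπg hπs hπk F
  rw [Nat.sub_self, ha, Finset.sum_const, Finset.card_univ, Fintype.card_fin, nsmul_eq_mul,
    mul_one, ← WithBot.coe_add, ← WithTop.coe_add, neg_add_cancel] at hend
  have hV0 : ∀ j : ℤ, 0 < j → Vn F m 0 j := fun j hj =>
    vn_of_Hgr_eq_bot ((endDeg_le_iff _ _).1 (le_of_eq hend) j hj)
  have hfin : Module.Finite R (quotG 𝒜 𝒜 B hBhom).carrier :=
    inferInstanceAs (Module.Finite R (R ⧸ B))
  have hdim : Module.supportDim R (quotG 𝒜 𝒜 B hBhom).carrier ≤ 0 := by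
    have h1 := supportDim_add_length_le R l hreg
    rw [Module.supportDim_self_eq_ringKrullDim, hd, ← hBl] at h1
    exact withBot_enat_le_zero_of_add_le _ _ h1
  have htorI : GrLC.gam (irr 𝒜).toIdeal (quotG 𝒜 𝒜 B hBhom).carrier = ⊤ :=
    gam_eq_top_of_supportDim_le_zero 𝒜 hpos _ (quotG 𝒜 𝒜 B hBhom).gr hdim
  have htor : GrLC.gam m.toIdeal (quotG 𝒜 𝒜 B hBhom).carrier = ⊤ := by
    rw [gam_eq_of_radical _ _ (le_radical_irr 𝒜 hpos m hm)
      ((irr_le 𝒜 hpos m hm.1).trans Ideal.le_radical)]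
    exact htorI
  have hpiece : ∀ j : ℤ, 0 < j → (quotG 𝒜 𝒜 B hBhom).gr j = ⊥ := fun j hj =>
    piece_eq_bot_of_vn_zero F m j htor (hV0 j hj)
  have hA1B : ∀ x ∈ 𝒜 1, x ∈ B := by
    intro x hx
    have h1 : B.mkQ x ∈ (quotG 𝒜 𝒜 B hBhom).gr 1 := (mem_quotGr' 𝒜 B).2 ⟨x, hx, rfl⟩
    have h2 : (B.mkQ x : (quotG 𝒜 𝒜 B hBhom).carrier) ∈
        (⊥ : AddSubgroup (quotG 𝒜 𝒜 B hBhom).carrier) := by
      rw [← hpiece 1 one_pos]
      exact h1
    exact (Submodule.Quotient.mk_eq_zero _).1 (AddSubgroup.mem_bot.1 h2)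
  have hspan : ∀ x ∈ 𝒜 1, x ∈ Submodule.span (GrLC.deg0 𝒜) (Set.range y) := by
    intro x hx
    have h1 := (cp_of_mem_span_linear 𝒜 hpos _ y hy1 x (by rw [← hBdef]; exact hA1B x hx)).2
    rwa [cp_of_mem 𝒜 hx, if_pos rfl] at h1
  have hsurj := aeval_surjective 𝒜 hpos (hgen_of_std 𝒜 hstd) l.length y hspan
  have hinj := aeval_injective_of_isWeaklyRegular 𝒜 hpos l.length y hy1
    (by rw [hofFn]; exact hreg)
  refine ⟨AlgEquiv.ofBijective (MvPolynomial.aeval y) ⟨hinj, hsurj⟩, fun t => ?_⟩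
  rw [AlgEquiv.ofBijective_apply, MvPolynomial.aeval_X]
  exact hy1 t

end PolyArt

end Groth.Agent.H98.GrHt
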