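import Groth.Agent.H98.GrSerre
import Groth.Agent.H98.GrReg

/-!
# Helper library (helper98): the degree-zero subring of the standard graded polynomial ring
`k[x_0, …, x_r]` is (a copy of) the field `k`; lengths of graded pieces over it are dimensions
over `k`; Serre's formula over the polynomial ring in terms of `Module.finrank k`.
-/

set_option autoImplicit false
universe u

open DirectSum Polynomial

namespace Groth.Agent.H98.GrConv

open Groth.Agent.H98.GrCat Groth.Agent.H98.GrHt

section Poly

variable (k : Type u) [Field k] (r : ℕ)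

theorem eq_C_of_mem_zero (x : MvPolynomial (Fin (r + 1)) k) (hx : x ∈ PA k r 0) :
    x = MvPolynomial.C (MvPolynomial.coeff 0 x) := by
  classical
  have hx' : x.IsWeightedHomogeneous (fun _ : Fin (r + 1) => (1 : ℤ)) 0 := hx
  ext v
  rw [MvPolynomial.coeff_C]
  by_cases hv : 0 = v
  · rw [if_pos hv, hv]
  · rw [if_neg hv]
    by_contra hc
    have hw : Finsupp.weight (fun _ : Fin (r + 1) => (1 : ℤ)) v = 0 := hx' hc
    apply hv
    symm
    rw [Finsupp.weight_apply, Finsupp.sum] at hw
    have hnn : ∀ i ∈ v.support, (0 : ℤ) ≤ v i • (1 : ℤ) :=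
      fun i _ => nsmul_nonneg zero_le_one _
    have h0 := (Finset.sum_eq_zero_iff_of_nonneg hnn).1 hw
    ext i
    have hvi : v i = 0 := by
      by_contra hi
      have hi' : i ∈ v.support := Finsupp.mem_support_iff.2 hi
      have h1 := h0 i hi'
      rw [nsmul_eq_mul, mul_one] at h1
      exact hi (by exact_mod_cast h1)
    rw [hvi]
    rfl

/-- the constants, as a ring homomorphism onto the degree-zero subring -/
noncomputable def c0 : k →+* GrLC.deg0 (PA k r) :=
  (MvPolynomial.C : k →+* MvPolynomial (Fin (r + 1)) k).codRestrict (GrLC.deg0 (PA k r))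
    (fun c => MvPolynomial.isWeightedHomogeneous_C (fun _ : Fin (r + 1) => (1 : ℤ)) c)

theorem c0_coe (c : k) :
    ((c0 k r c : GrLC.deg0 (PA k r)) : MvPolynomial (Fin (r + 1)) k) = MvPolynomial.C c := rfl

theorem c0_surjective : Function.Surjective (c0 k r) := by
  rintro ⟨x, hx⟩
  refine ⟨MvPolynomial.coeff 0 x, Subtype.ext ?_⟩
  rw [c0_coe]
  exact (eq_C_of_mem_zero k r x hx).symm

instance deg0_isArtinianRing : IsArtinianRing (GrLC.deg0 (PA k r)) :=
  (c0_surjective k r).isArtinianRing

variable (M : Type u) [AddCommGroup M] [Module k M] [Module (MvPolynomial (Fin (r + 1)) k) M]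
  [IsScalarTower k (MvPolynomial (Fin (r + 1)) k) M]
  (ℳ : ℤ → Submodule k M) [DirectSum.Decomposition ℳ]
  [SetLike.GradedSMul (GrSyz.stdGr k (Fin (r + 1))) ℳ]

/-- the length of a graded piece over the degree-zero subring is its dimension over `k` -/
theorem len_comp_eq_finrank (d : ℤ) :
    len (GrLC.deg0 (PA k r)) (GrLC.comp (PA k r) (toAS ℳ) d) = (Module.finrank k (ℳ d) : ℚ) := by
  letI : Algebra k (GrLC.deg0 (PA k r)) := (c0 k r).toAlgebra
  letI : Module k (GrLC.comp (PA k r) (toAS ℳ) d) := Module.compHom _ (c0 k r)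
  haveI : IsScalarTower k (GrLC.deg0 (PA k r)) (GrLC.comp (PA k r) (toAS ℳ) d) :=
    ⟨fun c s x => by
      show (c0 k r c * s) • x = c0 k r c • (s • x)
      rw [mul_smul]⟩
  have h1 : Module.length k (GrLC.comp (PA k r) (toAS ℳ) d) =
      Module.length (GrLC.deg0 (PA k r)) (GrLC.comp (PA k r) (toAS ℳ) d) :=
    Module.length_eq_of_surjective (c0_surjective k r)
  let e : ℳ d ≃ₗ[k] GrLC.comp (PA k r) (toAS ℳ) d :=
    { toFun := fun x => ⟨x.1, x.2⟩
      invFun := fun x => ⟨x.1, x.2⟩
      map_add' := fun _ _ => rfl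
      map_smul' := fun c x => Subtype.ext (by
        show c • (x : M) = (MvPolynomial.C c : MvPolynomial (Fin (r + 1)) k) • (x : M)
        rw [← MvPolynomial.algebraMap_eq, algebraMap_smul])
      left_inv := fun _ => rfl
      right_inv := fun _ => rfl }
  unfold len
  rw [← h1, ← e.length_eq, Module.length_eq_rank, Module.finrank, Cardinal.toNat_toENat]

end Poly

end Groth.Agent.H98.GrConv
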