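import Groth.Agent.H98.GrTm

/-!
# Helper library (helper98): right exactness of graded local cohomology at a level above which
the cohomology of the kernel vanishes (surjectivity and exactness in the middle of the maps `Tm`).
-/

set_option autoImplicit false
universe u

open DirectSum

namespace Groth.Agent.H98.GrCat

variable {ι : Type} [AddCommGroup ι] [DecidableEq ι]
variable {R : Type u} [CommRing R] {𝒜 : ι → AddSubgroup R} [GradedRing 𝒜]

/-- induction over the homogeneous components of an element of a homogeneous submodule -/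
theorem homog_induction {M : Type u} [AddCommGroup M] [Module R M] (ℳ : ι → AddSubgroup M)
    [DirectSum.Decomposition ℳ] (P : Submodule R M) (hP : P.IsHomogeneous ℳ)
    (p : M → Prop) (h0 : p 0) (hadd : ∀ x y, p x → p y → p (x + y))
    (hhom : ∀ n x, x ∈ P → x ∈ ℳ n → p x) : ∀ x, x ∈ P → p x := by
  classical
  intro x hx
  rw [← sum_support_decompose ℳ x]
  refine Finset.sum_induction _ p hadd h0 (fun n _ => ?_)
  exact hhom n _ (hP n hx) (SetLike.coe_mem _)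

theorem isGrHom_of_deg_zero {M N : Type u} [AddCommGroup M] [Module R M] [AddCommGroup N]
    [Module R N] {ℳ : ι → AddSubgroup M} {𝒩 : ι → AddSubgroup N} {u : M →ₗ[R] N}
    (h : GrLC.IsGrHomDeg ℳ 𝒩 u 0) : GrLC.IsGrHom ℳ 𝒩 u := fun k x hx => by
  have h1 := h k x hx
  rwa [add_zero] at h1

section Rex

variable {A B C : Type u} [AddCommGroup A] [Module R A] [AddCommGroup B] [Module R B]
  [AddCommGroup C] [Module R C]
  {𝒜A : ι → AddSubgroup A} [DirectSum.Decomposition 𝒜A] [SetLike.GradedSMul 𝒜 𝒜A]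
  {𝒜B : ι → AddSubgroup B} [DirectSum.Decomposition 𝒜B] [SetLike.GradedSMul 𝒜 𝒜B]
  {𝒜C : ι → AddSubgroup C} [DirectSum.Decomposition 𝒜C] [SetLike.GradedSMul 𝒜 𝒜C]
  {f : A →ₗ[R] B} {g : B →ₗ[R] C}
  (F : GrLC.StarInjRes 𝒜 𝒜A) (EB : GrLC.StarInjRes 𝒜 𝒜B) (G : GrLC.StarInjRes 𝒜 𝒜C)
  (hf : GrLC.IsGrHomDeg 𝒜A 𝒜B f 0) (hg : GrLC.IsGrHomDeg 𝒜B 𝒜C g 0)
  (hfinj : Function.Injective f) (hgsurj : Function.Surjective g)
  (hex : ∀ b, g b = 0 → ∃ a, f a = b) (hgf : ∀ a, g (f a) = 0)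
  (a : HomogeneousIdeal 𝒜)

include hf hfinj hgsurj hex hgf in
/-- right exactness, surjectivity: if the cohomology of the kernel vanishes one level up -/
theorem Tm_surjective_of_vn (i : ℕ)
    (hvan : ∀ m c, c ∈ F.cocyc a (i + 1) → c ∈ (F.X (i + 1)).gr m → c ∈ F.cobdy a (i + 1)) :
    Function.Surjective (Tm EB G a 0 g hg i) := by
  obtain ⟨φ, hφ⟩ := exists_isLift F EB 0 f hf
  obtain ⟨ψ, hψ⟩ := exists_isLift EB G 0 g hg
  obtain ⟨θ', hθgr, hθc, -, -, hexC, -, -, -, -⟩ :=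
    les_full (isGrHom_of_deg_zero hf) (isGrHom_of_deg_zero hg) hfinj hgsurj hex hgf a EB φ
      (fun n => isGrHom_of_deg_zero (hφ.deg n)) hφ.comm hφ.aug ψ
      (fun n => isGrHom_of_deg_zero (hψ.deg n)) hψ.comm hψ.aug
  intro y
  obtain ⟨z, rfl⟩ := Submodule.mkQ_surjective _ y
  have key : ∀ c, c ∈ G.cocyc a i → ∃ b, b ∈ EB.cocyc a i ∧ c - ψ i b ∈ G.cobdy a i := by
    refine homog_induction (G.X i).gr (G.cocyc a i) (cocyc_isHomogeneous G a i)
      (fun c => ∃ b, b ∈ EB.cocyc a i ∧ c - ψ i b ∈ G.cobdy a i) ?_ ?_ ?_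
    · refine ⟨0, zero_mem _, ?_⟩
      rw [map_zero, sub_zero]
      exact zero_mem _
    · rintro x y ⟨b, hb, hxb⟩ ⟨b', hb', hyb⟩
      refine ⟨b + b', add_mem hb hb', ?_⟩
      have e : x + y - ψ i (b + b') = (x - ψ i b) + (y - ψ i b') := by
        rw [map_add]
        abel
      rw [e]
      exact add_mem hxb hyb
    · intro n c hc hcn
      obtain ⟨b, hb, -, hcb⟩ := hexC i n c hc hcn (hvan n _ (hθc i c hc) (hθgr i n c hcn))
      exact ⟨b, hb, hcb⟩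
  obtain ⟨b, hb, hcb⟩ := key z z.2
  refine ⟨EB.toH a i ⟨b, hb⟩, ?_⟩
  rw [Tm_toH a hg hψ i ⟨b, hb⟩]
  refine ((Submodule.Quotient.eq _).2 ?_).symm
  show (z : (G.X i).carrier) - ψ i b ∈ G.cobdy a i
  exact hcb

include hfinj hgsurj hex hgf in
/-- right exactness, exactness in the middle -/
theorem Tm_exact_mid (i : ℕ) (y : EB.H a i) (hy : Tm EB G a 0 g hg i y = 0) :
    ∃ w : F.H a i, Tm F EB a 0 f hf i w = y := by
  obtain ⟨φ, hφ⟩ := exists_isLift F EB 0 f hf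
  obtain ⟨ψ, hψ⟩ := exists_isLift EB G 0 g hg
  obtain ⟨θ', -, -, -, hexB, -, -, -, -, -⟩ :=
    les_full (isGrHom_of_deg_zero hf) (isGrHom_of_deg_zero hg) hfinj hgsurj hex hgf a EB φ
      (fun n => isGrHom_of_deg_zero (hφ.deg n)) hφ.comm hφ.aug ψ
      (fun n => isGrHom_of_deg_zero (hψ.deg n)) hψ.comm hψ.aug
  obtain ⟨z, rfl⟩ := Submodule.mkQ_surjective _ y
  have hψgr : ∀ n, GrLC.IsGrHom (EB.X n).gr (G.X n).gr (ψ n) :=
    fun n => isGrHom_of_deg_zero (hψ.deg n)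
  have hψz : ψ i z ∈ G.cobdy a i := by
    have h1 : Tm EB G a 0 g hg i (EB.toH a i z) = 0 := hy
    rw [Tm_toH a hg hψ i z] at h1
    have h5 : (⟨ψ i z, chain_cocyc EB G a ψ hψ.comm z.2⟩ : G.cocyc a i) ∈
        (G.cobdy a i).comap (G.cocyc a i).subtype := (Submodule.Quotient.mk_eq_zero _).1 h1
    exact h5
  obtain ⟨Pm, hPm⟩ : ∃ Pm : Submodule R (EB.X i).carrier,
      Pm = EB.cocyc a i ⊓ (G.cobdy a i).comap (ψ i) := ⟨_, rfl⟩
  have hPhom : Pm.IsHomogeneous (EB.X i).gr := by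
    intro n x hx
    rw [hPm] at hx ⊢
    refine ⟨cocyc_isHomogeneous EB a i n hx.1, ?_⟩
    show ψ i _ ∈ G.cobdy a i
    rw [← grHom_comp (EB.X i).gr (G.X i).gr (hψgr i) x n]
    exact cobdy_isHomogeneous G a i n hx.2
  have key : ∀ b, b ∈ Pm → ∃ a', a' ∈ F.cocyc a i ∧ b - φ i a' ∈ EB.cobdy a i := by
    refine homog_induction (EB.X i).gr Pm hPhom
      (fun b => ∃ a', a' ∈ F.cocyc a i ∧ b - φ i a' ∈ EB.cobdy a i) ?_ ?_ ?_
    · refine ⟨0, zero_mem _, ?_⟩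
      rw [map_zero, sub_zero]
      exact zero_mem _
    · rintro x y ⟨b, hb, hxb⟩ ⟨b', hb', hyb⟩
      refine ⟨b + b', add_mem hb hb', ?_⟩
      have e : x + y - φ i (b + b') = (x - φ i b) + (y - φ i b') := by
        rw [map_add]
        abel
      rw [e]
      exact add_mem hxb hyb
    · intro n b hb hbn
      rw [hPm] at hb
      obtain ⟨a', ha', -, hba⟩ := hexB i n b hb.1 hbn hb.2
      exact ⟨a', ha', hba⟩
  obtain ⟨a', ha', hba⟩ := key z (by rw [hPm]; exact ⟨z.2, hψz⟩)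
  refine ⟨F.toH a i ⟨a', ha'⟩, ?_⟩
  rw [Tm_toH a hf hφ i ⟨a', ha'⟩]
  refine ((Submodule.Quotient.eq _).2 ?_).symm
  show (z : (EB.X i).carrier) - φ i a' ∈ EB.cobdy a i
  exact hba

end Rex

end Groth.Agent.H98.GrCat
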