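import Groth.Agent.H98.GrDual
import Groth.Prelude.Def_GrLC
import Mathlib.RingTheory.GradedAlgebra.Homogeneous.Submodule
import Mathlib.RingTheory.GradedAlgebra.Homogeneous.Ideal

/-!
# Helper library (helper98): the irrelevant ideal, and the graded dual of `R` as a *injective hull.
-/

set_option autoImplicit false
universe u
open scoped TensorProduct

namespace Groth.Agent.H98

section Irr

variable {k : Type u} [Field k] {R : Type u} [CommRing R] [Algebra k R]
  (𝒜 : ℤ → Submodule k R) [GradedAlgebra 𝒜]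

theorem irr_le_geSub (hpos : ∀ n : ℤ, n < 0 → 𝒜 n = ⊥) :
    Ideal.span (⋃ n ∈ Set.Ioi (0 : ℤ), (𝒜 n : Set R)) ≤ geSub 𝒜 𝒜 hpos 1 := by
  classical
  rw [Ideal.span_le]
  intro x hx
  simp only [Set.mem_iUnion, Set.mem_Ioi, SetLike.mem_coe, exists_prop] at hx
  obtain ⟨n, hn, hxn⟩ := hx
  intro j hj
  exact DirectSum.decompose_of_mem_ne 𝒜 hxn (by omega)

theorem one_notMem_irr (hpos : ∀ n : ℤ, n < 0 → 𝒜 n = ⊥) [Nontrivial R] :
    (1 : R) ∉ Ideal.span (⋃ n ∈ Set.Ioi (0 : ℤ), (𝒜 n : Set R)) := by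
  classical
  intro h
  have h1 := irr_le_geSub 𝒜 hpos h
  have h2 := h1 0 (by norm_num)
  rw [DirectSum.decompose_of_mem_same 𝒜 (SetLike.one_mem_graded 𝒜)] at h2
  exact one_ne_zero h2

end Irr

section RepLeft

variable {k : Type u} [Field k] {R : Type u} [CommRing R] [Algebra k R]
  {M : Type u} [AddCommGroup M] [Module R M] [Module k M] [IsScalarTower k R M]
  {τ : Type u} [SetLike τ M] [AddSubgroupClass τ M]
  {ℳ : ℤ → τ} [DirectSum.Decomposition ℳ]
  {D : Type u} [AddCommGroup D] [Module R D] [Module k D] [IsScalarTower k R D]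
  {τ' : Type u} [SetLike τ' D] [AddSubgroupClass τ' D]
  {𝒟 : ℤ → τ'} [DirectSum.Decomposition 𝒟]
  {β : D →ₗ[k] M →ₗ[k] k}

/-- a functional on `M` supported in degree `j = -n` is represented by an element of `𝒟 n`. -/
theorem gdual_exists_rep_left (hD : GrSeg.IsGDual R ℳ 𝒟 β) {n j : ℤ} (hj : j = -n)
    (φ : M →ₗ[k] k) (hφ : ∀ i, i ≠ j → ∀ x ∈ ℳ i, φ x = 0) :
    ∃ d ∈ 𝒟 n, ∀ x, β d x = φ x := by
  classical
  subst hj
  obtain ⟨d, hd, hdφ⟩ := hD.exists_eq n φ
  refine ⟨d, hd, fun x => ?_⟩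
  induction x using DirectSum.Decomposition.inductionOn ℳ with
  | zero => simp
  | @homogeneous i x =>
    by_cases h : i = -n
    · subst h; exact hdφ x x.2
    · rw [hD.vanish n d hd i h x x.2, hφ i h x x.2]
  | add x y hx hy => rw [map_add, map_add, hx, hy]

end RepLeft

section Star

variable {k : Type u} [Field k] {R : Type u} [CommRing R] [Algebra k R]
  (𝒜 : ℤ → Submodule k R) [GradedAlgebra 𝒜]
  {D : Type u} [AddCommGroup D] [Module R D] [Module k D] [IsScalarTower k R D]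
  (𝒟 : ℤ → AddSubgroup D) [DirectSum.Decomposition 𝒟] [SetLike.GradedSMul 𝒜 𝒟]
  {β : D →ₗ[k] R →ₗ[k] k}

/-- The graded dual of `R` is *injective. -/
theorem gdual_self_isStarInj (hD : GrSeg.IsGDual R 𝒜 𝒟 β) : GrLC.IsStarInj 𝒜 𝒟 := by
  classical
  intro A B f hf hfinj g hg
  letI instkA : Module k A.carrier := Module.compHom A.carrier (algebraMap k R)
  letI instkB : Module k B.carrier := Module.compHom B.carrier (algebraMap k R)
  haveI : IsScalarTower k R A.carrier := ⟨fun c r x => by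
    change (c • r) • x = (algebraMap k R c) • (r • x)
    rw [Algebra.smul_def, mul_smul]⟩
  haveI : IsScalarTower k R B.carrier := ⟨fun c r x => by
    change (c • r) • x = (algebraMap k R c) • (r • x)
    rw [Algebra.smul_def, mul_smul]⟩
  let fk : A.carrier →ₗ[k] B.carrier :=
    { toFun := f
      map_add' := map_add f
      map_smul' := fun c a => f.map_smul (algebraMap k R c) a }
  let gk : A.carrier →ₗ[k] D :=
    { toFun := g
      map_add' := map_add g
      map_smul' := fun c a => (g.map_smul (algebraMap k R c) a).trans (algebraMap_smul R c (g a)) }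
  have hfk : ∀ a, fk a = f a := fun _ => rfl
  have hgk : ∀ a, gk a = g a := fun _ => rfl
  let lamg : A.carrier →ₗ[k] k := (β.flip 1) ∘ₗ gk
  have hlamg : ∀ a, lamg a = β (g a) 1 := fun _ => rfl
  obtain ⟨f', hf'⟩ := LinearMap.exists_leftInverse_of_injective fk
    (LinearMap.ker_eq_bot.mpr hfinj)
  have hf'a : ∀ a, f' (f a) = a := fun a => LinearMap.congr_fun hf' a
  let lam : B.carrier →ₗ[k] k := lamg ∘ₗ f' ∘ₗ (gproj (subPiece 𝒜 B.gr) 0)
  have hlam : ∀ b, lam b = lamg (f' (gproj (subPiece 𝒜 B.gr) 0 b)) := fun _ => rfl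
  have hlam_ne : ∀ (i : ℤ), i ≠ 0 → ∀ b ∈ B.gr i, lam b = 0 := by
    intro i hi b hb
    rw [hlam, gproj_of_mem_ne (subPiece 𝒜 B.gr) (show b ∈ subPiece 𝒜 B.gr i from hb) hi,
      map_zero, map_zero]
  have hlam_f : ∀ a, lam (f a) = lamg a := by
    intro a
    induction a using DirectSum.Decomposition.inductionOn A.gr with
    | zero => simp
    | @homogeneous i a =>
      by_cases hi : i = 0
      · subst hi
        rw [hlam, gproj_of_mem_same (subPiece 𝒜 B.gr)
          (show f (a : A.carrier) ∈ subPiece 𝒜 B.gr 0 from hf 0 _ a.2), hf'a]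
      · rw [hlam_ne i hi _ (hf i _ a.2), hlamg]
        exact (hD.vanish i _ (hg i _ a.2) 0 (by omega) 1 (SetLike.one_mem_graded 𝒜)).symm
    | add a a' ha ha' => rw [map_add, map_add, ha, ha', map_add]
  -- the representing elements
  have hhom : ∀ (i : ℤ) (b : B.carrier), b ∈ B.gr i →
      ∃ d ∈ 𝒟 i, ∀ r : R, β d r = lam (r • b) := by
    intro i b hb
    obtain ⟨d, hd, hdφ⟩ := gdual_exists_rep_left hD (n := i) (j := -i) rfl
      (lam ∘ₗ ((LinearMap.toSpanSingleton R B.carrier b).restrictScalars k)) (by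
        intro j hj r hr
        change lam (r • b) = 0
        exact hlam_ne (j + i) (by omega) _ (gsmul_mem 𝒜 B.gr hr hb))
    exact ⟨d, hd, fun r => hdφ r⟩
  have hex : ∀ b : B.carrier, ∃ d : D, ∀ r : R, β d r = lam (r • b) := by
    intro b
    induction b using DirectSum.Decomposition.inductionOn B.gr with
    | zero => exact ⟨0, fun r => by simp⟩
    | @homogeneous i b =>
      obtain ⟨d, _, hd⟩ := hhom i b b.2
      exact ⟨d, hd⟩
    | add b b' hb hb' =>
      obtain ⟨d, hd⟩ := hb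
      obtain ⟨d', hd'⟩ := hb'
      exact ⟨d + d', fun r => by rw [map_add, LinearMap.add_apply, hd, hd', smul_add, map_add]⟩
  choose h0 hh0 using hex
  let h : B.carrier →ₗ[R] D :=
    { toFun := h0
      map_add' := fun b b' => gdual_ext_left hD (fun r => by
        rw [hh0, map_add, LinearMap.add_apply, hh0, hh0, smul_add, map_add])
      map_smul' := fun s b => gdual_ext_left hD (fun r => by
        rw [RingHom.id_apply, hh0, hD.map_smul, hh0, smul_eq_mul, smul_smul, mul_comm]) }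
  have hh : ∀ b, h b = h0 b := fun _ => rfl
  refine ⟨h, ?_, ?_⟩
  · intro i b hb
    obtain ⟨d, hd, hdr⟩ := hhom i b hb
    have : h b = d := gdual_ext_left hD (fun r => by rw [hh, hh0, hdr])
    rw [this]; exact hd
  · ext a
    refine gdual_ext_left hD (fun r => ?_)
    rw [LinearMap.comp_apply, hh, hh0, ← map_smul, hlam_f, hlamg, map_smul, hD.map_smul,
      smul_eq_mul, mul_one]

/-- The graded dual of `R` is a *essential extension of `R ⧸ m`, `m` the irrelevant ideal. -/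
theorem gdual_self_essential (hpos : ∀ n : ℤ, n < 0 → 𝒜 n = ⊥)
    (h0 : 𝒜 0 = Submodule.span k {(1 : R)}) (hD : GrSeg.IsGDual R 𝒜 𝒟 β)
    (mR : HomogeneousIdeal 𝒜)
    (hmR : mR.toIdeal = Ideal.span (⋃ n ∈ Set.Ioi (0 : ℤ), (𝒜 n : Set R)))
    (e : (R ⧸ mR.toIdeal) →ₗ[R] D) (he : Function.Injective e)
    (hegr : GrLC.IsGrHom (GrLC.quotGr 𝒜 mR) 𝒟 e) (P : Submodule R D)
    (hP : P.IsHomogeneous 𝒟) (hne : P ≠ ⊥) : P ⊓ LinearMap.range e ≠ ⊥ := by
  classical
  obtain ⟨d, hdP, hd0⟩ := Submodule.exists_mem_ne_zero_of_ne_bot hne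
  obtain ⟨n, hn⟩ : ∃ n, ((DirectSum.decompose 𝒟 d n : 𝒟 n) : D) ≠ 0 := by
    by_contra hall
    push_neg at hall
    apply hd0
    have h0' : DirectSum.decompose 𝒟 d = 0 := by
      ext n
      rw [hall n]; rfl
    exact (DirectSum.decompose 𝒟).injective (h0'.trans (DirectSum.decompose_zero 𝒟).symm)
  have hdnP : ((DirectSum.decompose 𝒟 d n : 𝒟 n) : D) ∈ P := hP n hdP
  have hdn : ((DirectSum.decompose 𝒟 d n : 𝒟 n) : D) ∈ 𝒟 n := SetLike.coe_mem _
  generalize ((DirectSum.decompose 𝒟 d n : 𝒟 n) : D) = dn at hn hdnP hdn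
  obtain ⟨x, hx, hβ⟩ : ∃ x ∈ 𝒜 (-n), β dn x ≠ 0 := by
    by_contra hall
    push_neg at hall
    exact hn (hD.eq_zero n dn hdn hall)
  have hd'P : x • dn ∈ P := P.smul_mem x hdnP
  have hd'0 : x • dn ∈ 𝒟 0 := by
    have := gsmul_mem 𝒜 𝒟 hx hdn
    rwa [neg_add_cancel] at this
  have hβ' : β (x • dn) 1 = β dn x := by rw [hD.map_smul, smul_eq_mul, mul_one]
  haveI : Nontrivial R := ⟨⟨1, 0, fun h1 => hβ (by rw [← mul_one x, h1, mul_zero, map_zero])⟩⟩
  have hmem0 : ∀ y ∈ 𝒜 (-0), ∃ a : k, a • (1 : R) = y := by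
    intro y hy
    rw [neg_zero, h0] at hy
    exact Submodule.mem_span_singleton.mp hy
  have hu0 : e (Ideal.Quotient.mk _ 1) ∈ 𝒟 0 :=
    hegr 0 _ (AddSubgroup.mem_map.mpr ⟨1, SetLike.one_mem_graded 𝒜, rfl⟩)
  have hune : e (Ideal.Quotient.mk _ 1) ≠ 0 := by
    intro h
    have h1 : (Ideal.Quotient.mk mR.toIdeal 1) = 0 := he (h.trans (map_zero e).symm)
    rw [Ideal.Quotient.eq_zero_iff_mem, hmR] at h1
    exact one_notMem_irr 𝒜 hpos h1
  set u := e (Ideal.Quotient.mk mR.toIdeal 1) with hu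
  have hβu : β u 1 ≠ 0 := by
    intro h
    apply hune
    apply hD.eq_zero 0 u hu0
    intro y hy
    obtain ⟨a, rfl⟩ := hmem0 y hy
    rw [map_smul, h, smul_zero]
  have hkey : x • dn = (β (x • dn) 1 / β u 1) • u := by
    have hsub : x • dn - (β (x • dn) 1 / β u 1) • u ∈ 𝒟 0 :=
      sub_mem hd'0 (ksmul_mem 𝒜 𝒟 _ hu0)
    have := hD.eq_zero 0 _ hsub (fun y hy => by
      obtain ⟨a, rfl⟩ := hmem0 y hy
      simp only [map_smul, map_sub, LinearMap.sub_apply, LinearMap.smul_apply, smul_eq_mul]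
      rw [div_mul_cancel₀ _ hβu, sub_self, mul_zero])
    exact sub_eq_zero.mp this
  intro hbot
  have hmem : x • dn ∈ P ⊓ LinearMap.range e := by
    refine ⟨hd'P, ⟨((β (x • dn) 1 / β u 1) • (1 : R)) • Ideal.Quotient.mk mR.toIdeal 1, ?_⟩⟩
    rw [map_smul, smul_assoc, one_smul]
    exact hkey.symm
  rw [hbot] at hmem
  have h0d : x • dn = 0 := (Submodule.mem_bot R).mp hmem
  rw [h0d, map_zero, LinearMap.zero_apply] at hβ'
  exact hβ hβ'.symm

end Star

end Groth.Agent.H98
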