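import Groth.Agent.H98.GrNak

/-!
# Helper library (helper98): standard graded rings, induction on Segre pieces.
-/

set_option autoImplicit false
universe u
open scoped TensorProduct

namespace Groth.Agent.H98

section SegrePiece

variable {k : Type u} [CommRing k] {M N : Type u} [AddCommGroup M] [Module k M] [AddCommGroup N]
  [Module k N] {ι : Type} {τ τ' : Type u} [SetLike τ M] [SetLike τ' N]
  {ℳ : ι → τ} {𝒩 : ι → τ'} {n : ι}

theorem tmul_mem_segrePiece {x : M} {y : N} (hx : x ∈ ℳ n) (hy : y ∈ 𝒩 n) :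
    x ⊗ₜ[k] y ∈ GrSeg.segrePiece k ℳ 𝒩 n :=
  Submodule.subset_span ⟨x, hx, y, hy, rfl⟩

theorem segrePiece_induction {motive : M ⊗[k] N → Prop}
    (mem : ∀ x ∈ ℳ n, ∀ y ∈ 𝒩 n, motive (x ⊗ₜ[k] y)) (zero : motive 0)
    (add : ∀ v w, motive v → motive w → motive (v + w))
    (smul : ∀ (c : k) v, motive v → motive (c • v))
    {v : M ⊗[k] N} (hv : v ∈ GrSeg.segrePiece k ℳ 𝒩 n) : motive v := by
  have hv' : v ∈ Submodule.span k {x : M ⊗[k] N | ∃ a ∈ ℳ n, ∃ b ∈ 𝒩 n, x = a ⊗ₜ[k] b} := hv
  clear hv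
  induction hv' using Submodule.span_induction with
  | mem v hv =>
    obtain ⟨x, hx, y, hy, rfl⟩ := hv
    exact mem x hx y hy
  | zero => exact zero
  | add v w _ _ h h' => exact add v w h h'
  | smul c v _ h => exact smul c v h

end SegrePiece

section Std

variable {k : Type u} [Field k] {R : Type u} [CommRing R] [Algebra k R]
  (𝒜 : ℤ → Submodule k R) [GradedAlgebra 𝒜]

/-- `stdW i = span_k {r * x' | r ∈ 𝒜 1, x' ∈ 𝒜 (i - 1)}`. -/
def stdW (i : ℤ) : Submodule k R :=
  Submodule.span k {z | ∃ r ∈ 𝒜 1, ∃ x' ∈ 𝒜 (i - 1), z = r * x'}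

/-- In a standard graded ring, `𝒜 i = 𝒜 1 * 𝒜 (i - 1)` for `i > 0`. -/
theorem std_mem
    (hstd : Ideal.span (⋃ n ∈ Set.Ioi (0 : ℤ), (𝒜 n : Set R)) =
      Ideal.span ((𝒜 1 : Submodule k R) : Set R))
    {i : ℤ} (hi : 0 < i) {x : R} (hx : x ∈ 𝒜 i) : x ∈ stdW 𝒜 i := by
  classical
  have hxI : x ∈ Ideal.span ((𝒜 1 : Submodule k R) : Set R) :=
    hstd ▸ Ideal.subset_span (Set.mem_biUnion (Set.mem_Ioi.mpr hi) hx)
  have key : ∀ z ∈ Submodule.span R ((𝒜 1 : Submodule k R) : Set R),
      ∀ j, ((DirectSum.decompose 𝒜 z j : 𝒜 j) : R) ∈ stdW 𝒜 j := by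
    intro z hz
    induction hz using Submodule.span_induction with
    | mem z hz =>
      intro j
      have hz1 : z ∈ 𝒜 1 := hz
      by_cases hj : 1 = j
      · subst hj
        rw [DirectSum.decompose_of_mem_same 𝒜 hz1]
        have h1 : (1 : R) ∈ 𝒜 (1 - 1) := by rw [sub_self]; exact SetLike.one_mem_graded 𝒜
        exact Submodule.subset_span ⟨z, hz1, 1, h1, (mul_one z).symm⟩
      · rw [DirectSum.decompose_of_mem_ne 𝒜 hz1 hj]; exact zero_mem _
    | zero => intro j; simp
    | add z z' _ _ h h' =>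
      intro j
      rw [DirectSum.decompose_add, DirectSum.add_apply, Submodule.coe_add]
      exact add_mem (h j) (h' j)
    | smul c z _ h =>
      intro j
      induction c using DirectSum.Decomposition.inductionOn 𝒜 with
      | zero => simp
      | @homogeneous e c =>
        rw [comp_smul 𝒜 𝒜 c.2 j z]
        have hz' := h (j - e)
        refine Submodule.span_induction (p := fun w _ => (c : R) • w ∈ stdW 𝒜 j) ?_ ?_ ?_ ?_ hz'
        · rintro w ⟨r, hr, x', hx', rfl⟩
          refine Submodule.subset_span ⟨r, hr, c * x', ?_, ?_⟩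
          · have := SetLike.mul_mem_graded c.2 hx'
            convert this using 2
            ring
          · rw [smul_eq_mul]; ring
        · simp
        · intro w w' _ _ hw hw'
          rw [smul_add]; exact add_mem hw hw'
        · intro a' w _ hw
          rw [smul_comm]; exact Submodule.smul_mem _ a' hw
      | add c c' hc hc' =>
        rw [add_smul, DirectSum.decompose_add, DirectSum.add_apply, Submodule.coe_add]
        exact add_mem hc hc'
  have := key x hxI i
  rwa [DirectSum.decompose_of_mem_same 𝒜 hx] at this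

end Std

end Groth.Agent.H98
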