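import Groth.Agent.H98.GrRex
import Groth.Agent.H98.GrCMv
import Groth.Agent.H98.GrExt
import Groth.Agent.H98.GrRes

/-!
# Helper library (helper98): the top graded local cohomology of a finitely generated graded module
over a Noetherian graded ring of dimension `n` is "`M ⊗ H^n(R)`": the bilinear pairing
`T : M → Hom(H^n(R), H^n(M))` induced by the multiplication maps, its surjectivity and its kernel
(right exactness of `H^n` plus additivity, all through the maps `Tm`).
-/

set_option autoImplicit false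
set_option warn.classDefReducibility false
universe u

open DirectSum

namespace Groth.Agent.H98.GrCat

section General

variable {ι : Type} [AddCommGroup ι] [DecidableEq ι]
variable {R : Type u} [CommRing R] {𝒜 : ι → AddSubgroup R} [GradedRing 𝒜]
variable {N M P : Type u} [AddCommGroup N] [Module R N] [AddCommGroup M] [Module R M]
  [AddCommGroup P] [Module R P]
  {𝒩 : ι → AddSubgroup N} [DirectSum.Decomposition 𝒩] [SetLike.GradedSMul 𝒜 𝒩]
  {ℳ : ι → AddSubgroup M} [DirectSum.Decomposition ℳ] [SetLike.GradedSMul 𝒜 ℳ]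
  {𝒬 : ι → AddSubgroup P} [DirectSum.Decomposition 𝒬] [SetLike.GradedSMul 𝒜 𝒬]
  {F : GrLC.StarInjRes 𝒜 𝒩} {E : GrLC.StarInjRes 𝒜 ℳ} {G : GrLC.StarInjRes 𝒜 𝒬}
  (a : HomogeneousIdeal 𝒜)

theorem Tm_comp' {e e' e'' : ι} {u : N →ₗ[R] M} {v : M →ₗ[R] P} {w : N →ₗ[R] P}
    (hu : GrLC.IsGrHomDeg 𝒩 ℳ u e) (hv : GrLC.IsGrHomDeg ℳ 𝒬 v e')
    (hw : GrLC.IsGrHomDeg 𝒩 𝒬 w e'') (he : e'' = e + e') (hwe : w = v.comp u) (i : ℕ)
    (y : F.H a i) :
    Tm F G a e'' w hw i y = Tm E G a e' v hv i (Tm F E a e u hu i y) := by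
  subst he
  subst hwe
  exact Tm_comp a hu hv i y

theorem Tm_smul' {e c e'' : ι} {u w : N →ₗ[R] M} {r : R} (hr : r ∈ 𝒜 c)
    (hu : GrLC.IsGrHomDeg 𝒩 ℳ u e) (hw : GrLC.IsGrHomDeg 𝒩 ℳ w e'') (he : e'' = e + c)
    (hwe : w = r • u) (i : ℕ) (y : F.H a i) :
    Tm F E a e'' w hw i y = r • Tm F E a e u hu i y := by
  subst he
  subst hwe
  exact Tm_smul a hr hu i y

theorem Tm_sum {β : Type u} (s : Finset β) {e : ι} (u : β → N →ₗ[R] M)
    (hu : ∀ b, GrLC.IsGrHomDeg 𝒩 ℳ (u b) e) (i : ℕ) (y : F.H a i) :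
    ∀ hs : GrLC.IsGrHomDeg 𝒩 ℳ (∑ b ∈ s, u b) e,
      Tm F E a e (∑ b ∈ s, u b) hs i y = ∑ b ∈ s, Tm F E a e (u b) (hu b) i y := by
  classical
  induction s using Finset.induction_on with
  | empty =>
    intro hs
    have h0 : GrLC.IsGrHomDeg 𝒩 ℳ (0 : N →ₗ[R] M) e := fun _ _ _ => zero_mem _
    rw [Tm_congr a hs h0 rfl Finset.sum_empty i, Tm_zero a e h0 i y, Finset.sum_empty]
  | insert b s hb ih =>
    intro hs
    have hs' : GrLC.IsGrHomDeg 𝒩 ℳ (∑ c ∈ s, u c) e := fun k x hx => by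
      rw [LinearMap.sum_apply]
      exact sum_mem (fun c _ => hu c k x hx)
    have hs'' : GrLC.IsGrHomDeg 𝒩 ℳ (u b + ∑ c ∈ s, u c) e :=
      fun k x hx => add_mem (hu b k x hx) (hs' k x hx)
    rw [Tm_congr a hs hs'' rfl (Finset.sum_insert hb) i, Tm_add a (hu b) hs' hs'' i y, ih hs',
      Finset.sum_insert hb]

theorem toSpanSingleton_isGrHomDeg {e : ι} {x : N} (hx : x ∈ 𝒩 e) :
    GrLC.IsGrHomDeg 𝒜 𝒩 (LinearMap.toSpanSingleton R N x) e := fun k r hr => by
  rw [LinearMap.toSpanSingleton_apply]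
  exact gsmul_mem 𝒜 𝒩 hr hx

/-- a finitely generated graded module has a finite family of homogeneous generators -/
theorem exists_homog_generators (ℳ : ι → AddSubgroup M) [DirectSum.Decomposition ℳ]
    [Module.Finite R M] :
    ∃ (κ : Type u) (_ : Fintype κ) (deg : κ → ι) (x : κ → M),
      (∀ b, x b ∈ ℳ (deg b)) ∧ Function.Surjective (Fintype.linearCombination R x) := by
  classical
  obtain ⟨t, ht⟩ := (Module.Finite.fg_top : (⊤ : Submodule R M).FG)
  refine ⟨Σ x : {x // x ∈ t}, {g // g ∈ (decompose ℳ (x : M)).support}, inferInstance,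
    fun k => k.2.1, fun k => ((decompose ℳ (k.1 : M) k.2.1 : ℳ k.2.1) : M),
    fun k => SetLike.coe_mem _, ?_⟩
  rw [← LinearMap.range_eq_top, Fintype.range_linearCombination, eq_top_iff, ← ht,
    Submodule.span_le]
  intro x hx
  rw [SetLike.mem_coe, ← sum_support_decompose ℳ x]
  refine Submodule.sum_mem _ fun g hg => ?_
  exact Submodule.subset_span ⟨⟨⟨x, hx⟩, ⟨g, hg⟩⟩, rfl⟩

end General

section Free

variable {ι : Type} [AddCommGroup ι] [DecidableEq ι]
variable {R : Type u} [CommRing R] {𝒜 : ι → AddSubgroup R} [GradedRing 𝒜]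
variable {κ : Type u} [Fintype κ] (deg : κ → ι)

attribute [local instance] freeDec freeGSMul

omit [Fintype κ] [DecidableEq ι] [GradedRing 𝒜] in
theorem proj_isGrHomDeg (b : κ) :
    GrLC.IsGrHomDeg (freeGr 𝒜 deg) 𝒜 (LinearMap.proj b : (κ → R) →ₗ[R] R) (-deg b) :=
  fun g v hv => by
    rw [← sub_eq_add_neg]
    exact hv b

omit [Fintype κ] [DecidableEq ι] [GradedRing 𝒜] in
theorem single_isGrHomDeg [DecidableEq κ] (b : κ) :
    GrLC.IsGrHomDeg 𝒜 (freeGr 𝒜 deg) (LinearMap.single R (fun _ : κ => R) b) (deg b) :=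
  fun g r hr j => by
    show (Pi.single b r : κ → R) j ∈ 𝒜 (g + deg b - deg j)
    by_cases hj : j = b
    · subst hj
      rw [Pi.single_eq_same, add_sub_cancel_right]
      exact hr
    · rw [Pi.single_eq_of_ne hj]
      exact zero_mem _

omit [DecidableEq ι] [GradedRing 𝒜] in
theorem linComb_isGrHom {N : Type u} [AddCommGroup N] [Module R N] {𝒩 : ι → AddSubgroup N}
    [SetLike.GradedSMul 𝒜 𝒩] (x : κ → N) (hx : ∀ b, x b ∈ 𝒩 (deg b)) :
    GrLC.IsGrHom (freeGr 𝒜 deg) 𝒩 (Fintype.linearCombination R x) := by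
  intro g v hv
  rw [Fintype.linearCombination_apply]
  refine sum_mem fun k _ => ?_
  have h1 := gsmul_mem 𝒜 𝒩 (hv k) (hx k)
  rwa [sub_add_cancel] at h1

/-- additivity: the cohomology of a graded free module through the coordinates -/
theorem free_H_decomp [DecidableEq κ] (EF : GrLC.StarInjRes 𝒜 (freeGr 𝒜 deg))
    (I : GrLC.StarInjRes 𝒜 𝒜) (a : HomogeneousIdeal 𝒜) (i : ℕ) (y : EF.H a i) :
    y = ∑ b, Tm I EF a (deg b) (LinearMap.single R (fun _ : κ => R) b)
      (single_isGrHomDeg deg b) i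
        (Tm EF I a (-deg b) (LinearMap.proj b) (proj_isGrHomDeg deg b) i y) := by
  have hid : (LinearMap.id : (κ → R) →ₗ[R] (κ → R)) =
      ∑ b, (LinearMap.single R (fun _ : κ => R) b).comp (LinearMap.proj b) := by
    refine LinearMap.ext fun v => ?_
    rw [LinearMap.sum_apply, LinearMap.id_apply]
    exact (Finset.univ_sum_single v).symm
  have hc : ∀ b, GrLC.IsGrHomDeg (freeGr 𝒜 deg) (freeGr 𝒜 deg)
      ((LinearMap.single R (fun _ : κ => R) b).comp (LinearMap.proj b)) 0 := fun b g v hv => by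
    have h := isGrHomDeg_comp (proj_isGrHomDeg deg b) (single_isGrHomDeg deg b) g v hv
    rwa [neg_add_cancel] at h
  have hsum : GrLC.IsGrHomDeg (freeGr 𝒜 deg) (freeGr 𝒜 deg)
      (∑ b, (LinearMap.single R (fun _ : κ => R) b).comp (LinearMap.proj b)) 0 := by
    rw [← hid]
    exact isGrHomDeg_id
  calc y = Tm EF EF a 0 LinearMap.id isGrHomDeg_id i y := by
        rw [Tm_id]
        rfl
    _ = Tm EF EF a 0 (∑ b, (LinearMap.single R (fun _ : κ => R) b).comp (LinearMap.proj b))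
          hsum i y := by
        rw [Tm_congr a isGrHomDeg_id hsum rfl hid i]
    _ = ∑ b, Tm EF EF a 0 ((LinearMap.single R (fun _ : κ => R) b).comp (LinearMap.proj b))
          (hc b) i y := Tm_sum a Finset.univ _ hc i y hsum
    _ = _ := Finset.sum_congr rfl fun b _ =>
        Tm_comp' a (proj_isGrHomDeg deg b) (single_isGrHomDeg deg b) (hc b)
          (neg_add_cancel _).symm rfl i y

end Free

section Core

variable {R : Type u} [CommRing R] {𝒜 : ℤ → AddSubgroup R} [GradedRing 𝒜] [IsNoetherianRing R]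
variable {N : Type u} [AddCommGroup N] [Module R N] {𝒩 : ℤ → AddSubgroup N}
  [DirectSum.Decomposition 𝒩] [SetLike.GradedSMul 𝒜 𝒩]
  (I : GrLC.StarInjRes 𝒜 𝒜) (EN : GrLC.StarInjRes 𝒜 𝒩) (a : HomogeneousIdeal 𝒜) (n : ℕ)
  {κ : Type u} [Fintype κ] (deg : κ → ℤ) (x : κ → N) (hx : ∀ b, x b ∈ 𝒩 (deg b))

attribute [local instance] freeDec freeGSMul

/-- the map on local cohomology induced by multiplication with a homogeneous element -/
noncomputable def Bm (b : κ) : I.H a n →ₗ[R] EN.H a n :=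
  Tm I EN a (deg b) (LinearMap.toSpanSingleton R N (x b)) (toSpanSingleton_isGrHomDeg (hx b)) n

omit [IsNoetherianRing R] [Fintype κ] in
theorem Bm_mem_Hgr (b : κ) {j : ℤ} {h : I.H a n} (hh : h ∈ I.Hgr a n j) :
    Bm I EN a n deg x hx b h ∈ EN.Hgr a n (j + deg b) :=
  Tm_mem_Hgr a _ n hh

/-- surjectivity: the top cohomology is spanned by the images of the multiplication maps of a
family of homogeneous generators -/
theorem exists_sum_Bm (hn : ringKrullDim R = n)
    (hsurj : Function.Surjective (Fintype.linearCombination R x)) (w : EN.H a n) :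
    ∃ h : κ → I.H a n, w = ∑ b, Bm I EN a n deg x hx b (h b) := by
  classical
  have hπgr : GrLC.IsGrHom (freeGr 𝒜 deg) 𝒩 (Fintype.linearCombination R x) :=
    linComb_isGrHom deg x hx
  have hπ0 : GrLC.IsGrHomDeg (freeGr 𝒜 deg) 𝒩 (Fintype.linearCombination R x) 0 :=
    fun g v hv => by
      rw [add_zero]
      exact hπgr g v hv
  obtain ⟨Z, hZdef⟩ : ∃ Z : Submodule R (κ → R),
      Z = LinearMap.ker (Fintype.linearCombination R x) := ⟨_, rfl⟩
  have hZ : Z.IsHomogeneous (freeGr 𝒜 deg) := by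
    rw [hZdef]
    exact ker_isHomogeneous (freeGr 𝒜 deg) 𝒩 hπgr
  have hZmem : ∀ v, v ∈ Z ↔ Fintype.linearCombination R x v = 0 := fun v => by
    rw [hZdef]
    exact LinearMap.mem_ker
  let _ : DirectSum.Decomposition (subGr (freeGr 𝒜 deg) Z) := subDec (freeGr 𝒜 deg) Z hZ
  have : SetLike.GradedSMul 𝒜 (subGr (freeGr 𝒜 deg) Z) := subGSMul 𝒜 (freeGr 𝒜 deg) Z
  obtain ⟨EF, -⟩ : ∃ E : GrLC.StarInjRes 𝒜 (freeGr 𝒜 deg), True := ⟨starInjRes 𝒜 _, trivial⟩
  obtain ⟨EZ, -⟩ : ∃ E : GrLC.StarInjRes 𝒜 (subGr (freeGr 𝒜 deg) Z), True :=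
    ⟨starInjRes 𝒜 _, trivial⟩
  have hι0 : GrLC.IsGrHomDeg (subGr (freeGr 𝒜 deg) Z) (freeGr 𝒜 deg) Z.subtype 0 :=
    fun g v hv => by
      rw [add_zero]
      exact hv
  have hsur := Tm_surjective_of_vn EZ EF EN hι0 hπ0 (Submodule.injective_subtype Z) hsurj
    (fun b hb => ⟨⟨b, (hZmem b).2 hb⟩, rfl⟩)
    (fun z => (hZmem _).1 z.2) a n
    (fun m => GrHt.vn_of_dim_lt n hn EZ a (n + 1) (Nat.lt_succ_self n) m)
  obtain ⟨y, rfl⟩ := hsur w
  refine ⟨fun b => Tm EF I a (-deg b) (LinearMap.proj b) (proj_isGrHomDeg deg b) n y, ?_⟩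
  have hy := free_H_decomp deg EF I a n y
  conv_lhs => rw [hy]
  rw [map_sum]
  refine Finset.sum_congr rfl fun b _ => ?_
  refine (Tm_comp' a (single_isGrHomDeg deg b) hπ0 (toSpanSingleton_isGrHomDeg (hx b))
    (add_zero _).symm ?_ n _).symm
  refine LinearMap.ext_ring ?_
  rw [LinearMap.toSpanSingleton_apply, one_smul, LinearMap.comp_apply]
  show x b = Fintype.linearCombination R x (Pi.single b 1)
  rw [Fintype.linearCombination_apply_single, one_smul]

omit [IsNoetherianRing R] in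
/-- the multiplication maps respect the relations between the generators -/
theorem sum_smul_Bm_eq_zero (z : κ → R) (hz : ∑ b, z b • x b = 0) (h : I.H a n) :
    ∑ b, z b • Bm I EN a n deg x hx b h = 0 := by
  classical
  have hπgr : GrLC.IsGrHom (freeGr 𝒜 deg) 𝒩 (Fintype.linearCombination R x) :=
    linComb_isGrHom deg x hx
  refine homog_induction (freeGr 𝒜 deg) (LinearMap.ker (Fintype.linearCombination R x))
    (ker_isHomogeneous (freeGr 𝒜 deg) 𝒩 hπgr)
    (fun z => ∑ b, z b • Bm I EN a n deg x hx b h = 0) ?_ ?_ ?_ z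
    (by rw [LinearMap.mem_ker, Fintype.linearCombination_apply]; exact hz)
  · simp
  · intro z z' hz hz'
    simp only [Pi.add_apply, add_smul, Finset.sum_add_distrib, hz, hz', add_zero]
  · intro e z hz hze
    have hzb : ∀ b, z b ∈ 𝒜 (e - deg b) := hze
    have hu : ∀ b, GrLC.IsGrHomDeg 𝒜 𝒩 (z b • LinearMap.toSpanSingleton R N (x b)) e := fun b => by
      have h1 := isGrHomDeg_smul (hzb b) (toSpanSingleton_isGrHomDeg (𝒜 := 𝒜) (hx b))
      have e1 : deg b + (e - deg b) = e := by ring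
      rwa [e1] at h1
    have hs : GrLC.IsGrHomDeg 𝒜 𝒩 (∑ b, z b • LinearMap.toSpanSingleton R N (x b)) e :=
      fun k r hr => by
        rw [LinearMap.sum_apply]
        exact sum_mem (fun c _ => hu c k r hr)
    have hzero : ∑ b, z b • LinearMap.toSpanSingleton R N (x b) = 0 := by
      refine LinearMap.ext_ring ?_
      rw [LinearMap.sum_apply, LinearMap.zero_apply]
      simp only [LinearMap.smul_apply, LinearMap.toSpanSingleton_apply, one_smul]
      rwa [LinearMap.mem_ker, Fintype.linearCombination_apply] at hz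
    have h0 : GrLC.IsGrHomDeg 𝒜 𝒩 (0 : R →ₗ[R] N) e := fun _ _ _ => zero_mem _
    calc ∑ b, z b • Bm I EN a n deg x hx b h
        = ∑ b, Tm I EN a e (z b • LinearMap.toSpanSingleton R N (x b)) (hu b) n h :=
          Finset.sum_congr rfl fun b _ =>
            (Tm_smul' a (hzb b) (toSpanSingleton_isGrHomDeg (hx b)) (hu b)
              (by ring) rfl n h).symm
      _ = Tm I EN a e (∑ b, z b • LinearMap.toSpanSingleton R N (x b)) hs n h :=
          (Tm_sum a Finset.univ _ hu n h hs).symm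
      _ = Tm I EN a e 0 h0 n h := by rw [Tm_congr a hs h0 rfl hzero n]
      _ = 0 := Tm_zero a e h0 n h

/-- the kernel: a relation between the images of the multiplication maps comes from the
relations between the generators -/
theorem exists_syz_of_sum_Bm_eq_zero (hn : ringKrullDim R = n)
    (hsurj : Function.Surjective (Fintype.linearCombination R x)) (h : κ → I.H a n)
    (hh : ∑ b, Bm I EN a n deg x hx b (h b) = 0) :
    ∃ (κ' : Type u) (_ : Fintype κ') (z : κ' → κ → R) (h' : κ' → I.H a n),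
      (∀ j, ∑ b, z j b • x b = 0) ∧ ∀ b, h b = ∑ j, z j b • h' j := by
  classical
  have hπgr : GrLC.IsGrHom (freeGr 𝒜 deg) 𝒩 (Fintype.linearCombination R x) :=
    linComb_isGrHom deg x hx
  have hπ0 : GrLC.IsGrHomDeg (freeGr 𝒜 deg) 𝒩 (Fintype.linearCombination R x) 0 :=
    fun g v hv => by
      rw [add_zero]
      exact hπgr g v hv
  obtain ⟨Z, hZdef⟩ : ∃ Z : Submodule R (κ → R),
      Z = LinearMap.ker (Fintype.linearCombination R x) := ⟨_, rfl⟩
  have hZ : Z.IsHomogeneous (freeGr 𝒜 deg) := by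
    rw [hZdef]
    exact ker_isHomogeneous (freeGr 𝒜 deg) 𝒩 hπgr
  have hZmem : ∀ v, v ∈ Z ↔ Fintype.linearCombination R x v = 0 := fun v => by
    rw [hZdef]
    exact LinearMap.mem_ker
  let _ : DirectSum.Decomposition (subGr (freeGr 𝒜 deg) Z) := subDec (freeGr 𝒜 deg) Z hZ
  have : SetLike.GradedSMul 𝒜 (subGr (freeGr 𝒜 deg) Z) := subGSMul 𝒜 (freeGr 𝒜 deg) Z
  obtain ⟨EF, -⟩ : ∃ E : GrLC.StarInjRes 𝒜 (freeGr 𝒜 deg), True := ⟨starInjRes 𝒜 _, trivial⟩
  obtain ⟨EZ, -⟩ : ∃ E : GrLC.StarInjRes 𝒜 (subGr (freeGr 𝒜 deg) Z), True :=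
    ⟨starInjRes 𝒜 _, trivial⟩
  have hι0 : GrLC.IsGrHomDeg (subGr (freeGr 𝒜 deg) Z) (freeGr 𝒜 deg) Z.subtype 0 :=
    fun g v hv => by
      rw [add_zero]
      exact hv
  have hcomp : ∀ b, LinearMap.toSpanSingleton R N (x b) =
      (Fintype.linearCombination R x).comp (LinearMap.single R (fun _ : κ => R) b) := by
    intro b
    refine LinearMap.ext_ring ?_
    rw [LinearMap.toSpanSingleton_apply, one_smul, LinearMap.comp_apply]
    show x b = Fintype.linearCombination R x (Pi.single b 1)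
    rw [Fintype.linearCombination_apply_single, one_smul]
  obtain ⟨y, hy⟩ : ∃ y : EF.H a n, y = ∑ b, Tm I EF a (deg b)
      (LinearMap.single R (fun _ : κ => R) b) (single_isGrHomDeg deg b) n (h b) := ⟨_, rfl⟩
  have hπy : Tm EF EN a 0 (Fintype.linearCombination R x) hπ0 n y = 0 := by
    rw [hy, map_sum, ← hh]
    refine Finset.sum_congr rfl fun b _ => ?_
    exact (Tm_comp' a (single_isGrHomDeg deg b) hπ0 (toSpanSingleton_isGrHomDeg (hx b))
      (add_zero _).symm (hcomp b) n _).symm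
  obtain ⟨w, hw⟩ := Tm_exact_mid EZ EF EN hι0 hπ0 (Submodule.injective_subtype Z) hsurj
    (fun b hb => ⟨⟨b, (hZmem b).2 hb⟩, rfl⟩)
    (fun z => (hZmem _).1 z.2) a n y hπy
  have : Module.Finite R Z := Module.Finite.of_injective Z.subtype (Submodule.injective_subtype Z)
  obtain ⟨κ', hκ', deg', zz, hzz, hzsurj⟩ :=
    exists_homog_generators (R := R) (subGr (freeGr 𝒜 deg) Z)
  obtain ⟨h', hw'⟩ := exists_sum_Bm I EZ a n deg' zz hzz hn hzsurj w
  refine ⟨κ', hκ', fun j => (zz j : κ → R), h', fun j => ?_, fun b => ?_⟩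
  · have h1 := (hZmem _).1 (zz j).2
    rw [Fintype.linearCombination_apply] at h1
    exact h1
  · have h1 : Tm EF I a (-deg b) (LinearMap.proj b) (proj_isGrHomDeg deg b) n y = h b := by
      rw [hy, map_sum, Finset.sum_eq_single b]
      · have hid : (LinearMap.id : R →ₗ[R] R) =
            (LinearMap.proj b : (κ → R) →ₗ[R] R).comp (LinearMap.single R (fun _ : κ => R) b) := by
          refine LinearMap.ext_ring ?_
          rw [LinearMap.comp_apply]
          show (1 : R) = (Pi.single b (1 : R) : κ → R) b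
          rw [Pi.single_eq_same]
        rw [← Tm_comp' a (single_isGrHomDeg deg b) (proj_isGrHomDeg deg b)
          (isGrHomDeg_id (ℳ := 𝒜)) (add_neg_cancel _).symm hid n (h b), Tm_id]
        rfl
      · intro c _ hcb
        have hzero : (0 : R →ₗ[R] R) =
            (LinearMap.proj b : (κ → R) →ₗ[R] R).comp (LinearMap.single R (fun _ : κ => R) c) := by
          refine LinearMap.ext_ring ?_
          rw [LinearMap.comp_apply]
          show (0 : R) = (Pi.single c (1 : R) : κ → R) b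
          rw [Pi.single_eq_of_ne (Ne.symm hcb)]
        have h0 : GrLC.IsGrHomDeg 𝒜 𝒜 (0 : R →ₗ[R] R) (deg c + -deg b) :=
          fun _ _ _ => zero_mem _
        rw [← Tm_comp' a (single_isGrHomDeg deg c) (proj_isGrHomDeg deg b) h0 rfl hzero n (h c)]
        exact Tm_zero a _ h0 n _
      · intro hb
        exact absurd (Finset.mem_univ b) hb
    rw [← h1, ← hw, hw', map_sum, map_sum]
    refine Finset.sum_congr rfl fun j _ => ?_
    have hw1 : GrLC.IsGrHomDeg 𝒜 (freeGr 𝒜 deg)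
        (LinearMap.toSpanSingleton R (κ → R) (zz j : κ → R)) (deg' j) :=
      toSpanSingleton_isGrHomDeg (hzz j)
    have heq1 : LinearMap.toSpanSingleton R (κ → R) (zz j : κ → R) =
        Z.subtype.comp (LinearMap.toSpanSingleton R Z (zz j)) := by
      refine LinearMap.ext_ring ?_
      rw [LinearMap.toSpanSingleton_apply, LinearMap.comp_apply, LinearMap.toSpanSingleton_apply,
        one_smul, one_smul]
      rfl
    have hr : (zz j : κ → R) b ∈ 𝒜 (deg' j - deg b) := hzz j b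
    have heq2 : ((zz j : κ → R) b) • (LinearMap.id : R →ₗ[R] R) =
        (LinearMap.proj b : (κ → R) →ₗ[R] R).comp
          (LinearMap.toSpanSingleton R (κ → R) (zz j : κ → R)) := by
      refine LinearMap.ext_ring ?_
      rw [LinearMap.smul_apply, LinearMap.id_apply, LinearMap.comp_apply,
        LinearMap.toSpanSingleton_apply, one_smul, smul_eq_mul, mul_one]
      rfl
    have hw2 : GrLC.IsGrHomDeg 𝒜 𝒜 (((zz j : κ → R) b) • (LinearMap.id : R →ₗ[R] R))
        (0 + (deg' j - deg b)) := isGrHomDeg_smul hr isGrHomDeg_id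
    show Tm EF I a (-deg b) (LinearMap.proj b) (proj_isGrHomDeg deg b) n
      (Tm EZ EF a 0 Z.subtype hι0 n
        (Tm I EZ a (deg' j) (LinearMap.toSpanSingleton R Z (zz j))
          (toSpanSingleton_isGrHomDeg (hzz j)) n (h' j))) = _
    rw [← Tm_comp' a (toSpanSingleton_isGrHomDeg (hzz j)) hι0 hw1 (add_zero _).symm heq1 n (h' j),
      ← Tm_comp' a hw1 (proj_isGrHomDeg deg b) hw2 (by ring) heq2 n (h' j),
      Tm_smul' a hr isGrHomDeg_id hw2 rfl rfl n (h' j), Tm_id]
    rfl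

end Core

section Pairing

variable {R : Type u} [CommRing R] {𝒜 : ℤ → AddSubgroup R} [GradedRing 𝒜] [IsNoetherianRing R]
variable {N : Type u} [AddCommGroup N] [Module R N] {𝒩 : ℤ → AddSubgroup N}
  [DirectSum.Decomposition 𝒩] [SetLike.GradedSMul 𝒜 𝒩] [Module.Finite R N]

attribute [local instance] freeDec freeGSMul

/-- the pairing `N × H^n(R) → H^n(N)` (`n = dim R`) with its degree, surjectivity and kernel -/
theorem exists_pairing (I : GrLC.StarInjRes 𝒜 𝒜) (EN : GrLC.StarInjRes 𝒜 𝒩)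
    (a : HomogeneousIdeal 𝒜) (n : ℕ) (hn : ringKrullDim R = n) :
    ∃ (κ : Type u) (_ : Fintype κ) (x : κ → N) (T : N →ₗ[R] I.H a n →ₗ[R] EN.H a n),
      Function.Surjective (Fintype.linearCombination R x) ∧
      (∀ e j m h, m ∈ 𝒩 e → h ∈ I.Hgr a n j → T m h ∈ EN.Hgr a n (j + e)) ∧
      (∀ w, ∃ h : κ → I.H a n, w = ∑ b, T (x b) (h b)) ∧
      (∀ h : κ → I.H a n, ∑ b, T (x b) (h b) = 0 →
        ∃ (κ' : Type u) (_ : Fintype κ') (z : κ' → κ → R) (h' : κ' → I.H a n),
          (∀ j, ∑ b, z j b • x b = 0) ∧ ∀ b, h b = ∑ j, z j b • h' j) := by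
  classical
  obtain ⟨κ, hκ, deg, x, hx, hsurj⟩ := exists_homog_generators (R := R) 𝒩
  obtain ⟨Ψ, hΨ⟩ : ∃ Ψ : (κ → R) →ₗ[R] (I.H a n →ₗ[R] EN.H a n),
      ∀ v h, Ψ v h = ∑ b, v b • Bm I EN a n deg x hx b h := by
    refine ⟨Fintype.linearCombination R (fun b => Bm I EN a n deg x hx b), fun v h => ?_⟩
    rw [Fintype.linearCombination_apply, LinearMap.sum_apply]
    rfl
  have hle : LinearMap.ker (Fintype.linearCombination R x) ≤ LinearMap.ker Ψ := by
    intro z hz
    rw [LinearMap.mem_ker, Fintype.linearCombination_apply] at hz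
    rw [LinearMap.mem_ker]
    refine LinearMap.ext fun h => ?_
    rw [hΨ, LinearMap.zero_apply]
    exact sum_smul_Bm_eq_zero I EN a n deg x hx z hz h
  obtain ⟨T, hT⟩ : ∃ T : N →ₗ[R] I.H a n →ₗ[R] EN.H a n,
      ∀ v, T (Fintype.linearCombination R x v) = Ψ v := by
    refine ⟨((LinearMap.ker (Fintype.linearCombination R x)).liftQ Ψ hle).comp
      ((Fintype.linearCombination R x).quotKerEquivOfSurjective hsurj).symm.toLinearMap,
      fun v => ?_⟩
    rw [LinearMap.comp_apply]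
    have h1 : ((Fintype.linearCombination R x).quotKerEquivOfSurjective hsurj).symm
        (Fintype.linearCombination R x v) = Submodule.Quotient.mk v := by
      rw [LinearEquiv.symm_apply_eq, LinearMap.quotKerEquivOfSurjective_apply_mk]
    rw [LinearEquiv.coe_coe, h1, Submodule.liftQ_apply]
  have hTx : ∀ b, T (x b) = Bm I EN a n deg x hx b := by
    intro b
    have h1 : x b = Fintype.linearCombination R x (Pi.single b 1) := by
      rw [Fintype.linearCombination_apply_single, one_smul]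
    rw [h1, hT]
    refine LinearMap.ext fun h => ?_
    rw [hΨ, Finset.sum_eq_single b]
    · rw [Pi.single_eq_same, one_smul]
    · intro c _ hcb
      rw [Pi.single_eq_of_ne hcb, zero_smul]
    · intro hb
      exact absurd (Finset.mem_univ b) hb
  refine ⟨κ, hκ, x, T, hsurj, ?_, ?_, ?_⟩
  · intro e j m h hm hh
    obtain ⟨v₀, rfl⟩ := hsurj m
    have hπgr := linComb_isGrHom (𝒜 := 𝒜) deg x hx
    have h1 := grHom_comp (freeGr 𝒜 deg) 𝒩 hπgr v₀ e
    rw [decompose_of_mem_same 𝒩 hm] at h1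
    rw [h1, hT, hΨ]
    have : SetLike.GradedSMul 𝒜 (EN.Hgr a n) := HGSMul EN a n
    refine sum_mem fun b _ => ?_
    have hvb : ((decompose (freeGr 𝒜 deg) v₀ e : freeGr 𝒜 deg e) : κ → R) b ∈ 𝒜 (e - deg b) :=
      (SetLike.coe_mem (decompose (freeGr 𝒜 deg) v₀ e)) b
    have h2 := gsmul_mem 𝒜 (EN.Hgr a n) hvb (Bm_mem_Hgr I EN a n deg x hx b hh)
    have e1 : e - deg b + (j + deg b) = j + e := by ring
    rwa [e1] at h2
  · intro w
    obtain ⟨h, hw⟩ := exists_sum_Bm I EN a n deg x hx hn hsurj w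
    refine ⟨h, ?_⟩
    rw [hw]
    exact Finset.sum_congr rfl fun b _ => by rw [hTx]
  · intro h hh
    refine exists_syz_of_sum_Bm_eq_zero I EN a n deg x hx hn hsurj h ?_
    rw [← hh]
    exact Finset.sum_congr rfl fun b _ => by rw [hTx]

end Pairing

end Groth.Agent.H98.GrCat
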