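import Groth.Agent.H98.GrLes3

/-!
# Helper library (helper98): functoriality of graded local cohomology (computed from *injective
resolutions) with respect to homogeneous maps of arbitrary degree: the induced map `Tm`, its
independence of the lifting, identities, composites, sums, scalar multiples, degrees.
-/

set_option autoImplicit false
universe u

open DirectSum

namespace Groth.Agent.H98.GrCat

variable {ι : Type} [AddCommGroup ι] [DecidableEq ι]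
variable {R : Type u} [CommRing R] {𝒜 : ι → AddSubgroup R} [GradedRing 𝒜]

section Tm

variable {N M P : Type u} [AddCommGroup N] [Module R N] [AddCommGroup M] [Module R M]
  [AddCommGroup P] [Module R P]
  {𝒩 : ι → AddSubgroup N} [DirectSum.Decomposition 𝒩] [SetLike.GradedSMul 𝒜 𝒩]
  {ℳ : ι → AddSubgroup M} [DirectSum.Decomposition ℳ] [SetLike.GradedSMul 𝒜 ℳ]
  {𝒬 : ι → AddSubgroup P} [DirectSum.Decomposition 𝒬] [SetLike.GradedSMul 𝒜 𝒬]

/-- a chain map of degree `e` between *injective resolutions lifting the map `u` -/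
structure IsLift (F : GrLC.StarInjRes 𝒜 𝒩) (E : GrLC.StarInjRes 𝒜 ℳ) (e : ι) (u : N →ₗ[R] M)
    (φ : ∀ n, (F.X n).carrier →ₗ[R] (E.X n).carrier) : Prop where
  deg : ∀ n, GrLC.IsGrHomDeg (F.X n).gr (E.X n).gr (φ n) e
  aug : ∀ x, φ 0 (F.ε x) = E.ε (u x)
  comm : ∀ n x, φ (n + 1) (F.d n x) = E.d n (φ n x)

variable (F : GrLC.StarInjRes 𝒜 𝒩) (E : GrLC.StarInjRes 𝒜 ℳ) (G : GrLC.StarInjRes 𝒜 𝒬)
  (a : HomogeneousIdeal 𝒜)

theorem exists_isLift (e : ι) (u : N →ₗ[R] M) (hu : GrLC.IsGrHomDeg 𝒩 ℳ u e) :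
    ∃ φ, IsLift F E e u φ := by
  obtain ⟨φ, h1, h2, h3⟩ := exists_lift F E e u hu
  exact ⟨φ, ⟨h1, h2, h3⟩⟩

variable {F E G}

/-- two liftings of the same map induce the same map on graded local cohomology -/
theorem hchain_eq_of_isLift {e : ι} {u : N →ₗ[R] M}
    {φ φ' : ∀ n, (F.X n).carrier →ₗ[R] (E.X n).carrier} (h : IsLift F E e u φ)
    (h' : IsLift F E e u φ') (i : ℕ) :
    Hchain F E a φ h.comm i = Hchain F E a φ' h'.comm i := by
  obtain ⟨w, hw⟩ : ∃ w : ∀ n, (F.X n).carrier →ₗ[R] ((shiftRes E e).X n).carrier,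
      ∀ n x, w n x = φ n x - φ' n x := ⟨fun n => φ n - φ' n, fun _ _ => rfl⟩
  obtain ⟨s, hs0, hsn⟩ := exists_homotopy F (shiftRes E e) w
    (fun n k x hx => by
      rw [hw]
      exact sub_mem (h.deg n k x hx) (h'.deg n k x hx))
    (fun n x => by
      rw [hw, hw]
      show φ (n + 1) (F.d n x) - φ' (n + 1) (F.d n x) = E.d n (φ n x - φ' n x)
      rw [map_sub, h.comm, h'.comm])
    (fun x => by
      rw [hw, h.aug, h'.aug, sub_self]
      rfl)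
  obtain ⟨w', hw'⟩ : ∃ w' : ∀ n, (F.X n).carrier →ₗ[R] (E.X n).carrier,
      ∀ n x, w' n x = φ n x - φ' n x := ⟨fun n => φ n - φ' n, fun _ _ => rfl⟩
  obtain ⟨s', hs'⟩ : ∃ s' : ∀ n, (F.X (n + 1)).carrier →ₗ[R] (E.X n).carrier,
      ∀ n x, s' n x = s n x := ⟨s, fun _ _ => rfl⟩
  have hcob : ∀ {z : (F.X i).carrier}, z ∈ F.cocyc a i → w' i z ∈ E.cobdy a i := by
    intro z hz
    refine htpy_cobdy F E a w' s' (fun x => ?_) (fun n x => ?_) hz
    · rw [hw', hs', ← hs0, hw]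
    · rw [hw', hs', hs', ← hw]
      exact hsn n x
  apply LinearMap.ext
  intro y
  obtain ⟨z, rfl⟩ := Submodule.mkQ_surjective _ y
  show Hchain F E a φ h.comm i (F.toH a i z) = Hchain F E a φ' h'.comm i (F.toH a i z)
  rw [Hchain_toH, Hchain_toH]
  refine (Submodule.Quotient.eq _).2 ?_
  show φ i z - φ' i z ∈ E.cobdy a i
  rw [← hw']
  exact hcob z.2

variable (F E)

/-- the map induced on graded local cohomology by a homogeneous map of degree `e` -/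
noncomputable def Tm (e : ι) (u : N →ₗ[R] M) (hu : GrLC.IsGrHomDeg 𝒩 ℳ u e) (i : ℕ) :
    F.H a i →ₗ[R] E.H a i :=
  Hchain F E a (Classical.choose (exists_isLift F E e u hu))
    (Classical.choose_spec (exists_isLift F E e u hu)).comm i

variable {F E}

theorem Tm_eq {e : ι} {u : N →ₗ[R] M} (hu : GrLC.IsGrHomDeg 𝒩 ℳ u e)
    {φ : ∀ n, (F.X n).carrier →ₗ[R] (E.X n).carrier} (h : IsLift F E e u φ) (i : ℕ) :
    Tm F E a e u hu i = Hchain F E a φ h.comm i :=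
  hchain_eq_of_isLift a (Classical.choose_spec (exists_isLift F E e u hu)) h i

/-- the value of `Tm` on the class of a cocycle, through any lifting -/
theorem Tm_toH {e : ι} {u : N →ₗ[R] M} (hu : GrLC.IsGrHomDeg 𝒩 ℳ u e)
    {φ : ∀ n, (F.X n).carrier →ₗ[R] (E.X n).carrier} (h : IsLift F E e u φ) (i : ℕ)
    (z : F.cocyc a i) :
    Tm F E a e u hu i (F.toH a i z) =
      E.toH a i ⟨φ i z, chain_cocyc F E a φ h.comm z.2⟩ := by
  rw [Tm_eq a hu h i, Hchain_toH]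

theorem Tm_congr {e e' : ι} {u u' : N →ₗ[R] M} (hu : GrLC.IsGrHomDeg 𝒩 ℳ u e)
    (hu' : GrLC.IsGrHomDeg 𝒩 ℳ u' e') (he : e = e') (huu : u = u') (i : ℕ) :
    Tm F E a e u hu i = Tm F E a e' u' hu' i := by
  subst he
  subst huu
  rfl

theorem isLift_id : IsLift E E 0 (LinearMap.id : M →ₗ[R] M) (fun _ => LinearMap.id) :=
  ⟨fun n k x hx => by rw [add_zero]; exact hx, fun _ => rfl, fun _ _ => rfl⟩

theorem isGrHomDeg_id : GrLC.IsGrHomDeg ℳ ℳ (LinearMap.id : M →ₗ[R] M) 0 :=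
  fun k x hx => by rw [add_zero]; exact hx

theorem Tm_id (i : ℕ) :
    Tm E E a 0 (LinearMap.id : M →ₗ[R] M) isGrHomDeg_id i = LinearMap.id := by
  apply LinearMap.ext
  intro y
  obtain ⟨z, rfl⟩ := Submodule.mkQ_surjective _ y
  show Tm E E a 0 LinearMap.id isGrHomDeg_id i (E.toH a i z) = E.toH a i z
  rw [Tm_toH a isGrHomDeg_id isLift_id i z]
  rfl

theorem isLift_comp {e e' : ι} {u : N →ₗ[R] M} {v : M →ₗ[R] P}
    {φ : ∀ n, (F.X n).carrier →ₗ[R] (E.X n).carrier}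
    {ψ : ∀ n, (E.X n).carrier →ₗ[R] (G.X n).carrier} (h : IsLift F E e u φ)
    (h' : IsLift E G e' v ψ) : IsLift F G (e + e') (v.comp u) (fun n => (ψ n).comp (φ n)) :=
  ⟨fun n k x hx => by
      have h1 := h'.deg n (k + e) _ (h.deg n k x hx)
      rw [add_assoc] at h1
      exact h1,
    fun x => by
      show ψ 0 (φ 0 (F.ε x)) = G.ε (v (u x))
      rw [h.aug, h'.aug],
    fun n x => by
      show ψ (n + 1) (φ (n + 1) (F.d n x)) = G.d n (ψ n (φ n x))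
      rw [h.comm, h'.comm]⟩

theorem isGrHomDeg_comp {e e' : ι} {u : N →ₗ[R] M} {v : M →ₗ[R] P}
    (hu : GrLC.IsGrHomDeg 𝒩 ℳ u e) (hv : GrLC.IsGrHomDeg ℳ 𝒬 v e') :
    GrLC.IsGrHomDeg 𝒩 𝒬 (v.comp u) (e + e') := fun k x hx => by
  have h1 := hv (k + e) _ (hu k x hx)
  rw [add_assoc] at h1
  exact h1

theorem Tm_comp {e e' : ι} {u : N →ₗ[R] M} {v : M →ₗ[R] P}
    (hu : GrLC.IsGrHomDeg 𝒩 ℳ u e) (hv : GrLC.IsGrHomDeg ℳ 𝒬 v e') (i : ℕ) (y : F.H a i) :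
    Tm F G a (e + e') (v.comp u) (isGrHomDeg_comp hu hv) i y =
      Tm E G a e' v hv i (Tm F E a e u hu i y) := by
  obtain ⟨φ, hφ⟩ := exists_isLift F E e u hu
  obtain ⟨ψ, hψ⟩ := exists_isLift E G e' v hv
  obtain ⟨z, rfl⟩ := Submodule.mkQ_surjective _ y
  show Tm F G a (e + e') (v.comp u) _ i (F.toH a i z) =
    Tm E G a e' v hv i (Tm F E a e u hu i (F.toH a i z))
  rw [Tm_toH a _ (isLift_comp hφ hψ) i z, Tm_toH a hu hφ i z, Tm_toH a hv hψ i]
  rfl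

theorem isLift_add {e : ι} {u u' : N →ₗ[R] M}
    {φ φ' : ∀ n, (F.X n).carrier →ₗ[R] (E.X n).carrier} (h : IsLift F E e u φ)
    (h' : IsLift F E e u' φ') : IsLift F E e (u + u') (fun n => φ n + φ' n) :=
  ⟨fun n k x hx => add_mem (h.deg n k x hx) (h'.deg n k x hx),
    fun x => by
      show φ 0 (F.ε x) + φ' 0 (F.ε x) = E.ε (u x + u' x)
      rw [h.aug, h'.aug, map_add],
    fun n x => by
      show φ (n + 1) (F.d n x) + φ' (n + 1) (F.d n x) = E.d n (φ n x + φ' n x)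
      rw [h.comm, h'.comm, map_add]⟩

theorem Tm_add {e : ι} {u u' : N →ₗ[R] M} (hu : GrLC.IsGrHomDeg 𝒩 ℳ u e)
    (hu' : GrLC.IsGrHomDeg 𝒩 ℳ u' e) (huu : GrLC.IsGrHomDeg 𝒩 ℳ (u + u') e) (i : ℕ)
    (y : F.H a i) :
    Tm F E a e (u + u') huu i y = Tm F E a e u hu i y + Tm F E a e u' hu' i y := by
  obtain ⟨φ, hφ⟩ := exists_isLift F E e u hu
  obtain ⟨φ', hφ'⟩ := exists_isLift F E e u' hu'
  obtain ⟨z, rfl⟩ := Submodule.mkQ_surjective _ y
  show Tm F E a e (u + u') huu i (F.toH a i z) =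
    Tm F E a e u hu i (F.toH a i z) + Tm F E a e u' hu' i (F.toH a i z)
  rw [Tm_toH a huu (isLift_add hφ hφ') i z, Tm_toH a hu hφ i z, Tm_toH a hu' hφ' i z,
    ← map_add]
  rfl

theorem isLift_zero (e : ι) : IsLift F E e (0 : N →ₗ[R] M) (fun _ => 0) :=
  ⟨fun n k x _ => zero_mem _, fun x => by
      show (0 : (E.X 0).carrier) = E.ε 0
      rw [map_zero],
    fun n x => by
      show (0 : (E.X (n + 1)).carrier) = E.d n 0
      rw [map_zero]⟩

theorem Tm_zero (e : ι) (h0 : GrLC.IsGrHomDeg 𝒩 ℳ (0 : N →ₗ[R] M) e) (i : ℕ) (y : F.H a i) :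
    Tm F E a e 0 h0 i y = 0 := by
  obtain ⟨z, rfl⟩ := Submodule.mkQ_surjective _ y
  show Tm F E a e 0 h0 i (F.toH a i z) = 0
  rw [Tm_toH a h0 (isLift_zero e) i z]
  exact (Submodule.Quotient.mk_eq_zero _).2 (zero_mem _)

theorem isLift_smul {e c : ι} {u : N →ₗ[R] M} {r : R} (hr : r ∈ 𝒜 c)
    {φ : ∀ n, (F.X n).carrier →ₗ[R] (E.X n).carrier} (h : IsLift F E e u φ) :
    IsLift F E (e + c) (r • u) (fun n => r • φ n) :=
  ⟨fun n k x hx => by
      have h1 := gsmul_mem 𝒜 (E.X n).gr hr (h.deg n k x hx)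
      have e1 : c + (k + e) = k + (e + c) := by abel
      rw [e1] at h1
      exact h1,
    fun x => by
      show r • φ 0 (F.ε x) = E.ε (r • u x)
      rw [h.aug, map_smul],
    fun n x => by
      show r • φ (n + 1) (F.d n x) = E.d n (r • φ n x)
      rw [h.comm, map_smul]⟩

theorem isGrHomDeg_smul {e c : ι} {u : N →ₗ[R] M} {r : R} (hr : r ∈ 𝒜 c)
    (hu : GrLC.IsGrHomDeg 𝒩 ℳ u e) : GrLC.IsGrHomDeg 𝒩 ℳ (r • u) (e + c) := fun k x hx => by
  have h1 := gsmul_mem 𝒜 ℳ hr (hu k x hx)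
  have e1 : c + (k + e) = k + (e + c) := by abel
  rw [e1] at h1
  exact h1

theorem Tm_smul {e c : ι} {u : N →ₗ[R] M} {r : R} (hr : r ∈ 𝒜 c)
    (hu : GrLC.IsGrHomDeg 𝒩 ℳ u e) (i : ℕ) (y : F.H a i) :
    Tm F E a (e + c) (r • u) (isGrHomDeg_smul hr hu) i y = r • Tm F E a e u hu i y := by
  obtain ⟨φ, hφ⟩ := exists_isLift F E e u hu
  obtain ⟨z, rfl⟩ := Submodule.mkQ_surjective _ y
  show Tm F E a (e + c) (r • u) _ i (F.toH a i z) = r • Tm F E a e u hu i (F.toH a i z)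
  rw [Tm_toH a _ (isLift_smul hr hφ) i z, Tm_toH a hu hφ i z, ← map_smul]
  rfl

/-- `Tm` of a homogeneous map of degree `e` shifts the degrees of the pieces by `e` -/
theorem Tm_mem_Hgr {e : ι} {u : N →ₗ[R] M} (hu : GrLC.IsGrHomDeg 𝒩 ℳ u e) (i : ℕ) {j : ι}
    {y : F.H a i} (hy : y ∈ F.Hgr a i j) : Tm F E a e u hu i y ∈ E.Hgr a i (j + e) := by
  obtain ⟨φ, hφ⟩ := exists_isLift F E e u hu
  obtain ⟨z, hzj, rfl⟩ := hy
  rw [Tm_toH a hu hφ i z]
  exact ⟨⟨φ i z, chain_cocyc F E a φ hφ.comm z.2⟩, hφ.deg i j _ hzj, rfl⟩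

end Tm

end Groth.Agent.H98.GrCat
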