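import Groth.Agent.H98.GrArt
import Groth.Agent.H58.LCDepth
import Groth.Agent.H29.LocQuot

/-!
# Helper library (helper98): vanishing of local cohomology with support in the irrelevant ideal
versus vanishing of the pieces of large degree (homogeneous = standard graded rings).
-/

set_option autoImplicit false
universe u

open DirectSum

namespace Groth.Agent.H98.GrCat

section FiniteDepth

variable {R : Type u} [CommRing R] [IsNoetherianRing R]

/-- the `I`-depth of a finite module with `IN ≠ N` over a Noetherian ring is finite -/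
theorem exists_nat_idealDepth (I : Ideal R) (N : Type u) [AddCommGroup N] [Module R N]
    [Module.Finite R N] (hIN : I • (⊤ : Submodule R N) ≠ ⊤) :
    ∃ n : ℕ, LocCoh.idealDepth I N = n := by
  haveI : Nontrivial (N ⧸ I • (⊤ : Submodule R N)) :=
    Submodule.Quotient.nontrivial_iff.2 hIN
  obtain ⟨p, hp⟩ := Module.nonempty_support_of_nontrivial (R := R)
    (M := N ⧸ I • (⊤ : Submodule R N))
  rw [Module.support_quotient] at hp
  obtain ⟨hpN, hpI⟩ := hp
  haveI : Nontrivial (LocalizedModule p.asIdeal.primeCompl N) := Module.mem_support_iff.1 hpN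
  have hIp : I ≤ p.asIdeal := (PrimeSpectrum.mem_zeroLocus _ _).1 hpI
  obtain ⟨k, hk⟩ := Groth.Agent.H29.CM.exists_nat_depth
    (A := Localization.AtPrime p.asIdeal) (M := LocalizedModule p.asIdeal.primeCompl N)
  have hle := Groth.Agent.H29.LocQuot.idealDepth_le_depth_atPrime_of_le (M := N) I p hIp
  rw [hk] at hle
  have hne : LocCoh.idealDepth I N ≠ ⊤ := by
    intro h
    rw [h] at hle
    exact absurd hle (by simp)
  obtain ⟨n, hn⟩ := ENat.ne_top_iff_exists.1 hne
  exact ⟨n, hn.symm⟩

end FiniteDepth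

section Van

variable {R : Type u} [CommRing R] (𝒜 : ℤ → AddSubgroup R) [GradedRing 𝒜]
variable {M : Type u} [AddCommGroup M] [Module R M] (ℳ : ℤ → AddSubgroup M)
  [DirectSum.Decomposition ℳ] [SetLike.GradedSMul 𝒜 ℳ]

/-- elements of the `t`-th power of an ideal generated in degree one have no components of
degree `< t` -/
theorem pow_comp_eq_zero (hpos : ∀ n : ℤ, n < 0 → 𝒜 n = ⊥) (a : HomogeneousIdeal 𝒜)
    (hhom : a.toIdeal = Ideal.span ((𝒜 1 : AddSubgroup R) : Set R)) :
    ∀ (t : ℕ) (r : R), r ∈ a.toIdeal ^ t → ∀ j : ℤ, j < t →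
      ((decompose 𝒜 r j : 𝒜 j) : R) = 0 := by
  intro t
  induction t with
  | zero =>
    intro r _ j hj
    exact eq_zero_of_mem_of_eq_bot (hpos j (by exact_mod_cast hj)) (SetLike.coe_mem _)
  | succ t ih =>
    intro r hr j hj
    have hr' : r ∈ a.toIdeal ^ t * Ideal.span ((𝒜 1 : AddSubgroup R) : Set R) := by
      rw [← hhom, ← pow_succ]
      exact hr
    have hP : ∀ c ∈ Ideal.span ((𝒜 1 : AddSubgroup R) : Set R), ∀ b ∈ a.toIdeal ^ t,
        ((decompose 𝒜 (b * c) j : 𝒜 j) : R) = 0 := by
      intro c hc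
      induction hc using Submodule.span_induction with
      | mem y hy =>
        intro b hb
        have h3 := comp_smul_hom 𝒜 𝒜 (show y ∈ 𝒜 1 from hy) b j
        rw [smul_eq_mul] at h3
        rw [h3, ih b hb (j - 1) (by push_cast at hj; omega), zero_smul]
      | zero =>
        intro b _
        rw [mul_zero, decompose_zero, DirectSum.zero_apply, ZeroMemClass.coe_zero]
      | add c c' _ _ h h' =>
        intro b hb
        rw [mul_add, decompose_add, DirectSum.add_apply, AddMemClass.coe_add, h b hb, h' b hb,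
          add_zero]
      | smul s c _ h =>
        intro b hb
        rw [smul_eq_mul, ← mul_assoc]
        exact h (b * s) (Ideal.mul_mem_right s _ hb)
    refine Submodule.mul_induction_on hr' ?_ ?_
    · intro b hb c hc
      exact hP c hc b hb
    · intro x y hx hy
      rw [decompose_add, DirectSum.add_apply, AddMemClass.coe_add, hx, hy, add_zero]

/-- a graded module vanishing in large degrees is torsion for an ideal generated in degree one -/
theorem mem_torsionSub_of_eventually_bot (hpos : ∀ n : ℤ, n < 0 → 𝒜 n = ⊥)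
    (a : HomogeneousIdeal 𝒜) (hhom : a.toIdeal = Ideal.span ((𝒜 1 : AddSubgroup R) : Set R))
    (n₀ : ℤ) (hvan : ∀ n, n₀ ≤ n → ℳ n = ⊥) (z : M) : z ∈ DRing.torsionSub a.toIdeal M := by
  classical
  rw [← DirectSum.sum_support_decompose ℳ z]
  refine Submodule.sum_mem _ fun d _ => ?_
  refine ⟨(n₀ - d).toNat, fun r hr => ?_⟩
  by_contra hne
  obtain ⟨e, he⟩ := exists_comp_ne_zero ℳ hne
  apply he
  rw [comp_smul_hom 𝒜 ℳ (SetLike.coe_mem _) r e]
  by_cases hlt : e - d < ((n₀ - d).toNat : ℤ)
  · rw [pow_comp_eq_zero 𝒜 hpos a hhom _ r hr (e - d) hlt, zero_smul]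
  · have hge : n₀ ≤ e := by
      have h5 := Int.self_le_toNat (n₀ - d)
      omega
    have hmem := gsmul_mem 𝒜 ℳ (SetLike.coe_mem (decompose 𝒜 r (e - d)))
      (SetLike.coe_mem (decompose ℳ z d))
    rw [sub_add_cancel] at hmem
    exact eq_zero_of_mem_of_eq_bot (hvan e hge) hmem

/-- a finitely generated graded module over a positively graded ring vanishes in low degrees -/
theorem exists_lower_bound (hpos : ∀ n : ℤ, n < 0 → 𝒜 n = ⊥) [Module.Finite R M] :
    ∃ D₀ : ℤ, ∀ n, n < D₀ → ℳ n = ⊥ := by
  classical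
  obtain ⟨s, hs⟩ := (Module.Finite.fg_top : (⊤ : Submodule R M).FG)
  obtain ⟨D₀, hD₀⟩ : ∃ D₀ : ℤ, ∀ i ∈ s.biUnion fun g => (decompose ℳ g).support, D₀ ≤ i := by
    obtain ⟨D, hD⟩ := Finset.exists_le
      ((s.biUnion fun g => (decompose ℳ g).support).image (fun i : ℤ => -i))
    refine ⟨-D, fun i hi => ?_⟩
    have h5 := hD (-i) (Finset.mem_image.2 ⟨i, hi, rfl⟩)
    omega
  have key : ∀ z : M, ∀ n, n < D₀ → ((decompose ℳ z n : ℳ n) : M) = 0 := by
    intro z
    have hz : z ∈ Submodule.span R (s : Set M) := by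
      rw [hs]
      trivial
    induction hz using Submodule.span_induction with
    | mem g hg =>
      intro n hn
      have h5 : n ∉ (decompose ℳ g).support := fun h =>
        absurd (hD₀ n (Finset.mem_biUnion.2 ⟨g, hg, h⟩)) (not_le.2 hn)
      rw [DFinsupp.notMem_support_iff.1 h5]
      rfl
    | zero =>
      intro n _
      rw [decompose_zero, DirectSum.zero_apply, ZeroMemClass.coe_zero]
    | add y z _ _ hy hz =>
      intro n hn
      rw [decompose_add, DirectSum.add_apply, AddMemClass.coe_add, hy n hn, hz n hn, add_zero]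
    | smul r z _ hz =>
      intro n hn
      induction r using DirectSum.Decomposition.inductionOn 𝒜 with
      | zero => rw [zero_smul, decompose_zero, DirectSum.zero_apply, ZeroMemClass.coe_zero]
      | @homogeneous j r =>
        rw [comp_smul 𝒜 ℳ r.2 n z]
        by_cases hj : j < 0
        · rw [eq_zero_of_mem_of_eq_bot (hpos j hj) r.2, zero_smul]
        · rw [hz (n - j) (by omega), smul_zero]
      | add r r' hr hr' =>
        rw [add_smul, decompose_add, DirectSum.add_apply, AddMemClass.coe_add, hr, hr', add_zero]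
  refine ⟨D₀, fun n hn => ?_⟩
  rw [eq_bot_iff]
  intro z hz
  rw [AddSubgroup.mem_bot, ← decompose_of_mem_same ℳ hz]
  exact key z n hn

/-- graded Nakayama, for the irrelevant ideal of a positively graded ring -/
theorem eq_top_of_smul_top_sup_eq_top (hpos : ∀ n : ℤ, n < 0 → 𝒜 n = ⊥) (a : HomogeneousIdeal 𝒜)
    (ha : a.toIdeal = Ideal.span (⋃ n ∈ Set.Ioi (0 : ℤ), (𝒜 n : Set R))) [Module.Finite R M]
    (T : Submodule R M) (hT : T.IsHomogeneous ℳ)
    (h : a.toIdeal • (⊤ : Submodule R M) ⊔ T = ⊤) : T = ⊤ := by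
  classical
  obtain ⟨D₀, hD₀⟩ := exists_lower_bound 𝒜 ℳ hpos
  have key : ∀ k : ℕ, ∀ n : ℤ, n < D₀ + k → ∀ z ∈ ℳ n, z ∈ T := by
    intro k
    induction k with
    | zero =>
      intro n hn z hz
      rw [Nat.cast_zero, add_zero] at hn
      rw [eq_zero_of_mem_of_eq_bot (hD₀ n hn) hz]
      exact zero_mem _
    | succ k ih =>
      intro n hn z hz
      have hr' : ∀ r ∈ Ideal.span (⋃ j ∈ Set.Ioi (0 : ℤ), (𝒜 j : Set R)), ∀ w : M,
          ((decompose ℳ (r • w) n : ℳ n) : M) ∈ T := by
        intro r hr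
        induction hr using Submodule.span_induction with
        | mem y hy =>
          intro w
          obtain ⟨j, hj, hyj⟩ := Set.mem_iUnion₂.1 hy
          rw [comp_smul 𝒜 ℳ (show y ∈ 𝒜 j from hyj) n w]
          refine T.smul_mem _ (ih (n - j) ?_ _ (SetLike.coe_mem _))
          have hj' : (0 : ℤ) < j := hj
          push_cast at hn
          omega
        | zero =>
          intro w
          rw [zero_smul, decompose_zero, DirectSum.zero_apply, ZeroMemClass.coe_zero]
          exact zero_mem _
        | add r r' _ _ h h' =>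
          intro w
          rw [add_smul, decompose_add, DirectSum.add_apply, AddMemClass.coe_add]
          exact add_mem (h w) (h' w)
        | smul s r _ h =>
          intro w
          rw [smul_eq_mul, mul_comm, mul_smul]
          exact h (s • w)
      have hu : ∀ u ∈ a.toIdeal • (⊤ : Submodule R M),
          ((decompose ℳ u n : ℳ n) : M) ∈ T := by
        intro u hu
        refine Submodule.smul_induction_on hu ?_ ?_
        · intro r hr w _
          rw [ha] at hr
          exact hr' r hr w
        · intro u u' h h'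
          rw [decompose_add, DirectSum.add_apply, AddMemClass.coe_add]
          exact add_mem h h'
      have hz' : z ∈ a.toIdeal • (⊤ : Submodule R M) ⊔ T := by
        rw [h]
        trivial
      obtain ⟨u, hu', v, hv, rfl⟩ := Submodule.mem_sup.1 hz'
      rw [← decompose_of_mem_same ℳ hz, decompose_add, DirectSum.add_apply, AddMemClass.coe_add]
      exact add_mem (hu u hu') (hT n hv)
  rw [eq_top_iff]
  intro z _
  rw [← DirectSum.sum_support_decompose ℳ z]
  refine Submodule.sum_mem _ fun d _ => ?_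
  refine key (d - D₀ + 1).toNat d ?_ _ (SetLike.coe_mem _)
  have h5 := Int.self_le_toNat (d - D₀ + 1)
  omega

/-- in a homogeneous (standard graded) ring, `R_j ⊆ (R_+)^t` for `j ≥ t` -/
theorem mem_pow_of_mem_piece (a : HomogeneousIdeal 𝒜)
    (ha : a.toIdeal = Ideal.span (⋃ n ∈ Set.Ioi (0 : ℤ), (𝒜 n : Set R)))
    (hhom : a.toIdeal = Ideal.span ((𝒜 1 : AddSubgroup R) : Set R)) :
    ∀ (t : ℕ) (j : ℤ), (t : ℤ) ≤ j → ∀ y ∈ 𝒜 j, y ∈ a.toIdeal ^ t := by
  intro t
  induction t with
  | zero =>
    intro j _ y _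
    rw [pow_zero, Ideal.one_eq_top]
    trivial
  | succ t ih =>
    intro j hj y hy
    have hjpos : (0 : ℤ) < j := by
      push_cast at hj
      omega
    have hya : y ∈ a.toIdeal := by
      rw [ha]
      exact Ideal.subset_span (Set.mem_biUnion (Set.mem_Ioi.2 hjpos) hy)
    have hya' : y ∈ Submodule.span R ((𝒜 1 : AddSubgroup R) : Set R) := by
      rw [hhom] at hya
      exact hya
    obtain ⟨c, f, g, hsum⟩ := Submodule.mem_span_set'.1 hya'
    have h3 := comp_sum_smul 𝒜 𝒜 f (fun l => (g l : R)) (fun _ => 1) (fun l => (g l).2) j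
    rw [hsum, decompose_of_mem_same 𝒜 hy] at h3
    rw [h3, pow_succ]
    refine Ideal.sum_mem _ fun l _ => ?_
    rw [smul_eq_mul]
    refine Ideal.mul_mem_mul (ih (j - 1) (by push_cast at hj; omega) _ (SetLike.coe_mem _)) ?_
    rw [hhom]
    exact Ideal.subset_span (g l).2

/-- a finitely generated graded module over a homogeneous ring which is torsion for the irrelevant
ideal vanishes in large degrees -/
theorem eventually_bot_of_torsion [IsNoetherianRing R] (a : HomogeneousIdeal 𝒜)
    (ha : a.toIdeal = Ideal.span (⋃ n ∈ Set.Ioi (0 : ℤ), (𝒜 n : Set R)))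
    (hhom : a.toIdeal = Ideal.span ((𝒜 1 : AddSubgroup R) : Set R)) [Module.Finite R M]
    (htor : ∀ z : M, z ∈ DRing.torsionSub a.toIdeal M) : ∃ n₀ : ℤ, ∀ n, n₀ ≤ n → ℳ n = ⊥ := by
  classical
  obtain ⟨t, ht⟩ := LCArt.exists_pow_kill_torsionSub a.toIdeal M
  obtain ⟨s, hs⟩ := (Module.Finite.fg_top : (⊤ : Submodule R M).FG)
  obtain ⟨D₁, hD₁⟩ := Finset.exists_le (s.biUnion fun g => (decompose ℳ g).support)
  have key : ∀ z : M, ∀ (r : R) (n : ℤ), D₁ + t ≤ n →
      ((decompose ℳ (r • z) n : ℳ n) : M) = 0 := by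
    intro z
    have hz : z ∈ Submodule.span R (s : Set M) := by
      rw [hs]
      trivial
    induction hz using Submodule.span_induction with
    | mem g hg =>
      intro r n hn
      have e : r • g = ∑ d ∈ (decompose ℳ g).support, r • ((decompose ℳ g d : ℳ d) : M) := by
        rw [← Finset.smul_sum, DirectSum.sum_support_decompose ℳ g]
      rw [e, ← compHom_apply, map_sum]
      refine Finset.sum_eq_zero fun d hd => ?_
      rw [compHom_apply, comp_smul_hom 𝒜 ℳ (SetLike.coe_mem _) r n]
      have hdD : d ≤ D₁ := hD₁ d (Finset.mem_biUnion.2 ⟨g, hg, hd⟩)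
      exact ht _ (mem_pow_of_mem_piece 𝒜 a ha hhom t (n - d) (by omega) _ (SetLike.coe_mem _)) _
        (htor _)
    | zero =>
      intro r n _
      rw [smul_zero, decompose_zero, DirectSum.zero_apply, ZeroMemClass.coe_zero]
    | add y z _ _ hy hz =>
      intro r n hn
      rw [smul_add, decompose_add, DirectSum.add_apply, AddMemClass.coe_add, hy r n hn,
        hz r n hn, add_zero]
    | smul c z _ hz =>
      intro r n hn
      rw [smul_smul]
      exact hz (r * c) n hn
  refine ⟨D₁ + t, fun n hn => ?_⟩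
  rw [eq_bot_iff]
  intro z hz
  rw [AddSubgroup.mem_bot, ← decompose_of_mem_same ℳ hz]
  have h1 := key z 1 n hn
  rwa [one_smul] at h1

end Van

end Groth.Agent.H98.GrCat
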