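import Groth.Agent.H98.GrLiftEx
import Groth.Agent.H98.GrBridge
import Groth.Agent.H98.GrRad
import Groth.Agent.H98.GrTor
import Groth.Agent.H58.LCIndep
import Groth.Agent.H17.LCRad

/-!
# Helper library (helper98): Veronese submodules of `ℤ`-graded modules, as graded modules over
the Veronese subring (presented abstractly by a ring homomorphism `φ : R' → R` carrying the
degree `j` piece into the degree `j * q` piece).
-/

set_option autoImplicit false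
universe u

open DirectSum

namespace Groth.Agent.H98.GrVer

open Groth.Agent.H98.GrCat

variable {R : Type u} [CommRing R] (𝒜 : ℤ → AddSubgroup R) [GradedRing 𝒜]
variable {R' : Type u} [CommRing R'] (𝒜' : ℤ → AddSubgroup R') [GradedRing 𝒜']

section Pi

variable {X : Type u} [AddCommGroup X] (𝒳 : ℤ → AddSubgroup X) [DirectSum.Decomposition 𝒳]
  (q : ℕ)

open Classical in
/-- the projection onto the components of degree divisible by `q` -/
noncomputable def verPi : X →+ X :=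
  (DirectSum.toAddMonoid (fun i : ℤ => if (q : ℤ) ∣ i then (𝒳 i).subtype else 0)).comp
    (DirectSum.decomposeAddEquiv 𝒳).toAddMonoidHom

open Classical in
theorem verPi_of_mem {i : ℤ} {x : X} (hx : x ∈ 𝒳 i) :
    verPi 𝒳 q x = if (q : ℤ) ∣ i then x else 0 := by
  show (DirectSum.toAddMonoid (fun i : ℤ => if (q : ℤ) ∣ i then (𝒳 i).subtype else 0))
    (decompose 𝒳 x) = _
  rw [decompose_of_mem 𝒳 hx, DirectSum.toAddMonoid_of]
  by_cases h : (q : ℤ) ∣ i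
  · rw [if_pos h, if_pos h]
    rfl
  · rw [if_neg h, if_neg h]
    rfl

theorem verPi_of_dvd {i : ℤ} {x : X} (hx : x ∈ 𝒳 i) (h : (q : ℤ) ∣ i) : verPi 𝒳 q x = x := by
  rw [verPi_of_mem 𝒳 q hx, if_pos h]

theorem verPi_of_not_dvd {i : ℤ} {x : X} (hx : x ∈ 𝒳 i) (h : ¬ (q : ℤ) ∣ i) :
    verPi 𝒳 q x = 0 := by
  rw [verPi_of_mem 𝒳 q hx, if_neg h]

theorem verPi_mem_gr {i : ℤ} {x : X} (hx : x ∈ 𝒳 i) : verPi 𝒳 q x ∈ 𝒳 i := by
  by_cases h : (q : ℤ) ∣ i
  · rw [verPi_of_dvd 𝒳 q hx h]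
    exact hx
  · rw [verPi_of_not_dvd 𝒳 q hx h]
    exact zero_mem _

theorem verPi_idem (x : X) : verPi 𝒳 q (verPi 𝒳 q x) = verPi 𝒳 q x := by
  induction x using DirectSum.Decomposition.inductionOn 𝒳 with
  | zero => rw [map_zero, map_zero]
  | @homogeneous i m =>
    by_cases h : (q : ℤ) ∣ i
    · rw [verPi_of_dvd 𝒳 q m.2 h, verPi_of_dvd 𝒳 q m.2 h]
    · rw [verPi_of_not_dvd 𝒳 q m.2 h, map_zero]
  | add m m' hm hm' => rw [map_add, map_add, hm, hm']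

theorem proj_verPi (x : X) (i : ℤ) :
    ((decompose 𝒳 (verPi 𝒳 q x) i : 𝒳 i) : X) =
      verPi 𝒳 q ((decompose 𝒳 x i : 𝒳 i) : X) := by
  induction x using DirectSum.Decomposition.inductionOn 𝒳 with
  | zero => simp
  | @homogeneous k m =>
    by_cases hik : k = i
    · subst hik
      rw [decompose_of_mem_same 𝒳 m.2, decompose_of_mem_same 𝒳 (verPi_mem_gr 𝒳 q m.2)]
    · rw [decompose_of_mem_ne 𝒳 m.2 hik, decompose_of_mem_ne 𝒳 (verPi_mem_gr 𝒳 q m.2) hik,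
        map_zero]
  | add m m' hm hm' =>
    rw [map_add, decompose_add, decompose_add, DirectSum.add_apply, DirectSum.add_apply,
      AddMemClass.coe_add, AddMemClass.coe_add, map_add, hm, hm']

/-- the Veronese subgroup: the elements all of whose components have degree divisible by `q` -/
def verSub : AddSubgroup X where
  carrier := {x | verPi 𝒳 q x = x}
  zero_mem' := map_zero _
  add_mem' := by
    intro x y hx hy
    show verPi 𝒳 q (x + y) = x + y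
    rw [map_add, hx, hy]
  neg_mem' := by
    intro x hx
    show verPi 𝒳 q (-x) = -x
    rw [map_neg, hx]

theorem mem_verSub {x : X} : x ∈ verSub 𝒳 q ↔ verPi 𝒳 q x = x := Iff.rfl

theorem verPi_mem (x : X) : verPi 𝒳 q x ∈ verSub 𝒳 q := verPi_idem 𝒳 q x

theorem mem_verSub_of_mem {j : ℤ} {x : X} (hx : x ∈ 𝒳 (j * q)) : x ∈ verSub 𝒳 q :=
  verPi_of_dvd 𝒳 q hx (Dvd.intro_left j rfl)

theorem proj_mem_verSub {x : X} (hx : x ∈ verSub 𝒳 q) (i : ℤ) :
    ((decompose 𝒳 x i : 𝒳 i) : X) ∈ verSub 𝒳 q := by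
  rw [mem_verSub, ← proj_verPi, (mem_verSub 𝒳 q).1 hx]

theorem proj_eq_zero_of_mem_verSub {x : X} (hx : x ∈ verSub 𝒳 q) {i : ℤ} (hi : ¬ (q : ℤ) ∣ i) :
    ((decompose 𝒳 x i : 𝒳 i) : X) = 0 := by
  have h1 := proj_verPi 𝒳 q x i
  rw [(mem_verSub 𝒳 q).1 hx, verPi_of_not_dvd 𝒳 q (decompose 𝒳 x i).2 hi] at h1
  exact h1

/-- an additive map carrying the pieces of degree `j` onto those of degree `j * q` has the
Veronese subgroup in its range -/
theorem mem_range_of_mem_verSub (hq : 0 < q) {Y : Type u} [AddCommGroup Y]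
    (𝒴 : ℤ → AddSubgroup Y) (g : Y →+ X) (hg : ∀ j : ℤ, (𝒴 j).map g = 𝒳 (j * q))
    {x : X} (hx : x ∈ verSub 𝒳 q) : x ∈ g.range := by
  classical
  rw [← sum_support_decompose 𝒳 x]
  refine AddSubgroup.sum_mem _ fun i _ => ?_
  by_cases hi : (q : ℤ) ∣ i
  · obtain ⟨j, rfl⟩ := hi
    have h1 : ((decompose 𝒳 x ((q : ℤ) * j) : 𝒳 ((q : ℤ) * j)) : X) ∈ 𝒳 (j * q) := by
      rw [mul_comm j]
      exact (decompose 𝒳 x _).2
    rw [← hg j] at h1
    obtain ⟨y, -, hy⟩ := h1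
    exact ⟨y, hy⟩
  · rw [proj_eq_zero_of_mem_verSub 𝒳 q hx hi]
    exact zero_mem _

end Pi

section GrHom

variable {X : Type u} [AddCommGroup X] [Module R X] (𝒳 : ℤ → AddSubgroup X)
  [DirectSum.Decomposition 𝒳]
  {Y : Type u} [AddCommGroup Y] [Module R Y] (𝒴 : ℤ → AddSubgroup Y)
  [DirectSum.Decomposition 𝒴] (q : ℕ)

theorem verPi_grHom (f : X →ₗ[R] Y) (hf : GrLC.IsGrHom 𝒳 𝒴 f) (x : X) :
    verPi 𝒴 q (f x) = f (verPi 𝒳 q x) := by
  induction x using DirectSum.Decomposition.inductionOn 𝒳 with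
  | zero => simp
  | @homogeneous i m =>
    by_cases h : (q : ℤ) ∣ i
    · rw [verPi_of_dvd 𝒳 q m.2 h, verPi_of_dvd 𝒴 q (hf i _ m.2) h]
    · rw [verPi_of_not_dvd 𝒳 q m.2 h, verPi_of_not_dvd 𝒴 q (hf i _ m.2) h, map_zero]
  | add m m' hm hm' => rw [map_add, map_add, map_add, map_add, hm, hm']

end GrHom

section Smul

variable (φ : R' →+* R) (q : ℕ) (hφ : ∀ (j : ℤ) (r : R'), r ∈ 𝒜' j → φ r ∈ 𝒜 (j * q))
variable {X : Type u} [AddCommGroup X] [Module R X] (𝒳 : ℤ → AddSubgroup X)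
  [DirectSum.Decomposition 𝒳] [SetLike.GradedSMul 𝒜 𝒳]

include hφ in
/-- the projection is linear over the Veronese subring -/
theorem verPi_smul (r : R') (x : X) : verPi 𝒳 q (φ r • x) = φ r • verPi 𝒳 q x := by
  induction r using DirectSum.Decomposition.inductionOn 𝒜' with
  | zero => rw [map_zero, zero_smul, zero_smul, map_zero]
  | @homogeneous j r =>
    induction x using DirectSum.Decomposition.inductionOn 𝒳 with
    | zero => rw [smul_zero, map_zero, smul_zero]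
    | @homogeneous i m =>
      have h1 : φ (r : R') • (m : X) ∈ 𝒳 (j * q + i) := gsmul_mem 𝒜 𝒳 (hφ j r r.2) m.2
      have h2 : (q : ℤ) ∣ j * q + i ↔ (q : ℤ) ∣ i := dvd_add_right (Dvd.intro_left j rfl)
      by_cases h : (q : ℤ) ∣ i
      · rw [verPi_of_dvd 𝒳 q h1 (h2.2 h), verPi_of_dvd 𝒳 q m.2 h]
      · rw [verPi_of_not_dvd 𝒳 q h1 (fun h' => h (h2.1 h')), verPi_of_not_dvd 𝒳 q m.2 h,
          smul_zero]
    | add m m' hm hm' => rw [smul_add, map_add, map_add, smul_add, hm, hm']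
  | add s s' hs hs' => rw [map_add, add_smul, add_smul, map_add, hs, hs']

include hφ in
theorem smul_mem_verSub (r : R') {x : X} (hx : x ∈ verSub 𝒳 q) : φ r • x ∈ verSub 𝒳 q := by
  rw [mem_verSub, verPi_smul 𝒜 𝒜' φ q hφ 𝒳, (mem_verSub 𝒳 q).1 hx]

/-- the module structure of the Veronese subgroup over the Veronese subring -/
@[reducible] def verModule : Module R' ↥(verSub 𝒳 q) where
  smul r v := ⟨φ r • (v : X), smul_mem_verSub 𝒜 𝒜' φ q hφ 𝒳 r v.2⟩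
  one_smul v := Subtype.ext (by
    show φ 1 • (v : X) = v
    rw [map_one, one_smul])
  mul_smul r s v := Subtype.ext (by
    show φ (r * s) • (v : X) = φ r • (φ s • (v : X))
    rw [map_mul, mul_smul])
  smul_zero r := Subtype.ext (by
    show φ r • ((0 : ↥(verSub 𝒳 q)) : X) = ((0 : ↥(verSub 𝒳 q)) : X)
    rw [ZeroMemClass.coe_zero, smul_zero])
  smul_add r v w := Subtype.ext (by
    show φ r • ((v + w : ↥(verSub 𝒳 q)) : X) = φ r • (v : X) + φ r • (w : X)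
    rw [AddMemClass.coe_add, smul_add])
  add_smul r s v := Subtype.ext (by
    show φ (r + s) • (v : X) = φ r • (v : X) + φ s • (v : X)
    rw [map_add, add_smul])
  zero_smul v := Subtype.ext (by
    show φ 0 • (v : X) = ((0 : ↥(verSub 𝒳 q)) : X)
    rw [map_zero, zero_smul, ZeroMemClass.coe_zero])

end Smul

section VerG

variable (φ : R' →+* R) (q : ℕ) (hφ : ∀ (j : ℤ) (r : R'), r ∈ 𝒜' j → φ r ∈ 𝒜 (j * q))
variable {X : Type u} [AddCommGroup X] [Module R X] (𝒳 : ℤ → AddSubgroup X)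
  [DirectSum.Decomposition 𝒳] [SetLike.GradedSMul 𝒜 𝒳]

/-- the pieces of the Veronese subgroup -/
def verGr (j : ℤ) : AddSubgroup ↥(verSub 𝒳 q) :=
  (𝒳 (j * q)).comap (verSub 𝒳 q).subtype

omit [Module R X] [SetLike.GradedSMul 𝒜 𝒳] in
theorem mem_verGr {j : ℤ} {y : ↥(verSub 𝒳 q)} : y ∈ verGr q 𝒳 j ↔ (y : X) ∈ 𝒳 (j * q) :=
  Iff.rfl

/-- components inside the Veronese subgroup -/
def verComp (j : ℤ) : ↥(verSub 𝒳 q) →+ ↥(verSub 𝒳 q) where
  toFun y := ⟨((decompose 𝒳 (y : X) (j * q) : 𝒳 (j * q)) : X),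
    mem_verSub_of_mem 𝒳 q (decompose 𝒳 (y : X) (j * q)).2⟩
  map_zero' := Subtype.ext (by
    show ((decompose 𝒳 ((0 : ↥(verSub 𝒳 q)) : X) (j * q) : 𝒳 (j * q)) : X) =
      ((0 : ↥(verSub 𝒳 q)) : X)
    rw [ZeroMemClass.coe_zero, decompose_zero, DirectSum.zero_apply, ZeroMemClass.coe_zero])
  map_add' x y := Subtype.ext (by
    show ((decompose 𝒳 ((x + y : ↥(verSub 𝒳 q)) : X) (j * q) : 𝒳 (j * q)) : X) = _
    rw [AddMemClass.coe_add, decompose_add, DirectSum.add_apply, AddMemClass.coe_add]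
    rfl)

omit [Module R X] [SetLike.GradedSMul 𝒜 𝒳] in
theorem verComp_coe (j : ℤ) (y : ↥(verSub 𝒳 q)) :
    ((verComp q 𝒳 j y : ↥(verSub 𝒳 q)) : X) = ((decompose 𝒳 (y : X) (j * q) : 𝒳 (j * q)) : X) :=
  rfl

open Classical in
/-- the decomposition of the Veronese subgroup -/
noncomputable def verDec (hq : 0 < q) : DirectSum.Decomposition (verGr q 𝒳) :=
  decompOfProj (verGr q 𝒳) (verComp q 𝒳)
    (fun y => (decompose 𝒳 (y : X)).support.image (fun i => i / (q : ℤ)))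
    (fun j y => (mem_verGr q 𝒳).2 (decompose 𝒳 (y : X) (j * q)).2)
    (fun y j hj => by
      by_contra hne
      apply hj
      rw [Finset.mem_image]
      refine ⟨j * q, ?_, Int.mul_ediv_cancel j (by exact_mod_cast hq.ne')⟩
      rw [DFinsupp.mem_support_iff]
      intro h0
      apply hne
      apply Subtype.ext
      rw [verComp_coe, h0]
      rfl)
    (fun y => Subtype.ext (by
      rw [AddSubmonoidClass.coe_finsetSum]
      have hdvd : ∀ i ∈ (decompose 𝒳 (y : X)).support, (q : ℤ) ∣ i := by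
        intro i hi
        by_contra h
        exact (DFinsupp.mem_support_iff.1 hi)
          (Subtype.ext (proj_eq_zero_of_mem_verSub 𝒳 q y.2 h))
      rw [Finset.sum_image]
      · conv_rhs => rw [← sum_support_decompose 𝒳 (y : X)]
        refine Finset.sum_congr rfl fun i hi => ?_
        rw [verComp_coe, Int.ediv_mul_cancel (hdvd i hi)]
      · intro i hi i' hi' h
        have h' : i / (q : ℤ) = i' / (q : ℤ) := h
        calc i = i / (q : ℤ) * q := (Int.ediv_mul_cancel (hdvd i hi)).symm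
          _ = i' / (q : ℤ) * q := by rw [h']
          _ = i' := Int.ediv_mul_cancel (hdvd i' hi')))
    (fun j y hy => Subtype.ext (by
      rw [verComp_coe]
      exact decompose_of_mem_same 𝒳 ((mem_verGr q 𝒳).1 hy)))
    (fun i j y hij hy => Subtype.ext (by
      rw [verComp_coe, decompose_of_mem_ne 𝒳 ((mem_verGr q 𝒳).1 hy)
        (fun h => hij (mul_right_cancel₀ (by exact_mod_cast hq.ne') h).symm)]
      rfl))

/-- the Veronese submodule as a graded module over the Veronese subring -/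
noncomputable def verG (hq : 0 < q) : GrLC.GMod.{u} 𝒜' :=
  letI : Module R' ↥(verSub 𝒳 q) := verModule 𝒜 𝒜' φ q hφ 𝒳
  { carrier := ↥(verSub 𝒳 q)
    gr := verGr q 𝒳
    dec := verDec q 𝒳 hq
    gsmul := ⟨by
      intro i j r y hr hy
      rw [vadd_eq_add]
      show φ r • (y : X) ∈ 𝒳 ((i + j) * q)
      rw [add_mul]
      exact gsmul_mem 𝒜 𝒳 (hφ i r hr) hy⟩ }

variable (hq : 0 < q)

/-- the inclusion of the Veronese submodule -/
def verι : (verG 𝒜 𝒜' φ q hφ 𝒳 hq).carrier →+ X := (verSub 𝒳 q).subtype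

theorem verι_injective : Function.Injective (verι 𝒜 𝒜' φ q hφ 𝒳 hq) := Subtype.val_injective

theorem verι_mem (v : (verG 𝒜 𝒜' φ q hφ 𝒳 hq).carrier) :
    verι 𝒜 𝒜' φ q hφ 𝒳 hq v ∈ verSub 𝒳 q := Subtype.property (p := fun x => x ∈ verSub 𝒳 q) v

theorem verι_smul (r : R') (v : (verG 𝒜 𝒜' φ q hφ 𝒳 hq).carrier) :
    verι 𝒜 𝒜' φ q hφ 𝒳 hq (r • v) = φ r • verι 𝒜 𝒜' φ q hφ 𝒳 hq v := rfl

/-- elements of the Veronese submodule -/
def verMk (x : X) (hx : x ∈ verSub 𝒳 q) : (verG 𝒜 𝒜' φ q hφ 𝒳 hq).carrier :=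
  (⟨x, hx⟩ : ↥(verSub 𝒳 q))

theorem verι_verMk (x : X) (hx : x ∈ verSub 𝒳 q) :
    verι 𝒜 𝒜' φ q hφ 𝒳 hq (verMk 𝒜 𝒜' φ q hφ 𝒳 hq x hx) = x := rfl

theorem mem_verG_gr {j : ℤ} {v : (verG 𝒜 𝒜' φ q hφ 𝒳 hq).carrier} :
    v ∈ (verG 𝒜 𝒜' φ q hφ 𝒳 hq).gr j ↔ verι 𝒜 𝒜' φ q hφ 𝒳 hq v ∈ 𝒳 (j * q) := Iff.rfl

end VerG

section Maps

variable (φ : R' →+* R) (q : ℕ) (hφ : ∀ (j : ℤ) (r : R'), r ∈ 𝒜' j → φ r ∈ 𝒜 (j * q))
variable {X : Type u} [AddCommGroup X] [Module R X] (𝒳 : ℤ → AddSubgroup X)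
  [DirectSum.Decomposition 𝒳] [SetLike.GradedSMul 𝒜 𝒳]
  {Y : Type u} [AddCommGroup Y] [Module R Y] (𝒴 : ℤ → AddSubgroup Y)
  [DirectSum.Decomposition 𝒴] [SetLike.GradedSMul 𝒜 𝒴] (hq : 0 < q)

/-- the map induced on Veronese submodules by a homogeneous map -/
noncomputable def verMap (f : X →ₗ[R] Y) (hf : GrLC.IsGrHom 𝒳 𝒴 f) :
    (verG 𝒜 𝒜' φ q hφ 𝒳 hq).carrier →ₗ[R'] (verG 𝒜 𝒜' φ q hφ 𝒴 hq).carrier where
  toFun v := verMk 𝒜 𝒜' φ q hφ 𝒴 hq (f (verι 𝒜 𝒜' φ q hφ 𝒳 hq v)) (by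
    rw [mem_verSub, verPi_grHom 𝒳 𝒴 q f hf, (mem_verSub 𝒳 q).1 (verι_mem 𝒜 𝒜' φ q hφ 𝒳 hq v)])
  map_add' v w := verι_injective 𝒜 𝒜' φ q hφ 𝒴 hq (by
    simp only [verι_verMk, map_add])
  map_smul' r v := verι_injective 𝒜 𝒜' φ q hφ 𝒴 hq (by
    simp only [RingHom.id_apply, verι_smul, verι_verMk, map_smul])

theorem verι_verMap (f : X →ₗ[R] Y) (hf : GrLC.IsGrHom 𝒳 𝒴 f)
    (v : (verG 𝒜 𝒜' φ q hφ 𝒳 hq).carrier) :
    verι 𝒜 𝒜' φ q hφ 𝒴 hq (verMap 𝒜 𝒜' φ q hφ 𝒳 𝒴 hq f hf v) =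
      f (verι 𝒜 𝒜' φ q hφ 𝒳 hq v) := rfl

theorem verMap_isGrHom (f : X →ₗ[R] Y) (hf : GrLC.IsGrHom 𝒳 𝒴 f) :
    GrLC.IsGrHom (verG 𝒜 𝒜' φ q hφ 𝒳 hq).gr (verG 𝒜 𝒜' φ q hφ 𝒴 hq).gr
      (verMap 𝒜 𝒜' φ q hφ 𝒳 𝒴 hq f hf) := by
  intro j v hv
  rw [mem_verG_gr, verι_verMap]
  exact hf _ _ ((mem_verG_gr 𝒜 𝒜' φ q hφ 𝒳 hq).1 hv)

end Maps

section Acyc

open Groth.Agent.H58.LC

variable (φ : R' →+* R) (q : ℕ) (hφ : ∀ (j : ℤ) (r : R'), r ∈ 𝒜' j → φ r ∈ 𝒜 (j * q))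
variable {X : Type u} [AddCommGroup X] [Module R X] (𝒳 : ℤ → AddSubgroup X)
  [DirectSum.Decomposition 𝒳] [SetLike.GradedSMul 𝒜 𝒳] (hq : 0 < q)

/-- the Veronese submodule of a *injective module is acyclic for the torsion functor of an
ideal of the Veronese subring whose extension has the same radical as a homogeneous ideal -/
theorem ver_acyclic [IsNoetherianRing R] [IsNoetherianRing R'] (a' : Ideal R')
    (a : HomogeneousIdeal 𝒜) (hrad : (a'.map φ).radical = a.toIdeal.radical)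
    (hX : GrLC.IsStarInj 𝒜 𝒳) (p : ℕ) :
    Subsingleton (LocCoh.H a' (p + 1) (verG 𝒜 𝒜' φ q hφ 𝒳 hq).carrier) := by
  letI : Algebra R' R := φ.toAlgebra
  letI : Module R' X := Module.compHom X φ
  haveI : IsScalarTower R' R X := IsScalarTower.of_algebraMap_smul (fun r x => rfl)
  obtain ⟨ψ, -⟩ := semiEq_H R' R a' (p + 1) X
  obtain ⟨e⟩ := Groth.Agent.H17.LCRad.nonempty_equiv_of_radical_eq
    (I := a'.map (algebraMap R' R)) (J := a.toIdeal) hrad (p + 1) X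
  haveI h0 := locCoh_subsingleton_of_isStarInj 𝒜 𝒳 a hX p
  haveI h1 : Subsingleton (LocCoh.H (a'.map (algebraMap R' R)) (p + 1) X) :=
    e.toEquiv.subsingleton
  haveI h2 : Subsingleton (LocCoh.H a' (p + 1) X) := ψ.symm.toEquiv.subsingleton
  obtain ⟨ι, hι⟩ : ∃ ι : (verG 𝒜 𝒜' φ q hφ 𝒳 hq).carrier →ₗ[R'] X,
      ∀ v, ι v = verι 𝒜 𝒜' φ q hφ 𝒳 hq v :=
    ⟨{ toFun := fun v => verι 𝒜 𝒜' φ q hφ 𝒳 hq v
       map_add' := fun v w => map_add _ v w
       map_smul' := fun r v => verι_smul 𝒜 𝒜' φ q hφ 𝒳 hq r v }, fun _ => rfl⟩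
  obtain ⟨π, hπ⟩ : ∃ π : X →ₗ[R'] (verG 𝒜 𝒜' φ q hφ 𝒳 hq).carrier,
      ∀ x, verι 𝒜 𝒜' φ q hφ 𝒳 hq (π x) = verPi 𝒳 q x :=
    ⟨{ toFun := fun x => verMk 𝒜 𝒜' φ q hφ 𝒳 hq (verPi 𝒳 q x) (verPi_mem 𝒳 q x)
       map_add' := fun x y => verι_injective 𝒜 𝒜' φ q hφ 𝒳 hq (by
        simp only [verι_verMk, map_add])
       map_smul' := fun r x => verι_injective 𝒜 𝒜' φ q hφ 𝒳 hq (by
        simp only [RingHom.id_apply, verι_smul, verι_verMk]
        exact verPi_smul 𝒜 𝒜' φ q hφ 𝒳 r x) }, fun _ => rfl⟩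
  have hπι : π.comp ι = LinearMap.id := by
    refine LinearMap.ext fun v => verι_injective 𝒜 𝒜' φ q hφ 𝒳 hq ?_
    rw [LinearMap.comp_apply, hπ, hι, LinearMap.id_apply]
    exact (mem_verSub 𝒳 q).1 (verι_mem 𝒜 𝒜' φ q hφ 𝒳 hq v)
  have h0' : ∀ y : LocCoh.H a' (p + 1) (verG 𝒜 𝒜' φ q hφ 𝒳 hq).carrier, y = 0 := by
    intro y
    have h3 : Hmap a' (p + 1) (π.comp ι) y = y := by
      rw [hπι, Hmap_id, LinearMap.id_apply]
    rw [← h3, Hmap_comp_apply, Subsingleton.elim (Hmap a' (p + 1) ι y) 0, map_zero]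
  exact ⟨fun y z => by rw [h0' y, h0' z]⟩

end Acyc

section Noeth

variable (φ : R' →+* R) (q : ℕ) (hq : 0 < q)
  (hdeg : ∀ j : ℤ, (𝒜' j).map (φ : R' →+ R) = 𝒜 (j * q))

include hdeg in
theorem hφ_of_hdeg (j : ℤ) (r : R') (hr : r ∈ 𝒜' j) : φ r ∈ 𝒜 (j * q) := by
  rw [← hdeg j]
  exact ⟨r, hr, rfl⟩

include hq hdeg in
/-- contraction of the extension of an ideal of the Veronese subring -/
theorem comap_map_eq (hφinj : Function.Injective φ) (J : Ideal R') :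
    (J.map φ).comap φ = J := by
  have hφ := hφ_of_hdeg 𝒜 𝒜' φ q hdeg
  refine le_antisymm ?_ Ideal.le_comap_map
  intro r hr
  have hr' : φ r ∈ Ideal.span (φ '' (J : Set R')) := hr
  have key : ∀ x (hx : x ∈ Submodule.span R (φ '' (J : Set R'))),
      ∃ b ∈ J, φ b = verPi 𝒜 q x := by
    intro x hx
    induction hx using Submodule.closure_induction with
    | zero => exact ⟨0, zero_mem _, by rw [map_zero, map_zero]⟩
    | add x y _ _ hx hy =>
      obtain ⟨b, hb, hbx⟩ := hx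
      obtain ⟨c, hc, hcy⟩ := hy
      exact ⟨b + c, add_mem hb hc, by rw [map_add, map_add, hbx, hcy]⟩
    | smul_mem a x hx =>
      obtain ⟨j0, hj0, rfl⟩ := hx
      obtain ⟨b, hb⟩ := mem_range_of_mem_verSub 𝒜 q hq 𝒜' (φ : R' →+ R) hdeg
        (verPi_mem 𝒜 q a)
      have hb' : φ b = verPi 𝒜 q a := hb
      refine ⟨j0 * b, J.mul_mem_right _ hj0, ?_⟩
      have h1 : a • φ j0 = φ j0 • a := by
        rw [smul_eq_mul, smul_eq_mul, mul_comm]
      rw [h1, verPi_smul 𝒜 𝒜' φ q hφ 𝒜, smul_eq_mul, map_mul, hb']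
  obtain ⟨b, hb, hbr⟩ := key (φ r) hr'
  have h1 : verPi 𝒜 q (φ r) = φ r := by
    have h2 := verPi_smul 𝒜 𝒜' φ q hφ 𝒜 r (1 : R)
    have h3 : verPi 𝒜 q (1 : R) = 1 :=
      verPi_of_dvd 𝒜 q (SetLike.GradedOne.one_mem (A := 𝒜)) (dvd_zero _)
    rw [h3, smul_eq_mul, mul_one] at h2
    exact h2
  rw [h1] at hbr
  rw [← hφinj hbr]
  exact hb

include hq hdeg in
/-- the Veronese subring of a Noetherian graded ring is Noetherian -/
theorem isNoetherianRing_ver [IsNoetherianRing R] (hφinj : Function.Injective φ) :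
    IsNoetherianRing R' := by
  have hmono : Monotone (fun J : Ideal R' => J.map φ) := fun _ _ h => Ideal.map_mono h
  have hinj : Function.Injective (fun J : Ideal R' => J.map φ) := by
    intro J₁ J₂ h
    have h' : J₁.map φ = J₂.map φ := h
    rw [← comap_map_eq 𝒜 𝒜' φ q hq hdeg hφinj J₁, h', comap_map_eq 𝒜 𝒜' φ q hq hdeg hφinj J₂]
  have hstrict : StrictMono (fun J : Ideal R' => J.map φ) := hmono.strictMono_of_injective hinj
  haveI : WellFoundedGT (Ideal R) := (isNoetherian_iff' (R := R) (M := R)).1 inferInstance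
  exact (isNoetherian_iff' (R := R') (M := R')).2 hstrict.wellFoundedGT

include hq hdeg in
/-- the extension of the irrelevant ideal of the Veronese subring lies in the irrelevant ideal -/
theorem map_le_irr (a' : Ideal R') (a : Ideal R)
    (ha : a = Ideal.span (⋃ n ∈ Set.Ioi (0 : ℤ), (𝒜 n : Set R)))
    (ha' : a' = Ideal.span (⋃ j ∈ Set.Ioi (0 : ℤ), (𝒜' j : Set R'))) :
    a'.map φ ≤ a := by
  have hφ := hφ_of_hdeg 𝒜 𝒜' φ q hdeg
  have hqz : (0 : ℤ) < (q : ℤ) := by exact_mod_cast hq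
  rw [ha', Ideal.map_span, ha]
  apply Ideal.span_mono
  rintro _ ⟨r, hr, rfl⟩
  simp only [Set.mem_iUnion, Set.mem_Ioi, SetLike.mem_coe, exists_prop] at hr ⊢
  obtain ⟨j, hj, hrj⟩ := hr
  exact ⟨j * q, mul_pos hj hqz, hφ j r hrj⟩

include hq hdeg in
/-- the extension of the irrelevant ideal of the Veronese subring has the same radical as the
irrelevant ideal -/
theorem radical_map_eq (a' : Ideal R') (a : Ideal R)
    (ha : a = Ideal.span (⋃ n ∈ Set.Ioi (0 : ℤ), (𝒜 n : Set R)))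
    (ha' : a' = Ideal.span (⋃ j ∈ Set.Ioi (0 : ℤ), (𝒜' j : Set R'))) :
    (a'.map φ).radical = a.radical := by
  have hφ := hφ_of_hdeg 𝒜 𝒜' φ q hdeg
  have hqz : (0 : ℤ) < (q : ℤ) := by exact_mod_cast hq
  apply le_antisymm
  · apply Ideal.radical_mono
    rw [ha', Ideal.map_span, ha]
    apply Ideal.span_mono
    rintro _ ⟨r, hr, rfl⟩
    simp only [Set.mem_iUnion, Set.mem_Ioi, SetLike.mem_coe, exists_prop] at hr ⊢
    obtain ⟨j, hj, hrj⟩ := hr
    exact ⟨j * q, mul_pos hj hqz, hφ j r hrj⟩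
  · rw [Ideal.radical_le_radical_iff, ha, Ideal.span_le]
    intro x hx
    simp only [Set.mem_iUnion, Set.mem_Ioi, SetLike.mem_coe, exists_prop] at hx
    obtain ⟨n, hn, hxn⟩ := hx
    refine ⟨q, ?_⟩
    have h1 : x ^ q ∈ 𝒜 (q • n) := SetLike.pow_mem_graded q hxn
    have h2 : (q • n : ℤ) = n * q := by rw [nsmul_eq_mul, mul_comm]
    rw [h2, ← hdeg n] at h1
    obtain ⟨r, hr, hrx⟩ := h1
    have hrx' : φ r = x ^ q := hrx
    rw [← hrx']
    apply Ideal.mem_map_of_mem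
    rw [ha']
    apply Ideal.subset_span
    simp only [Set.mem_iUnion, Set.mem_Ioi, SetLike.mem_coe, exists_prop]
    exact ⟨n, hn, hr⟩

end Noeth

section Res

variable (φ : R' →+* R) (q : ℕ) (hφ : ∀ (j : ℤ) (r : R'), r ∈ 𝒜' j → φ r ∈ 𝒜 (j * q))
  (hq : 0 < q)
variable {M : Type u} [AddCommGroup M] [Module R M] (ℳ : ℤ → AddSubgroup M)
  [DirectSum.Decomposition ℳ] [SetLike.GradedSMul 𝒜 ℳ]
variable {M' : Type u} [AddCommGroup M'] [Module R' M'] (ℳ' : ℤ → AddSubgroup M')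
  [DirectSum.Decomposition ℳ'] [SetLike.GradedSMul 𝒜' ℳ']
variable (g : M' →+ M) (hgs : ∀ (r : R') (x : M'), g (r • x) = φ r • g x)
  (hginj : Function.Injective g)
  (hgdeg : ∀ j : ℤ, (ℳ' j).map g = ℳ (j * q))

include hgdeg in
omit [Module R M] [Module R' M'] in
theorem g_mem_verSub (x : M') : g x ∈ verSub ℳ q := by
  induction x using DirectSum.Decomposition.inductionOn ℳ' with
  | zero =>
    rw [map_zero]
    exact zero_mem _
  | @homogeneous j m =>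
    apply mem_verSub_of_mem ℳ q (j := j)
    rw [← hgdeg j]
    exact ⟨m, m.2, rfl⟩
  | add m m' hm hm' =>
    rw [map_add]
    exact add_mem hm hm'

variable (E : GrLC.StarInjRes 𝒜 ℳ)

include hgdeg in
theorem eps_g_mem_verSub (x : M') : E.ε (g x) ∈ verSub (E.X 0).gr q := by
  rw [mem_verSub, verPi_grHom ℳ (E.X 0).gr q E.ε E.ε_grHom,
    (mem_verSub ℳ q).1 (g_mem_verSub q ℳ ℳ' g hgdeg x)]

/-- the augmentation of the Veronese resolution -/
noncomputable def verEps : M' →ₗ[R'] (verG 𝒜 𝒜' φ q hφ (E.X 0).gr hq).carrier where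
  toFun x := verMk 𝒜 𝒜' φ q hφ (E.X 0).gr hq (E.ε (g x))
    (eps_g_mem_verSub 𝒜 q ℳ ℳ' g hgdeg E x)
  map_add' x y := verι_injective 𝒜 𝒜' φ q hφ (E.X 0).gr hq (by
    simp only [verι_verMk, map_add])
  map_smul' r x := verι_injective 𝒜 𝒜' φ q hφ (E.X 0).gr hq (by
    simp only [RingHom.id_apply, verι_smul, verι_verMk, hgs, map_smul])

theorem verι_verEps (x : M') :
    verι 𝒜 𝒜' φ q hφ (E.X 0).gr hq (verEps 𝒜 𝒜' φ q hφ hq ℳ ℳ' g hgs hgdeg E x) =
      E.ε (g x) := rfl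

include hq in
/-- the Veronese of a *injective resolution, a resolution of the Veronese module -/
noncomputable def verRes : GRes 𝒜' ℳ' where
  X n := verG 𝒜 𝒜' φ q hφ (E.X n).gr hq
  d n := verMap 𝒜 𝒜' φ q hφ (E.X n).gr (E.X (n + 1)).gr hq (E.d n) (E.d_grHom n)
  ε := verEps 𝒜 𝒜' φ q hφ hq ℳ ℳ' g hgs hgdeg E
  d_grHom n := verMap_isGrHom 𝒜 𝒜' φ q hφ (E.X n).gr (E.X (n + 1)).gr hq (E.d n) (E.d_grHom n)
  ε_grHom := by
    intro j x hx
    rw [mem_verG_gr, verι_verEps]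
    apply E.ε_grHom
    rw [← hgdeg j]
    exact ⟨x, hx, rfl⟩
  ε_injective := by
    intro x y h
    have h1 := congrArg (verι 𝒜 𝒜' φ q hφ (E.X 0).gr hq) h
    rw [verι_verEps, verι_verEps] at h1
    exact hginj (E.ε_injective h1)
  exact_zero := by
    apply le_antisymm
    · intro v hv
      have h1 : E.d 0 (verι 𝒜 𝒜' φ q hφ (E.X 0).gr hq v) = 0 := by
        have h2 := congrArg (verι 𝒜 𝒜' φ q hφ (E.X (0 + 1)).gr hq) (LinearMap.mem_ker.1 hv)
        rw [verι_verMap, map_zero] at h2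
        exact h2
      have h3 : verι 𝒜 𝒜' φ q hφ (E.X 0).gr hq v ∈ LinearMap.range E.ε := by
        rw [← E.exact_zero]
        exact LinearMap.mem_ker.2 h1
      obtain ⟨m, hm⟩ := h3
      have h4 : m ∈ verSub ℳ q := by
        rw [mem_verSub]
        apply E.ε_injective
        rw [← verPi_grHom ℳ (E.X 0).gr q E.ε E.ε_grHom, hm]
        exact (mem_verSub _ q).1 (verι_mem 𝒜 𝒜' φ q hφ (E.X 0).gr hq v)
      obtain ⟨x, hx⟩ := mem_range_of_mem_verSub ℳ q hq ℳ' g hgdeg h4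
      refine ⟨x, verι_injective 𝒜 𝒜' φ q hφ (E.X 0).gr hq ?_⟩
      rw [verι_verEps, hx, hm]
    · rintro _ ⟨x, rfl⟩
      rw [LinearMap.mem_ker]
      apply verι_injective 𝒜 𝒜' φ q hφ (E.X (0 + 1)).gr hq
      rw [verι_verMap, verι_verEps, map_zero]
      exact StarInjRes_d_ε E _
  exact_succ n := by
    apply le_antisymm
    · intro v hv
      have h1 : E.d (n + 1) (verι 𝒜 𝒜' φ q hφ (E.X (n + 1)).gr hq v) = 0 := by
        have h2 := congrArg (verι 𝒜 𝒜' φ q hφ (E.X (n + 1 + 1)).gr hq) (LinearMap.mem_ker.1 hv)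
        rw [verι_verMap, map_zero] at h2
        exact h2
      have h3 : verι 𝒜 𝒜' φ q hφ (E.X (n + 1)).gr hq v ∈ LinearMap.range (E.d n) := by
        rw [← E.exact_succ n]
        exact LinearMap.mem_ker.2 h1
      obtain ⟨x, hx⟩ := h3
      refine ⟨verMk 𝒜 𝒜' φ q hφ (E.X n).gr hq (verPi (E.X n).gr q x) (verPi_mem _ q x),
        verι_injective 𝒜 𝒜' φ q hφ (E.X (n + 1)).gr hq ?_⟩
      rw [verι_verMap, verι_verMk, ← verPi_grHom (E.X n).gr (E.X (n + 1)).gr q (E.d n)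
        (E.d_grHom n), hx]
      exact (mem_verSub _ q).1 (verι_mem 𝒜 𝒜' φ q hφ (E.X (n + 1)).gr hq v)
    · rintro _ ⟨x, rfl⟩
      rw [LinearMap.mem_ker]
      apply verι_injective 𝒜 𝒜' φ q hφ (E.X (n + 1 + 1)).gr hq
      rw [verι_verMap, verι_verMap, map_zero]
      exact StarInjRes_d_d E n _

end Res

section Tors

variable (φ : R' →+* R) (q : ℕ) (hφ : ∀ (j : ℤ) (r : R'), r ∈ 𝒜' j → φ r ∈ 𝒜 (j * q))
variable {X : Type u} [AddCommGroup X] [Module R X] (𝒳 : ℤ → AddSubgroup X)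
  [DirectSum.Decomposition 𝒳] [SetLike.GradedSMul 𝒜 𝒳] (hq : 0 < q)

/-- torsion over the Veronese subring gives torsion over the ring -/
theorem verι_mem_gam [IsNoetherianRing R] (a' : Ideal R') (a : Ideal R)
    (ha : a ≤ (a'.map φ).radical) {v : (verG 𝒜 𝒜' φ q hφ 𝒳 hq).carrier}
    (hv : v ∈ GrLC.gam a' (verG 𝒜 𝒜' φ q hφ 𝒳 hq).carrier) :
    verι 𝒜 𝒜' φ q hφ 𝒳 hq v ∈ GrLC.gam a X := by
  apply Groth.Agent.H98.GrHt.gam_le_of_le_radical (a'.map φ) a ha X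
  obtain ⟨n, hn⟩ := hv
  refine ⟨n, fun r hr => ?_⟩
  rw [← Ideal.map_pow] at hr
  have key : ∀ r, r ∈ Submodule.span R (φ '' ((a' ^ n : Ideal R') : Set R')) →
      r • verι 𝒜 𝒜' φ q hφ 𝒳 hq v = 0 := by
    intro r hr
    induction hr using Submodule.span_induction with
    | mem x hx =>
      obtain ⟨r', hr', rfl⟩ := hx
      rw [← verι_smul, hn r' hr', map_zero]
    | zero => exact zero_smul _ _
    | add x y _ _ hx hy => rw [add_smul, hx, hy, add_zero]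
    | smul c x _ hx => rw [smul_eq_mul, mul_smul, hx, smul_zero]
  exact key r hr

/-- torsion over the ring gives torsion over the Veronese subring -/
theorem mem_gam_of_verι (a' : Ideal R') (a : Ideal R) (ha : a'.map φ ≤ a)
    {v : (verG 𝒜 𝒜' φ q hφ 𝒳 hq).carrier}
    (hv : verι 𝒜 𝒜' φ q hφ 𝒳 hq v ∈ GrLC.gam a X) :
    v ∈ GrLC.gam a' (verG 𝒜 𝒜' φ q hφ 𝒳 hq).carrier := by
  obtain ⟨n, hn⟩ := hv
  refine ⟨n, fun r' hr' => verι_injective 𝒜 𝒜' φ q hφ 𝒳 hq ?_⟩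
  rw [verι_smul, map_zero]
  apply hn
  refine Ideal.pow_right_mono ha n ?_
  rw [← Ideal.map_pow]
  exact Ideal.mem_map_of_mem φ hr'

end Tors

end Groth.Agent.H98.GrVer
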