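import Groth.Agent.H98.GrVerMain

/-!
# Helper library (helper98): the Veronese isomorphisms `H^p_{m'}(M^(q))_j ≃+ H^p_m(M)_{jq}`,
as a family of additive equivalences compatible with multiplication by homogeneous elements
of `R'`.
-/

set_option autoImplicit false
universe u

open DirectSum

namespace Groth.Agent.H98.GrVer

open Groth.Agent.H98.GrCat

section Generic

/-- two additive surjections from the same group with the same kernel have isomorphic targets -/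
theorem exists_addEquiv_of_corr {P U U' : Type u} [AddCommGroup P] [AddCommGroup U]
    [AddCommGroup U'] (f₁ : P → U) (f₂ : P → U')
    (h₁add : ∀ z w, f₁ (z + w) = f₁ z + f₁ w) (h₂add : ∀ z w, f₂ (z + w) = f₂ z + f₂ w)
    (h₁surj : Function.Surjective f₁) (h₂surj : Function.Surjective f₂)
    (hker : ∀ z, f₁ z = 0 ↔ f₂ z = 0) : ∃ j : U' ≃+ U, ∀ z, j (f₂ z) = f₁ z := by
  have h₁sub : ∀ z w, f₁ (z - w) = f₁ z - f₁ w := by
    intro z w
    have h := h₁add (z - w) w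
    rw [sub_add_cancel] at h
    exact eq_sub_of_add_eq h.symm
  have h₂sub : ∀ z w, f₂ (z - w) = f₂ z - f₂ w := by
    intro z w
    have h := h₂add (z - w) w
    rw [sub_add_cancel] at h
    exact eq_sub_of_add_eq h.symm
  have key1 : ∀ z w, f₂ z = f₂ w → f₁ z = f₁ w := by
    intro z w h
    have h0 : f₂ (z - w) = 0 := by rw [h₂sub, h, sub_self]
    have h1 := (hker _).2 h0
    rw [h₁sub, sub_eq_zero] at h1
    exact h1
  have key2 : ∀ z w, f₁ z = f₁ w → f₂ z = f₂ w := by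
    intro z w h
    have h0 : f₁ (z - w) = 0 := by rw [h₁sub, h, sub_self]
    have h1 := (hker _).1 h0
    rw [h₂sub, sub_eq_zero] at h1
    exact h1
  let f : U' → U := fun y => f₁ (Classical.choose (h₂surj y))
  let g : U → U' := fun x => f₂ (Classical.choose (h₁surj x))
  have hf : ∀ z, f (f₂ z) = f₁ z := fun z => key1 _ _ (Classical.choose_spec (h₂surj (f₂ z)))
  have hg : ∀ z, g (f₁ z) = f₂ z := fun z => key2 _ _ (Classical.choose_spec (h₁surj (f₁ z)))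
  let j : U' ≃+ U :=
    { toFun := f
      invFun := g
      left_inv := by
        intro y
        obtain ⟨z, rfl⟩ := h₂surj y
        show g (f (f₂ z)) = f₂ z
        rw [hf, hg]
      right_inv := by
        intro x
        obtain ⟨z, rfl⟩ := h₁surj x
        show f (g (f₁ z)) = f₁ z
        rw [hg, hf]
      map_add' := by
        intro y y'
        obtain ⟨z, rfl⟩ := h₂surj y
        obtain ⟨z', rfl⟩ := h₂surj y'
        show f (f₂ z + f₂ z') = f (f₂ z) + f (f₂ z')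
        rw [← h₂add, hf, hf, hf, h₁add] }
  exact ⟨j, hf⟩

end Generic

section Main

variable {R : Type u} [CommRing R] [IsNoetherianRing R] (𝒜 : ℤ → AddSubgroup R) [GradedRing 𝒜]
variable {R' : Type u} [CommRing R'] [IsNoetherianRing R'] (𝒜' : ℤ → AddSubgroup R')
  [GradedRing 𝒜']
variable (φ : R' →+* R) (q : ℕ) (hφ : ∀ (j : ℤ) (r : R'), r ∈ 𝒜' j → φ r ∈ 𝒜 (j * q))
  (hq : 0 < q)
variable {M : Type u} [AddCommGroup M] [Module R M] (ℳ : ℤ → AddSubgroup M)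
  [DirectSum.Decomposition ℳ] [SetLike.GradedSMul 𝒜 ℳ]
variable {M' : Type u} [AddCommGroup M'] [Module R' M'] (ℳ' : ℤ → AddSubgroup M')
  [DirectSum.Decomposition ℳ'] [SetLike.GradedSMul 𝒜' ℳ']
variable (g : M' →+ M) (hgs : ∀ (r : R') (x : M'), g (r • x) = φ r • g x)
  (hginj : Function.Injective g)
  (hgdeg : ∀ j : ℤ, (ℳ' j).map g = ℳ (j * q))
variable (E : GrLC.StarInjRes 𝒜 ℳ) (F : GrLC.StarInjRes 𝒜' ℳ')
variable (m : HomogeneousIdeal 𝒜) (m' : HomogeneousIdeal 𝒜')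
  (hle : m'.toIdeal.map φ ≤ m.toIdeal)
  (hrad : (m'.toIdeal.map φ).radical = m.toIdeal.radical)

local notation "VX(" k ")" => verG 𝒜 𝒜' φ q hφ (GrLC.GMod.gr (GrLC.StarInjRes.X E k)) hq
local notation "vι(" k ")" => verι 𝒜 𝒜' φ q hφ (GrLC.GMod.gr (GrLC.StarInjRes.X E k)) hq
local notation "vmk(" k ")" => verMk 𝒜 𝒜' φ q hφ (GrLC.GMod.gr (GrLC.StarInjRes.X E k)) hq
local notation "vd(" k ")" => verMap 𝒜 𝒜' φ q hφ (GrLC.GMod.gr (GrLC.StarInjRes.X E k))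
  (GrLC.GMod.gr (GrLC.StarInjRes.X E (k + 1))) hq (GrLC.StarInjRes.d E k)
  (GrLC.StarInjRes.d_grHom E k)

include hφ hq hgs hgdeg hginj hle hrad in
/-- **the Veronese isomorphisms** on graded local cohomology, compatible with multiplication by
homogeneous elements of `R'` -/
theorem exists_sigma (p : ℕ) :
    ∃ Sg : ∀ j : ℤ, F.Hcomp m' p j ≃+ E.Hcomp m p (j * q),
      ∀ (i j l : ℤ), i + j = l → ∀ (r : R'), r ∈ 𝒜' i →
        ∀ (y : F.Hcomp m' p j) (y2 : F.Hcomp m' p l),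
        (y2 : F.H m' p) = r • (y : F.H m' p) →
        ((Sg l y2 : E.Hcomp m p (l * q)) : E.H m p) =
          φ r • ((Sg j y : E.Hcomp m p (j * q)) : E.H m p) := by
  obtain ⟨α, hαgr, hα0, hαc⟩ := exists_alpha 𝒜 𝒜' φ q hφ hq ℳ ℳ' g hgs hginj hgdeg E F
  obtain ⟨hS, hI, hS0, hI0⟩ :=
    cone_facts 𝒜 𝒜' φ q hφ hq ℳ ℳ' g hgs hginj hgdeg E F m m' hrad α hα0 hαc
  have KEY := fun j => key_cobdy 𝒜 𝒜' φ q hφ hq ℳ ℳ' E F m m' hle hrad α hαc hI hI0 j p
  have SURJ := fun j => key_surj 𝒜 𝒜' φ q hφ hq ℳ ℳ' E F m m' hrad α hαgr hS hS0 j p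
  have hτd : ∀ (j : ℤ) (z : (E.X p).carrier) (hzn : z ∈ (E.X p).gr (j * q)),
      z ∈ E.cocyc m p → vd(p) (vmk(p) z (mem_verSub_of_mem _ q hzn)) = 0 := by
    intro j z hzn hzc
    apply verι_injective 𝒜 𝒜' φ q hφ (E.X (p + 1)).gr hq
    rw [verι_verMap, verι_verMk, map_zero]
    exact LinearMap.mem_ker.1 hzc.2
  have hτc : ∀ (j : ℤ) (z : (E.X p).carrier) (hzn : z ∈ (E.X p).gr (j * q)),
      z ∈ E.cocyc m p → α p (vmk(p) z (mem_verSub_of_mem _ q hzn)) ∈ F.cocyc m' p := by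
    intro j z hzn hzc
    refine ⟨gam_map m'.toIdeal (α p) (mem_gam_of_verι 𝒜 𝒜' φ q hφ (E.X p).gr hq
      m'.toIdeal m.toIdeal hle (by
        rw [verι_verMk]
        exact hzc.1)), LinearMap.mem_ker.2 ?_⟩
    rw [← hαc, hτd j z hzn hzc, map_zero]
  have hτn : ∀ (j : ℤ) (z : (E.X p).carrier) (hzn : z ∈ (E.X p).gr (j * q)),
      α p (vmk(p) z (mem_verSub_of_mem _ q hzn)) ∈ (F.X p).gr j := by
    intro j z hzn
    refine hαgr p j _ ((mem_verG_gr 𝒜 𝒜' φ q hφ (E.X p).gr hq).2 ?_)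
    rw [verι_verMk]
    exact hzn
  have perj : ∀ j : ℤ, ∃ Sj : F.Hcomp m' p j ≃+ E.Hcomp m p (j * q),
      ∀ (z : (E.X p).carrier) (hzn : z ∈ (E.X p).gr (j * q)) (hzc : z ∈ E.cocyc m p)
        (y : F.Hcomp m' p j),
        (y : F.H m' p) = F.toH m' p ⟨α p (vmk(p) z (mem_verSub_of_mem _ q hzn)),
          hτc j z hzn hzc⟩ →
        ((Sj y : E.Hcomp m p (j * q)) : E.H m p) = E.toH m p ⟨z, hzc⟩ := by
    intro j
    obtain ⟨P, hP⟩ : ∃ P : Submodule (GrLC.deg0 𝒜) (E.X p).carrier,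
        ∀ z, z ∈ P ↔ z ∈ (E.X p).gr (j * q) ∧ z ∈ E.cocyc m p :=
      ⟨GrLC.comp 𝒜 (E.X p).gr (j * q) ⊓ (E.cocyc m p).restrictScalars (GrLC.deg0 𝒜),
        fun _ => Iff.rfl⟩
    have hPn : ∀ z : ↥P, (z : (E.X p).carrier) ∈ (E.X p).gr (j * q) := fun z => ((hP _).1 z.2).1
    have hPc : ∀ z : ↥P, (z : (E.X p).carrier) ∈ E.cocyc m p := fun z => ((hP _).1 z.2).2
    obtain ⟨f₁, hf₁⟩ : ∃ f₁ : ↥P → ↥(E.Hcomp m p (j * q)), ∀ z : ↥P,
        ((f₁ z : ↥(E.Hcomp m p (j * q))) : E.H m p) =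
          E.toH m p ⟨(z : (E.X p).carrier), hPc z⟩ :=
      ⟨fun z => ⟨E.toH m p ⟨(z : (E.X p).carrier), hPc z⟩,
        ⟨⟨(z : (E.X p).carrier), hPc z⟩, hPn z, rfl⟩⟩, fun _ => rfl⟩
    obtain ⟨f₂, hf₂⟩ : ∃ f₂ : ↥P → ↥(F.Hcomp m' p j), ∀ z : ↥P,
        ((f₂ z : ↥(F.Hcomp m' p j)) : F.H m' p) =
          F.toH m' p ⟨α p (vmk(p) (z : (E.X p).carrier) (mem_verSub_of_mem _ q (hPn z))),
            hτc j _ (hPn z) (hPc z)⟩ :=
      ⟨fun z => ⟨F.toH m' p ⟨_, hτc j _ (hPn z) (hPc z)⟩,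
        ⟨⟨_, hτc j _ (hPn z) (hPc z)⟩, hτn j _ (hPn z), rfl⟩⟩, fun _ => rfl⟩
    have hcorr : ∃ Sj : ↥(F.Hcomp m' p j) ≃+ ↥(E.Hcomp m p (j * q)), ∀ z, Sj (f₂ z) = f₁ z := by
      refine exists_addEquiv_of_corr f₁ f₂ ?_ ?_ ?_ ?_ ?_
      · intro z w
        apply Subtype.ext
        rw [Submodule.coe_add, hf₁, hf₁, hf₁, ← map_add]
        rfl
      · intro z w
        apply Subtype.ext
        rw [Submodule.coe_add, hf₂, hf₂, hf₂, ← map_add]
        congr 1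
        apply Subtype.ext
        show α p (vmk(p) ((z + w : ↥P) : (E.X p).carrier) _) =
          α p (vmk(p) (z : (E.X p).carrier) _) + α p (vmk(p) (w : (E.X p).carrier) _)
        rw [← map_add]
        congr 1
      · rintro ⟨y, ⟨c, hcn, hcy⟩⟩
        refine ⟨⟨c.1, (hP _).2 ⟨hcn, c.2⟩⟩, Subtype.ext ?_⟩
        rw [hf₁]
        exact hcy
      · rintro ⟨y, ⟨c, hcn, hcy⟩⟩
        obtain ⟨z, hzn, hzc, hz⟩ := SURJ j c.1 c.2 hcn
        refine ⟨⟨z, (hP _).2 ⟨hzn, hzc⟩⟩, Subtype.ext ?_⟩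
        rw [hf₂]
        show F.toH m' p ⟨α p (vmk(p) z _), _⟩ = y
        rw [← hcy]
        refine (Submodule.Quotient.eq _).2 ?_
        show α p (vmk(p) z _) - c.1 ∈ F.cobdy m' p
        have h3 := neg_mem hz
        rwa [neg_sub] at h3
      · intro z
        have h1 : f₁ z = 0 ↔ (z : (E.X p).carrier) ∈ E.cobdy m p := by
          rw [Subtype.ext_iff, hf₁, ZeroMemClass.coe_zero]
          exact Submodule.Quotient.mk_eq_zero _
        have h2 : f₂ z = 0 ↔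
            α p (vmk(p) (z : (E.X p).carrier) (mem_verSub_of_mem _ q (hPn z))) ∈ F.cobdy m' p := by
          rw [Subtype.ext_iff, hf₂, ZeroMemClass.coe_zero]
          exact Submodule.Quotient.mk_eq_zero _
        rw [h1, h2]
        exact KEY j z.1 (hPn z) (hPc z)
    obtain ⟨Sj, hSj⟩ := hcorr
    refine ⟨Sj, fun z hzn hzc y hy => ?_⟩
    have h1 : y = f₂ ⟨z, (hP _).2 ⟨hzn, hzc⟩⟩ := by
      apply Subtype.ext
      rw [hf₂]
      exact hy
    rw [h1, hSj, hf₁]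
  choose Sg hSg using perj
  refine ⟨Sg, fun i j l hl r hr y y2 hy2 => ?_⟩
  subst hl
  obtain ⟨y0, ⟨c, hcn, hcy⟩⟩ := y
  obtain ⟨z, hzn, hzc, hz⟩ := SURJ j c.1 c.2 hcn
  have hy1 : y0 = F.toH m' p ⟨α p (vmk(p) z (mem_verSub_of_mem _ q hzn)), hτc j z hzn hzc⟩ := by
    rw [← hcy]
    refine (Submodule.Quotient.eq _).2 ?_
    exact hz
  have e1 := hSg j z hzn hzc ⟨y0, ⟨c, hcn, hcy⟩⟩ hy1
  have hzn2 : φ r • z ∈ (E.X p).gr ((i + j) * q) := by
    have h := gsmul_mem 𝒜 (E.X p).gr (hφ i r hr) hzn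
    rwa [← add_mul] at h
  have hzc2 : φ r • z ∈ E.cocyc m p := (E.cocyc m p).smul_mem _ hzc
  have hy3 : (y2 : F.H m' p) = F.toH m' p ⟨α p (vmk(p) (φ r • z)
      (mem_verSub_of_mem _ q hzn2)), hτc (i + j) _ hzn2 hzc2⟩ := by
    rw [hy2]
    show r • y0 = _
    rw [hy1, ← map_smul]
    congr 1
    apply Subtype.ext
    show r • α p (vmk(p) z _) = α p (vmk(p) (φ r • z) _)
    rw [← map_smul]
    congr 1
  have e2 := hSg (i + j) (φ r • z) hzn2 hzc2 y2 hy3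
  rw [e2, e1, ← map_smul]
  rfl

end Main

end Groth.Agent.H98.GrVer
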