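import Groth.Agent.H98.GrVer
import Groth.Agent.H98.AcycCx

/-!
# Helper library (helper98): graded local cohomology of a Veronese submodule,
`dim H^p_{m'}(M^(q))_j = dim H^p_m(M)_{jq}`.
-/

set_option autoImplicit false
universe u

open DirectSum

namespace Groth.Agent.H98.GrVer

open Groth.Agent.H98.GrCat

section Generic

/-- two surjections from the same module with the same kernel, one linear and one semilinear
along a bijection of the scalar rings, have targets of the same rank -/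
theorem finrank_eq_of_corr {K K' : Type u} [Ring K] [Ring K'] (σ : K' → K)
    (hσ : Function.Bijective σ)
    {P U U' : Type u} [AddCommGroup P] [Module K P] [AddCommGroup U] [Module K U]
    [AddCommGroup U'] [Module K' U'] (f₁ : P → U) (f₂ : P → U')
    (h₁add : ∀ z w, f₁ (z + w) = f₁ z + f₁ w) (h₂add : ∀ z w, f₂ (z + w) = f₂ z + f₂ w)
    (h₁s : ∀ (r : K) z, f₁ (r • z) = r • f₁ z) (h₂s : ∀ (r : K') z, f₂ (σ r • z) = r • f₂ z)
    (h₁surj : Function.Surjective f₁) (h₂surj : Function.Surjective f₂)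
    (hker : ∀ z, f₁ z = 0 ↔ f₂ z = 0) : Module.finrank K' U' = Module.finrank K U := by
  have h₁sub : ∀ z w, f₁ (z - w) = f₁ z - f₁ w := by
    intro z w
    have h := h₁add (z - w) w
    rw [sub_add_cancel] at h
    exact eq_sub_of_add_eq h.symm
  have h₂sub : ∀ z w, f₂ (z - w) = f₂ z - f₂ w := by
    intro z w
    have h := h₂add (z - w) w
    rw [sub_add_cancel] at h
    exact eq_sub_of_add_eq h.symm
  have key1 : ∀ z w, f₂ z = f₂ w → f₁ z = f₁ w := by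
    intro z w h
    have h0 : f₂ (z - w) = 0 := by rw [h₂sub, h, sub_self]
    have h1 := (hker _).2 h0
    rw [h₁sub, sub_eq_zero] at h1
    exact h1
  have key2 : ∀ z w, f₁ z = f₁ w → f₂ z = f₂ w := by
    intro z w h
    have h0 : f₁ (z - w) = 0 := by rw [h₁sub, h, sub_self]
    have h1 := (hker _).1 h0
    rw [h₂sub, sub_eq_zero] at h1
    exact h1
  let f : U' → U := fun y => f₁ (Classical.choose (h₂surj y))
  let g : U → U' := fun x => f₂ (Classical.choose (h₁surj x))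
  have hf : ∀ z, f (f₂ z) = f₁ z := fun z => key1 _ _ (Classical.choose_spec (h₂surj (f₂ z)))
  have hg : ∀ z, g (f₁ z) = f₂ z := fun z => key2 _ _ (Classical.choose_spec (h₁surj (f₁ z)))
  let j : U' ≃+ U :=
    { toFun := f
      invFun := g
      left_inv := by
        intro y
        obtain ⟨z, rfl⟩ := h₂surj y
        show g (f (f₂ z)) = f₂ z
        rw [hf, hg]
      right_inv := by
        intro x
        obtain ⟨z, rfl⟩ := h₁surj x
        show f (g (f₁ z)) = f₁ z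
        rw [hg, hf]
      map_add' := by
        intro y y'
        obtain ⟨z, rfl⟩ := h₂surj y
        obtain ⟨z', rfl⟩ := h₂surj y'
        show f (f₂ z + f₂ z') = f (f₂ z) + f (f₂ z')
        rw [← h₂add, hf, hf, hf, h₁add] }
  have hc : ∀ (r : K') (y : U'), j (r • y) = σ r • j y := by
    intro r y
    obtain ⟨z, rfl⟩ := h₂surj y
    show f (r • f₂ z) = σ r • f (f₂ z)
    rw [← h₂s, hf, hf, h₁s]
  unfold Module.finrank
  rw [rank_eq_of_equiv_equiv σ j hσ hc]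

end Generic

section Main

variable {R : Type u} [CommRing R] [IsNoetherianRing R] (𝒜 : ℤ → AddSubgroup R) [GradedRing 𝒜]
variable {R' : Type u} [CommRing R'] [IsNoetherianRing R'] (𝒜' : ℤ → AddSubgroup R')
  [GradedRing 𝒜']
variable (φ : R' →+* R) (q : ℕ) (hφ : ∀ (j : ℤ) (r : R'), r ∈ 𝒜' j → φ r ∈ 𝒜 (j * q))
  (hq : 0 < q)
variable {M : Type u} [AddCommGroup M] [Module R M] (ℳ : ℤ → AddSubgroup M)
  [DirectSum.Decomposition ℳ] [SetLike.GradedSMul 𝒜 ℳ]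
variable {M' : Type u} [AddCommGroup M'] [Module R' M'] (ℳ' : ℤ → AddSubgroup M')
  [DirectSum.Decomposition ℳ'] [SetLike.GradedSMul 𝒜' ℳ']
variable (g : M' →+ M) (hgs : ∀ (r : R') (x : M'), g (r • x) = φ r • g x)
  (hginj : Function.Injective g)
  (hgdeg : ∀ j : ℤ, (ℳ' j).map g = ℳ (j * q))
variable (E : GrLC.StarInjRes 𝒜 ℳ) (F : GrLC.StarInjRes 𝒜' ℳ')
variable (m : HomogeneousIdeal 𝒜) (m' : HomogeneousIdeal 𝒜')
  (hle : m'.toIdeal.map φ ≤ m.toIdeal)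
  (hrad : (m'.toIdeal.map φ).radical = m.toIdeal.radical)

local notation "VX(" k ")" => verG 𝒜 𝒜' φ q hφ (GrLC.GMod.gr (GrLC.StarInjRes.X E k)) hq
local notation "vι(" k ")" => verι 𝒜 𝒜' φ q hφ (GrLC.GMod.gr (GrLC.StarInjRes.X E k)) hq
local notation "vmk(" k ")" => verMk 𝒜 𝒜' φ q hφ (GrLC.GMod.gr (GrLC.StarInjRes.X E k)) hq
local notation "vd(" k ")" => verMap 𝒜 𝒜' φ q hφ (GrLC.GMod.gr (GrLC.StarInjRes.X E k))
  (GrLC.GMod.gr (GrLC.StarInjRes.X E (k + 1))) hq (GrLC.StarInjRes.d E k)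
  (GrLC.StarInjRes.d_grHom E k)
local notation "VR" => verRes 𝒜 𝒜' φ q hφ hq ℳ ℳ' g hgs hginj hgdeg E

include hginj in
/-- the comparison chain map from the Veronese of `E` to `F` -/
theorem exists_alpha :
    ∃ α : ∀ k, (VX(k)).carrier →ₗ[R'] (F.X k).carrier,
      (∀ k, GrLC.IsGrHom (VX(k)).gr (F.X k).gr (α k)) ∧
      (∀ x, α 0 (verEps 𝒜 𝒜' φ q hφ hq ℳ ℳ' g hgs hgdeg E x) = F.ε x) ∧
      ∀ k v, α (k + 1) (vd(k) v) = F.d k (α k v) :=
  exists_lift_gres VR F LinearMap.id (fun _ _ h => h)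

include hginj hrad in
/-- the consequences of the mapping cone argument -/
theorem cone_facts (α : ∀ k, (VX(k)).carrier →ₗ[R'] (F.X k).carrier)
    (hα0 : ∀ x, α 0 (verEps 𝒜 𝒜' φ q hφ hq ℳ ℳ' g hgs hgdeg E x) = F.ε x)
    (hαc : ∀ k v, α (k + 1) (vd(k) v) = F.d k (α k v)) :
    (∀ (p : ℕ) (z : (F.X (p + 1)).carrier), z ∈ GrLC.gam m'.toIdeal (F.X (p + 1)).carrier →
      F.d (p + 1) z = 0 →
      ∃ a, a ∈ GrLC.gam m'.toIdeal (VX(p + 1)).carrier ∧ vd(p + 1) a = 0 ∧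
        ∃ f, f ∈ GrLC.gam m'.toIdeal (F.X p).carrier ∧ z = α (p + 1) a + F.d p f) ∧
    (∀ (p : ℕ) (a : (VX(p + 1)).carrier), a ∈ GrLC.gam m'.toIdeal (VX(p + 1)).carrier →
      vd(p + 1) a = 0 → ∀ f, f ∈ GrLC.gam m'.toIdeal (F.X p).carrier → α (p + 1) a = F.d p f →
      ∃ a', a' ∈ GrLC.gam m'.toIdeal (VX(p)).carrier ∧ vd(p) a' = a) ∧
    (∀ (z : (F.X 0).carrier), z ∈ GrLC.gam m'.toIdeal (F.X 0).carrier → F.d 0 z = 0 →
      ∃ a, a ∈ GrLC.gam m'.toIdeal (VX(0)).carrier ∧ vd(0) a = 0 ∧ z = α 0 a) ∧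
    (∀ (a : (VX(0)).carrier), vd(0) a = 0 → α 0 a = 0 → a = 0) := by
  have hAdd : ∀ k x, (VR).d (k + 1) ((VR).d k x) = 0 := fun k x => GRes.d_d VR k x
  have hFdd : ∀ k x, F.d (k + 1) (F.d k x) = 0 := fun k x => StarInjRes_d_d F k x
  have hAex : ∀ k x, (VR).d (k + 1) x = 0 → ∃ y, (VR).d k y = x := by
    intro k x hx
    have h1 : x ∈ LinearMap.range ((VR).d k) := by
      rw [← (VR).exact_succ k]
      exact LinearMap.mem_ker.2 hx
    exact h1
  have hFex : ∀ k x, F.d (k + 1) x = 0 → ∃ y, F.d k y = x := by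
    intro k x hx
    have h1 : x ∈ LinearMap.range (F.d k) := by
      rw [← F.exact_succ k]
      exact LinearMap.mem_ker.2 hx
    exact h1
  have hA0 : ∀ x, (VR).d 0 x = 0 → ∃ n, (VR).ε n = x := by
    intro x hx
    have h1 : x ∈ LinearMap.range (VR).ε := by
      rw [← (VR).exact_zero]
      exact LinearMap.mem_ker.2 hx
    exact h1
  have hF0 : ∀ x, F.d 0 x = 0 → ∃ n, F.ε n = x := by
    intro x hx
    have h1 : x ∈ LinearMap.range F.ε := by
      rw [← F.exact_zero]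
      exact LinearMap.mem_ker.2 hx
    exact h1
  have hAε : ∀ n, (VR).d 0 ((VR).ε n) = 0 := fun n => GRes.d_ε VR n
  have hFε : ∀ n, F.d 0 (F.ε n) = 0 := fun n => StarInjRes_d_ε F n
  have hacA : ∀ k p, Subsingleton (LocCoh.H m'.toIdeal (p + 1) ((VR).X k).carrier) :=
    fun k p => ver_acyclic 𝒜 𝒜' φ q hφ (E.X k).gr hq m'.toIdeal m hrad (E.starInj k) p
  have hacF : ∀ k p, Subsingleton (LocCoh.H m'.toIdeal (p + 1) (F.X k).carrier) :=
    fun k p => locCoh_subsingleton_of_isStarInj 𝒜' (F.X k).gr m' (F.starInj k) p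
  refine ⟨fun p z hz hdz => ?_, fun p a ha hda f hf hαa => ?_, fun z hz hdz => ?_,
    fun a hda hαa => ?_⟩
  · exact AcycCx.cone_surj m'.toIdeal M' (fun k => ((VR).X k).carrier)
      (fun k => (F.X k).carrier) (VR).d F.d (VR).ε F.ε α hAdd hFdd hAex hFex hA0 hAε
      (VR).ε_injective hF0 F.ε_injective hα0 hαc hacA hacF p z hz hdz
  · exact AcycCx.cone_inj m'.toIdeal M' (fun k => ((VR).X k).carrier)
      (fun k => (F.X k).carrier) (VR).d F.d (VR).ε F.ε α hAdd hFdd hAex hFex hA0 hAε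
      (VR).ε_injective hF0 F.ε_injective hα0 hαc hacA hacF p a ha hda f hf hαa
  · exact AcycCx.zero_surj m'.toIdeal M' (fun k => ((VR).X k).carrier)
      (fun k => (F.X k).carrier) (VR).d F.d (VR).ε F.ε α hA0 hAε hF0 F.ε_injective hα0 z hz hdz
  · exact AcycCx.zero_inj M' (fun k => ((VR).X k).carrier)
      (fun k => (F.X k).carrier) (VR).d (VR).ε F.ε α hA0 F.ε_injective hα0 a hda hαa

include hrad in
/-- homogeneous components of torsion cocycles of the Veronese complex -/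
theorem comp_facts (j : ℤ) (p : ℕ) (a : (VX(p)).carrier)
    (ha : a ∈ GrLC.gam m'.toIdeal (VX(p)).carrier) (hda : vd(p) a = 0) :
    ∃ (z : (E.X p).carrier) (hzn : z ∈ (E.X p).gr (j * q)), z ∈ E.cocyc m p ∧
      vmk(p) z (mem_verSub_of_mem _ q hzn) =
        ((decompose (VX(p)).gr a j : (VX(p)).gr j) : (VX(p)).carrier) := by
  have hge : m.toIdeal ≤ (m'.toIdeal.map φ).radical := le_of_le_of_eq Ideal.le_radical hrad.symm
  obtain ⟨aj, haj⟩ : ∃ aj : (VX(p)).carrier,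
      aj = ((decompose (VX(p)).gr a j : (VX(p)).gr j) : (VX(p)).carrier) := ⟨_, rfl⟩
  have hajn : aj ∈ (VX(p)).gr j := by
    rw [haj]
    exact (decompose (VX(p)).gr a j).2
  have hajt : aj ∈ GrLC.gam m'.toIdeal (VX(p)).carrier := by
    rw [haj]
    exact gam_isHomogeneous 𝒜' (VX(p)).gr m' j ha
  have hajd : vd(p) aj = 0 := by
    rw [haj, ← grHom_comp (VX(p)).gr (VX(p + 1)).gr
      (verMap_isGrHom 𝒜 𝒜' φ q hφ (E.X p).gr (E.X (p + 1)).gr hq (E.d p) (E.d_grHom p)) a j,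
      hda, decompose_zero, DirectSum.zero_apply, ZeroMemClass.coe_zero]
  have hzn : vι(p) aj ∈ (E.X p).gr (j * q) := (mem_verG_gr 𝒜 𝒜' φ q hφ (E.X p).gr hq).1 hajn
  refine ⟨vι(p) aj, hzn, ⟨verι_mem_gam 𝒜 𝒜' φ q hφ (E.X p).gr hq m'.toIdeal m.toIdeal hge hajt,
    LinearMap.mem_ker.2 ?_⟩, ?_⟩
  · have h2 := congrArg (vι(p + 1)) hajd
    rw [verι_verMap, map_zero] at h2
    exact h2
  · rw [← haj]
    apply verι_injective 𝒜 𝒜' φ q hφ (E.X p).gr hq
    rw [verι_verMk]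

include hle hrad in
/-- coboundaries correspond -/
theorem key_cobdy (α : ∀ k, (VX(k)).carrier →ₗ[R'] (F.X k).carrier)
    (hαc : ∀ k v, α (k + 1) (vd(k) v) = F.d k (α k v))
    (hI : ∀ (p : ℕ) (a : (VX(p + 1)).carrier), a ∈ GrLC.gam m'.toIdeal (VX(p + 1)).carrier →
      vd(p + 1) a = 0 → ∀ f, f ∈ GrLC.gam m'.toIdeal (F.X p).carrier → α (p + 1) a = F.d p f →
      ∃ a', a' ∈ GrLC.gam m'.toIdeal (VX(p)).carrier ∧ vd(p) a' = a)
    (hI0 : ∀ (a : (VX(0)).carrier), vd(0) a = 0 → α 0 a = 0 → a = 0)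
    (j : ℤ) (p : ℕ) (z : (E.X p).carrier) (hzn : z ∈ (E.X p).gr (j * q))
    (hzc : z ∈ E.cocyc m p) :
    z ∈ E.cobdy m p ↔ α p (vmk(p) z (mem_verSub_of_mem _ q hzn)) ∈ F.cobdy m' p := by
  have hge : m.toIdeal ≤ (m'.toIdeal.map φ).radical := le_of_le_of_eq Ideal.le_radical hrad.symm
  have hτd : vd(p) (vmk(p) z (mem_verSub_of_mem _ q hzn)) = 0 := by
    apply verι_injective 𝒜 𝒜' φ q hφ (E.X (p + 1)).gr hq
    rw [verι_verMap, verι_verMk, map_zero]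
    exact LinearMap.mem_ker.1 hzc.2
  have hτt : vmk(p) z (mem_verSub_of_mem _ q hzn) ∈ GrLC.gam m'.toIdeal (VX(p)).carrier :=
    mem_gam_of_verι 𝒜 𝒜' φ q hφ (E.X p).gr hq m'.toIdeal m.toIdeal hle (by
      rw [verι_verMk]
      exact hzc.1)
  cases p with
  | zero =>
    show z ∈ (⊥ : Submodule R (E.X 0).carrier) ↔
      α 0 (vmk(0) z (mem_verSub_of_mem _ q hzn)) ∈ (⊥ : Submodule R' (F.X 0).carrier)
    rw [Submodule.mem_bot, Submodule.mem_bot]
    constructor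
    · intro h
      have h1 : vmk(0) z (mem_verSub_of_mem _ q hzn) = 0 := by
        apply verι_injective 𝒜 𝒜' φ q hφ (E.X 0).gr hq
        rw [verι_verMk, map_zero, h]
      rw [h1, map_zero]
    · intro h
      have h1 := hI0 _ hτd h
      have h2 := congrArg (vι(0)) h1
      rw [verι_verMk, map_zero] at h2
      exact h2
  | succ p' =>
    show z ∈ (GrLC.gam m.toIdeal (E.X p').carrier).map (E.d p') ↔
      α (p' + 1) (vmk(p' + 1) z (mem_verSub_of_mem _ q hzn)) ∈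
        (GrLC.gam m'.toIdeal (F.X p').carrier).map (F.d p')
    constructor
    · rintro ⟨w, hw, hwz⟩
      obtain ⟨w', hw'⟩ : ∃ w' : (E.X p').carrier,
          w' = ((decompose (E.X p').gr w (j * q) : (E.X p').gr (j * q)) : (E.X p').carrier) :=
        ⟨_, rfl⟩
      have hw'n : w' ∈ (E.X p').gr (j * q) := by
        rw [hw']
        exact (decompose (E.X p').gr w (j * q)).2
      have hw't : w' ∈ GrLC.gam m.toIdeal (E.X p').carrier := by
        rw [hw']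
        exact gam_isHomogeneous 𝒜 (E.X p').gr m (j * q) hw
      have hw'd : E.d p' w' = z := by
        rw [hw', ← grHom_comp (E.X p').gr (E.X (p' + 1)).gr (E.d_grHom p') w (j * q), hwz]
        exact decompose_of_mem_same _ hzn
      refine ⟨α p' (vmk(p') w' (mem_verSub_of_mem _ q hw'n)), ?_, ?_⟩
      · exact gam_map m'.toIdeal (α p') (mem_gam_of_verι 𝒜 𝒜' φ q hφ (E.X p').gr hq
          m'.toIdeal m.toIdeal hle (by
            rw [verι_verMk]
            exact hw't))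
      · rw [← hαc]
        congr 1
        apply verι_injective 𝒜 𝒜' φ q hφ (E.X (p' + 1)).gr hq
        rw [verι_verMap, verι_verMk, verι_verMk, hw'd]
    · rintro ⟨f, hf, hfz⟩
      obtain ⟨a', ha', hda'⟩ := hI p' _ hτt hτd f hf hfz.symm
      refine ⟨vι(p') a', verι_mem_gam 𝒜 𝒜' φ q hφ (E.X p').gr hq m'.toIdeal m.toIdeal hge ha',
        ?_⟩
      have h2 := congrArg (vι(p' + 1)) hda'
      rw [verι_verMap, verι_verMk] at h2
      exact h2

include hrad in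
/-- every homogeneous class of `F` comes from the Veronese complex -/
theorem key_surj (α : ∀ k, (VX(k)).carrier →ₗ[R'] (F.X k).carrier)
    (hαgr : ∀ k, GrLC.IsGrHom (VX(k)).gr (F.X k).gr (α k))
    (hS : ∀ (p : ℕ) (z : (F.X (p + 1)).carrier), z ∈ GrLC.gam m'.toIdeal (F.X (p + 1)).carrier →
      F.d (p + 1) z = 0 →
      ∃ a, a ∈ GrLC.gam m'.toIdeal (VX(p + 1)).carrier ∧ vd(p + 1) a = 0 ∧
        ∃ f, f ∈ GrLC.gam m'.toIdeal (F.X p).carrier ∧ z = α (p + 1) a + F.d p f)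
    (hS0 : ∀ (z : (F.X 0).carrier), z ∈ GrLC.gam m'.toIdeal (F.X 0).carrier → F.d 0 z = 0 →
      ∃ a, a ∈ GrLC.gam m'.toIdeal (VX(0)).carrier ∧ vd(0) a = 0 ∧ z = α 0 a)
    (j : ℤ) (p : ℕ) (c : (F.X p).carrier) (hcc : c ∈ F.cocyc m' p) (hcj : c ∈ (F.X p).gr j) :
    ∃ (z : (E.X p).carrier) (hzn : z ∈ (E.X p).gr (j * q)), z ∈ E.cocyc m p ∧
      c - α p (vmk(p) z (mem_verSub_of_mem _ q hzn)) ∈ F.cobdy m' p := by
  cases p with
  | zero =>
    obtain ⟨a, ha, hda, hca⟩ := hS0 c hcc.1 (LinearMap.mem_ker.1 hcc.2)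
    obtain ⟨z, hzn, hzc, hz⟩ := comp_facts 𝒜 𝒜' φ q hφ hq ℳ E m m' hrad j 0 a ha hda
    refine ⟨z, hzn, hzc, ?_⟩
    show c - α 0 (vmk(0) z (mem_verSub_of_mem _ q hzn)) ∈ (⊥ : Submodule R' (F.X 0).carrier)
    rw [Submodule.mem_bot, hz, ← grHom_comp (VX(0)).gr (F.X 0).gr (hαgr 0) a j, ← hca,
      decompose_of_mem_same _ hcj, sub_self]
  | succ p' =>
    obtain ⟨a, ha, hda, f, hf, hcaf⟩ := hS p' c hcc.1 (LinearMap.mem_ker.1 hcc.2)
    obtain ⟨z, hzn, hzc, hz⟩ := comp_facts 𝒜 𝒜' φ q hφ hq ℳ E m m' hrad j (p' + 1) a ha hda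
    refine ⟨z, hzn, hzc, ?_⟩
    show c - α (p' + 1) (vmk(p' + 1) z (mem_verSub_of_mem _ q hzn)) ∈
      (GrLC.gam m'.toIdeal (F.X p').carrier).map (F.d p')
    refine ⟨((decompose (F.X p').gr f j : (F.X p').gr j) : (F.X p').carrier),
      gam_isHomogeneous 𝒜' (F.X p').gr m' j hf, ?_⟩
    rw [hz, ← grHom_comp (VX(p' + 1)).gr (F.X (p' + 1)).gr (hαgr (p' + 1)) a j,
      ← grHom_comp (F.X p').gr (F.X (p' + 1)).gr (F.d_grHom p') f j]
    have h1 : F.d p' f = c - α (p' + 1) a := by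
      rw [hcaf, add_sub_cancel_left]
    rw [h1, decompose_sub, DirectSum.sub_apply, AddSubgroupClass.coe_sub,
      decompose_of_mem_same _ hcj]

include hφ hq hgs hgdeg hginj hle hrad in
/-- **Graded local cohomology of a Veronese submodule**, as an equality of dimensions of
pieces -/
theorem finrank_Hcomp_ver (hφinj : Function.Injective φ)
    (hsurj0 : ∀ x ∈ 𝒜 0, ∃ r ∈ 𝒜' 0, φ r = x) (p : ℕ) (j : ℤ) :
    Module.finrank (GrLC.deg0 𝒜') (F.Hcomp m' p j) =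
      Module.finrank (GrLC.deg0 𝒜) (E.Hcomp m p (j * q)) := by
  obtain ⟨α, hαgr, hα0, hαc⟩ := exists_alpha 𝒜 𝒜' φ q hφ hq ℳ ℳ' g hgs hginj hgdeg E F
  obtain ⟨hS, hI, hS0, hI0⟩ :=
    cone_facts 𝒜 𝒜' φ q hφ hq ℳ ℳ' g hgs hginj hgdeg E F m m' hrad α hα0 hαc
  have KEY := key_cobdy 𝒜 𝒜' φ q hφ hq ℳ ℳ' E F m m' hle hrad α hαc hI hI0 j p
  have SURJ := key_surj 𝒜 𝒜' φ q hφ hq ℳ ℳ' E F m m' hrad α hαgr hS hS0 j p
  have hσmem : ∀ r : GrLC.deg0 𝒜', φ (r : R') ∈ 𝒜 0 := by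
    intro r
    have h := hφ 0 r r.2
    rwa [zero_mul] at h
  obtain ⟨σ, hσdef⟩ : ∃ σ : GrLC.deg0 𝒜' → GrLC.deg0 𝒜, ∀ r, ((σ r : GrLC.deg0 𝒜) : R) =
      φ (r : R') := ⟨fun r => ⟨φ (r : R'), hσmem r⟩, fun _ => rfl⟩
  have hσ : Function.Bijective σ := by
    constructor
    · intro r s h
      have h1 := congrArg Subtype.val h
      rw [hσdef, hσdef] at h1
      exact Subtype.ext (hφinj h1)
    · rintro ⟨x, hx⟩
      obtain ⟨r, hr, hrx⟩ := hsurj0 x hx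
      refine ⟨⟨r, hr⟩, Subtype.ext ?_⟩
      rw [hσdef]
      exact hrx
  obtain ⟨P, hP⟩ : ∃ P : Submodule (GrLC.deg0 𝒜) (E.X p).carrier,
      ∀ z, z ∈ P ↔ z ∈ (E.X p).gr (j * q) ∧ z ∈ E.cocyc m p :=
    ⟨GrLC.comp 𝒜 (E.X p).gr (j * q) ⊓ (E.cocyc m p).restrictScalars (GrLC.deg0 𝒜),
      fun _ => Iff.rfl⟩
  have hPn : ∀ z : ↥P, (z : (E.X p).carrier) ∈ (E.X p).gr (j * q) := fun z => ((hP _).1 z.2).1
  have hPc : ∀ z : ↥P, (z : (E.X p).carrier) ∈ E.cocyc m p := fun z => ((hP _).1 z.2).2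
  have hτd : ∀ z : ↥P,
      vd(p) (vmk(p) (z : (E.X p).carrier) (mem_verSub_of_mem _ q (hPn z))) = 0 := by
    intro z
    apply verι_injective 𝒜 𝒜' φ q hφ (E.X (p + 1)).gr hq
    rw [verι_verMap, verι_verMk, map_zero]
    exact LinearMap.mem_ker.1 (hPc z).2
  have hτc : ∀ z : ↥P,
      α p (vmk(p) (z : (E.X p).carrier) (mem_verSub_of_mem _ q (hPn z))) ∈ F.cocyc m' p := by
    intro z
    refine ⟨gam_map m'.toIdeal (α p) (mem_gam_of_verι 𝒜 𝒜' φ q hφ (E.X p).gr hq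
      m'.toIdeal m.toIdeal hle (by
        rw [verι_verMk]
        exact (hPc z).1)), LinearMap.mem_ker.2 ?_⟩
    rw [← hαc, hτd z, map_zero]
  have hτn : ∀ z : ↥P,
      α p (vmk(p) (z : (E.X p).carrier) (mem_verSub_of_mem _ q (hPn z))) ∈ (F.X p).gr j := by
    intro z
    refine hαgr p j _ ((mem_verG_gr 𝒜 𝒜' φ q hφ (E.X p).gr hq).2 ?_)
    rw [verι_verMk]
    exact hPn z
  obtain ⟨f₁, hf₁⟩ : ∃ f₁ : ↥P → ↥(E.Hcomp m p (j * q)), ∀ z : ↥P,
      ((f₁ z : ↥(E.Hcomp m p (j * q))) : E.H m p) =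
        E.toH m p ⟨(z : (E.X p).carrier), hPc z⟩ :=
    ⟨fun z => ⟨E.toH m p ⟨(z : (E.X p).carrier), hPc z⟩,
      ⟨⟨(z : (E.X p).carrier), hPc z⟩, hPn z, rfl⟩⟩, fun _ => rfl⟩
  obtain ⟨f₂, hf₂⟩ : ∃ f₂ : ↥P → ↥(F.Hcomp m' p j), ∀ z : ↥P,
      ((f₂ z : ↥(F.Hcomp m' p j)) : F.H m' p) =
        F.toH m' p ⟨α p (vmk(p) (z : (E.X p).carrier) (mem_verSub_of_mem _ q (hPn z))),
          hτc z⟩ :=
    ⟨fun z => ⟨F.toH m' p ⟨_, hτc z⟩, ⟨⟨_, hτc z⟩, hτn z, rfl⟩⟩, fun _ => rfl⟩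
  refine finrank_eq_of_corr σ hσ f₁ f₂ ?_ ?_ ?_ ?_ ?_ ?_ ?_
  · intro z w
    apply Subtype.ext
    rw [Submodule.coe_add, hf₁, hf₁, hf₁, ← map_add]
    rfl
  · intro z w
    apply Subtype.ext
    rw [Submodule.coe_add, hf₂, hf₂, hf₂, ← map_add]
    congr 1
    apply Subtype.ext
    show α p (vmk(p) ((z + w : ↥P) : (E.X p).carrier) _) =
      α p (vmk(p) (z : (E.X p).carrier) _) + α p (vmk(p) (w : (E.X p).carrier) _)
    rw [← map_add]
    congr 1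
  · intro r z
    apply Subtype.ext
    rw [Submodule.coe_smul, hf₁, hf₁]
    show E.toH m p ⟨((r • z : ↥P) : (E.X p).carrier), _⟩ =
      (r : R) • E.toH m p ⟨(z : (E.X p).carrier), _⟩
    rw [← map_smul]
    rfl
  · intro r z
    apply Subtype.ext
    rw [Submodule.coe_smul, hf₂, hf₂]
    show F.toH m' p ⟨α p (vmk(p) ((σ r • z : ↥P) : (E.X p).carrier) _), _⟩ =
      (r : R') • F.toH m' p ⟨α p (vmk(p) (z : (E.X p).carrier) _), _⟩
    rw [← map_smul]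
    congr 1
    apply Subtype.ext
    show α p (vmk(p) ((σ r • z : ↥P) : (E.X p).carrier) _) =
      (r : R') • α p (vmk(p) (z : (E.X p).carrier) _)
    rw [← map_smul]
    congr 1
    apply verι_injective 𝒜 𝒜' φ q hφ (E.X p).gr hq
    rw [verι_smul, verι_verMk, verι_verMk, ← hσdef]
    rfl
  · rintro ⟨y, ⟨c, hcn, hcy⟩⟩
    refine ⟨⟨c.1, (hP _).2 ⟨hcn, c.2⟩⟩, Subtype.ext ?_⟩
    rw [hf₁]
    exact hcy
  · rintro ⟨y, ⟨c, hcn, hcy⟩⟩
    obtain ⟨z, hzn, hzc, hz⟩ := SURJ c.1 c.2 hcn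
    refine ⟨⟨z, (hP _).2 ⟨hzn, hzc⟩⟩, Subtype.ext ?_⟩
    rw [hf₂]
    show F.toH m' p ⟨α p (vmk(p) z _), _⟩ = y
    rw [← hcy]
    refine (Submodule.Quotient.eq _).2 ?_
    show α p (vmk(p) z _) - c.1 ∈ F.cobdy m' p
    have h3 := neg_mem hz
    rwa [neg_sub] at h3
  · intro z
    have h1 : f₁ z = 0 ↔ (z : (E.X p).carrier) ∈ E.cobdy m p := by
      rw [Subtype.ext_iff, hf₁, ZeroMemClass.coe_zero]
      exact Submodule.Quotient.mk_eq_zero _
    have h2 : f₂ z = 0 ↔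
        α p (vmk(p) (z : (E.X p).carrier) (mem_verSub_of_mem _ q (hPn z))) ∈ F.cobdy m' p := by
      rw [Subtype.ext_iff, hf₂, ZeroMemClass.coe_zero]
      exact Submodule.Quotient.mk_eq_zero _
    rw [h1, h2]
    exact KEY z.1 (hPn z) (hPc z)

end Main

end Groth.Agent.H98.GrVer
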