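import Groth.Agent.H98.GrVerMain

/-!
# Helper library (helper98): the Veronese correspondence between classes of
`H^p_m(M)_{jq}` and `H^p_{m'}(M^(q))_j`, compatible with multiplication by `R'`.
-/

set_option autoImplicit false
universe u

open DirectSum

namespace Groth.Agent.H98.GrVer

open Groth.Agent.H98.GrCat

section Rel

variable {R : Type u} [CommRing R] [IsNoetherianRing R] (𝒜 : ℤ → AddSubgroup R) [GradedRing 𝒜]
variable {R' : Type u} [CommRing R'] [IsNoetherianRing R'] (𝒜' : ℤ → AddSubgroup R')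
  [GradedRing 𝒜']
variable (φ : R' →+* R) (q : ℕ) (hφ : ∀ (j : ℤ) (r : R'), r ∈ 𝒜' j → φ r ∈ 𝒜 (j * q))
  (hq : 0 < q)
variable {M : Type u} [AddCommGroup M] [Module R M] (ℳ : ℤ → AddSubgroup M)
  [DirectSum.Decomposition ℳ] [SetLike.GradedSMul 𝒜 ℳ]
variable {M' : Type u} [AddCommGroup M'] [Module R' M'] (ℳ' : ℤ → AddSubgroup M')
  [DirectSum.Decomposition ℳ'] [SetLike.GradedSMul 𝒜' ℳ']
variable (g : M' →+ M) (hgs : ∀ (r : R') (x : M'), g (r • x) = φ r • g x)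
  (hginj : Function.Injective g)
  (hgdeg : ∀ j : ℤ, (ℳ' j).map g = ℳ (j * q))
variable (E : GrLC.StarInjRes 𝒜 ℳ) (F : GrLC.StarInjRes 𝒜' ℳ')
variable (m : HomogeneousIdeal 𝒜) (m' : HomogeneousIdeal 𝒜')
  (hle : m'.toIdeal.map φ ≤ m.toIdeal)
  (hrad : (m'.toIdeal.map φ).radical = m.toIdeal.radical)

local notation "VX(" k ")" => verG 𝒜 𝒜' φ q hφ (GrLC.GMod.gr (GrLC.StarInjRes.X E k)) hq
local notation "vι(" k ")" => verι 𝒜 𝒜' φ q hφ (GrLC.GMod.gr (GrLC.StarInjRes.X E k)) hq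
local notation "vmk(" k ")" => verMk 𝒜 𝒜' φ q hφ (GrLC.GMod.gr (GrLC.StarInjRes.X E k)) hq
local notation "vd(" k ")" => verMap 𝒜 𝒜' φ q hφ (GrLC.GMod.gr (GrLC.StarInjRes.X E k))
  (GrLC.GMod.gr (GrLC.StarInjRes.X E (k + 1))) hq (GrLC.StarInjRes.d E k)
  (GrLC.StarInjRes.d_grHom E k)

include hφ hq hgs hgdeg hginj hle hrad in
/-- **the Veronese correspondence**: a relation between classes of `H^p_m(M)` of degree `jq` and
classes of `H^p_{m'}(M')` of degree `j`, total on the left, preserving and reflecting zero, and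
compatible with multiplication by homogeneous elements of `R'` -/
theorem exists_rel (p : ℕ) :
    ∃ Rel : ℤ → E.H m p → F.H m' p → Prop,
      (∀ j x, x ∈ E.Hgr m p (j * q) → ∃ x', x' ∈ F.Hgr m' p j ∧ Rel j x x') ∧
      (∀ j x x', Rel j x x' → (x = 0 ↔ x' = 0)) ∧
      (∀ j x x', Rel j x x' → ∀ (i : ℤ) (r : R'), r ∈ 𝒜' i → Rel (i + j) (φ r • x) (r • x')) := by
  obtain ⟨α, hαgr, hα0, hαc⟩ := exists_alpha 𝒜 𝒜' φ q hφ hq ℳ ℳ' g hgs hginj hgdeg E F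
  obtain ⟨hS, hI, hS0, hI0⟩ :=
    cone_facts 𝒜 𝒜' φ q hφ hq ℳ ℳ' g hgs hginj hgdeg E F m m' hrad α hα0 hαc
  have KEY := fun j => key_cobdy 𝒜 𝒜' φ q hφ hq ℳ ℳ' E F m m' hle hrad α hαc hI hI0 j p
  have hτd : ∀ (j : ℤ) (z : (E.X p).carrier) (hzn : z ∈ (E.X p).gr (j * q)),
      z ∈ E.cocyc m p → vd(p) (vmk(p) z (mem_verSub_of_mem _ q hzn)) = 0 := by
    intro j z hzn hzc
    apply verι_injective 𝒜 𝒜' φ q hφ (E.X (p + 1)).gr hq
    rw [verι_verMap, verι_verMk, map_zero]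
    exact LinearMap.mem_ker.1 hzc.2
  have hτc : ∀ (j : ℤ) (z : (E.X p).carrier) (hzn : z ∈ (E.X p).gr (j * q)),
      z ∈ E.cocyc m p → α p (vmk(p) z (mem_verSub_of_mem _ q hzn)) ∈ F.cocyc m' p := by
    intro j z hzn hzc
    refine ⟨gam_map m'.toIdeal (α p) (mem_gam_of_verι 𝒜 𝒜' φ q hφ (E.X p).gr hq
      m'.toIdeal m.toIdeal hle (by
        rw [verι_verMk]
        exact hzc.1)), LinearMap.mem_ker.2 ?_⟩
    rw [← hαc, hτd j z hzn hzc, map_zero]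
  have hτn : ∀ (j : ℤ) (z : (E.X p).carrier) (hzn : z ∈ (E.X p).gr (j * q)),
      α p (vmk(p) z (mem_verSub_of_mem _ q hzn)) ∈ (F.X p).gr j := by
    intro j z hzn
    refine hαgr p j _ ((mem_verG_gr 𝒜 𝒜' φ q hφ (E.X p).gr hq).2 ?_)
    rw [verι_verMk]
    exact hzn
  refine ⟨fun j x x' => ∃ (z : (E.X p).carrier) (hzn : z ∈ (E.X p).gr (j * q))
      (hzc : z ∈ E.cocyc m p) (c : F.cocyc m' p),
      (c : (F.X p).carrier) = α p (vmk(p) z (mem_verSub_of_mem _ q hzn)) ∧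
      x = E.toH m p ⟨z, hzc⟩ ∧ x' = F.toH m' p c, ?_, ?_, ?_⟩
  · rintro j x ⟨zc, hzn, rfl⟩
    refine ⟨F.toH m' p ⟨_, hτc j zc.1 hzn zc.2⟩, ⟨⟨_, hτc j zc.1 hzn zc.2⟩, hτn j zc.1 hzn, rfl⟩,
      zc.1, hzn, zc.2, ⟨_, hτc j zc.1 hzn zc.2⟩, rfl, rfl, rfl⟩
  · rintro j x x' ⟨z, hzn, hzc, c, hc, rfl, rfl⟩
    have h1 : E.toH m p ⟨z, hzc⟩ = 0 ↔ z ∈ E.cobdy m p := by
      have h := Submodule.Quotient.mk_eq_zero ((E.cobdy m p).comap (E.cocyc m p).subtype)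
        (x := (⟨z, hzc⟩ : E.cocyc m p))
      exact h
    have h2 : F.toH m' p c = 0 ↔ (c : (F.X p).carrier) ∈ F.cobdy m' p := by
      have h := Submodule.Quotient.mk_eq_zero ((F.cobdy m' p).comap (F.cocyc m' p).subtype)
        (x := c)
      exact h
    rw [h1, h2, hc]
    exact KEY j z hzn hzc
  · rintro j x x' ⟨z, hzn, hzc, c, hc, rfl, rfl⟩ i r hr
    have hzn2 : φ r • z ∈ (E.X p).gr ((i + j) * q) := by
      have h := gsmul_mem 𝒜 (E.X p).gr (hφ i r hr) hzn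
      rwa [← add_mul] at h
    have hzc2 : φ r • z ∈ E.cocyc m p := (E.cocyc m p).smul_mem _ hzc
    refine ⟨φ r • z, hzn2, hzc2, r • c, ?_, ?_, ?_⟩
    · rw [Submodule.coe_smul, hc, ← map_smul]
      congr 1
    · rw [← map_smul]
      rfl
    · rw [map_smul]

end Rel

end Groth.Agent.H98.GrVer
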