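import Groth.Agent.H98.GrCanon
import Groth.Agent.H98.GrConv
import Groth.Agent.H54.IntegralDim

/-!
# Helper library (helper98): the weighted polynomial ring `k[X_1, …, X_N]`, `deg X_i = w_i > 0`:
the variables form a regular sequence, the degree-zero subring is the field `k`, the ring is
positively graded, every homogeneous element of nonzero degree lies in `(X_1, …, X_N)`; the
*canonical module is `R(-Σ w_i)`.
-/

set_option autoImplicit false
universe u

open DirectSum

namespace Groth.Agent.H98.GrWPoly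

open Groth.Agent.H98.GrCat Groth.Agent.H98.GrHt Groth.Agent.H98.GrConv

attribute [local instance] MvPolynomial.weightedGradedAlgebra

section Reg

variable (k : Type u) [Field k] (N : ℕ)

theorem one_notMem_span_X : (1 : MvPolynomial (Fin N) k) ∉
    Ideal.span (Set.range (MvPolynomial.X : Fin N → MvPolynomial (Fin N) k)) := by
  classical
  rw [← Set.image_univ, MvPolynomial.mem_ideal_span_X_image]
  intro h
  have h0 : (0 : Fin N →₀ ℕ) ∈ (1 : MvPolynomial (Fin N) k).support := by
    rw [MvPolynomial.mem_support_iff, MvPolynomial.coeff_one, if_pos rfl]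
    exact one_ne_zero
  obtain ⟨i, _, hi⟩ := h 0 h0
  exact hi rfl

theorem X_take_eq (s : ℕ) :
    Ideal.ofList ((List.ofFn (fun i : Fin N =>
      (MvPolynomial.X i : MvPolynomial (Fin N) k))).take s) =
      Ideal.span (MvPolynomial.X '' {i : Fin N | i.val < s}) := by
  show Ideal.span {y | y ∈ (List.ofFn (fun i : Fin N =>
      (MvPolynomial.X i : MvPolynomial (Fin N) k))).take s} = _
  congr 1
  ext y
  rw [Set.mem_ofPred_eq, List.mem_take_iff_getElem]
  constructor
  · rintro ⟨n, hn, rfl⟩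
    have hn' := lt_min_iff.1 hn
    rw [List.length_ofFn] at hn'
    refine ⟨⟨n, hn'.2⟩, hn'.1, ?_⟩
    rw [List.getElem_ofFn]
  · rintro ⟨i, hi, rfl⟩
    have hi' : i.val < s := hi
    refine ⟨i.val, lt_min_iff.2 ⟨hi', ?_⟩, ?_⟩
    · rw [List.length_ofFn]
      exact i.isLt
    · rw [List.getElem_ofFn]

theorem X_isWeaklyRegular : RingTheory.Sequence.IsWeaklyRegular (MvPolynomial (Fin N) k)
    (List.ofFn (fun i : Fin N => (MvPolynomial.X i : MvPolynomial (Fin N) k))) := by
  classical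
  refine ⟨fun s hs => ?_⟩
  have hs' : s < N := by
    rw [List.length_ofFn] at hs
    exact hs
  rw [isSMulRegular_quotient_iff_mem_of_smul_mem]
  have hset : Ideal.ofList ((List.ofFn (fun i : Fin N =>
      (MvPolynomial.X i : MvPolynomial (Fin N) k))).take s) •
        (⊤ : Submodule (MvPolynomial (Fin N) k) (MvPolynomial (Fin N) k)) =
      Ideal.span (MvPolynomial.X '' {i : Fin N | i.val < s}) := by
    rw [smul_eq_mul, Ideal.mul_top]
    exact X_take_eq k N s
  have hget : (List.ofFn (fun i : Fin N =>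
      (MvPolynomial.X i : MvPolynomial (Fin N) k)))[s] = MvPolynomial.X ⟨s, hs'⟩ := by
    rw [List.getElem_ofFn]
  rw [hset, hget]
  intro p hp
  rw [smul_eq_mul, MvPolynomial.mem_ideal_span_X_image] at hp
  rw [MvPolynomial.mem_ideal_span_X_image]
  intro m hm
  have hm' : Finsupp.single (⟨s, hs'⟩ : Fin N) 1 + m ∈
      (MvPolynomial.X (⟨s, hs'⟩ : Fin N) * p).support := by
    rw [MvPolynomial.mem_support_iff, MvPolynomial.coeff_X_mul]
    exact MvPolynomial.mem_support_iff.1 hm
  obtain ⟨i, hi, hne⟩ := hp _ hm'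
  refine ⟨i, hi, ?_⟩
  have his : i ≠ (⟨s, hs'⟩ : Fin N) := by
    intro h
    rw [h] at hi
    exact lt_irrefl _ (show s < s from hi)
  rw [Finsupp.add_apply, Finsupp.single_eq_of_ne his, zero_add] at hne
  exact hne

theorem X_isRegular : RingTheory.Sequence.IsRegular (MvPolynomial (Fin N) k)
    (List.ofFn (fun i : Fin N => (MvPolynomial.X i : MvPolynomial (Fin N) k))) := by
  refine ⟨X_isWeaklyRegular k N, ?_⟩
  intro h
  apply one_notMem_span_X k N
  have h1 : Ideal.ofList (List.ofFn (fun i : Fin N =>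
      (MvPolynomial.X i : MvPolynomial (Fin N) k))) =
      Ideal.span (Set.range (MvPolynomial.X : Fin N → MvPolynomial (Fin N) k)) := by
    show Ideal.span {y | y ∈ List.ofFn (fun i : Fin N =>
      (MvPolynomial.X i : MvPolynomial (Fin N) k))} = _
    congr 1
    ext y
    rw [Set.mem_ofPred_eq, List.mem_ofFn]
    rfl
  rw [← h1]
  rw [smul_eq_mul, Ideal.mul_top] at h
  rw [← h]
  exact Submodule.mem_top

end Reg

section Weighted

variable (k : Type u) [Field k] (N : ℕ) (w : Fin N → ℤ) (hw : ∀ i, 0 < w i)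

include hw in
theorem weight_pos {d : Fin N →₀ ℕ} (hd : d ≠ 0) : 0 < Finsupp.weight w d := by
  have hs : ∃ s, d s ≠ 0 := by
    by_contra h
    push Not at h
    exact hd (Finsupp.ext h)
  obtain ⟨s, hs⟩ := hs
  exact lt_of_lt_of_le (hw s) (Finsupp.le_weight_of_ne_zero (fun s => (hw s).le) hs)

include hw in
theorem weight_nonneg (d : Fin N →₀ ℕ) : 0 ≤ Finsupp.weight w d := by
  by_cases hd : d = 0
  · rw [hd, map_zero]
  · exact (weight_pos N w hw hd).le

/-- the weighted grading, as a family of additive subgroups -/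
noncomputable abbrev WA : ℤ → AddSubgroup (MvPolynomial (Fin N) k) :=
  toAS (MvPolynomial.weightedHomogeneousSubmodule k w)

theorem mem_WA {n : ℤ} {p : MvPolynomial (Fin N) k} :
    p ∈ WA k N w n ↔ p.IsWeightedHomogeneous w n := Iff.rfl

include hw in
theorem wa_neg (n : ℤ) (hn : n < 0) : WA k N w n = ⊥ := by
  classical
  rw [AddSubgroup.eq_bot_iff_forall]
  intro p hp
  have hp' : p.IsWeightedHomogeneous w n := hp
  by_contra hne
  obtain ⟨d, hd⟩ := MvPolynomial.ne_zero_iff.1 hne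
  have h1 := hp' hd
  have h2 := weight_nonneg N w hw d
  omega

theorem coeff_zero_of_mem {n : ℤ} (hn : n ≠ 0) {p : MvPolynomial (Fin N) k}
    (hp : p ∈ WA k N w n) : MvPolynomial.coeff 0 p = 0 := by
  have hp' : p.IsWeightedHomogeneous w n := hp
  by_contra hne
  have h1 := hp' hne
  rw [map_zero] at h1
  exact hn h1.symm

theorem mem_span_X_of_mem {n : ℤ} (hn : n ≠ 0) {p : MvPolynomial (Fin N) k}
    (hp : p ∈ WA k N w n) :
    p ∈ Ideal.span (Set.range (MvPolynomial.X : Fin N → MvPolynomial (Fin N) k)) := by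
  classical
  rw [← Set.image_univ, MvPolynomial.mem_ideal_span_X_image]
  intro m hm
  have hm0 : m ≠ 0 := by
    intro h
    rw [h, MvPolynomial.mem_support_iff] at hm
    exact hm (coeff_zero_of_mem k N w hn hp)
  have hs : ∃ s, m s ≠ 0 := by
    by_contra h
    push Not at h
    exact hm0 (Finsupp.ext h)
  obtain ⟨s, hs⟩ := hs
  exact ⟨s, Set.mem_univ _, hs⟩

include hw in
theorem eq_C_of_mem_zero (x : MvPolynomial (Fin N) k) (hx : x ∈ WA k N w 0) :
    x = MvPolynomial.C (MvPolynomial.coeff 0 x) := by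
  classical
  have hx' : x.IsWeightedHomogeneous w 0 := hx
  ext v
  rw [MvPolynomial.coeff_C]
  by_cases hv : 0 = v
  · rw [if_pos hv, hv]
  · rw [if_neg hv]
    by_contra hc
    have h1 : Finsupp.weight w v = 0 := hx' hc
    have h2 := weight_pos N w hw (fun h => hv h.symm)
    omega

/-- the constants, as a ring homomorphism onto the degree-zero subring -/
noncomputable def c0 : k →+* GrLC.deg0 (WA k N w) :=
  (MvPolynomial.C : k →+* MvPolynomial (Fin N) k).codRestrict (GrLC.deg0 (WA k N w))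
    (fun c => MvPolynomial.isWeightedHomogeneous_C w c)

theorem c0_coe (c : k) :
    ((c0 k N w c : GrLC.deg0 (WA k N w)) : MvPolynomial (Fin N) k) = MvPolynomial.C c := rfl

include hw in
theorem c0_bijective : Function.Bijective (c0 k N w) := by
  constructor
  · intro a b hab
    have h1 := congrArg (fun z : GrLC.deg0 (WA k N w) => (z : MvPolynomial (Fin N) k)) hab
    simp only [c0_coe] at h1
    exact MvPolynomial.C_injective _ _ h1
  · rintro ⟨x, hx⟩
    refine ⟨MvPolynomial.coeff 0 x, Subtype.ext ?_⟩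
    rw [c0_coe]
    exact (eq_C_of_mem_zero k N w hw x hx).symm

include hw in
theorem deg0_isField : IsField (GrLC.deg0 (WA k N w)) :=
  MulEquiv.isField (Field.toIsField k)
    (RingEquiv.ofBijective (c0 k N w) (c0_bijective k N w hw)).symm.toMulEquiv

theorem X_mem (i : Fin N) : (MvPolynomial.X i : MvPolynomial (Fin N) k) ∈ WA k N w (w i) :=
  MvPolynomial.isWeightedHomogeneous_X k w i

end Weighted

section General

variable {R : Type u} [CommRing R] [IsNoetherianRing R] (𝒜 : ℤ → AddSubgroup R) [GradedRing 𝒜]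
  (hpos : ∀ n : ℤ, n < 0 → 𝒜 n = ⊥) (h0 : IsField (GrLC.deg0 𝒜))
variable {E' : Type u} [AddCommGroup E'] [Module R E'] (𝓔 : ℤ → AddSubgroup E')
  [DirectSum.Decomposition 𝓔] [SetLike.GradedSMul 𝒜 𝓔]
variable {C : Type u} [AddCommGroup C] [Module R C] (𝒞 : ℤ → AddSubgroup C)
  [DirectSum.Decomposition 𝒞] [SetLike.GradedSMul 𝒜 𝒞] [Module.Finite R C]
variable (I : GrLC.StarInjRes 𝒜 𝒜) (n : ℕ)

include hpos h0 in
theorem exists_bijective_of_hilb' [IsDomain R] (a : HomogeneousIdeal 𝒜) (ha : a = irr 𝒜)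
    (e : (R ⧸ a.toIdeal) →ₗ[R] E') (he : GrLC.IsStarInjHull 𝒜 (GrLC.quotGr 𝒜 a) 𝓔 e)
    (hn : ringKrullDim R = n) (d : ℤ)
    (φ : (C →ₗ[R] E') ≃ₗ[R] I.H a n)
    (hφ : ∀ (c0 : ℤ) (g : C →ₗ[R] E'), GrLC.IsGrHomDeg 𝒞 𝓔 g c0 → φ g ∈ I.Hgr a n c0)
    (hH : ∀ j : ℤ, len (GrLC.deg0 𝒜) (I.Hcomp (irr 𝒜) n j) =
      len (GrLC.deg0 𝒜) (GrLC.comp 𝒜 𝒜 (-j - d))) :
    ∃ f : R →ₗ[R] C, Function.Bijective f ∧ GrLC.IsGrHomDeg 𝒜 𝒞 f d := by
  subst ha
  exact GrCanon.exists_bijective_of_hilb 𝒜 hpos h0 𝓔 e he 𝒞 I n hn d φ hφ hH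

end General

end Groth.Agent.H98.GrWPoly
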