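import Mathlib
import Groth.Prelude.Def_Wider
import Groth.Prelude.Def_CAlg
import Groth.Agent.H58.LCBridge
import Groth.Agent.H84.HL_CPL

/-!
# (T1a) for helper55's S17760 squad (helper98): bridge from Mathlib's `Ext` functor to
`Abelian.Ext`, and faithfully flat descent of finite length from the completion.
-/

set_option autoImplicit false
universe u
open IsLocalRing CategoryTheory Opposite

namespace Groth.Agent.H98.HL_T1a

/-- (T1a) bridge from Mathlib's `Ext` functor to `Abelian.Ext`, and faithfully flat descent of
finite length from the completion. -/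
theorem ext_descent (R : Type u) [CommRing R] [IsNoetherianRing R] [IsLocalRing R]
    (X Y : ModuleCat.{u} R) (i : ℕ)
    (h : IsFiniteLength (AdicCompletion (maximalIdeal R) R)
      (TensorProduct R (AdicCompletion (maximalIdeal R) R) (Abelian.Ext X Y i))) :
    IsFiniteLength R (((Ext R (ModuleCat.{u} R) i).obj (op X)).obj Y) := by
  haveI : Module.FaithfullyFlat R (AdicCompletion (maximalIdeal R) R) :=
    (Groth.Agent.H84.HL_CPL.completion_facts R).2.2.2
  rw [isFiniteLength_iff_isNoetherian_isArtinian] at h ⊢
  obtain ⟨hN, hA⟩ := h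
  have hN' : IsNoetherian R (Abelian.Ext X Y i) :=
    Submodule.IsNoetherian.of_isNoetherian_tensorProduct_of_faithfullyFlat hN
  have hA' : IsArtinian R (Abelian.Ext X Y i) :=
    Submodule.IsArtinian.of_isArtinian_tensorProduct_of_faithfullyFlat hA
  exact ⟨isNoetherian_of_linearEquiv (Groth.Agent.H58.LCBridge.bridge X Y i).symm,
    isArtinian_of_linearEquiv (Groth.Agent.H58.LCBridge.bridge X Y i).symm⟩

end Groth.Agent.H98.HL_T1a
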