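import Mathlib
import Groth.Prelude.Def_Wider
import Groth.Prelude.Def_CAlg
import Groth.Agent.H33.HL_T6

/-!
# (T1c) for helper55's S17760 squad (helper98): transport of finite length of `Ext` along
isomorphisms of both arguments.
-/

set_option autoImplicit false
universe u
open IsLocalRing CategoryTheory Opposite

namespace Groth.Agent.H98.HL_T1c

/-- (T1c) transport of finite length of `Ext` along isomorphisms of both arguments. -/
theorem ext_finiteLength_congr_both (S : Type u) [CommRing S] (X X' A A' : Type u)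
    [AddCommGroup X] [Module S X] [AddCommGroup X'] [Module S X'] [AddCommGroup A] [Module S A]
    [AddCommGroup A'] [Module S A'] (eX : X ≃ₗ[S] X') (eA : A ≃ₗ[S] A') (i : ℕ)
    (h : IsFiniteLength S (Abelian.Ext (ModuleCat.of S X') (ModuleCat.of S A') i)) :
    IsFiniteLength S (Abelian.Ext (ModuleCat.of S X) (ModuleCat.of S A) i) := by
  have h1 : IsFiniteLength S (Abelian.Ext (ModuleCat.of S X') (ModuleCat.of S A) i) :=
    (Groth.Agent.H33.HL_T6.ext_finiteLength_congr S (ModuleCat.of S X') A A' i).1 eA h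
  let φ : ModuleCat.of S X ≅ ModuleCat.of S X' := eX.toModuleIso
  refine IsFiniteLength.of_injective
    (f := Abelian.Ext.precompOfLinear (Abelian.Ext.mk₀ φ.inv) S (ModuleCat.of S A) (zero_add i))
    h1 ?_
  intro x y hxy
  have hh : ∀ z : Abelian.Ext (ModuleCat.of S X) (ModuleCat.of S A) i,
      (Abelian.Ext.mk₀ φ.hom).comp ((Abelian.Ext.mk₀ φ.inv).comp z (zero_add i)) (zero_add i)
        = z := by
    intro z
    rw [Abelian.Ext.mk₀_comp_mk₀_assoc, φ.hom_inv_id, Abelian.Ext.mk₀_id_comp]
  have hxy' : (Abelian.Ext.mk₀ φ.inv).comp x (zero_add i) =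
      (Abelian.Ext.mk₀ φ.inv).comp y (zero_add i) := hxy
  rw [← hh x, ← hh y, hxy']

end Groth.Agent.H98.HL_T1c
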