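import Groth.Agent.H98.GrABPoly
import Groth.Agent.H98.GrReg
import Groth.Agent.H98.GrQuotG

/-!
# Helper library (helper98): the homogeneous ideal of a finite set of points of the projective
plane has a free resolution `0 → S^t → S^{t+1} → I → 0` (Hilbert–Burch shape), via the graded
Auslander–Buchsbaum formula in local-cohomology form.
-/

set_option autoImplicit false
universe u

open DirectSum

namespace Groth.Agent.H98.HilbBurch

open Groth.Agent.H98.GrCat Groth.Agent.H98.GrHt Groth.Agent.H98.GrConv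

section Gen

variable {R : Type u} [CommRing R] [IsNoetherianRing R] {𝒜 : ℤ → AddSubgroup R} [GradedRing 𝒜]

/-- a module without torsion has no `H^0` -/
theorem hv_zero_of_gam (a : HomogeneousIdeal 𝒜) (A : GrLC.GMod.{u} 𝒜)
    (h : ∀ z : A.carrier, z ∈ GrLC.gam a.toIdeal A.carrier → z = 0) (e : ℤ) : HV a A 0 e := by
  intro E c hc _
  have hcd : c ∈ LinearMap.ker (E.d 0) := (Submodule.mem_inf.1 hc).2
  have hcg : c ∈ GrLC.gam a.toIdeal (E.X 0).carrier := (Submodule.mem_inf.1 hc).1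
  rw [E.exact_zero] at hcd
  obtain ⟨z, rfl⟩ := hcd
  obtain ⟨t, ht⟩ := hcg
  have hz : z ∈ GrLC.gam a.toIdeal A.carrier := by
    refine ⟨t, fun s hs => ?_⟩
    have h1 : s • E.ε z = 0 := ht s hs
    rw [← map_smul] at h1
    exact E.ε_injective (by rw [h1, map_zero])
  rw [h z hz, map_zero]
  exact zero_mem _

end Gen

section Rank

/-- the rank count for a resolution `0 → S^b → S^a → J → 0` of a nonzero ideal of a domain -/
theorem rank_count {S : Type u} [CommRing S] [IsDomain S] {a b : ℕ}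
    (Ψ : Matrix (Fin a) (Fin b) S) (π : (Fin a → S) →ₗ[S] S)
    (h1 : LinearMap.ker Ψ.mulVecLin = ⊥) (h2 : LinearMap.ker π = LinearMap.range Ψ.mulVecLin)
    (h3 : LinearMap.range π ≠ ⊥) : a = b + 1 := by
  have hr := LinearMap.rank_range_add_rank_ker π
  have hk : Module.rank S (LinearMap.ker π) = b := by
    rw [h2, rank_range_of_injective _ (LinearMap.ker_eq_bot.1 h1), rank_fin_fun]
  have hJ : Module.rank S (LinearMap.range π) = 1 := by
    apply le_antisymm
    · have h := Submodule.rank_le (LinearMap.range π)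
      rwa [Module.rank_self] at h
    · rw [Cardinal.one_le_iff_pos, rank_pos_iff_exists_ne_zero]
      obtain ⟨x, hx, hx0⟩ := Submodule.exists_mem_ne_zero_of_ne_bot h3
      exact ⟨⟨x, hx⟩, fun h => hx0 (congrArg Subtype.val h)⟩
  rw [hk, hJ, rank_fin_fun] at hr
  have h4 : ((1 + b : ℕ) : Cardinal.{u}) = (a : Cardinal.{u}) := by
    push_cast
    exact hr
  have h5 := Nat.cast_injective h4
  omega

end Rank

section Bridge

variable (k : Type u) [Field k] (r : ℕ)

theorem mem_PA_of_isHomogeneous {f : MvPolynomial (Fin (r + 1)) k} {n : ℕ}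
    (h : f.IsHomogeneous n) : f ∈ PA k r (n : ℤ) := by
  classical
  show f.IsWeightedHomogeneous (fun _ : Fin (r + 1) => (1 : ℤ)) (n : ℤ)
  intro d hd
  have h1 : Finsupp.weight (1 : Fin (r + 1) → ℕ) d = n := h hd
  rw [← h1, Finsupp.weight_apply, Finsupp.weight_apply, Finsupp.sum, Finsupp.sum]
  push_cast
  refine Finset.sum_congr rfl fun i _ => ?_
  simp

theorem comp_eq (f : MvPolynomial (Fin (r + 1)) k) (n : ℕ) :
    ((decompose (PA k r) f (n : ℤ) : PA k r (n : ℤ)) : MvPolynomial (Fin (r + 1)) k) =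
      MvPolynomial.homogeneousComponent n f := by
  classical
  have hmem : ∀ m : ℕ, MvPolynomial.homogeneousComponent m f ∈ PA k r (m : ℤ) := fun m =>
    mem_PA_of_isHomogeneous k r (MvPolynomial.homogeneousComponent_isHomogeneous m f)
  have key : ∀ m ∈ Finset.range (f.totalDegree + 1),
      ((decompose (PA k r) (MvPolynomial.homogeneousComponent m f) (n : ℤ) : PA k r (n : ℤ)) :
        MvPolynomial (Fin (r + 1)) k) =
        if m = n then MvPolynomial.homogeneousComponent m f else 0 := by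
    intro m _
    split_ifs with h
    · subst h
      exact decompose_of_mem_same _ (hmem m)
    · exact decompose_of_mem_ne _ (hmem m) (by exact_mod_cast h)
  conv_lhs => rw [← MvPolynomial.sum_homogeneousComponent f]
  rw [decompose_sum, DFinsupp.finsetSum_apply, AddSubmonoidClass.coe_finsetSum,
    Finset.sum_congr rfl key, Finset.sum_ite_eq']
  split_ifs with h
  · rfl
  · rw [Finset.mem_range, not_lt] at h
    exact (MvPolynomial.homogeneousComponent_eq_zero n f (by omega)).symm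

theorem comp_neg (f : MvPolynomial (Fin (r + 1)) k) (i : ℤ) (hi : i < 0) :
    ((decompose (PA k r) f i : PA k r i) : MvPolynomial (Fin (r + 1)) k) = 0 := by
  have h : ((decompose (PA k r) f i : PA k r i) : MvPolynomial (Fin (r + 1)) k) ∈
      toAS (GrSyz.stdGr k (Fin (r + 1))) i := (decompose (PA k r) f i).2
  rw [stdGr_neg k (Fin (r + 1)) i hi] at h
  exact AddSubgroup.mem_bot.1 h

end Bridge

section Main

variable (k : Type u) [Field k]

local notation "S" => MvPolynomial (Fin (2 + 1)) k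

/-- **Hilbert–Burch shape of the resolution of the ideal of finitely many points of `P²`** -/
theorem hilbert_burch_points (Z : Finset (Fin (2 + 1) → k)) (hZ : ∀ p ∈ Z, p ≠ 0) (I : Ideal S)
    (hI : ∀ f : S, f ∈ I ↔
      ∀ p ∈ Z, ∀ j : ℕ, MvPolynomial.eval p (MvPolynomial.homogeneousComponent j f) = 0) :
    ∃ (t : ℕ) (Ψ : Matrix (Fin (t + 1)) (Fin t) S) (π : (Fin (t + 1) → S) →ₗ[S] S),
      LinearMap.ker Ψ.mulVecLin = ⊥ ∧ LinearMap.ker π = LinearMap.range Ψ.mulVecLin ∧
        LinearMap.range π = I := by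
  have hcoord : ∀ p : Fin (2 + 1) → k, p ≠ 0 → ∃ i, p i ≠ 0 := by
    intro p hp
    by_contra hall
    push Not at hall
    exact hp (funext hall)
  -- `I` is homogeneous
  have hIh : (I : Submodule S S).IsHomogeneous (PA k 2) := by
    intro i f hf
    rcases lt_or_ge i 0 with hi | hi
    · rw [comp_neg k 2 f i hi]
      exact zero_mem _
    · obtain ⟨n, rfl⟩ := Int.eq_ofNat_of_zero_le hi
      rw [comp_eq k 2 f n]
      show MvPolynomial.homogeneousComponent n f ∈ I
      rw [hI]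
      intro p hp j
      rw [MvPolynomial.homogeneousComponent_of_mem (MvPolynomial.homogeneousComponent_mem n f)]
      split_ifs
      · exact (hI f).1 hf p hp n
      · exact map_zero _
  -- `I` is not zero
  have hIne : I ≠ ⊥ := by
    have hlin : ∀ p : Fin (2 + 1) → k, p ≠ 0 →
        ∃ l : S, l.IsHomogeneous 1 ∧ l ≠ 0 ∧ MvPolynomial.eval p l = 0 := by
      intro p hp
      obtain ⟨i, hi⟩ := hcoord p hp
      obtain ⟨j, hj⟩ := exists_ne i
      refine ⟨MvPolynomial.C (p i) * MvPolynomial.X j - MvPolynomial.C (p j) * MvPolynomial.X i,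
        (MvPolynomial.isHomogeneous_C_mul_X _ _).sub (MvPolynomial.isHomogeneous_C_mul_X _ _),
        ?_, ?_⟩
      · intro h
        have h1 := congrArg (MvPolynomial.eval (Pi.single j (1 : k))) h
        rw [map_sub, map_mul, map_mul, MvPolynomial.eval_C, MvPolynomial.eval_C,
          MvPolynomial.eval_X, MvPolynomial.eval_X, Pi.single_eq_same,
          Pi.single_eq_of_ne hj.symm, mul_one, mul_zero, sub_zero, map_zero] at h1
        exact hi h1
      · rw [map_sub, map_mul, map_mul, MvPolynomial.eval_C, MvPolynomial.eval_C,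
          MvPolynomial.eval_X, MvPolynomial.eval_X]
        ring
    choose! l hl1 hl2 hl3 using hlin
    have hh : (∏ p ∈ Z, l p).IsHomogeneous (∑ p ∈ Z, 1) :=
      MvPolynomial.IsHomogeneous.prod Z l (fun _ => 1) (fun p hp => hl1 p (hZ p hp))
    have hg : (∏ p ∈ Z, l p) ∈ I := by
      rw [hI]
      intro p hp j
      rw [MvPolynomial.homogeneousComponent_of_mem hh]
      split_ifs
      · rw [map_prod]
        exact Finset.prod_eq_zero hp (hl3 p (hZ p hp))
      · exact map_zero _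
    intro hbot
    rw [hbot, Ideal.mem_bot] at hg
    exact (Finset.prod_ne_zero_iff.2 (fun p hp => hl2 p (hZ p hp))) hg
  -- `I` is saturated
  have hsat : ∀ f : S, (∃ t : ℕ, ∀ s ∈ (Pm k 2).toIdeal ^ t, s * f ∈ I) → f ∈ I := by
    rintro f ⟨t, ht⟩
    rw [hI]
    intro p hp j
    obtain ⟨i, hi⟩ := hcoord p (hZ p hp)
    have hX : (MvPolynomial.X i : S) ^ t ∈ (Pm k 2).toIdeal ^ t :=
      Ideal.pow_mem_pow (by
        rw [pm_eq_span_X]
        exact Ideal.subset_span ⟨i, rfl⟩) t
    have h1 := (hI _).1 (ht _ hX) p hp (t + j)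
    have hXmem : (MvPolynomial.X i : S) ^ t ∈ PA k 2 (t : ℤ) :=
      mem_PA_of_isHomogeneous k 2 (MvPolynomial.isHomogeneous_X_pow i t)
    have h2 : MvPolynomial.homogeneousComponent (t + j) ((MvPolynomial.X i : S) ^ t * f) =
        (MvPolynomial.X i : S) ^ t * MvPolynomial.homogeneousComponent j f := by
      rw [← comp_eq, ← comp_eq, Nat.cast_add]
      exact DirectSum.coe_decompose_mul_add_of_left_mem (PA k 2) hXmem
    rw [h2, map_mul, map_pow, MvPolynomial.eval_X] at h1
    exact (mul_eq_zero.1 h1).resolve_left (pow_ne_zero t hi)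
  -- the graded modules `I`, `S`, `S/I`
  obtain ⟨AI, hAI⟩ : ∃ AI : GrLC.GMod.{u} (PA k 2), AI = subG (PA k 2) (PA k 2) (I : Submodule S S) hIh :=
    ⟨_, rfl⟩
  obtain ⟨AQ, hAQ⟩ : ∃ AQ : GrLC.GMod.{u} (PA k 2),
      AQ = quotG (PA k 2) (PA k 2) (I : Submodule S S) hIh := ⟨_, rfl⟩
  obtain ⟨f, hf⟩ : ∃ f : AI.carrier →ₗ[S] S, GrLC.IsGrHom AI.gr (PA k 2) f ∧
      Function.Injective f ∧ LinearMap.range f = I := by
    subst hAI
    exact ⟨(I : Submodule S S).subtype, subtype_isGrHom (PA k 2) (I : Submodule S S),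
      Subtype.val_injective, Submodule.range_subtype _⟩
  obtain ⟨g, hg⟩ : ∃ g : S →ₗ[S] AQ.carrier, GrLC.IsGrHom (PA k 2) AQ.gr g ∧
      Function.Surjective g ∧ LinearMap.ker g = I := by
    subst hAQ
    exact ⟨(I : Submodule S S).mkQ, mkQ_isGrHom (PA k 2) (I : Submodule S S),
      Submodule.mkQ_surjective _, Submodule.ker_mkQ _⟩
  have hS : ∀ i, i ≠ 2 + 1 → ∀ j, HV (Pm k 2) (GrLC.GMod.of (PA k 2) S (PA k 2)) i j :=
    poly_hP1 k 2
  have hQ0 : ∀ j, HV (Pm k 2) AQ 0 j := by
    intro j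
    refine hv_zero_of_gam (Pm k 2) AQ (fun z hz => ?_) j
    obtain ⟨x, rfl⟩ := hg.2.1 z
    obtain ⟨t, ht⟩ := hz
    have hx : x ∈ I := by
      refine hsat x ⟨t, fun s hs => ?_⟩
      have h1 := ht s hs
      rw [← map_smul] at h1
      have h2 : s • x ∈ LinearMap.ker g := LinearMap.mem_ker.2 h1
      rw [hg.2.2] at h2
      exact h2
    rw [← hg.2.2] at hx
    exact LinearMap.mem_ker.1 hx
  have hI0 : ∀ j, HV (Pm k 2) AI 0 j := fun j =>
    hv_zero_of_injective (A := AI) (B := GrLC.GMod.of (PA k 2) S (PA k 2)) f hf.1 hf.2.1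
      (Pm k 2) j (hS 0 (by omega) j)
  have hex : ∀ b : S, g b = 0 → ∃ a', f a' = b := by
    intro b hb
    have h1 : b ∈ LinearMap.ker g := LinearMap.mem_ker.2 hb
    rw [hg.2.2, ← hf.2.2] at h1
    exact h1
  have hgf : ∀ a', g (f a') = 0 := by
    intro a'
    have h1 : f a' ∈ LinearMap.range f := ⟨a', rfl⟩
    rw [hf.2.2, ← hg.2.2] at h1
    exact LinearMap.mem_ker.1 h1
  have hI1 : ∀ j, HV (Pm k 2) AI 1 j := fun j =>
    hv_left (A := AI) (B := GrLC.GMod.of (PA k 2) S (PA k 2)) (C := AQ) f g hf.1 hg.1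
      hf.2.1 hg.2.1 hex hgf (Pm k 2) 0 j (hQ0 j) (hS 1 (by omega) j)
  -- a minimal graded free resolution of `I`
  haveI : Module.Finite S AI.carrier := by
    subst hAI
    exact (inferInstance : Module.Finite S ↥(I : Submodule S S))
  obtain ⟨F, hmin⟩ := exists_minimal_freeRes (PA k 2) (Pm k 2).toIdeal (poly_H1 k 2)
    (poly_H2 k 2) AI.gr
  have hne : (Pm k 2).toIdeal ≠ ⊤ := fun h => one_notMem_pm k 2 (by rw [h]; exact Submodule.mem_top)
  have hlen3 : F.HasLengthLE (2 + 1) :=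
    Groth.Agent.H77.GrSyzPd.hasLengthLE_of_pdLE F hne hmin (2 + 1) (pd_poly k 2 AI.carrier)
  have h3 : F.rk 3 = 0 := by
    by_contra h
    have hnv := not_hv_of_minimal F (Pm k 2) (2 + 1) (poly_hP1 k 2) (poly_hP2 k 2) hmin
      (poly_hzero k 2) (poly_hPnv k 2) 3 hlen3 le_rfl ⟨0, Nat.pos_of_ne_zero h⟩
    exact hnv (hI0 _)
  have hlen2 : F.HasLengthLE 2 := by
    intro i hi
    rcases Nat.lt_or_ge 3 i with h | h
    · exact hlen3 i h
    · have : i = 3 := by omega
      rw [this]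
      exact h3
  have h2 : F.rk 2 = 0 := by
    by_contra h
    have hnv := not_hv_of_minimal F (Pm k 2) (2 + 1) (poly_hP1 k 2) (poly_hP2 k 2) hmin
      (poly_hzero k 2) (poly_hPnv k 2) 2 hlen2 (by omega) ⟨0, Nat.pos_of_ne_zero h⟩
    exact hnv (hI1 _)
  -- the resolution `0 → F_1 → F_0 → I → 0`
  obtain ⟨π, hπ⟩ : ∃ π : (Fin (F.rk 0) → S) →ₗ[S] S, π = f.comp F.augLin := ⟨_, rfl⟩
  have hk1 : LinearMap.ker (F.d 0).mulVecLin = ⊥ := by
    rw [F.exact_succ 0, eq_bot_iff]
    rintro _ ⟨v, rfl⟩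
    haveI : IsEmpty (Fin (F.rk (0 + 1 + 1))) := by
      show IsEmpty (Fin (F.rk 2))
      rw [h2]
      infer_instance
    rw [Subsingleton.elim v 0, map_zero]
    exact zero_mem _
  have hk2 : LinearMap.ker π = LinearMap.range (F.d 0).mulVecLin := by
    rw [hπ, LinearMap.ker_comp_of_ker_eq_bot _ (LinearMap.ker_eq_bot.2 hf.2.1)]
    exact F.exact_zero
  have hk3 : LinearMap.range π = I := by
    rw [hπ, LinearMap.range_comp, LinearMap.range_eq_top.2 F.aug_surjective, Submodule.map_top]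
    exact hf.2.2
  have hab : F.rk 0 = F.rk 1 + 1 := rank_count (F.d 0) π hk1 hk2 (by rw [hk3]; exact hIne)
  -- repackaging
  have final : ∀ (a b : ℕ) (Ψ : Matrix (Fin a) (Fin b) S) (π : (Fin a → S) →ₗ[S] S),
      a = b + 1 → LinearMap.ker Ψ.mulVecLin = ⊥ → LinearMap.ker π = LinearMap.range Ψ.mulVecLin →
      LinearMap.range π = I →
      ∃ (t : ℕ) (Ψ : Matrix (Fin (t + 1)) (Fin t) S) (π : (Fin (t + 1) → S) →ₗ[S] S),
        LinearMap.ker Ψ.mulVecLin = ⊥ ∧ LinearMap.ker π = LinearMap.range Ψ.mulVecLin ∧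
          LinearMap.range π = I := by
    intro a b Ψ π hab h1 h2 h3
    subst hab
    exact ⟨b, Ψ, π, h1, h2, h3⟩
  exact final (F.rk 0) (F.rk 1) (F.d 0) π hab hk1 hk2 hk3

end Main

end Groth.Agent.H98.HilbBurch
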