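import Mathlib
import Groth.Agent.H2.Matlis3

/-!
# (U5) for helper71's S1747 squad (helper98): a finite module whose Matlis dual is `≅ E` is free
of rank one.
-/

universe u

namespace Groth.Agent.LDU

open IsLocalRing Groth.Agent.H2.Matlis

theorem exists_generator_of_dual_equiv (A : Type u) [CommRing A] [IsLocalRing A] [IsNoetherianRing A] (E : Type u) [AddCommGroup E] [Module A E] (f : IsLocalRing.ResidueField A →ₗ[A] E) (hf : InjHull.IsInjectiveHull f) (X : Type u) [AddCommGroup X] [Module A X] [Module.Finite A X] (eD : (X →ₗ[A] E) ≃ₗ[A] E) : ∃ x : X, Function.Bijective (LinearMap.toSpanSingleton A X x) := by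
  -- the socle of `E`
  have hsocE : LocCoh.torsionBy (maximalIdeal A) E = LinearMap.range f := by
    ext e
    rw [Submodule.mem_torsionBySet_iff]
    constructor
    · intro h
      exact socle hf e (fun a ha => h ⟨a, ha⟩)
    · rintro ⟨t, rfl⟩ ⟨a, ha⟩
      exact maximalIdeal_smul_f f ha t
  have hlenE : Module.length A (LocCoh.torsionBy (maximalIdeal A) E) = 1 := by
    rw [hsocE]
    have e1 : ResidueField A ≃ₗ[A] LinearMap.range f := LinearEquiv.ofInjective f hf.injective
    rw [← e1.length_eq]
    haveI : IsSimpleModule A (ResidueField A) :=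
      isSimpleModule_iff_quot_maximal.mpr ⟨maximalIdeal A, inferInstance, ⟨LinearEquiv.refl A _⟩⟩
    exact Module.length_eq_one A (ResidueField A)
  -- restrict `eD` to the socles
  have hlen : Module.length A (LocCoh.torsionBy (maximalIdeal A) (X →ₗ[A] E)) = 1 := by
    rw [← hlenE]
    have hmem : ∀ φ ∈ LocCoh.torsionBy (maximalIdeal A) (X →ₗ[A] E),
        eD.toLinearMap φ ∈ LocCoh.torsionBy (maximalIdeal A) E := by
      intro φ hφ
      rw [Submodule.mem_torsionBySet_iff] at hφ ⊢
      intro a
      show (a : A) • eD φ = 0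
      rw [← map_smul, hφ a, map_zero]
    refine (LinearEquiv.ofBijective (eD.toLinearMap.restrict hmem) ⟨?_, ?_⟩).length_eq
    · intro φ φ' h
      exact Subtype.ext (eD.injective (congrArg Subtype.val h))
    · rintro ⟨e, he⟩
      refine ⟨⟨eD.symm e, ?_⟩, Subtype.ext (eD.apply_symm_apply e)⟩
      rw [Submodule.mem_torsionBySet_iff] at he ⊢
      intro a
      show (a : A) • eD.symm e = 0
      rw [← map_smul, he a, map_zero]
  have hspan : (⊤ : Submodule A X).spanFinrank = 1 := by
    have h := spanFinrank_eq_length_socle_dual hf X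
    rw [hlen] at h
    exact_mod_cast h
  obtain ⟨⟨x, hx⟩, -⟩ := (Submodule.spanFinrank_eq_one_iff _).mp hspan
  have hgen : ∀ y : X, ∃ s : A, s • x = y := by
    intro y
    have hy : y ∈ Submodule.span A {x} := by rw [← hx]; trivial
    exact Submodule.mem_span_singleton.mp hy
  refine ⟨x, ?_, ?_⟩
  · rw [← LinearMap.ker_eq_bot, eq_bot_iff]
    intro r hr
    have hr' : r • x = 0 := hr
    have hrX : r ∈ Module.annihilator A X := by
      rw [Module.mem_annihilator]
      intro y
      obtain ⟨s, rfl⟩ := hgen y
      rw [smul_comm, hr', smul_zero]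
    rw [annihilator_dual hf X, eD.annihilator_eq, Module.mem_annihilator] at hrX
    rw [Submodule.mem_bot]
    by_contra hne
    obtain ⟨φ, hφ⟩ := cogen hf A r hne
    apply hφ
    have : φ r = r • φ 1 := by rw [← map_smul, smul_eq_mul, mul_one]
    rw [this, hrX]
  · intro y
    obtain ⟨s, rfl⟩ := hgen y
    exact ⟨s, rfl⟩

end Groth.Agent.LDU
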