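import Groth.Agent.H98.SegMod
import Groth.Agent.H98.TensRange
import Groth.Agent.H98.GrRad
import Groth.Agent.H29.SegWP2
import Groth.Agent.H74.SegWP6
import Groth.Agent.H33.SegTors

/-!
# Helper library (helper98): Segre products `X # N` of a *injective `X` with a graded module `N`
on which a homogeneous element of positive degree acts bijectively are acyclic for the
irrelevant ideal of the Segre ring; their torsion is `Γ_m(X) # N`.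
-/

set_option autoImplicit false
universe u
open scoped TensorProduct
open DirectSum

namespace Groth.Agent.H98.Seg

open Groth.Agent.H98.GrCat Groth.Agent.H98.GrConv Groth.Agent.H98.TensRange

section Acyc

variable {k : Type u} [Field k]
  {R : Type u} [CommRing R] [Algebra k R] (𝒜 : ℤ → Submodule k R) [GradedAlgebra 𝒜]
  {S : Type u} [CommRing S] [Algebra k S] (ℬ : ℤ → Submodule k S) [GradedAlgebra ℬ]
  {T : Type u} [CommRing T] [Algebra k T] (𝒯 : ℤ → Submodule k T) [GradedAlgebra 𝒯]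
  (ψ : T →ₐ[k] R ⊗[k] S) (hT : GrSeg.IsSegreRing 𝒜 ℬ 𝒯 ψ)
  {X : Type u} [AddCommGroup X] [Module R X] [Module k X] [IsScalarTower k R X]
  (𝒳 : ℤ → AddSubgroup X) [Decomposition 𝒳] [SetLike.GradedSMul 𝒜 𝒳]
  {N : Type u} [AddCommGroup N] [Module S N] [Module k N] [IsScalarTower k S N]
  (𝒩 : ℤ → AddSubgroup N) [Decomposition 𝒩] [SetLike.GradedSMul ℬ 𝒩]
  (mR : HomogeneousIdeal 𝒜) (mT : HomogeneousIdeal 𝒯)

/-- the data of a generator -/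
def IsGen (e : ℕ) (g : S) (p : T × R × S) : Prop :=
  ∃ (f : R) (d : ℕ), 0 < d ∧ f ∈ 𝒜 (d : ℤ) ∧ p.2.1 = f ^ e ∧ p.2.2 = g ^ d ∧
    p.1 ∈ 𝒯 ((e * d : ℕ) : ℤ) ∧ ψ p.1 = p.2.1 ⊗ₜ[k] p.2.2

include hT in
theorem exists_gen_list [IsNoetherianRing R]
    (hmR : mR.toIdeal = Ideal.span (⋃ n ∈ Set.Ioi (0 : ℤ), (𝒜 n : Set R)))
    (e : ℕ) (g : S) (hg : g ∈ ℬ (e : ℤ)) :
    ∃ L : List (T × R × S), (∀ p ∈ L, IsGen 𝒜 𝒯 ψ e g p) ∧
      mR.toIdeal ≤ (Ideal.span {c | c ∈ L.map (fun p => p.2.1)}).radical := by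
  classical
  have hfg : (Ideal.span (⋃ n ∈ Set.Ioi (0 : ℤ), (𝒜 n : Set R))).FG := by
    rw [← hmR]
    exact IsNoetherian.noetherian mR.toIdeal
  obtain ⟨s', hs'sub, hs'span⟩ := (Submodule.fg_span_iff_fg_span_finset_subset _).1 hfg
  have hdeg : ∀ f ∈ s', ∃ d : ℕ, 0 < d ∧ f ∈ 𝒜 (d : ℤ) := by
    intro f hf
    have h1 := hs'sub hf
    simp only [Set.mem_iUnion, Set.mem_Ioi, SetLike.mem_coe, exists_prop] at h1
    obtain ⟨n, hn, hfn⟩ := h1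
    refine ⟨n.toNat, by omega, ?_⟩
    rwa [Int.toNat_of_nonneg hn.le]
  have hex : ∀ f ∈ s', ∃ p : T × R × S, IsGen 𝒜 𝒯 ψ e g p ∧ p.2.1 = f ^ e := by
    intro f hf
    obtain ⟨d, hd, hfd⟩ := hdeg f hf
    have h1 : f ^ e ∈ 𝒜 ((e * d : ℕ) : ℤ) := by
      have := SetLike.pow_mem_graded e hfd
      rwa [nsmul_eq_mul, ← Nat.cast_mul] at this
    have h2 : g ^ d ∈ ℬ ((e * d : ℕ) : ℤ) := by
      have := SetLike.pow_mem_graded d hg
      rwa [nsmul_eq_mul, ← Nat.cast_mul, mul_comm] at this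
    have h3 : (f ^ e) ⊗ₜ[k] (g ^ d) ∈ GrSeg.segrePiece k 𝒜 ℬ ((e * d : ℕ) : ℤ) :=
      tmul_mem_segrePiece h1 h2
    rw [← hT.2] at h3
    obtain ⟨t, ht, htψ⟩ := h3
    exact ⟨(t, f ^ e, g ^ d), ⟨f, d, hd, hfd, rfl, rfl, ht, htψ⟩, rfl⟩
  choose! G hG1 hG2 using hex
  refine ⟨s'.toList.map G, ?_, ?_⟩
  · intro p hp
    obtain ⟨f, hf, rfl⟩ := List.mem_map.1 hp
    exact hG1 f (Finset.mem_toList.1 hf)
  · have hs'span' : Ideal.span (⋃ n ∈ Set.Ioi (0 : ℤ), (𝒜 n : Set R)) = Ideal.span (s' : Set R) :=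
      hs'span
    rw [hmR, hs'span', Ideal.span_le]
    intro f hf
    refine ⟨e, Ideal.subset_span ?_⟩
    show f ^ e ∈ (s'.toList.map G).map (fun p => p.2.1)
    rw [List.map_map]
    exact List.mem_map.2 ⟨f, Finset.mem_toList.2 hf, hG2 f hf⟩

omit [GradedAlgebra 𝒜] [GradedAlgebra 𝒯] in
theorem IsGen.psi {e : ℕ} {g : S} {p : T × R × S} (h : IsGen 𝒜 𝒯 ψ e g p) :
    ψ p.1 = p.2.1 ⊗ₜ[k] p.2.2 := by
  obtain ⟨f, d, -, -, -, -, -, h6⟩ := h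
  exact h6

omit [GradedAlgebra 𝒜] [GradedAlgebra 𝒯] in
theorem IsGen.bijective {e : ℕ} {g : S} {p : T × R × S} (h : IsGen 𝒜 𝒯 ψ e g p)
    (hgN : Function.Bijective (fun y : N => g • y)) :
    Function.Bijective (fun y : N => p.2.2 • y) := by
  obtain ⟨f, d, -, -, -, h4, -, -⟩ := h
  rw [h4]
  clear h4
  have h1 : (fun y : N => g ^ d • y) = (fun y : N => g • y)^[d] := by
    induction d with
    | zero => funext y; simp
    | succ d ih =>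
      funext y
      rw [Function.iterate_succ_apply', ← ih, pow_succ', mul_smul]
  rw [h1]
  exact hgN.iterate d

omit [GradedAlgebra 𝒯] in
theorem IsGen.homog {e : ℕ} {g : S} {p : T × R × S} (h : IsGen 𝒜 𝒯 ψ e g p)
    (hg : g ∈ ℬ (e : ℤ)) : ∃ D : ℤ, p.2.1 ∈ 𝒜 D ∧ p.2.2 ∈ ℬ D := by
  obtain ⟨f, d, -, hfd, h3, h4, -, -⟩ := h
  refine ⟨((e * d : ℕ) : ℤ), ?_, ?_⟩
  · rw [h3]
    have := SetLike.pow_mem_graded e hfd
    rwa [nsmul_eq_mul, ← Nat.cast_mul] at this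
  · rw [h4]
    have := SetLike.pow_mem_graded d hg
    rwa [nsmul_eq_mul, ← Nat.cast_mul, mul_comm] at this

omit [GradedAlgebra 𝒜] in
theorem IsGen.mem_mT {e : ℕ} (he : 0 < e) {g : S} {p : T × R × S} (h : IsGen 𝒜 𝒯 ψ e g p)
    (hmT : mT.toIdeal = Ideal.span (⋃ n ∈ Set.Ioi (0 : ℤ), (𝒯 n : Set T))) :
    p.1 ∈ mT.toIdeal := by
  obtain ⟨f, d, hd, -, -, -, h5, -⟩ := h
  rw [hmT]
  refine Ideal.subset_span ?_
  simp only [Set.mem_iUnion, Set.mem_Ioi, SetLike.mem_coe, exists_prop]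
  exact ⟨_, by exact_mod_cast Nat.mul_pos he hd, h5⟩

omit [GradedAlgebra 𝒜] [GradedAlgebra 𝒯] in
/-- `ψ` maps the span of the `t`'s into the extension of the span of the `f`'s -/
theorem psi_mem_map_of_list (L : List (T × R × S))
    (hL : ∀ p ∈ L, ψ p.1 = p.2.1 ⊗ₜ[k] p.2.2) :
    ∀ t ∈ Ideal.span {c | c ∈ L.map (fun p => p.1)},
      ψ t ∈ Ideal.map (Algebra.TensorProduct.includeLeft : R →ₐ[k] R ⊗[k] S)
        (Ideal.span {c | c ∈ L.map (fun p => p.2.1)}) := by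
  intro t ht
  have hle : Ideal.span {c | c ∈ L.map (fun p => p.1)} ≤
      Ideal.comap ψ (Ideal.map (Algebra.TensorProduct.includeLeft : R →ₐ[k] R ⊗[k] S)
        (Ideal.span {c | c ∈ L.map (fun p => p.2.1)})) := by
    rw [Ideal.span_le]
    intro c hc
    obtain ⟨p, hp, rfl⟩ := List.mem_map.1 hc
    show ψ p.1 ∈ Ideal.map (Algebra.TensorProduct.includeLeft : R →ₐ[k] R ⊗[k] S)
        (Ideal.span {c | c ∈ L.map (fun p => p.2.1)})
    rw [hL p hp]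
    have h1 : p.2.1 ⊗ₜ[k] p.2.2 =
        (Algebra.TensorProduct.includeLeft : R →ₐ[k] R ⊗[k] S) p.2.1 *
          ((1 : R) ⊗ₜ[k] p.2.2) := by
      rw [Algebra.TensorProduct.includeLeft_apply, Algebra.TensorProduct.tmul_mul_tmul, mul_one,
        one_mul]
    rw [h1]
    exact Ideal.mul_mem_right _ _ (Ideal.mem_map_of_mem _
      (Ideal.subset_span (List.mem_map.2 ⟨p, hp, rfl⟩)))
  exact hle ht

include hT in
/-- `ψ` maps the irrelevant ideal of `T` into the extension of the irrelevant ideal of `R` -/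
theorem psi_mem_map_irrelevant
    (hmR : mR.toIdeal = Ideal.span (⋃ n ∈ Set.Ioi (0 : ℤ), (𝒜 n : Set R)))
    (hmT : mT.toIdeal = Ideal.span (⋃ n ∈ Set.Ioi (0 : ℤ), (𝒯 n : Set T))) :
    ∀ t ∈ mT.toIdeal,
      ψ t ∈ Ideal.map (Algebra.TensorProduct.includeLeft : R →ₐ[k] R ⊗[k] S) mR.toIdeal := by
  intro t ht
  have hle : mT.toIdeal ≤
      Ideal.comap ψ (Ideal.map (Algebra.TensorProduct.includeLeft : R →ₐ[k] R ⊗[k] S)
        mR.toIdeal) := by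
    rw [hmT, Ideal.span_le]
    intro c hc
    simp only [Set.mem_iUnion, Set.mem_Ioi, SetLike.mem_coe, exists_prop] at hc
    obtain ⟨n, hn, hcn⟩ := hc
    show ψ c ∈ Ideal.map (Algebra.TensorProduct.includeLeft : R →ₐ[k] R ⊗[k] S) mR.toIdeal
    refine segrePiece_induction (motive := fun x => x ∈ Ideal.map
      (Algebra.TensorProduct.includeLeft : R →ₐ[k] R ⊗[k] S) mR.toIdeal) ?_ ?_ ?_ ?_
      (psi_mem 𝒜 ℬ 𝒯 ψ hT hcn)
    · intro a ha b _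
      have h1 : a ⊗ₜ[k] b =
          (Algebra.TensorProduct.includeLeft : R →ₐ[k] R ⊗[k] S) a * ((1 : R) ⊗ₜ[k] b) := by
        rw [Algebra.TensorProduct.includeLeft_apply, Algebra.TensorProduct.tmul_mul_tmul,
          mul_one, one_mul]
      rw [h1]
      refine Ideal.mul_mem_right _ _ (Ideal.mem_map_of_mem _ ?_)
      rw [hmR]
      refine Ideal.subset_span ?_
      simp only [Set.mem_iUnion, Set.mem_Ioi, SetLike.mem_coe, exists_prop]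
      exact ⟨n, hn, ha⟩
    · exact zero_mem _
    · intro v w hv hw
      exact add_mem hv hw
    · intro c v hv
      rw [Algebra.smul_def]
      exact Ideal.mul_mem_left _ _ hv
  exact hle ht

theorem gam_anti {A : Type u} [CommRing A] {a b : Ideal A} (h : a ≤ b) (M : Type u)
    [AddCommGroup M] [Module A M] : GrLC.gam b M ≤ GrLC.gam a M := by
  rintro x ⟨n, hn⟩
  exact ⟨n, fun r hr => hn r (Ideal.pow_right_mono h n hr)⟩

include hT in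
/-- **the torsion of the Segre product** -/
theorem mem_gam_iff [IsNoetherianRing R]
    (hmR : mR.toIdeal = Ideal.span (⋃ n ∈ Set.Ioi (0 : ℤ), (𝒜 n : Set R)))
    (hmT : mT.toIdeal = Ideal.span (⋃ n ∈ Set.Ioi (0 : ℤ), (𝒯 n : Set T)))
    (e : ℕ) (he : 0 < e) (g : S) (hg : g ∈ ℬ (e : ℤ))
    (hgN : Function.Bijective (fun y : N => g • y))
    (v : (segG 𝒜 ℬ 𝒯 ψ hT 𝒳 𝒩).carrier) :
    v ∈ GrLC.gam mT.toIdeal (segG 𝒜 ℬ 𝒯 ψ hT 𝒳 𝒩).carrier ↔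
      sι 𝒜 ℬ 𝒯 ψ hT 𝒳 𝒩 v ∈ tR N ((GrLC.gam mR.toIdeal X).restrictScalars k) := by
  constructor
  · intro hv
    obtain ⟨L, hL, hrad⟩ := exists_gen_list 𝒜 ℬ 𝒯 ψ hT mR hmR e g hg
    have hle : Ideal.span {c | c ∈ L.map (fun p => p.1)} ≤ mT.toIdeal := by
      rw [Ideal.span_le]
      intro c hc
      obtain ⟨p, hp, rfl⟩ := List.mem_map.1 hc
      exact (hL p hp).mem_mT 𝒜 𝒯 ψ mT he hmT
    have hv' := gam_anti hle _ hv
    have h1 := Groth.Agent.H33.SegTors.sι_mem_tR_gam 𝒜 ℬ 𝒯 ψ hT 𝒳 𝒩 L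
      (fun p hp => ⟨(hL p hp).psi, ((hL p hp).bijective 𝒜 𝒯 ψ hgN).1⟩) v hv'
    exact tR_mono (fun x hx => GrHt.gam_le_of_le_radical _ _ hrad X hx) h1
  · intro hv
    exact Groth.Agent.H33.SegTors.mem_gam_of_sι_mem_tR 𝒜 ℬ 𝒯 ψ hT 𝒳 𝒩 mR.toIdeal mT.toIdeal
      (psi_mem_map_irrelevant 𝒜 ℬ 𝒯 ψ hT mR mT hmR hmT) v hv

include hT in
/-- **acyclicity of the Segre product of a *injective** -/
theorem seg_acyclic [IsNoetherianRing R] [IsNoetherianRing T] (hX : GrLC.IsStarInj 𝒜 𝒳)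
    (hmR : mR.toIdeal = Ideal.span (⋃ n ∈ Set.Ioi (0 : ℤ), (𝒜 n : Set R)))
    (hmT : mT.toIdeal = Ideal.span (⋃ n ∈ Set.Ioi (0 : ℤ), (𝒯 n : Set T)))
    (e : ℕ) (he : 0 < e) (g : S) (hg : g ∈ ℬ (e : ℤ))
    (hgN : Function.Bijective (fun y : N => g • y)) (p : ℕ) :
    Subsingleton (LocCoh.H mT.toIdeal (p + 1) (segG 𝒜 ℬ 𝒯 ψ hT 𝒳 𝒩).carrier) := by
  classical
  obtain ⟨L, hL, hrad⟩ := exists_gen_list 𝒜 ℬ 𝒯 ψ hT mR hmR e g hg
  obtain ⟨s, hs⟩ := IsNoetherian.noetherian mT.toIdeal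
  obtain ⟨l₂, hl₂⟩ : ∃ l₂ : List T, l₂ = L.map (fun p => p.1) := ⟨_, rfl⟩
  have hl₂m : ∀ c ∈ l₂, c ∈ mT.toIdeal := by
    intro c hc
    rw [hl₂] at hc
    obtain ⟨p, hp, rfl⟩ := List.mem_map.1 hc
    exact (hL p hp).mem_mT 𝒜 𝒯 ψ mT he hmT
  have hsm : ∀ c ∈ s.toList, c ∈ mT.toIdeal := by
    intro c hc
    rw [← hs]
    exact Ideal.subset_span (Finset.mem_coe.2 (Finset.mem_toList.1 hc))
  have hspan : Ideal.span {c | c ∈ s.toList ++ l₂} = mT.toIdeal := by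
    apply le_antisymm
    · rw [Ideal.span_le]
      intro c hc
      rcases List.mem_append.1 hc with h | h
      · exact hsm c h
      · exact hl₂m c h
    · rw [← hs]
      refine Ideal.span_mono (fun c hc => ?_)
      exact List.mem_append_left _ (Finset.mem_toList.2 (Finset.mem_coe.1 hc))
  rw [← hspan]
  refine Groth.Agent.H29.SegWP2.subsingleton_H_span_list _ (s.toList ++ l₂) ?_ (p + 1) (Nat.succ_pos p)
  intro b l' hsuf x hx
  have hsplit : ∀ (l₁ : List T), (b :: l') <:+ l₁ ++ l₂ →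
      (l₂ <:+ l' ∧ b ∈ l₁) ∨ (b :: l') <:+ l₂ := by
    intro l₁
    induction l₁ with
    | nil =>
      intro h
      exact Or.inr (by simpa using h)
    | cons a l₁ ih =>
      intro h
      rw [List.cons_append, List.suffix_cons_iff] at h
      rcases h with h | h
      · injection h with h1 h2
        left
        refine ⟨?_, ?_⟩
        · rw [h2]
          exact List.suffix_append l₁ l₂
        · rw [h1]
          exact List.mem_cons_self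
      · rcases ih h with ⟨h1, h2⟩ | h1
        · exact Or.inl ⟨h1, List.mem_cons_of_mem _ h2⟩
        · exact Or.inr h1
  have hLpsi : ∀ p ∈ L, ψ p.1 = p.2.1 ⊗ₜ[k] p.2.2 ∧
      Function.Injective (fun y : N => p.2.2 • y) :=
    fun p hp => ⟨(hL p hp).psi, ((hL p hp).bijective 𝒜 𝒯 ψ hgN).1⟩
  rcases hsplit s.toList hsuf with ⟨hl₂', hb⟩ | hB
  · -- the torsion stage
    have hbm : b ∈ mT.toIdeal := hsm b hb
    have hle : Ideal.span {c | c ∈ l₂} ≤ Ideal.span {c | c ∈ l'} :=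
      Ideal.span_mono (fun c hc => hl₂'.subset hc)
    have hx1 : x ∈ GrLC.gam (Ideal.span {c | c ∈ l₂}) (segG 𝒜 ℬ 𝒯 ψ hT 𝒳 𝒩).carrier :=
      gam_anti hle _ hx
    rw [hl₂] at hx1
    have h1 := Groth.Agent.H33.SegTors.sι_mem_tR_gam 𝒜 ℬ 𝒯 ψ hT 𝒳 𝒩 L hLpsi x hx1
    have h2 : sι 𝒜 ℬ 𝒯 ψ hT 𝒳 𝒩 x ∈ tR N ((GrLC.gam mR.toIdeal X).restrictScalars k) :=
      tR_mono (fun x hx => GrHt.gam_le_of_le_radical _ _ hrad X hx) h1
    have h3 : x ∈ GrLC.gam mT.toIdeal (segG 𝒜 ℬ 𝒯 ψ hT 𝒳 𝒩).carrier :=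
      Groth.Agent.H33.SegTors.mem_gam_of_sι_mem_tR 𝒜 ℬ 𝒯 ψ hT 𝒳 𝒩 mR.toIdeal mT.toIdeal
        (psi_mem_map_irrelevant 𝒜 ℬ 𝒯 ψ hT mR mT hmR hmT) x h2
    obtain ⟨n, hn⟩ := h3
    refine ⟨0, zero_mem _, n, ?_⟩
    rw [smul_zero, hn _ (Ideal.pow_mem_pow hbm n)]
  · -- the divisible stage
    obtain ⟨pre, hpre⟩ := hB
    rw [hl₂] at hpre
    obtain ⟨L₁, L₂, hLL, -, h2⟩ := List.map_eq_append_iff.1 hpre.symm
    obtain ⟨p₀, L', hL₂, hp₀, hL'⟩ := List.map_eq_cons_iff.1 h2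
    have hp₀L : p₀ ∈ L := by
      rw [hLL, hL₂]
      exact List.mem_append_right _ List.mem_cons_self
    have hL'L : ∀ p ∈ L', p ∈ L := by
      intro p hp
      rw [hLL, hL₂]
      exact List.mem_append_right _ (List.mem_cons_of_mem _ hp)
    subst hp₀ hL'
    obtain ⟨J', hJ'⟩ : ∃ J' : HomogeneousIdeal 𝒜,
        J'.toIdeal = Ideal.span {c | c ∈ L'.map (fun p => p.2.1)} :=
      ⟨⟨Ideal.span {c | c ∈ L'.map (fun p => p.2.1)}, Ideal.homogeneous_span 𝒜 _ (by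
        intro c hc
        obtain ⟨p, hp, rfl⟩ := List.mem_map.1 hc
        obtain ⟨D, hD, -⟩ := (hL p (hL'L p hp)).homog 𝒜 ℬ 𝒯 ψ hg
        exact ⟨D, hD⟩)⟩, rfl⟩
    have h1 := Groth.Agent.H33.SegTors.sι_mem_tR_gam 𝒜 ℬ 𝒯 ψ hT 𝒳 𝒩 L' (fun p hp => hLpsi p (hL'L p hp)) x hx
    rw [← hJ'] at h1
    obtain ⟨D, hfD, hgD⟩ := (hL p₀ hp₀L).homog 𝒜 ℬ 𝒯 ψ hg
    obtain ⟨w, n, hw, hwn⟩ := Groth.Agent.H74.SegWP6.exists_div_seg 𝒜 ℬ 𝒯 ψ hT 𝒳 𝒩 hX J' p₀.2.1 D hfD p₀.2.2 hgD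
      ((hL p₀ hp₀L).bijective 𝒜 𝒯 ψ hgN) p₀.1 (hL p₀ hp₀L).psi x h1
    have hwt : w ∈ GrLC.gam (Ideal.span {c | c ∈ L'.map (fun p => p.1)})
        (segG 𝒜 ℬ 𝒯 ψ hT 𝒳 𝒩).carrier := by
      refine Groth.Agent.H33.SegTors.mem_gam_of_sι_mem_tR 𝒜 ℬ 𝒯 ψ hT 𝒳 𝒩 J'.toIdeal _ ?_ w hw
      rw [hJ']
      exact psi_mem_map_of_list ψ L' (fun p hp => (hLpsi p (hL'L p hp)).1)
    exact ⟨w, hwt, n, hwn⟩

end Acyc

end Groth.Agent.H98.Seg
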