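import Groth.Agent.H98.SegCMR
import Groth.Agent.H98.GrMapH
import Groth.Agent.H98.GrBridge
import Groth.Agent.H58.SegCM_CM2
import Groth.Agent.H84.SegCM_CM1

/-!
# Helper library (helper98): a graded ring over a field is Cohen–Macaulay iff its graded local
cohomology with respect to the irrelevant ideal vanishes below the dimension.
-/

set_option autoImplicit false
universe u
open scoped TensorProduct
open DirectSum

namespace Groth.Agent.H98.Seg

open Groth.Agent.H98.GrCat Groth.Agent.H98.GrConv Groth.Agent.H98.GrHt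

section Crit

variable {k : Type u} [Field k] {T : Type u} [CommRing T] [Algebra k T]
  (𝒯 : ℤ → Submodule k T) [GradedAlgebra 𝒯]

/-- the irrelevant ideal as a homogeneous ideal -/
def irrS : HomogeneousIdeal 𝒯 :=
  ⟨Ideal.span (⋃ n ∈ Set.Ioi (0 : ℤ), (𝒯 n : Set T)),
    Ideal.homogeneous_span 𝒯 _ (fun _ hr => by
      obtain ⟨n, -, hr'⟩ := Set.mem_iUnion₂.1 hr
      exact ⟨n, hr'⟩)⟩

theorem irrS_toIdeal :
    (irrS 𝒯).toIdeal = Ideal.span (⋃ n ∈ Set.Ioi (0 : ℤ), (𝒯 n : Set T)) := rfl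

theorem cm_iff_hv [IsNoetherianRing T] [Nontrivial T]
    (hpos : ∀ n : ℤ, n < 0 → 𝒯 n = ⊥) (h0 : 𝒯 0 = Submodule.span k {(1 : T)})
    (mT : HomogeneousIdeal 𝒯)
    (hmT : mT.toIdeal = Ideal.span (⋃ n ∈ Set.Ioi (0 : ℤ), (𝒯 n : Set T)))
    (s : ℕ) (hdim : ringKrullDim T = s) :
    LocCoh.IsCohenMacaulayRing T ↔ ∀ i, i < s → ∀ n, HV (convI mT) (selfG 𝒯) i n := by
  classical
  have hstar := isStarLocal_convI 𝒯 hpos h0 mT hmT
  have hposT := hpos_toAS 𝒯 hpos
  constructor
  · intro hcm i hi n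
    exact hv_of_vn (starInjRes (toAS 𝒯) (toAS 𝒯))
      (vn_of_cm hposT (convI mT) hstar s hdim _ i hi n)
  · intro h
    haveI hmax : (convI mT).toIdeal.IsMaximal := isMaximal_of_isCoatom (toAS 𝒯) hposT _ hstar.1
    haveI hprime : (convI mT).toIdeal.IsPrime := hmax.isPrime
    have hht := height_eq_ringKrullDim (toAS 𝒯) hposT (convI mT) hstar
    rw [hdim] at hht
    have hht' : (convI mT).toIdeal.height = (s : ℕ∞) := by exact_mod_cast hht
    have hvan : ∀ i, i < s → Subsingleton (LocCoh.H (convI mT).toIdeal i T) := by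
      intro i hi
      obtain ⟨E, -⟩ : ∃ E : GrLC.StarInjRes (toAS 𝒯) (selfG 𝒯).gr, True :=
        ⟨starInjRes (toAS 𝒯) _, trivial⟩
      haveI := subsingleton_H_of_forall_vn E (convI mT) i (fun n => h i hi n E)
      obtain ⟨eq⟩ := nonempty_H_equiv E (convI mT) i
      exact eq.symm.toEquiv.subsingleton
    have hloc := Groth.Agent.H58.SegCM_CM2.cmLocal_of_vanishing (convI mT).toIdeal s hht' hvan
    exact Groth.Agent.H84.SegCM_CM1.cmRing_of_cm_loc (toAS 𝒯) (convI mT) hstar hloc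

end Crit

end Groth.Agent.H98.Seg
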