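import Groth.Agent.H98.SegSES
import Groth.Agent.H98.VerSetup
import Groth.Agent.H98.GrKos
import Groth.Agent.S18662
import Groth.Agent.H21.SegreDepth
import Groth.Agent.H21.GrInt

/-!
# Helper library (helper98): for a one-dimensional graded ring `R` over a field with a homogeneous
non-zero-divisor `f` of positive degree, the quotient `R_f / R` is torsion and its pieces vanish
exactly where those of `H^1_m(R)` do.
-/

set_option autoImplicit false
universe u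
open scoped TensorProduct
open DirectSum

namespace Groth.Agent.H98.Seg

open Groth.Agent.H98.GrCat Groth.Agent.H98.GrConv Groth.Agent.H98.GrHt

section Setup

variable {k : Type u} [Field k] {R : Type u} [CommRing R] [Algebra k R]
  (𝒜 : ℤ → Submodule k R) [GradedAlgebra 𝒜]

omit [GradedAlgebra 𝒜] in
theorem hpos_toAS (hpos : ∀ n : ℤ, n < 0 → 𝒜 n = ⊥) : ∀ n : ℤ, n < 0 → toAS 𝒜 n = ⊥ := by
  intro n hn
  rw [eq_bot_iff]
  intro x hx
  have hx' : x ∈ 𝒜 n := hx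
  rw [hpos n hn, Submodule.mem_bot] at hx'
  rw [AddSubgroup.mem_bot]
  exact hx'

theorem convI_span (mR : HomogeneousIdeal 𝒜)
    (hmR : mR.toIdeal = Ideal.span (⋃ n ∈ Set.Ioi (0 : ℤ), (𝒜 n : Set R))) :
    (convI mR).toIdeal = Ideal.span (⋃ n ∈ Set.Ioi (0 : ℤ), ((toAS 𝒜 n : AddSubgroup R) : Set R)) :=
  hmR

theorem isStarLocal_convI [Nontrivial R] (hpos : ∀ n : ℤ, n < 0 → 𝒜 n = ⊥)
    (h0 : 𝒜 0 = Submodule.span k {(1 : R)}) (mR : HomogeneousIdeal 𝒜)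
    (hmR : mR.toIdeal = Ideal.span (⋃ n ∈ Set.Ioi (0 : ℤ), (𝒜 n : Set R))) :
    GrLC.IsStarLocal (toAS 𝒜) (convI mR) := by
  rw [VerSetup.eq_irr (toAS 𝒜) (convI mR) (convI_span 𝒜 mR hmR)]
  exact VerSetup.isStarLocal_irr (toAS 𝒜) (hpos_toAS 𝒜 hpos) (isField_deg0_toAS 𝒜 h0)

end Setup

section RSide

variable {k : Type u} [Field k] {R : Type u} [CommRing R] [Algebra k R]
  (𝒜 : ℤ → Submodule k R) [GradedAlgebra 𝒜]
  (hpos : ∀ n : ℤ, n < 0 → 𝒜 n = ⊥) (h0 : 𝒜 0 = Submodule.span k {(1 : R)})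
  (mR : HomogeneousIdeal 𝒜)
  (hmR : mR.toIdeal = Ideal.span (⋃ n ∈ Set.Ioi (0 : ℤ), (𝒜 n : Set R)))
  (e : ℤ) (he : 0 < e) (f : R) (hf : f ∈ 𝒜 e) (hreg : IsSMulRegular R f)
  (X : GrLC.GMod.{u} (toAS 𝒜)) (ι : R →ₗ[R] X.carrier) (hι : GrLC.IsGrHom (toAS 𝒜) X.gr ι)
  (hinj : Function.Injective ι) (hbij : Function.Bijective (fun x : X.carrier => f • x))
  (hloc : ∀ x : X.carrier, ∃ j : ℕ, f ^ j • x ∈ LinearMap.range ι)

include hpos h0 hmR hf hreg hloc in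
/-- `R_f / R` is torsion when `dim R ≤ 1` -/
theorem gam_quot_eq_top [IsNoetherianRing R] [Nontrivial R] (hdim : ringKrullDim R ≤ 1) :
    GrLC.gam mR.toIdeal
      (quotG (toAS 𝒜) X.gr (LinearMap.range ι) (range_isHomogeneous (toAS 𝒜) X.gr hι)).carrier
      = ⊤ := by
  rw [eq_top_iff]
  intro q _
  obtain ⟨x, rfl⟩ := (LinearMap.range ι).mkQ_surjective q
  obtain ⟨j, hj⟩ := hloc x
  obtain ⟨N, hN⟩ := Groth.Agent.H21.SegreDepth.exists_irrel_pow_le_span 𝒜 hpos h0 hdim hf hreg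
  rw [Groth.Agent.H21.GrInt.irrel_eq_span 𝒜 hpos, ← hmR] at hN
  refine ⟨N * j, fun r hr => ?_⟩
  have h1 : mR.toIdeal ^ (N * j) ≤ Ideal.span {f ^ j} := by
    rw [pow_mul, ← Ideal.span_singleton_pow]
    exact Ideal.pow_right_mono hN j
  obtain ⟨c, rfl⟩ := Ideal.mem_span_singleton'.1 (h1 hr)
  have h2 : (c * f ^ j) • (LinearMap.range ι).mkQ x = (LinearMap.range ι).mkQ ((c * f ^ j) • x) :=
    (map_smul (LinearMap.range ι).mkQ (c * f ^ j) x).symm
  refine h2.trans ((Submodule.Quotient.mk_eq_zero _).2 ?_)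
  rw [mul_smul]
  exact Submodule.smul_mem _ c hj

include hpos h0 hmR he hf hbij hinj in
/-- the pieces of `R_f / R` vanish exactly where those of `H^1_m(R)` do -/
theorem quot_piece_eq_bot_iff [IsNoetherianRing R] [Nontrivial R]
    (hQtor : GrLC.gam mR.toIdeal
      (quotG (toAS 𝒜) X.gr (LinearMap.range ι) (range_isHomogeneous (toAS 𝒜) X.gr hι)).carrier
      = ⊤)
    (I : GrLC.StarInjRes 𝒜 𝒜) (n : ℤ) :
    I.Hcomp mR 1 n = ⊥ ↔
      (quotG (toAS 𝒜) X.gr (LinearMap.range ι) (range_isHomogeneous (toAS 𝒜) X.gr hι)).gr n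
        = ⊥ := by
  classical
  have hstar := isStarLocal_convI 𝒜 hpos h0 mR hmR
  have hX : ∀ q n, HV (convI mR) X q n := by
    intro q n E
    exact vn_of_subsingleton E _ q (Groth.Agent.S18662.result R (toAS 𝒜) (hpos_toAS 𝒜 hpos)
      (isField_deg0_toAS 𝒜 h0) (convI mR) hstar (convI_span 𝒜 mR hmR) X.carrier X.gr e he f hf
      hbij E q) n
  rw [Hcomp_eq_bot_iff_vn]
  obtain ⟨g, hgdef⟩ : ∃ g : X.carrier →ₗ[R] (quotG (toAS 𝒜) X.gr (LinearMap.range ι)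
      (range_isHomogeneous (toAS 𝒜) X.gr hι)).carrier,
      ∀ v, g v = (LinearMap.range ι).mkQ v := ⟨(LinearMap.range ι).mkQ, fun _ => rfl⟩
  obtain ⟨j, hj⟩ : ∃ j : (selfG 𝒜).carrier →ₗ[R] X.carrier, ∀ t, j t = ι t := ⟨ι, fun _ => rfl⟩
  have hjgr : GrLC.IsGrHom (selfG 𝒜).gr X.gr j := by
    intro m t ht
    rw [hj]
    exact hι m t ht
  have hggr : GrLC.IsGrHom X.gr (quotG (toAS 𝒜) X.gr (LinearMap.range ι)
      (range_isHomogeneous (toAS 𝒜) X.gr hι)).gr g :=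
    fun m z hz => ⟨z, hz, (hgdef z).symm⟩
  have hjinj : Function.Injective j := by
    intro t t' h
    rw [hj, hj] at h
    exact hinj h
  have hgsurj : Function.Surjective g := by
    intro q
    obtain ⟨v, hv⟩ := (LinearMap.range ι).mkQ_surjective q
    exact ⟨v, by rw [hgdef]; exact hv⟩
  have hexact : ∀ b, g b = 0 → ∃ a', j a' = b := by
    intro b hb
    rw [hgdef] at hb
    obtain ⟨t, ht⟩ := (Submodule.Quotient.mk_eq_zero _).1 hb
    exact ⟨t, by rw [hj]; exact ht⟩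
  have hgj : ∀ a', g (j a') = 0 := by
    intro t
    rw [hgdef, hj]
    exact (Submodule.Quotient.mk_eq_zero _).2 ⟨t, rfl⟩
  constructor
  · intro h
    have h1 : HV (convI mR) (selfG 𝒜) 1 n := hv_of_vn (convRes I : GrLC.StarInjRes (toAS 𝒜) (toAS 𝒜)) h
    have h2 := hv_right j g hjgr hggr hjinj hgsurj hexact hgj (convI mR) 0 n (hX 0 n) h1
    exact piece_eq_bot_of_vn_zero (starInjRes (toAS 𝒜) _) (convI mR) n hQtor (h2 _)
  · intro h
    have h1 : HV (convI mR) (quotG (toAS 𝒜) X.gr (LinearMap.range ι)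
        (range_isHomogeneous (toAS 𝒜) X.gr hι)) 0 n :=
      hv_of_vn (starInjRes (toAS 𝒜) _) (vn_zero_of_piece_eq_bot _ (convI mR) n h)
    exact hv_left j g hjgr hggr hjinj hgsurj hexact hgj (convI mR) 0 n h1 (hX 1 n)
      (convRes I : GrLC.StarInjRes (toAS 𝒜) (toAS 𝒜))

end RSide

end Groth.Agent.H98.Seg
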