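import Groth.Agent.H98.SegMain
import Groth.Agent.H98.SegAcyc
import Groth.Agent.S18646

/-!
# Helper library (helper98): graded local cohomology of a Segre product `M # N` when `N` has a
homogeneous element of positive degree acting bijectively (Goto–Watanabe).
-/

set_option autoImplicit false
universe u
open scoped TensorProduct
open DirectSum

namespace Groth.Agent.H98.Seg

open Groth.Agent.H98.GrCat Groth.Agent.H98.GrConv Groth.Agent.H98.TensRange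

section Conv

variable {T : Type u} [CommRing T] {σ : Type u} [SetLike σ T] [AddSubgroupClass σ T]
  {𝒯 : ℤ → σ} [GradedRing 𝒯]
  {P : Type u} [AddCommGroup P] [Module T P] {𝒬 : ℤ → AddSubgroup P} [Decomposition 𝒬]
  [SetLike.GradedSMul 𝒯 𝒬] [SetLike.GradedSMul (toAS 𝒯) 𝒬]

/-- the converted *injective resolution, keeping the pieces of the module -/
noncomputable def convRes' (E : GrLC.StarInjRes 𝒯 𝒬) : GrLC.StarInjRes (toAS 𝒯) 𝒬 where
  X := fun n => convG (E.X n)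
  d := E.d
  ε := E.ε
  d_grHom := E.d_grHom
  ε_grHom := E.ε_grHom
  ε_injective := E.ε_injective
  exact_zero := E.exact_zero
  exact_succ := E.exact_succ
  starInj := fun n => by
    haveI : SetLike.GradedSMul (toAS 𝒯) (E.X n).gr := gsmul_conv 𝒯 (E.X n).gr
    exact isStarInj_conv (𝒜 := 𝒯) (E.X n).gr (E.starInj n)

end Conv

section Final

variable {k : Type u} [Field k]
  {R : Type u} [CommRing R] [Algebra k R] (𝒜 : ℤ → Submodule k R) [GradedAlgebra 𝒜]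
  {S : Type u} [CommRing S] [Algebra k S] (ℬ : ℤ → Submodule k S) [GradedAlgebra ℬ]
  {T : Type u} [CommRing T] [Algebra k T] (𝒯 : ℤ → Submodule k T) [GradedAlgebra 𝒯]
  (ψ : T →ₐ[k] R ⊗[k] S) (hT : GrSeg.IsSegreRing 𝒜 ℬ 𝒯 ψ)
  {M : Type u} [AddCommGroup M] [Module R M] [Module k M] [IsScalarTower k R M]
  (ℳ : ℤ → AddSubgroup M) [Decomposition ℳ] [SetLike.GradedSMul 𝒜 ℳ]
  {N : Type u} [AddCommGroup N] [Module S N] [Module k N] [IsScalarTower k S N]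
  (𝒩 : ℤ → AddSubgroup N) [Decomposition 𝒩] [SetLike.GradedSMul ℬ 𝒩]
  {P : Type u} [AddCommGroup P] [Module T P] [Module k P] [IsScalarTower k T P]
  (𝒬 : ℤ → AddSubgroup P) [Decomposition 𝒬] [SetLike.GradedSMul 𝒯 𝒬]
  (φ : P →ₗ[k] M ⊗[k] N) (hP : GrSeg.IsSegreMod ψ ℳ 𝒩 𝒬 φ)
  (EM : GrLC.StarInjRes 𝒜 ℳ) (EP : GrLC.StarInjRes 𝒯 𝒬)
  (mR : HomogeneousIdeal 𝒜) (mT : HomogeneousIdeal 𝒯) (q : ℕ)
  [instHk : Module k (EM.H mR q)]
  [instHt : @IsScalarTower k R (EM.H mR q) _ _ instHk.toSMul]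
  [instFk : Module k (EP.H mT q)]
  [instFt : @IsScalarTower k T (EP.H mT q) _ _ instFk.toSMul]

include hT hP in
theorem segre_H_main [IsNoetherianRing R] [IsNoetherianRing T]
    (hmR : mR.toIdeal = Ideal.span (⋃ n ∈ Set.Ioi (0 : ℤ), (𝒜 n : Set R)))
    (hmT : mT.toIdeal = Ideal.span (⋃ n ∈ Set.Ioi (0 : ℤ), (𝒯 n : Set T)))
    (e : ℕ) (he : 0 < e) (g : S) (hg : g ∈ ℬ (e : ℤ))
    (hgN : Function.Bijective (fun y : N => g • y)) [Decomposition (EP.Hgr mT q)] :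
    ∃ φ' : EP.H mT q →ₗ[k] (EM.H mR q) ⊗[k] N,
      GrSeg.IsSegreMod ψ (EM.Hgr mR q) 𝒩 (EP.Hgr mT q) φ' := by
  haveI : SetLike.GradedSMul (toAS 𝒯) 𝒬 := gsmul_conv 𝒯 𝒬
  letI (Y : GrLC.GMod.{u} 𝒜) : Module k Y.carrier := kModG Y
  haveI (Y : GrLC.GMod.{u} 𝒜) : IsScalarTower k R Y.carrier := kTowerG Y
  obtain ⟨φ', h1, h2, h3⟩ := exists_linearMap_segre_H (instHk := instHk) (instHt := instHt)
    (instFk := instFk) (instFt := instFt) 𝒜 ℬ 𝒯 ψ hT ℳ 𝒩 𝒬 φ hP EM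
    (convRes' EP) mR (convI mT) q
    (fun i p => seg_acyclic 𝒜 ℬ 𝒯 ψ hT (EM.X i).gr 𝒩 mR mT (EM.starInj i) hmR hmT
      e he g hg hgN p)
    (fun i v => mem_gam_iff 𝒜 ℬ 𝒯 ψ hT (EM.X i).gr 𝒩 mR mT hmR hmT e he g hg
      hgN v)
  exact ⟨φ', ⟨h1, h2, h3⟩⟩

end Final

end Groth.Agent.H98.Seg
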