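import Groth.Agent.H98.SegRes
import Groth.Agent.H98.TensRange
import Groth.Agent.H98.AcycCx
import Groth.Agent.H98.GrBridge
import Groth.Agent.H98.GrTor
import Groth.Agent.H98.GrQuot

/-!
# Helper library (helper98): graded local cohomology of a Segre product `M # N` when `N` has a
homogeneous element of positive degree acting bijectively: the comparison with `H(M) # N`,
conditionally on the acyclicity of the Segre products of *injectives and on the description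
of their torsion.
-/

set_option autoImplicit false
universe u
open scoped TensorProduct
open DirectSum

namespace Groth.Agent.H98.Seg

open Groth.Agent.H98.GrCat Groth.Agent.H98.GrConv Groth.Agent.H98.TensRange

section Generic

theorem exists_addHom_of_ker {A B C : Type u} [AddCommGroup A] [AddCommGroup B]
    [AddCommGroup C] (f₁ : A →+ B) (f₂ : A →+ C) (h₁ : Function.Surjective f₁)
    (hker : ∀ z, f₁ z = 0 → f₂ z = 0) : ∃ j : B →+ C, ∀ z, j (f₁ z) = f₂ z := by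
  have key : ∀ z w, f₁ z = f₁ w → f₂ z = f₂ w := by
    intro z w h
    have h0 : f₁ (z - w) = 0 := by rw [map_sub, h, sub_self]
    have h1 := hker _ h0
    rw [map_sub, sub_eq_zero] at h1
    exact h1
  let f : B → C := fun y => f₂ (Classical.choose (h₁ y))
  have hf : ∀ z, f (f₁ z) = f₂ z := fun z => key _ _ (Classical.choose_spec (h₁ (f₁ z)))
  refine ⟨⟨⟨f, ?_⟩, ?_⟩, hf⟩
  · have := hf 0
    rw [map_zero, map_zero] at this
    exact this
  · intro x y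
    obtain ⟨z, rfl⟩ := h₁ x
    obtain ⟨w, rfl⟩ := h₁ y
    show f (f₁ z + f₁ w) = f (f₁ z) + f (f₁ w)
    rw [← map_add, hf, hf, hf, map_add]

variable {k : Type u} [Field k] {R : Type u} [CommRing R] [Algebra k R]
  {X : Type u} [AddCommGroup X] [Module R X] [Module k X] [IsScalarTower k R X]
  {N : Type u} [AddCommGroup N] [Module k N]

theorem range_fT_subtype (Z : Submodule R X) :
    LinearMap.range (fT k N Z.subtype) = tR N (Z.restrictScalars k) := by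
  apply le_antisymm
  · rintro _ ⟨u, rfl⟩
    induction u using TensorProduct.induction_on with
    | zero => rw [map_zero]; exact zero_mem _
    | tmul z y => exact tmul_mem_tR (K := Z.restrictScalars k) z.2 y
    | add a b ha hb => rw [map_add]; exact add_mem ha hb
  · rw [tR_eq_span, Submodule.span_le]
    rintro _ ⟨x, hx, y, rfl⟩
    exact ⟨(⟨x, hx⟩ : Z) ⊗ₜ[k] y, rfl⟩

theorem act_algebraMap {S' : Type u} [CommRing S'] [Algebra k S'] [Module S' N]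
    [IsScalarTower k S' N] (c : k) (w : X ⊗[k] N) :
    GrSeg.act k R S' X N (algebraMap k (R ⊗[k] S') c) w = c • w := by
  rw [Algebra.algebraMap_eq_smul_one, map_smul, LinearMap.smul_apply, act_one]

end Generic

section Main

variable {k : Type u} [Field k]
  {R : Type u} [CommRing R] [Algebra k R] (𝒜 : ℤ → Submodule k R) [GradedAlgebra 𝒜]
  {S : Type u} [CommRing S] [Algebra k S] (ℬ : ℤ → Submodule k S) [GradedAlgebra ℬ]
  {T : Type u} [CommRing T] [Algebra k T] (𝒯 : ℤ → Submodule k T) [GradedAlgebra 𝒯]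
  (ψ : T →ₐ[k] R ⊗[k] S) (hT : GrSeg.IsSegreRing 𝒜 ℬ 𝒯 ψ)
  {M : Type u} [AddCommGroup M] [Module R M] [Module k M] [IsScalarTower k R M]
  (ℳ : ℤ → AddSubgroup M) [Decomposition ℳ] [SetLike.GradedSMul 𝒜 ℳ]
  {N : Type u} [AddCommGroup N] [Module S N] [Module k N] [IsScalarTower k S N]
  (𝒩 : ℤ → AddSubgroup N) [Decomposition 𝒩] [SetLike.GradedSMul ℬ 𝒩]
  {P : Type u} [AddCommGroup P] [Module T P] [Module k P] [IsScalarTower k T P]
  (𝒬 : ℤ → AddSubgroup P) [Decomposition 𝒬] [SetLike.GradedSMul (toAS 𝒯) 𝒬]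
  (φ : P →ₗ[k] M ⊗[k] N) (hP : GrSeg.IsSegreMod ψ ℳ 𝒩 𝒬 φ)
  (E : GrLC.StarInjRes 𝒜 ℳ) (F : GrLC.StarInjRes (toAS 𝒯) 𝒬)
  (mR : HomogeneousIdeal 𝒜) (mT : HomogeneousIdeal (toAS 𝒯))

attribute [local instance] kModG kTowerG

local notation "SX(" i ")" => segG 𝒜 ℬ 𝒯 ψ hT (GrLC.GMod.gr (GrLC.StarInjRes.X E i)) 𝒩
local notation "sι(" i ")" => sι 𝒜 ℬ 𝒯 ψ hT (GrLC.GMod.gr (GrLC.StarInjRes.X E i)) 𝒩
local notation "sd(" i ")" => segMap 𝒜 ℬ 𝒯 ψ hT (GrLC.GMod.gr (GrLC.StarInjRes.X E i))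
  (GrLC.GMod.gr (GrLC.StarInjRes.X E (i + 1))) 𝒩 (GrLC.StarInjRes.d E i)
  (GrLC.StarInjRes.d_grHom E i)
local notation "SR" => segRes 𝒜 ℬ 𝒯 ψ hT ℳ 𝒩 𝒬 φ hP E
local notation "ΓX(" i ")" =>
  Submodule.restrictScalars k (GrLC.gam (HomogeneousIdeal.toIdeal mR)
    (GrLC.GMod.carrier (GrLC.StarInjRes.X E i)))

/-- the comparison chain map from the Segre complex of `E` to `F` -/
theorem exists_alpha :
    ∃ α : ∀ i, (SX(i)).carrier →ₗ[T] (F.X i).carrier,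
      (∀ i, GrLC.IsGrHom (SX(i)).gr (F.X i).gr (α i)) ∧
      (∀ x, α 0 (segEps 𝒜 ℬ 𝒯 ψ hT ℳ 𝒩 𝒬 φ hP E x) = F.ε x) ∧
      ∀ i v, α (i + 1) (sd(i) v) = F.d i (α i v) :=
  exists_lift_gres SR F LinearMap.id (fun _ _ h => h)

/-- the consequences of the mapping cone argument -/
theorem cone_facts [IsNoetherianRing T]
    (hac : ∀ i p, Subsingleton (LocCoh.H mT.toIdeal (p + 1) (SX(i)).carrier))
    (α : ∀ i, (SX(i)).carrier →ₗ[T] (F.X i).carrier)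
    (hα0 : ∀ x, α 0 (segEps 𝒜 ℬ 𝒯 ψ hT ℳ 𝒩 𝒬 φ hP E x) = F.ε x)
    (hαc : ∀ i v, α (i + 1) (sd(i) v) = F.d i (α i v)) :
    (∀ (p : ℕ) (z : (F.X (p + 1)).carrier), z ∈ GrLC.gam mT.toIdeal (F.X (p + 1)).carrier →
      F.d (p + 1) z = 0 →
      ∃ a, a ∈ GrLC.gam mT.toIdeal (SX(p + 1)).carrier ∧ sd(p + 1) a = 0 ∧
        ∃ f, f ∈ GrLC.gam mT.toIdeal (F.X p).carrier ∧ z = α (p + 1) a + F.d p f) ∧
    (∀ (p : ℕ) (a : (SX(p + 1)).carrier), a ∈ GrLC.gam mT.toIdeal (SX(p + 1)).carrier →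
      sd(p + 1) a = 0 → ∀ f, f ∈ GrLC.gam mT.toIdeal (F.X p).carrier → α (p + 1) a = F.d p f →
      ∃ a', a' ∈ GrLC.gam mT.toIdeal (SX(p)).carrier ∧ sd(p) a' = a) ∧
    (∀ (z : (F.X 0).carrier), z ∈ GrLC.gam mT.toIdeal (F.X 0).carrier → F.d 0 z = 0 →
      ∃ a, a ∈ GrLC.gam mT.toIdeal (SX(0)).carrier ∧ sd(0) a = 0 ∧ z = α 0 a) ∧
    (∀ (a : (SX(0)).carrier), sd(0) a = 0 → α 0 a = 0 → a = 0) := by
  have hAdd : ∀ i x, (SR).d (i + 1) ((SR).d i x) = 0 := fun i x => GRes.d_d SR i x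
  have hFdd : ∀ i x, F.d (i + 1) (F.d i x) = 0 := fun i x => StarInjRes_d_d F i x
  have hAex : ∀ i x, (SR).d (i + 1) x = 0 → ∃ y, (SR).d i y = x := by
    intro i x hx
    have h1 : x ∈ LinearMap.range ((SR).d i) := by
      rw [← (SR).exact_succ i]
      exact LinearMap.mem_ker.2 hx
    exact h1
  have hFex : ∀ i x, F.d (i + 1) x = 0 → ∃ y, F.d i y = x := by
    intro i x hx
    have h1 : x ∈ LinearMap.range (F.d i) := by
      rw [← F.exact_succ i]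
      exact LinearMap.mem_ker.2 hx
    exact h1
  have hA0 : ∀ x, (SR).d 0 x = 0 → ∃ n, (SR).ε n = x := by
    intro x hx
    have h1 : x ∈ LinearMap.range (SR).ε := by
      rw [← (SR).exact_zero]
      exact LinearMap.mem_ker.2 hx
    exact h1
  have hF0 : ∀ x, F.d 0 x = 0 → ∃ n, F.ε n = x := by
    intro x hx
    have h1 : x ∈ LinearMap.range F.ε := by
      rw [← F.exact_zero]
      exact LinearMap.mem_ker.2 hx
    exact h1
  have hAε : ∀ n, (SR).d 0 ((SR).ε n) = 0 := fun n => GRes.d_ε SR n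
  have hFε : ∀ n, F.d 0 (F.ε n) = 0 := fun n => StarInjRes_d_ε F n
  have hacA : ∀ i p, Subsingleton (LocCoh.H mT.toIdeal (p + 1) ((SR).X i).carrier) := hac
  have hacF : ∀ i p, Subsingleton (LocCoh.H mT.toIdeal (p + 1) (F.X i).carrier) :=
    fun i p => locCoh_subsingleton_of_isStarInj (toAS 𝒯) (F.X i).gr mT (F.starInj i) p
  refine ⟨fun p z hz hdz => ?_, fun p a ha hda f hf hαa => ?_, fun z hz hdz => ?_,
    fun a hda hαa => ?_⟩
  · exact AcycCx.cone_surj mT.toIdeal P (fun i => ((SR).X i).carrier)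
      (fun i => (F.X i).carrier) (SR).d F.d (SR).ε F.ε α hAdd hFdd hAex hFex hA0 hAε
      (SR).ε_injective hF0 F.ε_injective hα0 hαc hacA hacF p z hz hdz
  · exact AcycCx.cone_inj mT.toIdeal P (fun i => ((SR).X i).carrier)
      (fun i => (F.X i).carrier) (SR).d F.d (SR).ε F.ε α hAdd hFdd hAex hFex hA0 hAε
      (SR).ε_injective hF0 F.ε_injective hα0 hαc hacA hacF p a ha hda f hf hαa
  · exact AcycCx.zero_surj mT.toIdeal P (fun i => ((SR).X i).carrier)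
      (fun i => (F.X i).carrier) (SR).d F.d (SR).ε F.ε α hA0 hAε hF0 F.ε_injective hα0 z hz hdz
  · exact AcycCx.zero_inj P (fun i => ((SR).X i).carrier)
      (fun i => (F.X i).carrier) (SR).d (SR).ε F.ε α hA0 F.ε_injective hα0 a hda hαa

/-- `pr` preserves the torsion -/
theorem pr_mem_gam (i : ℕ) (n : ℤ) {x : (E.X i).carrier}
    (hx : x ∈ GrLC.gam mR.toIdeal (E.X i).carrier) :
    pr 𝒜 (E.X i).gr n x ∈ GrLC.gam mR.toIdeal (E.X i).carrier := by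
  haveI : SetLike.GradedSMul (toAS 𝒜) (E.X i).gr := gsmul_conv 𝒜 (E.X i).gr
  exact gam_isHomogeneous (toAS 𝒜) (E.X i).gr (convI mR) n hx

/-- `Pn` preserves `Γ ⊗ N` -/
theorem Pn_mem_tR_gam (i : ℕ) (n : ℤ) {w : (E.X i).carrier ⊗[k] N} (hw : w ∈ tR N ΓX(i)) :
    Pn 𝒜 ℬ (E.X i).gr 𝒩 n w ∈ tR N ΓX(i) :=
  map_mem_tR (pr 𝒜 (E.X i).gr n) (pr ℬ 𝒩 n)
    (fun x hx => pr_mem_gam 𝒜 ℳ E mR i n hx) hw

variable (q : ℕ)

/-- torsion cocycles of the Segre complex -/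
theorem mem_cocyc_iff
    (htors : ∀ i (v : (SX(i)).carrier), v ∈ GrLC.gam mT.toIdeal (SX(i)).carrier ↔
      sι(i) v ∈ tR N ΓX(i)) (v : (SX(q)).carrier) :
    (v ∈ GrLC.gam mT.toIdeal (SX(q)).carrier ∧ sd(q) v = 0) ↔
      sι(q) v ∈ LinearMap.range (fT k N (E.cocyc mR q).subtype) := by
  rw [range_fT_subtype]
  have h1 : (E.cocyc mR q).restrictScalars k =
      ΓX(q) ⊓ LinearMap.ker ((E.d q).restrictScalars k) := by
    ext x
    rfl
  rw [h1, ← tR_inf, Submodule.mem_inf, ← ker_rTensor, htors q v]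
  refine and_congr Iff.rfl ?_
  rw [LinearMap.mem_ker]
  constructor
  · intro h
    exact congrArg (sι(q + 1)) h
  · intro h
    apply sι_injective 𝒜 ℬ 𝒯 ψ hT (E.X (q + 1)).gr 𝒩
    rw [sι_segMap, map_zero]
    exact h

/-- coboundaries correspond -/
theorem cobdy_iff
    (htors : ∀ i (v : (SX(i)).carrier), v ∈ GrLC.gam mT.toIdeal (SX(i)).carrier ↔
      sι(i) v ∈ tR N ΓX(i))
    (α : ∀ i, (SX(i)).carrier →ₗ[T] (F.X i).carrier)
    (hαc : ∀ i v, α (i + 1) (sd(i) v) = F.d i (α i v))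
    (hI : ∀ (p : ℕ) (a : (SX(p + 1)).carrier), a ∈ GrLC.gam mT.toIdeal (SX(p + 1)).carrier →
      sd(p + 1) a = 0 → ∀ f, f ∈ GrLC.gam mT.toIdeal (F.X p).carrier → α (p + 1) a = F.d p f →
      ∃ a', a' ∈ GrLC.gam mT.toIdeal (SX(p)).carrier ∧ sd(p) a' = a)
    (hI0 : ∀ (a : (SX(0)).carrier), sd(0) a = 0 → α 0 a = 0 → a = 0)
    (v : (SX(q)).carrier) (hvt : v ∈ GrLC.gam mT.toIdeal (SX(q)).carrier)
    (hvd : sd(q) v = 0) :
    α q v ∈ F.cobdy mT q ↔ sι(q) v ∈ tR N ((E.cobdy mR q).restrictScalars k) := by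
  cases q with
  | zero =>
    show α 0 v ∈ (⊥ : Submodule T (F.X 0).carrier) ↔
      sι(0) v ∈ tR N ((⊥ : Submodule R (E.X 0).carrier).restrictScalars k)
    rw [Submodule.mem_bot, Submodule.restrictScalars_bot, tR_bot, Submodule.mem_bot]
    constructor
    · intro h
      rw [hI0 v hvd h, map_zero]
    · intro h
      have h1 : v = 0 := sι_injective 𝒜 ℬ 𝒯 ψ hT (E.X 0).gr 𝒩 (h.trans (map_zero _).symm)
      rw [h1, map_zero]
  | succ q' =>
    have hB : tR N ((E.cobdy mR (q' + 1)).restrictScalars k) =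
        (tR N ΓX(q')).map (fT k N (E.d q')) := by
      have h1 : (E.cobdy mR (q' + 1)).restrictScalars k =
          ΓX(q').map ((E.d q').restrictScalars k) := by
        ext x
        rfl
      rw [h1, ← map_tR]
      rfl
    rw [hB]
    show α (q' + 1) v ∈ (GrLC.gam mT.toIdeal (F.X q').carrier).map (F.d q') ↔ _
    constructor
    · rintro ⟨f, hf, hfv⟩
      obtain ⟨a', ha', hda'⟩ := hI q' v hvt hvd f hf hfv.symm
      refine ⟨sι(q') a', (htors q' a').1 ha', ?_⟩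
      rw [← hda']
      rfl
    · rintro ⟨w, hw, hwv⟩
      obtain ⟨s, -, hsum⟩ := exists_support 𝒜 ℬ (E.X (q' + 1)).gr 𝒩
        (sι_mem 𝒜 ℬ 𝒯 ψ hT (E.X (q' + 1)).gr 𝒩 v)
      have hw'S : (∑ n ∈ s, Pn 𝒜 ℬ (E.X q').gr 𝒩 n w) ∈ segSub k (E.X q').gr 𝒩 :=
        Submodule.sum_mem _ (fun n _ => pc_le_segSub (E.X q').gr 𝒩 n
          (Pn_mem 𝒜 ℬ (E.X q').gr 𝒩 n w))
      have hw'T : (∑ n ∈ s, Pn 𝒜 ℬ (E.X q').gr 𝒩 n w) ∈ tR N ΓX(q') :=
        Submodule.sum_mem _ (fun n _ => Pn_mem_tR_gam 𝒜 ℬ ℳ 𝒩 E mR q' n hw)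
      have hw'd : fT k N (E.d q') (∑ n ∈ s, Pn 𝒜 ℬ (E.X q').gr 𝒩 n w) = sι(q' + 1) v := by
        rw [map_sum]
        conv_rhs => rw [← hsum]
        refine Finset.sum_congr rfl (fun n _ => ?_)
        rw [← Pn_fT 𝒜 ℬ (E.X q').gr (E.X (q' + 1)).gr 𝒩 (E.d q') (E.d_grHom q'), hwv]
      obtain ⟨a', ha'e⟩ : ∃ a' : (SX(q')).carrier,
          sι(q') a' = ∑ n ∈ s, Pn 𝒜 ℬ (E.X q').gr 𝒩 n w :=
        ⟨sMk 𝒜 ℬ 𝒯 ψ hT (E.X q').gr 𝒩 _ hw'S, rfl⟩
      have ha' : a' ∈ GrLC.gam mT.toIdeal (SX(q')).carrier := (htors q' a').2 (by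
        rw [ha'e]
        exact hw'T)
      have hda' : sd(q') a' = v := by
        apply sι_injective 𝒜 ℬ 𝒯 ψ hT (E.X (q' + 1)).gr 𝒩
        rw [sι_segMap, ha'e]
        exact hw'd
      refine ⟨α q' a', gam_map mT.toIdeal (α q') ha', ?_⟩
      rw [← hαc, hda']

variable [instHk : Module k (E.H mR q)]
  [instHt : @IsScalarTower k R (E.H mR q) _ _ instHk.toSMul]

/-- the kernel of `toH ⊗ id` -/
theorem ker_tH_iff (u : ↥(E.cocyc mR q) ⊗[k] N) :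
    fT k N (E.toH mR q) u = 0 ↔
      fT k N (E.cocyc mR q).subtype u ∈ tR N ((E.cobdy mR q).restrictScalars k) := by
  have h1 : LinearMap.ker (fT k N (E.toH mR q)) =
      tR N (LinearMap.ker ((E.toH mR q).restrictScalars k)) := ker_rTensor _
  have h2 : (tR N ((E.cobdy mR q).restrictScalars k)).comap (fT k N (E.cocyc mR q).subtype) =
      tR N (((E.cobdy mR q).restrictScalars k).comap
        ((E.cocyc mR q).subtype.restrictScalars k)) := comap_tR _ _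
  have h3 : LinearMap.ker ((E.toH mR q).restrictScalars k) =
      ((E.cobdy mR q).restrictScalars k).comap ((E.cocyc mR q).subtype.restrictScalars k) := by
    ext z
    rw [LinearMap.mem_ker]
    exact Submodule.Quotient.mk_eq_zero _
  rw [← LinearMap.mem_ker, h1, h3, ← h2]
  rfl

/-- projecting a tensor of cocycles to degree `n` -/
theorem exists_proj (n : ℤ) (u : ↥(E.cocyc mR q) ⊗[k] N) :
    ∃ u' : ↥(E.cocyc mR q) ⊗[k] N,
      fT k N (E.cocyc mR q).subtype u' =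
        Pn 𝒜 ℬ (E.X q).gr 𝒩 n (fT k N (E.cocyc mR q).subtype u) ∧
      fT k N (E.toH mR q) u' ∈ GrSeg.segrePiece k (E.Hgr mR q) 𝒩 n := by
  induction u using TensorProduct.induction_on with
  | zero => exact ⟨0, by simp, by rw [map_zero]; exact zero_mem _⟩
  | tmul z y =>
    have hz' : pr 𝒜 (E.X q).gr n z.1 ∈ E.cocyc mR q := by
      refine ⟨pr_mem_gam 𝒜 ℳ E mR q n z.2.1, LinearMap.mem_ker.2 ?_⟩
      rw [pr_apply, ← grHom_comp (E.X q).gr (E.X (q + 1)).gr (E.d_grHom q),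
        LinearMap.mem_ker.1 z.2.2, decompose_zero, DirectSum.zero_apply, ZeroMemClass.coe_zero]
    refine ⟨(⟨pr 𝒜 (E.X q).gr n z.1, hz'⟩ : ↥(E.cocyc mR q)) ⊗ₜ[k] pr ℬ 𝒩 n y, rfl, ?_⟩
    rw [fT_tmul]
    refine tmul_mem_segrePiece ?_ (pr_mem ℬ 𝒩 n y)
    exact ⟨⟨pr 𝒜 (E.X q).gr n z.1, hz'⟩, pr_mem 𝒜 (E.X q).gr n z.1, rfl⟩
  | add a b ha hb =>
    obtain ⟨a', ha1, ha2⟩ := ha
    obtain ⟨b', hb1, hb2⟩ := hb
    refine ⟨a' + b', ?_, ?_⟩
    · rw [map_add, map_add, map_add, ha1, hb1]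
    · rw [map_add]
      exact add_mem ha2 hb2

variable [instFk : Module k (F.H mT q)]
  [instFt : @IsScalarTower k T (F.H mT q) _ _ instFk.toSMul]

omit instFk instFt in
include hP in
/-- **the comparison, additively** -/
theorem exists_addHom_segre_H [IsNoetherianRing T]
    (hac : ∀ i p, Subsingleton (LocCoh.H mT.toIdeal (p + 1) (SX(i)).carrier))
    (htors : ∀ i (v : (SX(i)).carrier), v ∈ GrLC.gam mT.toIdeal (SX(i)).carrier ↔
      sι(i) v ∈ tR N ΓX(i)) :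
    ∃ j : F.H mT q →+ (E.H mR q) ⊗[k] N, Function.Injective j ∧
      (∀ n, j '' (F.Hgr mT q n : Set (F.H mT q)) =
        (GrSeg.segrePiece k (E.Hgr mR q) 𝒩 n : Set ((E.H mR q) ⊗[k] N))) ∧
      ∀ (t : T) (h : F.H mT q), j (t • h) = GrSeg.act k R S (E.H mR q) N (ψ t) (j h) := by
  obtain ⟨α, hαgr, hα0, hαc⟩ := exists_alpha 𝒜 ℬ 𝒯 ψ hT ℳ 𝒩 𝒬 φ hP E F
  obtain ⟨hS, hI, hS0, hI0⟩ := cone_facts 𝒜 ℬ 𝒯 ψ hT ℳ 𝒩 𝒬 φ hP E F mT hac α hα0 hαc
  -- the torsion cocycles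
  obtain ⟨Z, hZ⟩ : ∃ Z : Submodule T (SX(q)).carrier,
      Z = GrLC.gam mT.toIdeal (SX(q)).carrier ⊓ LinearMap.ker (sd(q)) := ⟨_, rfl⟩
  have hZmem : ∀ v, v ∈ Z ↔ (v ∈ GrLC.gam mT.toIdeal (SX(q)).carrier ∧ sd(q) v = 0) := by
    intro v
    rw [hZ, Submodule.mem_inf, LinearMap.mem_ker]
  have hαZ : ∀ v ∈ Z, α q v ∈ F.cocyc mT q := by
    intro v hv
    obtain ⟨hv1, hv2⟩ := (hZmem v).1 hv
    refine ⟨gam_map mT.toIdeal (α q) hv1, LinearMap.mem_ker.2 ?_⟩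
    rw [← hαc, hv2, map_zero]
  obtain ⟨f₁, hf₁⟩ : ∃ f₁ : ↥Z →ₗ[T] F.H mT q,
      ∀ v : ↥Z, f₁ v = F.toH mT q ⟨α q v.1, hαZ v.1 v.2⟩ :=
    ⟨(F.toH mT q) ∘ₗ ((α q).restrict hαZ), fun v => rfl⟩
  -- surjectivity
  have hsurj : Function.Surjective f₁ := by
    intro h
    obtain ⟨c, rfl⟩ := Submodule.Quotient.mk_surjective _ h
    have key : ∃ a, a ∈ Z ∧ c.1 - α q a ∈ F.cobdy mT q := by
      cases q with
      | zero =>
        obtain ⟨a, ha, hda, hca⟩ := hS0 c.1 c.2.1 (LinearMap.mem_ker.1 c.2.2)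
        refine ⟨a, (hZmem a).2 ⟨ha, hda⟩, ?_⟩
        rw [hca, sub_self]
        exact zero_mem _
      | succ q' =>
        obtain ⟨a, ha, hda, f, hf, hcaf⟩ := hS q' c.1 c.2.1 (LinearMap.mem_ker.1 c.2.2)
        refine ⟨a, (hZmem a).2 ⟨ha, hda⟩, ?_⟩
        rw [hcaf, add_sub_cancel_left]
        exact ⟨f, hf, rfl⟩
    obtain ⟨a, ha, hca⟩ := key
    refine ⟨⟨a, ha⟩, ?_⟩
    rw [hf₁]
    refine (Submodule.Quotient.eq _).2 ?_
    show α q a - c.1 ∈ F.cobdy mT q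
    have h3 := neg_mem hca
    rwa [neg_sub] at h3
  -- the second map
  have hJinj : Function.Injective (fT k N (E.cocyc mR q).subtype) :=
    fT_injective (E.cocyc mR q).subtype (Submodule.subtype_injective _)
  have hmemJ : ∀ v : ↥Z, ∃ u, fT k N (E.cocyc mR q).subtype u = sι(q) v.1 := fun v =>
    (mem_cocyc_iff 𝒜 ℬ 𝒯 ψ hT ℳ 𝒩 E mR mT q htors v.1).1 ((hZmem v.1).1 v.2)
  obtain ⟨f₂, hf₂⟩ : ∃ f₂ : ↥Z →+ (E.H mR q) ⊗[k] N, ∀ (v : ↥Z) (u),
      fT k N (E.cocyc mR q).subtype u = sι(q) v.1 → f₂ v = fT k N (E.toH mR q) u := by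
    choose U hU using hmemJ
    have hUadd : ∀ v w, U (v + w) = U v + U w := by
      intro v w
      apply hJinj
      rw [map_add, hU, hU, hU]
      exact map_add (sι(q)) v.1 w.1
    have hU0 : U 0 = 0 := by
      apply hJinj
      rw [hU, map_zero]
      exact map_zero (sι(q))
    refine ⟨⟨⟨fun v => fT k N (E.toH mR q) (U v), ?_⟩, ?_⟩, ?_⟩
    · show fT k N (E.toH mR q) (U 0) = 0
      rw [hU0, map_zero]
    · intro v w
      show fT k N (E.toH mR q) (U (v + w)) = _ + _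
      rw [hUadd, map_add]
    · intro v u hu
      show fT k N (E.toH mR q) (U v) = _
      congr 1
      apply hJinj
      rw [hU, hu]
  -- kernels
  have hker : ∀ v : ↥Z, f₁ v = 0 ↔ f₂ v = 0 := by
    intro v
    obtain ⟨hv1, hv2⟩ := (hZmem v.1).1 v.2
    obtain ⟨u, hu⟩ := hmemJ v
    have h1 : f₁ v = 0 ↔ α q v.1 ∈ F.cobdy mT q := by
      rw [hf₁]
      exact Submodule.Quotient.mk_eq_zero _
    rw [h1, hf₂ v u hu, ker_tH_iff 𝒜 ℳ E mR q u, hu]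
    exact cobdy_iff 𝒜 ℬ 𝒯 ψ hT ℳ 𝒩 𝒬 E F mR mT q htors α hαc hI hI0 v.1 hv1 hv2
  -- equivariance
  have hequiv : ∀ (t : T) (v : ↥Z),
      f₂ (t • v) = GrSeg.act k R S (E.H mR q) N (ψ t) (f₂ v) := by
    intro t v
    obtain ⟨u, hu⟩ := hmemJ v
    have hu' : fT k N (E.cocyc mR q).subtype (GrSeg.act k R S ↥(E.cocyc mR q) N (ψ t) u) =
        sι(q) (t • v).1 := by
      rw [fT_act, hu]
      rfl
    rw [hf₂ (t • v) _ hu', hf₂ v u hu, fT_act]
  -- homogeneous surjectivity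
  have hsurjn : ∀ (n : ℤ) (c : (F.X q).carrier), c ∈ F.cocyc mT q → c ∈ (F.X q).gr n →
      ∃ a, a ∈ Z ∧ a ∈ (SX(q)).gr n ∧ c - α q a ∈ F.cobdy mT q := by
    intro n c hcc hcn
    have hcomp : ∀ a, a ∈ Z →
        ((decompose (SX(q)).gr a n : (SX(q)).gr n) : (SX(q)).carrier) ∈ Z := by
      intro a ha
      obtain ⟨ha1, ha2⟩ := (hZmem a).1 ha
      refine (hZmem _).2 ⟨gam_isHomogeneous (toAS 𝒯) (SX(q)).gr mT n ha1, ?_⟩
      rw [← grHom_comp (SX(q)).gr (SX(q + 1)).gr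
        (segMap_isGrHom 𝒜 ℬ 𝒯 ψ hT (E.X q).gr (E.X (q + 1)).gr 𝒩 (E.d q) (E.d_grHom q)) a n,
        ha2, decompose_zero, DirectSum.zero_apply, ZeroMemClass.coe_zero]
    cases q with
    | zero =>
      obtain ⟨a, ha, hda, hca⟩ := hS0 c hcc.1 (LinearMap.mem_ker.1 hcc.2)
      refine ⟨_, hcomp a ((hZmem a).2 ⟨ha, hda⟩), SetLike.coe_mem _, ?_⟩
      show c - α 0 _ ∈ (⊥ : Submodule T (F.X 0).carrier)
      rw [Submodule.mem_bot, ← grHom_comp (SX(0)).gr (F.X 0).gr (hαgr 0) a n, ← hca,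
        decompose_of_mem_same _ hcn, sub_self]
    | succ q' =>
      obtain ⟨a, ha, hda, f, hf, hcaf⟩ := hS q' c hcc.1 (LinearMap.mem_ker.1 hcc.2)
      refine ⟨_, hcomp a ((hZmem a).2 ⟨ha, hda⟩), SetLike.coe_mem _, ?_⟩
      show c - α (q' + 1) _ ∈ (GrLC.gam mT.toIdeal (F.X q').carrier).map (F.d q')
      refine ⟨((decompose (F.X q').gr f n : (F.X q').gr n) : (F.X q').carrier),
        gam_isHomogeneous (toAS 𝒯) (F.X q').gr mT n hf, ?_⟩
      rw [← grHom_comp (SX(q' + 1)).gr (F.X (q' + 1)).gr (hαgr (q' + 1)) a n,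
        ← grHom_comp (F.X q').gr (F.X (q' + 1)).gr (F.d_grHom q') f n]
      have h1 : F.d q' f = c - α (q' + 1) a := by
        rw [hcaf, add_sub_cancel_left]
      rw [h1, decompose_sub, DirectSum.sub_apply, AddSubgroupClass.coe_sub,
        decompose_of_mem_same _ hcn]
  -- pieces
  have hpiece₁ : ∀ n, f₁ '' {v : ↥Z | v.1 ∈ (SX(q)).gr n} =
      (F.Hgr mT q n : Set (F.H mT q)) := by
    intro n
    ext x
    constructor
    · rintro ⟨v, hvn, rfl⟩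
      exact ⟨⟨α q v.1, hαZ v.1 v.2⟩, hαgr q n v.1 hvn, (hf₁ v).symm⟩
    · rintro ⟨c, hcn, rfl⟩
      obtain ⟨a, ha, han, hca⟩ := hsurjn n c.1 c.2 hcn
      refine ⟨⟨a, ha⟩, han, ?_⟩
      rw [hf₁]
      refine (Submodule.Quotient.eq _).2 ?_
      show α q a - c.1 ∈ F.cobdy mT q
      have h3 := neg_mem hca
      rwa [neg_sub] at h3
  have hpiece₂ : ∀ n, f₂ '' {v : ↥Z | v.1 ∈ (SX(q)).gr n} =
      (GrSeg.segrePiece k (E.Hgr mR q) 𝒩 n : Set ((E.H mR q) ⊗[k] N)) := by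
    intro n
    ext x
    constructor
    · rintro ⟨v, hvn, rfl⟩
      obtain ⟨u, hu⟩ := hmemJ v
      obtain ⟨u', hu'1, hu'2⟩ := exists_proj 𝒜 ℬ ℳ 𝒩 E mR q n u
      have hvn' : sι(q) v.1 ∈ pc k (E.X q).gr 𝒩 n := hvn
      rw [hu, Pn_of_mem 𝒜 ℬ (E.X q).gr 𝒩 hvn', ← hu] at hu'1
      rw [hJinj hu'1] at hu'2
      rw [hf₂ v u hu]
      exact hu'2
    · intro hx
      refine segrePiece_induction (motive := fun x => x ∈ f₂ '' {v : ↥Z | v.1 ∈ (SX(q)).gr n})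
        ?_ ?_ ?_ ?_ hx
      · rintro h ⟨z, hzn, rfl⟩ y hy
        have hmem : (z.1 ⊗ₜ[k] y : (E.X q).carrier ⊗[k] N) ∈ pc k (E.X q).gr 𝒩 n :=
          tmul_mem_segrePiece hzn hy
        obtain ⟨v, hv⟩ : ∃ v : (SX(q)).carrier, sι(q) v = z.1 ⊗ₜ[k] y :=
          ⟨sMk 𝒜 ℬ 𝒯 ψ hT (E.X q).gr 𝒩 _ (pc_le_segSub (E.X q).gr 𝒩 n hmem), rfl⟩
        have hu : fT k N (E.cocyc mR q).subtype (z ⊗ₜ[k] y) = sι(q) v := by
          rw [hv]
          rfl
        have hvZ : v ∈ Z := (hZmem v).2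
          ((mem_cocyc_iff 𝒜 ℬ 𝒯 ψ hT ℳ 𝒩 E mR mT q htors v).2 ⟨z ⊗ₜ[k] y, hu⟩)
        refine ⟨⟨v, hvZ⟩, ?_, ?_⟩
        · show sι(q) v ∈ pc k (E.X q).gr 𝒩 n
          rw [hv]
          exact hmem
        · rw [hf₂ ⟨v, hvZ⟩ (z ⊗ₜ[k] y) hu]
          rfl
      · exact ⟨0, zero_mem ((SX(q)).gr n), map_zero f₂⟩
      · rintro _ _ ⟨v, hv, rfl⟩ ⟨w, hw, rfl⟩
        exact ⟨v + w, ((SX(q)).gr n).add_mem hv hw, map_add f₂ v w⟩
      · rintro c _ ⟨v, hv, rfl⟩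
        refine ⟨algebraMap k T c • v, ?_, ?_⟩
        · have h0 : algebraMap k T c ∈ toAS 𝒯 0 := by
            show algebraMap k T c ∈ 𝒯 0
            rw [Algebra.algebraMap_eq_smul_one]
            exact Submodule.smul_mem _ c (SetLike.GradedOne.one_mem (A := 𝒯))
          have h1 := SetLike.GradedSMul.smul_mem (A := toAS 𝒯) (B := (SX(q)).gr) h0 hv
          rw [vadd_eq_add, zero_add] at h1
          exact h1
        · rw [hequiv, AlgHom.commutes, act_algebraMap]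
  -- conclusion
  obtain ⟨j, hj⟩ := exists_addHom_of_ker f₁.toAddMonoidHom f₂ hsurj
    (fun z h => (hker z).1 h)
  have hj' : ∀ z, j (f₁ z) = f₂ z := hj
  refine ⟨j, ?_, ?_, ?_⟩
  · rw [injective_iff_map_eq_zero]
    intro h hh
    obtain ⟨z, rfl⟩ := hsurj h
    have h2 : f₂ z = 0 := (hj' z).symm.trans hh
    exact (hker z).2 h2
  · intro n
    rw [← hpiece₁ n, ← hpiece₂ n, Set.image_image]
    exact Set.image_congr (fun z _ => hj' z)
  · intro t h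
    obtain ⟨z, rfl⟩ := hsurj h
    rw [← map_smul f₁ t z, hj', hequiv, hj']

include hP in
/-- **the comparison** `H^q_{T₊}(M # N) → H^q_m(M) ⊗ N`, conditionally on acyclicity and torsion -/
theorem exists_linearMap_segre_H [IsNoetherianRing T]
    (hac : ∀ i p, Subsingleton (LocCoh.H mT.toIdeal (p + 1) (SX(i)).carrier))
    (htors : ∀ i (v : (SX(i)).carrier), v ∈ GrLC.gam mT.toIdeal (SX(i)).carrier ↔
      sι(i) v ∈ tR N ΓX(i)) :
    ∃ φ' : F.H mT q →ₗ[k] (E.H mR q) ⊗[k] N, Function.Injective φ' ∧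
      (∀ n, φ' '' (F.Hgr mT q n : Set (F.H mT q)) =
        (GrSeg.segrePiece k (E.Hgr mR q) 𝒩 n : Set ((E.H mR q) ⊗[k] N))) ∧
      ∀ (t : T) (h : F.H mT q), φ' (t • h) = GrSeg.act k R S (E.H mR q) N (ψ t) (φ' h) := by
  obtain ⟨j, hjinj, hjp, hjt⟩ :=
    exists_addHom_segre_H 𝒜 ℬ 𝒯 ψ hT ℳ 𝒩 𝒬 φ hP E F mR mT q hac htors
  refine ⟨{ toFun := j, map_add' := map_add j, map_smul' := fun c h => ?_ }, hjinj, hjp, hjt⟩
  show j (c • h) = c • j h
  rw [← algebraMap_smul T c h, hjt, AlgHom.commutes, act_algebraMap]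

end Main

end Groth.Agent.H98.Seg
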