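import Mathlib
import Groth.Agent.H98.GrMod
import Groth.Agent.H98.GrStdOld
import Groth.Agent.H98.GrLiftEx
import Groth.Agent.H98.GrConv
import Groth.Agent.H98.GrQuot

/-!
# Helper library (helper98): the Segre product `X # N = ⊕ₙ Xₙ ⊗ₖ Nₙ` of a graded `R`-module and a
graded `S`-module, as a bundled graded module over the Segre ring `T` (presented by `ψ`).
-/

set_option autoImplicit false
universe u
open scoped TensorProduct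
open DirectSum

namespace Groth.Agent.H98.Seg

open Groth.Agent.H98.GrCat Groth.Agent.H98.GrConv

section Pieces

variable {k : Type u} [Field k]
  {R : Type u} [CommRing R] [Algebra k R] (𝒜 : ℤ → Submodule k R) [GradedAlgebra 𝒜]
  {S : Type u} [CommRing S] [Algebra k S] (ℬ : ℤ → Submodule k S) [GradedAlgebra ℬ]
  {X : Type u} [AddCommGroup X] [Module R X] [Module k X] [IsScalarTower k R X]
  (𝒳 : ℤ → AddSubgroup X) [Decomposition 𝒳] [SetLike.GradedSMul 𝒜 𝒳]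
  {N : Type u} [AddCommGroup N] [Module S N] [Module k N] [IsScalarTower k S N]
  (𝒩 : ℤ → AddSubgroup N) [Decomposition 𝒩] [SetLike.GradedSMul ℬ 𝒩]

/-- the `k`-linear projection onto the `n`-th piece -/
noncomputable def pr (n : ℤ) : X →ₗ[k] X := gproj (subPiece 𝒜 𝒳) n

theorem pr_apply (n : ℤ) (x : X) : pr 𝒜 𝒳 n x = ((decompose 𝒳 x n : 𝒳 n) : X) := rfl

theorem pr_mem (n : ℤ) (x : X) : pr 𝒜 𝒳 n x ∈ 𝒳 n := by
  rw [pr_apply]; exact SetLike.coe_mem _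

theorem pr_of_mem {n : ℤ} {x : X} (hx : x ∈ 𝒳 n) : pr 𝒜 𝒳 n x = x := by
  rw [pr_apply, decompose_of_mem_same 𝒳 hx]

theorem pr_of_mem_ne {m n : ℤ} {x : X} (hx : x ∈ 𝒳 m) (h : m ≠ n) : pr 𝒜 𝒳 n x = 0 := by
  rw [pr_apply, decompose_of_mem_ne 𝒳 hx h]

/-- the projection of `X ⊗ N` onto `Xₙ ⊗ Nₙ` -/
noncomputable def Pn (n : ℤ) : X ⊗[k] N →ₗ[k] X ⊗[k] N :=
  TensorProduct.map (pr 𝒜 𝒳 n) (pr ℬ 𝒩 n)

theorem Pn_tmul (n : ℤ) (x : X) (y : N) :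
    Pn 𝒜 ℬ 𝒳 𝒩 n (x ⊗ₜ[k] y) = pr 𝒜 𝒳 n x ⊗ₜ[k] pr ℬ 𝒩 n y := rfl

variable (k) in
/-- the pieces of the Segre product -/
abbrev pc (n : ℤ) : Submodule k (X ⊗[k] N) := GrSeg.segrePiece k 𝒳 𝒩 n

theorem Pn_mem (n : ℤ) (z : X ⊗[k] N) : Pn 𝒜 ℬ 𝒳 𝒩 n z ∈ pc k 𝒳 𝒩 n := by
  induction z using TensorProduct.induction_on with
  | zero => rw [map_zero]; exact zero_mem _
  | tmul x y =>
    rw [Pn_tmul]
    exact tmul_mem_segrePiece (pr_mem 𝒜 𝒳 n x) (pr_mem ℬ 𝒩 n y)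
  | add z z' h h' => rw [map_add]; exact add_mem h h'

theorem Pn_of_mem {n : ℤ} {z : X ⊗[k] N} (hz : z ∈ pc k 𝒳 𝒩 n) : Pn 𝒜 ℬ 𝒳 𝒩 n z = z := by
  refine segrePiece_induction (motive := fun z => Pn 𝒜 ℬ 𝒳 𝒩 n z = z) ?_ (map_zero _) ?_ ?_ hz
  · intro x hx y hy
    rw [Pn_tmul, pr_of_mem 𝒜 𝒳 hx, pr_of_mem ℬ 𝒩 hy]
  · intro v w hv hw; rw [map_add, hv, hw]
  · intro c v hv; rw [map_smul, hv]

theorem Pn_of_mem_ne {m n : ℤ} {z : X ⊗[k] N} (hz : z ∈ pc k 𝒳 𝒩 m) (h : m ≠ n) :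
    Pn 𝒜 ℬ 𝒳 𝒩 n z = 0 := by
  refine segrePiece_induction (motive := fun z => Pn 𝒜 ℬ 𝒳 𝒩 n z = 0) ?_ (map_zero _) ?_ ?_ hz
  · intro x hx y hy
    rw [Pn_tmul, pr_of_mem_ne 𝒜 𝒳 hx h, TensorProduct.zero_tmul]
  · intro v w hv hw; rw [map_add, hv, hw, add_zero]
  · intro c v hv; rw [map_smul, hv, smul_zero]

variable (k) in
/-- the Segre product inside `X ⊗ N` -/
def segSub : Submodule k (X ⊗[k] N) := ⨆ n, pc k 𝒳 𝒩 n

theorem pc_le_segSub (n : ℤ) : pc k 𝒳 𝒩 n ≤ segSub k 𝒳 𝒩 := le_iSup (fun n => pc k 𝒳 𝒩 n) n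

theorem exists_support {z : X ⊗[k] N} (hz : z ∈ segSub k 𝒳 𝒩) :
    ∃ s : Finset ℤ, (∀ n, n ∉ s → Pn 𝒜 ℬ 𝒳 𝒩 n z = 0) ∧ ∑ n ∈ s, Pn 𝒜 ℬ 𝒳 𝒩 n z = z := by
  classical
  unfold segSub at hz
  induction hz using Submodule.iSup_induction' with
  | mem m z hz =>
    refine ⟨{m}, fun n hn => ?_, ?_⟩
    · exact Pn_of_mem_ne 𝒜 ℬ 𝒳 𝒩 hz (by rintro rfl; exact hn (Finset.mem_singleton_self _))
    · rw [Finset.sum_singleton, Pn_of_mem 𝒜 ℬ 𝒳 𝒩 hz]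
  | zero => exact ⟨∅, fun n _ => map_zero _, by simp⟩
  | add z z' _ _ h h' =>
    obtain ⟨s, hs, hsum⟩ := h
    obtain ⟨s', hs', hsum'⟩ := h'
    refine ⟨s ∪ s', fun n hn => ?_, ?_⟩
    · rw [Finset.mem_union, not_or] at hn
      rw [map_add, hs n hn.1, hs' n hn.2, add_zero]
    · simp only [map_add, Finset.sum_add_distrib]
      rw [← Finset.sum_subset (Finset.subset_union_left (s₂ := s')) (fun n _ hn => hs n hn),
        ← Finset.sum_subset (Finset.subset_union_right (s₁ := s)) (fun n _ hn => hs' n hn),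
        hsum, hsum']

end Pieces

section SegG

variable {k : Type u} [Field k]
  {R : Type u} [CommRing R] [Algebra k R] (𝒜 : ℤ → Submodule k R) [GradedAlgebra 𝒜]
  {S : Type u} [CommRing S] [Algebra k S] (ℬ : ℤ → Submodule k S) [GradedAlgebra ℬ]
  {T : Type u} [CommRing T] [Algebra k T] (𝒯 : ℤ → Submodule k T) [GradedAlgebra 𝒯]
  (ψ : T →ₐ[k] R ⊗[k] S) (hT : GrSeg.IsSegreRing 𝒜 ℬ 𝒯 ψ)
  {X : Type u} [AddCommGroup X] [Module R X] [Module k X] [IsScalarTower k R X]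
  (𝒳 : ℤ → AddSubgroup X) [Decomposition 𝒳] [SetLike.GradedSMul 𝒜 𝒳]
  {N : Type u} [AddCommGroup N] [Module S N] [Module k N] [IsScalarTower k S N]
  (𝒩 : ℤ → AddSubgroup N) [Decomposition 𝒩] [SetLike.GradedSMul ℬ 𝒩]

omit [GradedAlgebra 𝒜] [GradedAlgebra ℬ] [Decomposition 𝒳] [Decomposition 𝒩] in
theorem act_mem_pc {i j : ℤ} {u : R ⊗[k] S} (hu : u ∈ GrSeg.segrePiece k 𝒜 ℬ i)
    {z : X ⊗[k] N} (hz : z ∈ pc k 𝒳 𝒩 j) : GrSeg.act k R S X N u z ∈ pc k 𝒳 𝒩 (i + j) := by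
  refine segrePiece_induction (motive := fun u => GrSeg.act k R S X N u z ∈ pc k 𝒳 𝒩 (i + j))
    ?_ ?_ ?_ ?_ hu
  · intro a ha b hb
    refine segrePiece_induction
      (motive := fun z => GrSeg.act k R S X N (a ⊗ₜ[k] b) z ∈ pc k 𝒳 𝒩 (i + j)) ?_ ?_ ?_ ?_ hz
    · intro x hx y hy
      rw [GrSeg.act_tmul]
      exact tmul_mem_segrePiece (Groth.Agent.H98.gsmul_mem 𝒜 𝒳 ha hx)
        (Groth.Agent.H98.gsmul_mem ℬ 𝒩 hb hy)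
    · rw [map_zero]; exact zero_mem _
    · intro v w hv hw; rw [map_add]; exact add_mem hv hw
    · intro c v hv; rw [map_smul]; exact Submodule.smul_mem _ c hv
  · rw [map_zero, LinearMap.zero_apply]; exact zero_mem _
  · intro v w hv hw; rw [map_add, LinearMap.add_apply]; exact add_mem hv hw
  · intro c v hv; rw [map_smul, LinearMap.smul_apply]; exact Submodule.smul_mem _ c hv

include hT in
theorem psi_mem {i : ℤ} {t : T} (ht : t ∈ 𝒯 i) : ψ t ∈ GrSeg.segrePiece k 𝒜 ℬ i := by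
  rw [← hT.2 i]
  exact Submodule.mem_map_of_mem ht

include hT in
theorem act_psi_mem (t : T) {z : X ⊗[k] N} (hz : z ∈ segSub k 𝒳 𝒩) :
    GrSeg.act k R S X N (ψ t) z ∈ segSub k 𝒳 𝒩 := by
  classical
  induction t using DirectSum.Decomposition.inductionOn 𝒯 with
  | zero => rw [map_zero, map_zero, LinearMap.zero_apply]; exact zero_mem _
  | @homogeneous i t =>
    unfold segSub at hz
    induction hz using Submodule.iSup_induction' with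
    | mem j z hz =>
      exact pc_le_segSub 𝒳 𝒩 _ (act_mem_pc 𝒜 ℬ 𝒳 𝒩 (psi_mem 𝒜 ℬ 𝒯 ψ hT t.2) hz)
    | zero => rw [map_zero]; exact zero_mem _
    | add z z' _ _ h h' => rw [map_add]; exact add_mem h h'
  | add t t' h h' => rw [map_add, map_add, LinearMap.add_apply]; exact add_mem h h'

/-- the `T`-module structure of the Segre product -/
noncomputable def segModule : Module T ↥(segSub k 𝒳 𝒩) where
  smul t z := ⟨GrSeg.act k R S X N (ψ t) z.1, act_psi_mem 𝒜 ℬ 𝒯 ψ hT 𝒳 𝒩 t z.2⟩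
  one_smul z := Subtype.ext (by
    show GrSeg.act k R S X N (ψ 1) z.1 = z.1
    rw [map_one, act_one])
  mul_smul t t' z := Subtype.ext (by
    show GrSeg.act k R S X N (ψ (t * t')) z.1 =
      GrSeg.act k R S X N (ψ t) (GrSeg.act k R S X N (ψ t') z.1)
    rw [map_mul, act_mul])
  smul_zero t := Subtype.ext (by
    show GrSeg.act k R S X N (ψ t) 0 = 0
    rw [map_zero])
  smul_add t z z' := Subtype.ext (by
    show GrSeg.act k R S X N (ψ t) (z.1 + z'.1) = _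
    rw [map_add]; rfl)
  add_smul t t' z := Subtype.ext (by
    show GrSeg.act k R S X N (ψ (t + t')) z.1 = _
    rw [map_add, map_add, LinearMap.add_apply]; rfl)
  zero_smul z := Subtype.ext (by
    show GrSeg.act k R S X N (ψ 0) z.1 = 0
    rw [map_zero, map_zero, LinearMap.zero_apply])

variable (k) in
/-- the pieces -/
def segGr (n : ℤ) : AddSubgroup ↥(segSub k 𝒳 𝒩) :=
  (pc k 𝒳 𝒩 n).toAddSubgroup.comap (segSub k 𝒳 𝒩).subtype.toAddMonoidHom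

omit [Decomposition 𝒳] [Decomposition 𝒩] in
theorem mem_segGr {n : ℤ} {z : ↥(segSub k 𝒳 𝒩)} :
    z ∈ segGr k 𝒳 𝒩 n ↔ (z : X ⊗[k] N) ∈ pc k 𝒳 𝒩 n := Iff.rfl

/-- the component maps -/
noncomputable def segComp (n : ℤ) : ↥(segSub k 𝒳 𝒩) →+ ↥(segSub k 𝒳 𝒩) where
  toFun z := ⟨Pn 𝒜 ℬ 𝒳 𝒩 n z.1, pc_le_segSub 𝒳 𝒩 n (Pn_mem 𝒜 ℬ 𝒳 𝒩 n z.1)⟩
  map_zero' := Subtype.ext (map_zero _)
  map_add' z z' := Subtype.ext (map_add _ _ _)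

theorem segComp_coe (n : ℤ) (z : ↥(segSub k 𝒳 𝒩)) :
    ((segComp 𝒜 ℬ 𝒳 𝒩 n z : ↥(segSub k 𝒳 𝒩)) : X ⊗[k] N) = Pn 𝒜 ℬ 𝒳 𝒩 n z.1 := rfl

/-- the decomposition of the Segre product -/
noncomputable def segDec : DirectSum.Decomposition (segGr k 𝒳 𝒩) :=
  decompOfProj (segGr k 𝒳 𝒩) (segComp 𝒜 ℬ 𝒳 𝒩)
    (fun z => Classical.choose (exists_support 𝒜 ℬ 𝒳 𝒩 z.2))
    (fun n z => Pn_mem 𝒜 ℬ 𝒳 𝒩 n z.1)
    (fun z n hn => Subtype.ext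
      ((Classical.choose_spec (exists_support 𝒜 ℬ 𝒳 𝒩 z.2)).1 n hn))
    (fun z => Subtype.ext (by
      rw [AddSubmonoidClass.coe_finsetSum]
      exact (Classical.choose_spec (exists_support 𝒜 ℬ 𝒳 𝒩 z.2)).2))
    (fun n z hz => Subtype.ext (Pn_of_mem 𝒜 ℬ 𝒳 𝒩 hz))
    (fun n m z hnm hz => Subtype.ext (Pn_of_mem_ne 𝒜 ℬ 𝒳 𝒩 hz (Ne.symm hnm)))

/-- the Segre product as a bundled graded `T`-module -/
noncomputable def segG : GrLC.GMod.{u} (toAS 𝒯) :=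
  letI := segModule 𝒜 ℬ 𝒯 ψ hT 𝒳 𝒩
  { carrier := ↥(segSub k 𝒳 𝒩)
    gr := segGr k 𝒳 𝒩
    dec := segDec 𝒜 ℬ 𝒳 𝒩
    gsmul := ⟨fun {i j t z} ht hz => by
      rw [vadd_eq_add]
      exact act_mem_pc 𝒜 ℬ 𝒳 𝒩 (psi_mem 𝒜 ℬ 𝒯 ψ hT ht) hz⟩ }

local notation "SG" => segG 𝒜 ℬ 𝒯 ψ hT 𝒳 𝒩

/-- the inclusion into the tensor product -/
def sι : (SG).carrier →+ X ⊗[k] N := (segSub k 𝒳 𝒩).subtype.toAddMonoidHom

theorem sι_injective : Function.Injective (sι 𝒜 ℬ 𝒯 ψ hT 𝒳 𝒩) := Subtype.val_injective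

theorem sι_mem (v : (SG).carrier) : sι 𝒜 ℬ 𝒯 ψ hT 𝒳 𝒩 v ∈ segSub k 𝒳 𝒩 := v.2

theorem sι_smul (t : T) (v : (SG).carrier) :
    sι 𝒜 ℬ 𝒯 ψ hT 𝒳 𝒩 (t • v) = GrSeg.act k R S X N (ψ t) (sι 𝒜 ℬ 𝒯 ψ hT 𝒳 𝒩 v) := rfl

/-- elements of the Segre product -/
def sMk (z : X ⊗[k] N) (hz : z ∈ segSub k 𝒳 𝒩) : (SG).carrier := ⟨z, hz⟩

theorem sι_sMk (z : X ⊗[k] N) (hz : z ∈ segSub k 𝒳 𝒩) :
    sι 𝒜 ℬ 𝒯 ψ hT 𝒳 𝒩 (sMk 𝒜 ℬ 𝒯 ψ hT 𝒳 𝒩 z hz) = z := rfl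

theorem mem_segG_gr {n : ℤ} {v : (SG).carrier} :
    v ∈ (SG).gr n ↔ sι 𝒜 ℬ 𝒯 ψ hT 𝒳 𝒩 v ∈ pc k 𝒳 𝒩 n := Iff.rfl

theorem sι_comp (v : (SG).carrier) (n : ℤ) :
    sι 𝒜 ℬ 𝒯 ψ hT 𝒳 𝒩 ((decompose (SG).gr v n : (SG).gr n) : (SG).carrier) =
      Pn 𝒜 ℬ 𝒳 𝒩 n (sι 𝒜 ℬ 𝒯 ψ hT 𝒳 𝒩 v) := by
  classical
  induction v using DirectSum.Decomposition.inductionOn (SG).gr with
  | zero =>
    rw [decompose_zero, DirectSum.zero_apply, ZeroMemClass.coe_zero, map_zero, map_zero]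
  | @homogeneous i v =>
    have hv : sι 𝒜 ℬ 𝒯 ψ hT 𝒳 𝒩 (v : (SG).carrier) ∈ pc k 𝒳 𝒩 i := v.2
    by_cases h : i = n
    · subst h
      rw [decompose_of_mem_same (SG).gr v.2, Pn_of_mem 𝒜 ℬ 𝒳 𝒩 hv]
    · rw [decompose_of_mem_ne (SG).gr v.2 h, Pn_of_mem_ne 𝒜 ℬ 𝒳 𝒩 hv h, map_zero]
  | add v w hv hw =>
    rw [decompose_add, DirectSum.add_apply, AddMemClass.coe_add, map_add, map_add, map_add, hv, hw]

end SegG

section Maps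

variable {k : Type u} [Field k]
  {R : Type u} [CommRing R] [Algebra k R] (𝒜 : ℤ → Submodule k R) [GradedAlgebra 𝒜]
  {S : Type u} [CommRing S] [Algebra k S] (ℬ : ℤ → Submodule k S) [GradedAlgebra ℬ]
  {T : Type u} [CommRing T] [Algebra k T] (𝒯 : ℤ → Submodule k T) [GradedAlgebra 𝒯]
  (ψ : T →ₐ[k] R ⊗[k] S) (hT : GrSeg.IsSegreRing 𝒜 ℬ 𝒯 ψ)
  {X : Type u} [AddCommGroup X] [Module R X] [Module k X] [IsScalarTower k R X]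
  (𝒳 : ℤ → AddSubgroup X) [Decomposition 𝒳] [SetLike.GradedSMul 𝒜 𝒳]
  {Y : Type u} [AddCommGroup Y] [Module R Y] [Module k Y] [IsScalarTower k R Y]
  (𝒴 : ℤ → AddSubgroup Y) [Decomposition 𝒴] [SetLike.GradedSMul 𝒜 𝒴]
  {N : Type u} [AddCommGroup N] [Module S N] [Module k N] [IsScalarTower k S N]
  (𝒩 : ℤ → AddSubgroup N) [Decomposition 𝒩] [SetLike.GradedSMul ℬ 𝒩]

variable (k N) in
/-- `f ⊗ id` -/
noncomputable def fT (f : X →ₗ[R] Y) : X ⊗[k] N →ₗ[k] Y ⊗[k] N :=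
  TensorProduct.map (f.restrictScalars k) LinearMap.id

theorem fT_tmul (f : X →ₗ[R] Y) (x : X) (y : N) : fT k N f (x ⊗ₜ[k] y) = f x ⊗ₜ[k] y := rfl

theorem fT_mem_pc (f : X →ₗ[R] Y) (hf : GrLC.IsGrHom 𝒳 𝒴 f) {n : ℤ} {z : X ⊗[k] N}
    (hz : z ∈ pc k 𝒳 𝒩 n) : fT k N f z ∈ pc k 𝒴 𝒩 n := by
  refine segrePiece_induction (motive := fun z => fT k N f z ∈ pc k 𝒴 𝒩 n) ?_ ?_ ?_ ?_ hz
  · intro x hx y hy
    rw [fT_tmul]
    exact tmul_mem_segrePiece (hf n x hx) hy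
  · rw [map_zero]; exact zero_mem _
  · intro v w hv hw; rw [map_add]; exact add_mem hv hw
  · intro c v hv; rw [map_smul]; exact Submodule.smul_mem _ c hv

theorem fT_mem_segSub (f : X →ₗ[R] Y) (hf : GrLC.IsGrHom 𝒳 𝒴 f) {z : X ⊗[k] N}
    (hz : z ∈ segSub k 𝒳 𝒩) : fT k N f z ∈ segSub k 𝒴 𝒩 := by
  unfold segSub at hz
  induction hz using Submodule.iSup_induction' with
  | mem j z hz => exact pc_le_segSub 𝒴 𝒩 _ (fT_mem_pc 𝒳 𝒴 𝒩 f hf hz)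
  | zero => rw [map_zero]; exact zero_mem _
  | add z z' _ _ h h' => rw [map_add]; exact add_mem h h'

theorem fT_act (f : X →ₗ[R] Y) (u : R ⊗[k] S) (z : X ⊗[k] N) :
    fT k N f (GrSeg.act k R S X N u z) = GrSeg.act k R S Y N u (fT k N f z) := by
  induction z using TensorProduct.induction_on with
  | zero => simp
  | add z z' h h' => simp only [map_add, h, h']
  | tmul x y =>
    induction u using TensorProduct.induction_on with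
    | zero => simp
    | add u u' h h' => simp only [map_add, LinearMap.add_apply, h, h']
    | tmul a b => rw [GrSeg.act_tmul, fT_tmul, fT_tmul, GrSeg.act_tmul, map_smul]

theorem Pn_fT (f : X →ₗ[R] Y) (hf : GrLC.IsGrHom 𝒳 𝒴 f) (n : ℤ) (z : X ⊗[k] N) :
    Pn 𝒜 ℬ 𝒴 𝒩 n (fT k N f z) = fT k N f (Pn 𝒜 ℬ 𝒳 𝒩 n z) := by
  induction z using TensorProduct.induction_on with
  | zero => simp
  | add z z' h h' => simp only [map_add, h, h']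
  | tmul x y =>
    rw [fT_tmul, Pn_tmul, Pn_tmul, fT_tmul, pr_apply, pr_apply, pr_apply, grHom_comp 𝒳 𝒴 hf]

local notation "SGX" => segG 𝒜 ℬ 𝒯 ψ hT 𝒳 𝒩
local notation "SGY" => segG 𝒜 ℬ 𝒯 ψ hT 𝒴 𝒩

/-- the map induced on Segre products -/
noncomputable def segMap (f : X →ₗ[R] Y) (hf : GrLC.IsGrHom 𝒳 𝒴 f) :
    (SGX).carrier →ₗ[T] (SGY).carrier where
  toFun v := sMk 𝒜 ℬ 𝒯 ψ hT 𝒴 𝒩 (fT k N f (sι 𝒜 ℬ 𝒯 ψ hT 𝒳 𝒩 v))
    (fT_mem_segSub 𝒳 𝒴 𝒩 f hf (sι_mem 𝒜 ℬ 𝒯 ψ hT 𝒳 𝒩 v))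
  map_add' v w := Subtype.ext (by
    show fT k N f (sι 𝒜 ℬ 𝒯 ψ hT 𝒳 𝒩 (v + w)) = _
    rw [map_add, map_add]; rfl)
  map_smul' t v := Subtype.ext (by
    show fT k N f (sι 𝒜 ℬ 𝒯 ψ hT 𝒳 𝒩 (t • v)) = _
    rw [sι_smul, fT_act]; rfl)

theorem sι_segMap (f : X →ₗ[R] Y) (hf : GrLC.IsGrHom 𝒳 𝒴 f) (v : (SGX).carrier) :
    sι 𝒜 ℬ 𝒯 ψ hT 𝒴 𝒩 (segMap 𝒜 ℬ 𝒯 ψ hT 𝒳 𝒴 𝒩 f hf v) =
      fT k N f (sι 𝒜 ℬ 𝒯 ψ hT 𝒳 𝒩 v) := rfl

theorem segMap_isGrHom (f : X →ₗ[R] Y) (hf : GrLC.IsGrHom 𝒳 𝒴 f) :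
    GrLC.IsGrHom (SGX).gr (SGY).gr (segMap 𝒜 ℬ 𝒯 ψ hT 𝒳 𝒴 𝒩 f hf) := by
  intro n v hv
  exact fT_mem_pc 𝒳 𝒴 𝒩 f hf hv

end Maps

section Exact

variable {k : Type u} [Field k]
  {R : Type u} [CommRing R] [Algebra k R] (𝒜 : ℤ → Submodule k R) [GradedAlgebra 𝒜]
  {S : Type u} [CommRing S] [Algebra k S] (ℬ : ℤ → Submodule k S) [GradedAlgebra ℬ]
  {X : Type u} [AddCommGroup X] [Module R X] [Module k X] [IsScalarTower k R X]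
  (𝒳 : ℤ → AddSubgroup X) [Decomposition 𝒳] [SetLike.GradedSMul 𝒜 𝒳]
  {Y : Type u} [AddCommGroup Y] [Module R Y] [Module k Y] [IsScalarTower k R Y]
  (𝒴 : ℤ → AddSubgroup Y) [Decomposition 𝒴] [SetLike.GradedSMul 𝒜 𝒴]
  {Z : Type u} [AddCommGroup Z] [Module R Z] [Module k Z] [IsScalarTower k R Z]
  {N : Type u} [AddCommGroup N] [Module S N] [Module k N] [IsScalarTower k S N]
  (𝒩 : ℤ → AddSubgroup N) [Decomposition 𝒩] [SetLike.GradedSMul ℬ 𝒩]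

theorem fT_comp_eq_zero (f : X →ₗ[R] Y) (g : Y →ₗ[R] Z) (h : ∀ x, g (f x) = 0)
    (z : X ⊗[k] N) : fT k N g (fT k N f z) = 0 := by
  induction z using TensorProduct.induction_on with
  | zero => simp
  | add z z' h1 h2 => simp only [map_add, h1, h2, add_zero]
  | tmul x y => rw [fT_tmul, fT_tmul, h, TensorProduct.zero_tmul]

theorem fT_injective (f : X →ₗ[R] Y) (hf : Function.Injective f) :
    Function.Injective (fT k N f) :=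
  Module.Flat.rTensor_preserves_injective_linearMap (f.restrictScalars k) hf

include 𝒜 ℬ in
/-- exactness of the Segre product -/
theorem exists_of_exact (f : X →ₗ[R] Y) (hf : GrLC.IsGrHom 𝒳 𝒴 f) (g : Y →ₗ[R] Z)
    (hfg : Function.Exact f g) {z : Y ⊗[k] N} (hz : z ∈ segSub k 𝒴 𝒩)
    (hgz : fT k N g z = 0) : ∃ w ∈ segSub k 𝒳 𝒩, fT k N f w = z := by
  classical
  have hex : Function.Exact ((f.restrictScalars k).rTensor N) ((g.restrictScalars k).rTensor N) :=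
    Module.Flat.rTensor_exact N (f := f.restrictScalars k) (g := g.restrictScalars k) hfg
  obtain ⟨w₀, hw₀⟩ := (hex z).1 hgz
  have hw₀' : fT k N f w₀ = z := hw₀
  obtain ⟨s, hs, hsum⟩ := exists_support 𝒜 ℬ 𝒴 𝒩 hz
  refine ⟨∑ n ∈ s, Pn 𝒜 ℬ 𝒳 𝒩 n w₀, ?_, ?_⟩
  · exact Submodule.sum_mem _ (fun n _ => pc_le_segSub 𝒳 𝒩 n (Pn_mem 𝒜 ℬ 𝒳 𝒩 n w₀))
  · rw [map_sum, ← hsum]
    refine Finset.sum_congr rfl (fun n _ => ?_)
    rw [← Pn_fT 𝒜 ℬ 𝒳 𝒴 𝒩 f hf, hw₀']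

end Exact

end Groth.Agent.H98.Seg
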