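import Groth.Agent.H98.SegSwap
import Groth.Agent.H33.SegTors
import Groth.Agent.H98.GrReg
import Groth.Agent.H98.GrFree
import Groth.Agent.H98.GrCMv

/-!
# Helper library (helper98): the short exact sequence `0 → R # S → X # S → (X/R) # S → 0` of graded
modules over the Segre product, and the graded local cohomology of `R # S` when a homogeneous
element of positive degree acts bijectively on `X` and `X/R` is torsion.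
-/

set_option autoImplicit false
universe u
open scoped TensorProduct
open DirectSum

namespace Groth.Agent.H98.Seg

open Groth.Agent.H98.GrCat Groth.Agent.H98.GrConv Groth.Agent.H98.TensRange Groth.Agent.H98.GrHt

section Field0

variable {k : Type u} [Field k] {R : Type u} [CommRing R] [Algebra k R]

theorem isField_deg0_toAS [Nontrivial R] (𝒜 : ℤ → Submodule k R) [GradedAlgebra 𝒜]
    (h0 : 𝒜 0 = Submodule.span k {(1 : R)}) : IsField (GrLC.deg0 (toAS 𝒜)) := by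
  refine ⟨⟨0, 1, zero_ne_one⟩, fun a b => mul_comm a b, ?_⟩
  rintro ⟨a, ha⟩ hane
  have ha' : a ∈ 𝒜 0 := ha
  rw [h0, Submodule.mem_span_singleton] at ha'
  obtain ⟨c, rfl⟩ := ha'
  have hc : c ≠ 0 := by
    rintro rfl
    apply hane
    apply Subtype.ext
    show (0 : k) • (1 : R) = 0
    rw [zero_smul]
  refine ⟨⟨c⁻¹ • (1 : R), ?_⟩, ?_⟩
  · show c⁻¹ • (1 : R) ∈ 𝒜 0
    rw [h0]
    exact Submodule.smul_mem _ _ (Submodule.subset_span rfl)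
  · apply Subtype.ext
    show (c • (1 : R)) * (c⁻¹ • (1 : R)) = 1
    rw [smul_mul_smul_comm, mul_one, mul_inv_cancel₀ hc, one_smul]

end Field0

section Act

variable {k : Type u} [Field k]
  {R : Type u} [CommRing R] [Algebra k R] {S : Type u} [CommRing S] [Algebra k S]

theorem act_self (u v : R ⊗[k] S) : GrSeg.act k R S R S u v = u * v := by
  induction u using TensorProduct.induction_on with
  | zero => rw [map_zero, LinearMap.zero_apply, zero_mul]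
  | add u u' h h' => rw [map_add, LinearMap.add_apply, h, h', add_mul]
  | tmul r y =>
    induction v using TensorProduct.induction_on with
    | zero => rw [map_zero, mul_zero]
    | add v v' h h' => rw [map_add, h, h', mul_add]
    | tmul r' y' =>
      rw [GrSeg.act_tmul, Algebra.TensorProduct.tmul_mul_tmul, smul_eq_mul, smul_eq_mul]

end Act

section SES

variable {k : Type u} [Field k]
  {R : Type u} [CommRing R] [Algebra k R] (𝒜 : ℤ → Submodule k R) [GradedAlgebra 𝒜]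
  {S : Type u} [CommRing S] [Algebra k S] (ℬ : ℤ → Submodule k S) [GradedAlgebra ℬ]
  {T : Type u} [CommRing T] [Algebra k T] (𝒯 : ℤ → Submodule k T) [GradedAlgebra 𝒯]
  (ψ : T →ₐ[k] R ⊗[k] S) (hT : GrSeg.IsSegreRing 𝒜 ℬ 𝒯 ψ)

/-- the ring as a graded module over itself -/
noncomputable def selfG : GrLC.GMod.{u} (toAS 𝒯) := { carrier := T, gr := toAS 𝒯 }

omit [GradedAlgebra 𝒜] [GradedAlgebra ℬ] in
theorem segrePiece_toAS (n : ℤ) :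
    GrSeg.segrePiece k (toAS 𝒜) (toAS ℬ) n = GrSeg.segrePiece k 𝒜 ℬ n := rfl

include hT in
theorem psi_mem_segSub (t : T) : ψ t ∈ segSub k (toAS 𝒜) (toAS ℬ) := by
  classical
  rw [← sum_support_decompose 𝒯 t, map_sum]
  refine Submodule.sum_mem _ (fun n _ => ?_)
  refine pc_le_segSub (toAS 𝒜) (toAS ℬ) n ?_
  show _ ∈ GrSeg.segrePiece k (toAS 𝒜) (toAS ℬ) n
  rw [segrePiece_toAS]
  exact psi_mem 𝒜 ℬ 𝒯 ψ hT (SetLike.coe_mem _)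

include hT in
theorem segSub_le_range {w : R ⊗[k] S} (hw : w ∈ segSub k (toAS 𝒜) (toAS ℬ)) :
    ∃ t : T, ψ t = w := by
  unfold segSub at hw
  induction hw using Submodule.iSup_induction' with
  | mem n x hx =>
    have hx' : x ∈ GrSeg.segrePiece k 𝒜 ℬ n := hx
    rw [← hT.2 n] at hx'
    obtain ⟨t, -, rfl⟩ := hx'
    exact ⟨t, rfl⟩
  | zero => exact ⟨0, map_zero _⟩
  | add x y _ _ hx hy =>
    obtain ⟨t, rfl⟩ := hx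
    obtain ⟨t', rfl⟩ := hy
    exact ⟨t + t', map_add _ _ _⟩

attribute [local instance] kModG kTowerG

variable (Xg : GrLC.GMod.{u} 𝒜) (ι : R →ₗ[R] Xg.carrier)
  (hι : GrLC.IsGrHom (toAS 𝒜) Xg.gr ι)

/-- the map `R # S → X # S` -/
noncomputable def jT : T →ₗ[T] (segG 𝒜 ℬ 𝒯 ψ hT Xg.gr (toAS ℬ)).carrier where
  toFun t := sMk 𝒜 ℬ 𝒯 ψ hT Xg.gr (toAS ℬ) (fT k S ι (ψ t))
    (fT_mem_segSub (toAS 𝒜) Xg.gr (toAS ℬ) ι hι (psi_mem_segSub 𝒜 ℬ 𝒯 ψ hT t))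
  map_add' t t' := Subtype.ext (by
    show fT k S ι (ψ (t + t')) = fT k S ι (ψ t) + fT k S ι (ψ t')
    rw [map_add, map_add])
  map_smul' t t' := Subtype.ext (by
    show fT k S ι (ψ (t * t')) = GrSeg.act k R S Xg.carrier S (ψ t) (fT k S ι (ψ t'))
    rw [map_mul, ← act_self, fT_act])

theorem sι_jT (t : T) :
    sι 𝒜 ℬ 𝒯 ψ hT Xg.gr (toAS ℬ) (jT 𝒜 ℬ 𝒯 ψ hT Xg ι hι t) = fT k S ι (ψ t) := rfl

theorem jT_isGrHom :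
    GrLC.IsGrHom (toAS 𝒯) (segG 𝒜 ℬ 𝒯 ψ hT Xg.gr (toAS ℬ)).gr (jT 𝒜 ℬ 𝒯 ψ hT Xg ι hι) := by
  intro n t ht
  have h1 : ψ t ∈ GrSeg.segrePiece k (toAS 𝒜) (toAS ℬ) n := by
    rw [segrePiece_toAS]
    exact psi_mem 𝒜 ℬ 𝒯 ψ hT ht
  exact fT_mem_pc (toAS 𝒜) Xg.gr (toAS ℬ) ι hι h1

theorem jT_injective (hιinj : Function.Injective ι) :
    Function.Injective (jT 𝒜 ℬ 𝒯 ψ hT Xg ι hι) := by
  intro t t' h
  have h1 : fT k S ι (ψ t) = fT k S ι (ψ t') :=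
    congrArg (sι 𝒜 ℬ 𝒯 ψ hT Xg.gr (toAS ℬ)) h
  exact hT.1 (fT_injective ι hιinj h1)


variable (Qg : GrLC.GMod.{u} 𝒜) (π : Xg.carrier →ₗ[R] Qg.carrier)
  (hπ : GrLC.IsGrHom Xg.gr Qg.gr π)
  (hπs : ∀ n, ∀ q ∈ Qg.gr n, ∃ x ∈ Xg.gr n, π x = q)

include hπs in
theorem fT_surj_pc {n : ℤ} {z : Qg.carrier ⊗[k] S}
    (hz : z ∈ GrSeg.segrePiece k Qg.gr (toAS ℬ) n) :
    ∃ w ∈ GrSeg.segrePiece k Xg.gr (toAS ℬ) n, fT k S π w = z := by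
  unfold GrSeg.segrePiece at hz
  induction hz using Submodule.span_induction with
  | mem y hy =>
    obtain ⟨q, hq, b, hb, rfl⟩ := hy
    obtain ⟨x', hx', rfl⟩ := hπs n q hq
    exact ⟨x' ⊗ₜ[k] b, Submodule.subset_span ⟨x', hx', b, hb, rfl⟩, rfl⟩
  | zero => exact ⟨0, zero_mem _, map_zero _⟩
  | add y y' _ _ h h' =>
    obtain ⟨w, hw, rfl⟩ := h
    obtain ⟨w', hw', rfl⟩ := h'
    exact ⟨w + w', add_mem hw hw', map_add _ _ _⟩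
  | smul c y _ h =>
    obtain ⟨w, hw, rfl⟩ := h
    exact ⟨c • w, Submodule.smul_mem _ c hw, map_smul _ _ _⟩

include hπs in
theorem fT_surj_segSub {z : Qg.carrier ⊗[k] S} (hz : z ∈ segSub k Qg.gr (toAS ℬ)) :
    ∃ w ∈ segSub k Xg.gr (toAS ℬ), fT k S π w = z := by
  unfold segSub at hz
  induction hz using Submodule.iSup_induction' with
  | mem n x hx =>
    obtain ⟨w, hw, rfl⟩ := fT_surj_pc 𝒜 ℬ Xg Qg π hπs hx
    exact ⟨w, pc_le_segSub Xg.gr (toAS ℬ) n hw, rfl⟩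
  | zero => exact ⟨0, zero_mem _, map_zero _⟩
  | add x y _ _ hx hy =>
    obtain ⟨w, hw, rfl⟩ := hx
    obtain ⟨w', hw', rfl⟩ := hy
    exact ⟨w + w', add_mem hw hw', map_add _ _ _⟩

omit [GradedAlgebra 𝒯] in
theorem segG_gr_eq_bot_iff
    {X : Type u} [AddCommGroup X] [Module R X] [Module k X] [IsScalarTower k R X]
    (𝒳 : ℤ → AddSubgroup X) [Decomposition 𝒳] [SetLike.GradedSMul 𝒜 𝒳]
    {N : Type u} [AddCommGroup N] [Module S N] [Module k N] [IsScalarTower k S N]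
    (𝒩 : ℤ → AddSubgroup N) [Decomposition 𝒩] [SetLike.GradedSMul ℬ 𝒩] [GradedAlgebra 𝒯]
    (hT : GrSeg.IsSegreRing 𝒜 ℬ 𝒯 ψ) (n : ℤ) :
    (segG 𝒜 ℬ 𝒯 ψ hT 𝒳 𝒩).gr n = ⊥ ↔ GrSeg.segrePiece k 𝒳 𝒩 n = ⊥ := by
  constructor
  · intro h
    rw [eq_bot_iff]
    intro z hz
    have h1 : sMk 𝒜 ℬ 𝒯 ψ hT 𝒳 𝒩 z (pc_le_segSub 𝒳 𝒩 n hz) ∈ (segG 𝒜 ℬ 𝒯 ψ hT 𝒳 𝒩).gr n := hz
    rw [h, AddSubgroup.mem_bot] at h1
    have h2 := congrArg (sι 𝒜 ℬ 𝒯 ψ hT 𝒳 𝒩) h1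
    rw [sι_sMk, map_zero] at h2
    rw [h2]
    exact zero_mem _
  · intro h
    rw [eq_bot_iff]
    intro v hv
    have hv' : sι 𝒜 ℬ 𝒯 ψ hT 𝒳 𝒩 v ∈ GrSeg.segrePiece k 𝒳 𝒩 n := hv
    rw [h, Submodule.mem_bot] at hv'
    rw [AddSubgroup.mem_bot]
    exact sι_injective 𝒜 ℬ 𝒯 ψ hT 𝒳 𝒩 (hv'.trans (map_zero _).symm)

include hT hι hπ hπs in
/-- the graded local cohomology of `R # S` below the depth of `S`, when `X = R_f`, `Q = X/R` -/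
theorem segre_hv [IsNoetherianRing S] [IsNoetherianRing T]
    (hιinj : Function.Injective ι) (hex : Function.Exact ι π)
    (mR : HomogeneousIdeal 𝒜)
    (hmR : mR.toIdeal = Ideal.span (⋃ n ∈ Set.Ioi (0 : ℤ), (𝒜 n : Set R)))
    (hQ : GrLC.gam mR.toIdeal Qg.carrier = ⊤)
    (nS : HomogeneousIdeal ℬ)
    (hnS : nS.toIdeal = Ideal.span (⋃ n ∈ Set.Ioi (0 : ℤ), (ℬ n : Set S)))
    (mT : HomogeneousIdeal 𝒯)
    (hmT : mT.toIdeal = Ideal.span (⋃ n ∈ Set.Ioi (0 : ℤ), (𝒯 n : Set T)))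
    (e : ℕ) (he : 0 < e) (f : R) (hf : f ∈ 𝒜 (e : ℤ))
    (hfX : Function.Bijective (fun x : Xg.carrier => f • x))
    (ES : GrLC.StarInjRes ℬ (toAS ℬ)) (s : ℕ) (hES : ∀ q, q < s → Subsingleton (ES.H nS q)) :
    (1 ≤ s → ∀ n, HV (convI mT) (selfG 𝒯) 0 n) ∧
    (∀ i, 2 ≤ i → i < s → ∀ n, HV (convI mT) (selfG 𝒯) i n) ∧
    (2 ≤ s → ∀ n, (HV (convI mT) (selfG 𝒯) 1 n ↔
      GrSeg.segrePiece k Qg.gr (toAS ℬ) n = ⊥)) := by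
  classical
  have hP₁ : ∀ q, q < s → ∀ n, HV (convI mT) (segG 𝒜 ℬ 𝒯 ψ hT Xg.gr (toAS ℬ)) q n := by
    intro q hq n F
    exact vn_of_subsingleton F _ q (H_subsingleton_segG_of_bijective 𝒜 ℬ 𝒯 ψ hT Xg.gr nS hnS mT hmT
      e he f hf hfX ES q (hES q hq) F) n
  have hP₂tor : GrLC.gam (convI mT).toIdeal (segG 𝒜 ℬ 𝒯 ψ hT Qg.gr (toAS ℬ)).carrier = ⊤ := by
    rw [eq_top_iff]
    intro v _
    refine Groth.Agent.H33.SegTors.mem_gam_of_sι_mem_tR 𝒜 ℬ 𝒯 ψ hT Qg.gr (toAS ℬ) mR.toIdeal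
      mT.toIdeal (psi_mem_map_irrelevant 𝒜 ℬ 𝒯 ψ hT mR mT hmR hmT) v ?_
    rw [hQ, Submodule.restrictScalars_top, tR_top]
    exact Submodule.mem_top
  have hP₂ : ∀ i, 1 ≤ i → ∀ n, HV (convI mT) (segG 𝒜 ℬ 𝒯 ψ hT Qg.gr (toAS ℬ)) i n :=
    fun i hi n => hv_torsion (convI mT) _ hP₂tor i hi n
  obtain ⟨j, hj⟩ : ∃ j : (selfG 𝒯).carrier →ₗ[T] (segG 𝒜 ℬ 𝒯 ψ hT Xg.gr (toAS ℬ)).carrier,
      ∀ t, j t = jT 𝒜 ℬ 𝒯 ψ hT Xg ι hι t := ⟨jT 𝒜 ℬ 𝒯 ψ hT Xg ι hι, fun _ => rfl⟩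
  have hjgr : GrLC.IsGrHom (selfG 𝒯).gr (segG 𝒜 ℬ 𝒯 ψ hT Xg.gr (toAS ℬ)).gr j := by
    intro n t ht
    rw [hj]
    exact jT_isGrHom 𝒜 ℬ 𝒯 ψ hT Xg ι hι n t ht
  have hjinj : Function.Injective j := by
    intro t t' h
    rw [hj, hj] at h
    exact jT_injective 𝒜 ℬ 𝒯 ψ hT Xg ι hι hιinj h
  obtain ⟨g, hg⟩ : ∃ g : (segG 𝒜 ℬ 𝒯 ψ hT Xg.gr (toAS ℬ)).carrier →ₗ[T]
      (segG 𝒜 ℬ 𝒯 ψ hT Qg.gr (toAS ℬ)).carrier,
      g = segMap 𝒜 ℬ 𝒯 ψ hT Xg.gr Qg.gr (toAS ℬ) π hπ := ⟨_, rfl⟩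
  have hggr : GrLC.IsGrHom (segG 𝒜 ℬ 𝒯 ψ hT Xg.gr (toAS ℬ)).gr
      (segG 𝒜 ℬ 𝒯 ψ hT Qg.gr (toAS ℬ)).gr g := by
    rw [hg]
    exact segMap_isGrHom 𝒜 ℬ 𝒯 ψ hT Xg.gr Qg.gr (toAS ℬ) π hπ
  have hgsurj : Function.Surjective g := by
    intro v
    obtain ⟨w, hw, hwv⟩ := fT_surj_segSub 𝒜 ℬ Xg Qg π hπs (sι_mem 𝒜 ℬ 𝒯 ψ hT Qg.gr (toAS ℬ) v)
    refine ⟨sMk 𝒜 ℬ 𝒯 ψ hT Xg.gr (toAS ℬ) w hw, ?_⟩
    apply sι_injective 𝒜 ℬ 𝒯 ψ hT Qg.gr (toAS ℬ)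
    rw [hg, sι_segMap, sι_sMk, hwv]
  have hexact : ∀ b, g b = 0 → ∃ a', j a' = b := by
    intro b hb
    have h1 : fT k S π (sι 𝒜 ℬ 𝒯 ψ hT Xg.gr (toAS ℬ) b) = 0 := by
      rw [← sι_segMap 𝒜 ℬ 𝒯 ψ hT Xg.gr Qg.gr (toAS ℬ) π hπ, ← hg, hb, map_zero]
    obtain ⟨w, hw, hwb⟩ := exists_of_exact 𝒜 ℬ (toAS 𝒜) Xg.gr (toAS ℬ) ι hι π hex
      (sι_mem 𝒜 ℬ 𝒯 ψ hT Xg.gr (toAS ℬ) b) h1
    obtain ⟨t, rfl⟩ := segSub_le_range 𝒜 ℬ 𝒯 ψ hT hw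
    refine ⟨t, ?_⟩
    apply sι_injective 𝒜 ℬ 𝒯 ψ hT Xg.gr (toAS ℬ)
    rw [hj, sι_jT, hwb]
  have hgj : ∀ a', g (j a') = 0 := by
    intro t
    apply sι_injective 𝒜 ℬ 𝒯 ψ hT Qg.gr (toAS ℬ)
    rw [hg, sι_segMap, hj, sι_jT, map_zero]
    exact fT_comp_eq_zero ι π (fun x => (hex (ι x)).2 ⟨x, rfl⟩) (ψ t)
  refine ⟨fun hs n => ?_, fun i hi his n => ?_, fun hs n => ⟨fun h => ?_, fun h => ?_⟩⟩
  · exact hv_zero_of_injective j hjgr hjinj (convI mT) n (hP₁ 0 (by omega) n)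
  · obtain ⟨i', rfl⟩ : ∃ i', i = i' + 1 := ⟨i - 1, by omega⟩
    exact hv_left j g hjgr hggr hjinj hgsurj hexact hgj (convI mT) i' n (hP₂ i' (by omega) n)
      (hP₁ (i' + 1) his n)
  · have h1 : HV (convI mT) (segG 𝒜 ℬ 𝒯 ψ hT Qg.gr (toAS ℬ)) 0 n :=
      hv_right j g hjgr hggr hjinj hgsurj hexact hgj (convI mT) 0 n (hP₁ 0 (by omega) n) h
    have h2 := piece_eq_bot_of_vn_zero (starInjRes (toAS 𝒯) _) (convI mT) n hP₂tor (h1 _)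
    exact (segG_gr_eq_bot_iff 𝒜 ℬ 𝒯 ψ Qg.gr (toAS ℬ) hT n).1 h2
  · have h2 := (segG_gr_eq_bot_iff 𝒜 ℬ 𝒯 ψ Qg.gr (toAS ℬ) hT n).2 h
    have h1 : HV (convI mT) (segG 𝒜 ℬ 𝒯 ψ hT Qg.gr (toAS ℬ)) 0 n :=
      hv_of_vn (starInjRes (toAS 𝒯) _) (vn_zero_of_piece_eq_bot _ (convI mT) n h2)
    exact hv_left j g hjgr hggr hjinj hgsurj hexact hgj (convI mT) 0 n h1 (hP₁ 1 (by omega) n)

end SES

end Groth.Agent.H98.Seg
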