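import Groth.Agent.H98.SegSwap
import Groth.Agent.H98.SegSES

/-!
# Helper library (helper98): module versions of the Segre vanishing and of the short exact sequence
`0 → M # N → X # N → (X/M) # N → 0`.
-/

set_option autoImplicit false
universe u
open scoped TensorProduct
open DirectSum

namespace Groth.Agent.H98.Seg

open Groth.Agent.H98.GrCat Groth.Agent.H98.GrConv Groth.Agent.H98.TensRange Groth.Agent.H98.GrHt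

section VanishMod

variable {k : Type u} [Field k]
  {R : Type u} [CommRing R] [Algebra k R] (𝒜 : ℤ → Submodule k R) [GradedAlgebra 𝒜]
  {S : Type u} [CommRing S] [Algebra k S] (ℬ : ℤ → Submodule k S) [GradedAlgebra ℬ]
  {T : Type u} [CommRing T] [Algebra k T] (𝒯 : ℤ → Submodule k T) [GradedAlgebra 𝒯]
  (ψ : T →ₐ[k] R ⊗[k] S) (hT : GrSeg.IsSegreRing 𝒜 ℬ 𝒯 ψ)

attribute [local instance] kModG kTowerG

include hT in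
/-- if a homogeneous element of positive degree of `R` acts bijectively on `X`, the graded local
cohomology of `X # S` vanishes wherever that of `S` does -/
theorem H_subsingleton_segG_of_bijective_mod [IsNoetherianRing S] [IsNoetherianRing T]
    {X : Type u} [AddCommGroup X] [Module R X] [Module k X] [IsScalarTower k R X]
    (𝒳 : ℤ → AddSubgroup X) [Decomposition 𝒳] [SetLike.GradedSMul 𝒜 𝒳]
    {N : Type u} [AddCommGroup N] [Module S N] [Module k N] [IsScalarTower k S N]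
    (𝒩 : ℤ → AddSubgroup N) [Decomposition 𝒩] [SetLike.GradedSMul ℬ 𝒩]
    (nS : HomogeneousIdeal ℬ)
    (hnS : nS.toIdeal = Ideal.span (⋃ n ∈ Set.Ioi (0 : ℤ), (ℬ n : Set S)))
    (mT : HomogeneousIdeal 𝒯)
    (hmT : mT.toIdeal = Ideal.span (⋃ n ∈ Set.Ioi (0 : ℤ), (𝒯 n : Set T)))
    (e : ℕ) (he : 0 < e) (f : R) (hf : f ∈ 𝒜 (e : ℤ))
    (hfX : Function.Bijective (fun x : X => f • x))
    (ES : GrLC.StarInjRes ℬ 𝒩) (q : ℕ) (hq : Subsingleton (ES.H nS q))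
    (F : GrLC.StarInjRes (toAS 𝒯) (segG 𝒜 ℬ 𝒯 ψ hT 𝒳 𝒩).gr) :
    Subsingleton (F.H (convI mT) q) := by
  classical
  have hT' := isSegreRing_swap 𝒜 ℬ 𝒯 ψ hT
  letI instPk : Module k (segG 𝒜 ℬ 𝒯 ψ hT 𝒳 𝒩).carrier :=
    (inferInstance : Module k ↥(segSub k 𝒳 𝒩))
  haveI instPt : IsScalarTower k T (segG 𝒜 ℬ 𝒯 ψ hT 𝒳 𝒩).carrier :=
    ⟨fun c t v => Subtype.ext (by
      show GrSeg.act k R S X N (ψ (c • t)) v.1 = c • GrSeg.act k R S X N (ψ t) v.1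
      rw [map_smul, map_smul, LinearMap.smul_apply])⟩
  obtain ⟨φ', hφ'⟩ : ∃ φ' : (segG 𝒜 ℬ 𝒯 ψ hT 𝒳 𝒩).carrier →ₗ[k] N ⊗[k] X,
      ∀ v, φ' v = TensorProduct.comm k X N (sι 𝒜 ℬ 𝒯 ψ hT 𝒳 𝒩 v) :=
    ⟨(TensorProduct.comm k X N).toLinearMap ∘ₗ (segSub k 𝒳 𝒩).subtype, fun _ => rfl⟩
  have hP' : GrSeg.IsSegreMod (ψs ψ) 𝒩 𝒳 (segG 𝒜 ℬ 𝒯 ψ hT 𝒳 𝒩).gr φ' := by
    refine ⟨?_, ?_, ?_⟩
    · intro v w h
      rw [hφ', hφ'] at h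
      exact sι_injective 𝒜 ℬ 𝒯 ψ hT 𝒳 𝒩 ((TensorProduct.comm k X N).injective h)
    · intro n
      ext z
      constructor
      · rintro ⟨v, hv, rfl⟩
        rw [hφ']
        have h1 : TensorProduct.comm k X N (sι 𝒜 ℬ 𝒯 ψ hT 𝒳 𝒩 v) ∈
            (GrSeg.segrePiece k 𝒳 𝒩 n).map (TensorProduct.comm k X N).toLinearMap :=
          ⟨_, hv, rfl⟩
        rw [comm_segrePiece] at h1
        exact h1
      · intro hz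
        have hz' : z ∈ (GrSeg.segrePiece k 𝒳 𝒩 n).map
            (TensorProduct.comm k X N).toLinearMap := by
          rw [comm_segrePiece]
          exact hz
        obtain ⟨w, hw, rfl⟩ := hz'
        refine ⟨sMk 𝒜 ℬ 𝒯 ψ hT 𝒳 𝒩 w (pc_le_segSub 𝒳 𝒩 n hw), hw, ?_⟩
        rw [hφ']
        rfl
    · intro t v
      rw [hφ', hφ', sι_smul, comm_act]
      rfl
  letI instHk : Module k (ES.H nS q) := Module.compHom _ (algebraMap k S)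
  haveI instHt : IsScalarTower k S (ES.H nS q) := ⟨fun c r y => by
    show (c • r) • y = algebraMap k S c • (r • y)
    rw [Algebra.smul_def, mul_smul]⟩
  letI instFk : Module k (F.H (convI mT) q) := Module.compHom _ (algebraMap k T)
  haveI instFt : IsScalarTower k T (F.H (convI mT) q) := ⟨fun c r y => by
    show (c • r) • y = algebraMap k T c • (r • y)
    rw [Algebra.smul_def, mul_smul]⟩
  obtain ⟨φ'', hinj, -, -⟩ := exists_linearMap_segre_H (instHk := instHk) (instHt := instHt)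
    (instFk := instFk) (instFt := instFt) ℬ 𝒜 𝒯 (ψs ψ) hT' 𝒩 𝒳
    (segG 𝒜 ℬ 𝒯 ψ hT 𝒳 𝒩).gr φ' hP' ES F nS (convI mT) q
    (fun i p => seg_acyclic ℬ 𝒜 𝒯 (ψs ψ) hT' (ES.X i).gr 𝒳 nS mT (ES.starInj i) hnS hmT
      e he f hf hfX p)
    (fun i v => mem_gam_iff ℬ 𝒜 𝒯 (ψs ψ) hT' (ES.X i).gr 𝒳 nS mT hnS hmT e he f hf hfX v)
  have hz : ∀ z : (ES.H nS q) ⊗[k] X, z = 0 := by
    intro z
    induction z using TensorProduct.induction_on with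
    | zero => rfl
    | tmul h x => rw [Subsingleton.elim h 0, TensorProduct.zero_tmul]
    | add a b ha hb => rw [ha, hb, add_zero]
  exact ⟨fun a b => hinj (by rw [hz (φ'' a), hz (φ'' b)])⟩

end VanishMod

section SESMod

variable {k : Type u} [Field k]
  {R : Type u} [CommRing R] [Algebra k R] (𝒜 : ℤ → Submodule k R) [GradedAlgebra 𝒜]
  {S : Type u} [CommRing S] [Algebra k S] (ℬ : ℤ → Submodule k S) [GradedAlgebra ℬ]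
  {T : Type u} [CommRing T] [Algebra k T] (𝒯 : ℤ → Submodule k T) [GradedAlgebra 𝒯]
  (ψ : T →ₐ[k] R ⊗[k] S) (hT : GrSeg.IsSegreRing 𝒜 ℬ 𝒯 ψ)
  {M : Type u} [AddCommGroup M] [Module R M] [Module k M] [IsScalarTower k R M]
  (ℳ : ℤ → AddSubgroup M) [Decomposition ℳ] [SetLike.GradedSMul 𝒜 ℳ]
  {N : Type u} [AddCommGroup N] [Module S N] [Module k N] [IsScalarTower k S N]
  (𝒩 : ℤ → AddSubgroup N) [Decomposition 𝒩] [SetLike.GradedSMul ℬ 𝒩]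
  {P : Type u} [AddCommGroup P] [Module T P] [Module k P] [IsScalarTower k T P]
  (𝒬 : ℤ → AddSubgroup P) [Decomposition 𝒬]
  (φ : P →ₗ[k] M ⊗[k] N) (hP : GrSeg.IsSegreMod ψ ℳ 𝒩 𝒬 φ)

include hT hP in
/-- the grading of a Segre product module is compatible with that of the Segre ring -/
theorem gsmul_of_isSegreMod : SetLike.GradedSMul (toAS 𝒯) 𝒬 where
  smul_mem := by
    intro i j t p ht hp
    rw [vadd_eq_add]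
    have h1 : φ p ∈ GrSeg.segrePiece k ℳ 𝒩 j := by
      have h : φ p ∈ φ '' (𝒬 j : Set P) := ⟨p, hp, rfl⟩
      rw [hP.image_piece j] at h
      exact h
    have h2 : φ (t • p) ∈ (GrSeg.segrePiece k ℳ 𝒩 (i + j) : Set (M ⊗[k] N)) := by
      rw [hP.map_smul]
      exact act_mem_pc 𝒜 ℬ ℳ 𝒩 (psi_mem 𝒜 ℬ 𝒯 ψ hT ht) h1
    rw [← hP.image_piece (i + j)] at h2
    obtain ⟨p', hp', h⟩ := h2
    rw [← hP.injective h]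
    exact hp'

variable [SetLike.GradedSMul (toAS 𝒯) 𝒬]

/-- a graded module over the Segre ring, bundled -/
noncomputable def bundG : GrLC.GMod.{u} (toAS 𝒯) := { carrier := P, gr := 𝒬 }

attribute [local instance] kModG kTowerG

variable (Xg : GrLC.GMod.{u} 𝒜) (ι : M →ₗ[R] Xg.carrier) (hι : GrLC.IsGrHom ℳ Xg.gr ι)

/-- the map `M # N → X # N` -/
noncomputable def jP : P →ₗ[T] (segG 𝒜 ℬ 𝒯 ψ hT Xg.gr 𝒩).carrier where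
  toFun p := sMk 𝒜 ℬ 𝒯 ψ hT Xg.gr 𝒩 (fT k N ι (φ p))
    (fT_mem_segSub ℳ Xg.gr 𝒩 ι hι (phi_mem ψ ℳ 𝒩 𝒬 φ hP p))
  map_add' p p' := Subtype.ext (by
    show fT k N ι (φ (p + p')) = fT k N ι (φ p) + fT k N ι (φ p')
    rw [map_add, map_add])
  map_smul' t p := Subtype.ext (by
    show fT k N ι (φ (t • p)) = GrSeg.act k R S Xg.carrier N (ψ t) (fT k N ι (φ p))
    rw [hP.map_smul, fT_act])

theorem sι_jP (p : P) :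
    sι 𝒜 ℬ 𝒯 ψ hT Xg.gr 𝒩 (jP 𝒜 ℬ 𝒯 ψ hT ℳ 𝒩 𝒬 φ hP Xg ι hι p) = fT k N ι (φ p) := rfl

theorem jP_isGrHom :
    GrLC.IsGrHom 𝒬 (segG 𝒜 ℬ 𝒯 ψ hT Xg.gr 𝒩).gr (jP 𝒜 ℬ 𝒯 ψ hT ℳ 𝒩 𝒬 φ hP Xg ι hι) := by
  intro n p hp
  exact fT_mem_pc ℳ Xg.gr 𝒩 ι hι (phi_mem_pc ψ ℳ 𝒩 𝒬 φ hP hp)

theorem jP_injective (hιinj : Function.Injective ι) :
    Function.Injective (jP 𝒜 ℬ 𝒯 ψ hT ℳ 𝒩 𝒬 φ hP Xg ι hι) := by
  intro p p' h
  have h1 : fT k N ι (φ p) = fT k N ι (φ p') :=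
    congrArg (sι 𝒜 ℬ 𝒯 ψ hT Xg.gr 𝒩) h
  exact hP.injective (fT_injective ι hιinj h1)

variable (Qg : GrLC.GMod.{u} 𝒜) (π : Xg.carrier →ₗ[R] Qg.carrier)
  (hπ : GrLC.IsGrHom Xg.gr Qg.gr π)
  (hπs : ∀ n, ∀ q ∈ Qg.gr n, ∃ x ∈ Xg.gr n, π x = q)

include hπs in
theorem fT_surj_pc_mod {n : ℤ} {z : Qg.carrier ⊗[k] N}
    (hz : z ∈ GrSeg.segrePiece k Qg.gr 𝒩 n) :
    ∃ w ∈ GrSeg.segrePiece k Xg.gr 𝒩 n, fT k N π w = z := by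
  unfold GrSeg.segrePiece at hz
  induction hz using Submodule.span_induction with
  | mem y hy =>
    obtain ⟨q, hq, b, hb, rfl⟩ := hy
    obtain ⟨x', hx', rfl⟩ := hπs n q hq
    exact ⟨x' ⊗ₜ[k] b, Submodule.subset_span ⟨x', hx', b, hb, rfl⟩, rfl⟩
  | zero => exact ⟨0, zero_mem _, map_zero _⟩
  | add y y' _ _ h h' =>
    obtain ⟨w, hw, rfl⟩ := h
    obtain ⟨w', hw', rfl⟩ := h'
    exact ⟨w + w', add_mem hw hw', map_add _ _ _⟩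
  | smul c y _ h =>
    obtain ⟨w, hw, rfl⟩ := h
    exact ⟨c • w, Submodule.smul_mem _ c hw, map_smul _ _ _⟩

include hπs in
theorem fT_surj_segSub_mod {z : Qg.carrier ⊗[k] N} (hz : z ∈ segSub k Qg.gr 𝒩) :
    ∃ w ∈ segSub k Xg.gr 𝒩, fT k N π w = z := by
  unfold segSub at hz
  induction hz using Submodule.iSup_induction' with
  | mem n x hx =>
    obtain ⟨w, hw, rfl⟩ := fT_surj_pc_mod 𝒜 𝒩 Xg Qg π hπs hx
    exact ⟨w, pc_le_segSub Xg.gr 𝒩 n hw, rfl⟩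
  | zero => exact ⟨0, zero_mem _, map_zero _⟩
  | add x y _ _ hx hy =>
    obtain ⟨w, hw, rfl⟩ := hx
    obtain ⟨w', hw', rfl⟩ := hy
    exact ⟨w + w', add_mem hw hw', map_add _ _ _⟩

include hT hP hι hπ hπs in
/-- the graded local cohomology of `M # N` below the depth of `N`, when `X = M_f`, `Q = X/M` -/
theorem segre_hv_mod [IsNoetherianRing S] [IsNoetherianRing T]
    (hιinj : Function.Injective ι) (hex : Function.Exact ι π)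
    (mR : HomogeneousIdeal 𝒜)
    (hmR : mR.toIdeal = Ideal.span (⋃ n ∈ Set.Ioi (0 : ℤ), (𝒜 n : Set R)))
    (hQ : GrLC.gam mR.toIdeal Qg.carrier = ⊤)
    (nS : HomogeneousIdeal ℬ)
    (hnS : nS.toIdeal = Ideal.span (⋃ n ∈ Set.Ioi (0 : ℤ), (ℬ n : Set S)))
    (mT : HomogeneousIdeal 𝒯)
    (hmT : mT.toIdeal = Ideal.span (⋃ n ∈ Set.Ioi (0 : ℤ), (𝒯 n : Set T)))
    (e : ℕ) (he : 0 < e) (f : R) (hf : f ∈ 𝒜 (e : ℤ))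
    (hfX : Function.Bijective (fun x : Xg.carrier => f • x))
    (ES : GrLC.StarInjRes ℬ 𝒩) (s : ℕ) (hES : ∀ q, q < s → Subsingleton (ES.H nS q)) :
    (1 ≤ s → ∀ n, HV (convI mT) (bundG 𝒯 𝒬) 0 n) ∧
    (∀ i, 2 ≤ i → i < s → ∀ n, HV (convI mT) (bundG 𝒯 𝒬) i n) ∧
    (2 ≤ s → ∀ n, (HV (convI mT) (bundG 𝒯 𝒬) 1 n ↔
      GrSeg.segrePiece k Qg.gr 𝒩 n = ⊥)) := by
  classical
  have hP₁ : ∀ q, q < s → ∀ n, HV (convI mT) (segG 𝒜 ℬ 𝒯 ψ hT Xg.gr 𝒩) q n := by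
    intro q hq n F
    exact vn_of_subsingleton F _ q (H_subsingleton_segG_of_bijective_mod 𝒜 ℬ 𝒯 ψ hT Xg.gr 𝒩 nS hnS
      mT hmT e he f hf hfX ES q (hES q hq) F) n
  have hP₂tor : GrLC.gam (convI mT).toIdeal (segG 𝒜 ℬ 𝒯 ψ hT Qg.gr 𝒩).carrier = ⊤ := by
    rw [eq_top_iff]
    intro v _
    refine Groth.Agent.H33.SegTors.mem_gam_of_sι_mem_tR 𝒜 ℬ 𝒯 ψ hT Qg.gr 𝒩 mR.toIdeal
      mT.toIdeal (psi_mem_map_irrelevant 𝒜 ℬ 𝒯 ψ hT mR mT hmR hmT) v ?_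
    rw [hQ, Submodule.restrictScalars_top, tR_top]
    exact Submodule.mem_top
  have hP₂ : ∀ i, 1 ≤ i → ∀ n, HV (convI mT) (segG 𝒜 ℬ 𝒯 ψ hT Qg.gr 𝒩) i n :=
    fun i hi n => hv_torsion (convI mT) _ hP₂tor i hi n
  obtain ⟨j, hj⟩ : ∃ j : (bundG 𝒯 𝒬).carrier →ₗ[T] (segG 𝒜 ℬ 𝒯 ψ hT Xg.gr 𝒩).carrier,
      ∀ t, j t = jP 𝒜 ℬ 𝒯 ψ hT ℳ 𝒩 𝒬 φ hP Xg ι hι t :=
    ⟨jP 𝒜 ℬ 𝒯 ψ hT ℳ 𝒩 𝒬 φ hP Xg ι hι, fun _ => rfl⟩
  have hjgr : GrLC.IsGrHom (bundG 𝒯 𝒬).gr (segG 𝒜 ℬ 𝒯 ψ hT Xg.gr 𝒩).gr j := by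
    intro n t ht
    rw [hj]
    exact jP_isGrHom 𝒜 ℬ 𝒯 ψ hT ℳ 𝒩 𝒬 φ hP Xg ι hι n t ht
  have hjinj : Function.Injective j := by
    intro t t' h
    rw [hj, hj] at h
    exact jP_injective 𝒜 ℬ 𝒯 ψ hT ℳ 𝒩 𝒬 φ hP Xg ι hι hιinj h
  obtain ⟨g, hg⟩ : ∃ g : (segG 𝒜 ℬ 𝒯 ψ hT Xg.gr 𝒩).carrier →ₗ[T]
      (segG 𝒜 ℬ 𝒯 ψ hT Qg.gr 𝒩).carrier,
      g = segMap 𝒜 ℬ 𝒯 ψ hT Xg.gr Qg.gr 𝒩 π hπ := ⟨_, rfl⟩
  have hggr : GrLC.IsGrHom (segG 𝒜 ℬ 𝒯 ψ hT Xg.gr 𝒩).gr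
      (segG 𝒜 ℬ 𝒯 ψ hT Qg.gr 𝒩).gr g := by
    rw [hg]
    exact segMap_isGrHom 𝒜 ℬ 𝒯 ψ hT Xg.gr Qg.gr 𝒩 π hπ
  have hgsurj : Function.Surjective g := by
    intro v
    obtain ⟨w, hw, hwv⟩ := fT_surj_segSub_mod 𝒜 𝒩 Xg Qg π hπs (sι_mem 𝒜 ℬ 𝒯 ψ hT Qg.gr 𝒩 v)
    refine ⟨sMk 𝒜 ℬ 𝒯 ψ hT Xg.gr 𝒩 w hw, ?_⟩
    apply sι_injective 𝒜 ℬ 𝒯 ψ hT Qg.gr 𝒩
    rw [hg, sι_segMap, sι_sMk, hwv]
  have hexact : ∀ b, g b = 0 → ∃ a', j a' = b := by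
    intro b hb
    have h1 : fT k N π (sι 𝒜 ℬ 𝒯 ψ hT Xg.gr 𝒩 b) = 0 := by
      rw [← sι_segMap 𝒜 ℬ 𝒯 ψ hT Xg.gr Qg.gr 𝒩 π hπ, ← hg, hb, map_zero]
    obtain ⟨w, hw, hwb⟩ := exists_of_exact 𝒜 ℬ ℳ Xg.gr 𝒩 ι hι π hex
      (sι_mem 𝒜 ℬ 𝒯 ψ hT Xg.gr 𝒩 b) h1
    obtain ⟨t, rfl⟩ := exists_phi_eq ψ ℳ 𝒩 𝒬 φ hP hw
    refine ⟨t, ?_⟩
    apply sι_injective 𝒜 ℬ 𝒯 ψ hT Xg.gr 𝒩
    rw [hj, sι_jP, hwb]
  have hgj : ∀ a', g (j a') = 0 := by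
    intro t
    apply sι_injective 𝒜 ℬ 𝒯 ψ hT Qg.gr 𝒩
    rw [hg, sι_segMap, hj, sι_jP, map_zero]
    exact fT_comp_eq_zero ι π (fun x => (hex (ι x)).2 ⟨x, rfl⟩) (φ t)
  refine ⟨fun hs n => ?_, fun i hi his n => ?_, fun hs n => ⟨fun h => ?_, fun h => ?_⟩⟩
  · exact hv_zero_of_injective j hjgr hjinj (convI mT) n (hP₁ 0 (by omega) n)
  · obtain ⟨i', rfl⟩ : ∃ i', i = i' + 1 := ⟨i - 1, by omega⟩
    exact hv_left j g hjgr hggr hjinj hgsurj hexact hgj (convI mT) i' n (hP₂ i' (by omega) n)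
      (hP₁ (i' + 1) his n)
  · have h1 : HV (convI mT) (segG 𝒜 ℬ 𝒯 ψ hT Qg.gr 𝒩) 0 n :=
      hv_right j g hjgr hggr hjinj hgsurj hexact hgj (convI mT) 0 n (hP₁ 0 (by omega) n) h
    have h2 := piece_eq_bot_of_vn_zero (starInjRes (toAS 𝒯) _) (convI mT) n hP₂tor (h1 _)
    exact (segG_gr_eq_bot_iff 𝒜 ℬ 𝒯 ψ Qg.gr 𝒩 hT n).1 h2
  · have h2 := (segG_gr_eq_bot_iff 𝒜 ℬ 𝒯 ψ Qg.gr 𝒩 hT n).2 h
    have h1 : HV (convI mT) (segG 𝒜 ℬ 𝒯 ψ hT Qg.gr 𝒩) 0 n :=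
      hv_of_vn (starInjRes (toAS 𝒯) _) (vn_zero_of_piece_eq_bot _ (convI mT) n h2)
    exact hv_left j g hjgr hggr hjinj hgsurj hexact hgj (convI mT) 0 n h1 (hP₁ 1 (by omega) n)

end SESMod

end Groth.Agent.H98.Seg
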