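import Groth.Agent.H98.GrCat
import Groth.Agent.H98.GrHt
import Groth.Prelude.Def_CAlg
import Groth.Prelude.Def_Wider
import Groth.Agent.H29.CodepthOpen
import Groth.Agent.S13232
import Groth.Agent.S13234

/-!
# Helper library (helper98): a finitely generated graded module over a Noetherian `ℤ`-graded *local
ring is Cohen–Macaulay (at every prime of its support) when its localization at the *maximal ideal
is (module version of `H84.SegCM_CM1.cmRing_of_cm_loc`).
-/

set_option autoImplicit false
universe u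

namespace Groth.Agent.H98.Seg

open Groth.Agent.H29.CM Groth.Agent.H29.GenDepth

theorem cm_arith {a b c : ℕ} {A B C D : WithBot ℕ∞} {bb cc : ℕ∞}
    (hA : A = ((a : ℕ∞) : WithBot ℕ∞)) (hb : bb = (b : ℕ∞)) (hc : cc = (c : ℕ∞))
    (h1 : A + ((cc : ℕ∞) : WithBot ℕ∞) ≤ D + ((bb : ℕ∞) : WithBot ℕ∞))
    (hD : D = ((cc : ℕ∞) : WithBot ℕ∞)) (h2 : ((bb : ℕ∞) : WithBot ℕ∞) ≤ A)
    (_hB : B = A) (_hC : C = D) : A = ((bb : ℕ∞) : WithBot ℕ∞) := by
  subst hA hb hc hD
  have h1' : a + c ≤ c + b := by exact_mod_cast h1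
  have h2' : b ≤ a := by exact_mod_cast h2
  have : a = b := by omega
  rw [this]

theorem cmModule_of_cm_loc {R : Type u} [CommRing R] [IsNoetherianRing R] (𝒜 : ℤ → AddSubgroup R)
    [GradedRing 𝒜] (m : HomogeneousIdeal 𝒜) (hm : GrLC.IsStarLocal 𝒜 m) [m.toIdeal.IsPrime]
    (X : Type u) [AddCommGroup X] [Module R X] (𝒳 : ℤ → AddSubgroup X) [DirectSum.Decomposition 𝒳]
    [SetLike.GradedSMul 𝒜 𝒳] [Module.Finite R X]
    (hA : LocCoh.IsCohenMacaulayModule (Localization.AtPrime m.toIdeal)
      (LocalizedModule m.toIdeal.primeCompl X)) :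
    ∀ (q : Ideal R) [q.IsPrime], Subsingleton (LocalizedModule q.primeCompl X) ∨
      LocCoh.IsCohenMacaulayModule (Localization.AtPrime q) (LocalizedModule q.primeCompl X) := by
  classical
  have hle_hom : ∀ (P : Ideal R), P.IsHomogeneous 𝒜 → P ≠ ⊤ → P ≤ m.toIdeal := by
    intro P hPh hPt
    have h1 : (⟨P, hPh⟩ : HomogeneousIdeal 𝒜) ≤ m := by
      apply Groth.Agent.H98.GrHt.le_of_isStarLocal 𝒜 m hm
      intro h
      apply hPt
      have h2 := congrArg HomogeneousIdeal.toIdeal h
      rwa [HomogeneousIdeal.toIdeal_top] at h2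
    exact h1
  haveI hmnt : Nontrivial (LocalizedModule m.toIdeal.primeCompl X) := nontrivial_of_isCM hA
  have hhom : ∀ (P : Ideal R) [P.IsPrime], P.IsHomogeneous 𝒜 →
      Nontrivial (LocalizedModule P.primeCompl X) →
      LocCoh.IsCohenMacaulayModule (Localization.AtPrime P) (LocalizedModule P.primeCompl X) := by
    intro P hP hPh hPnt
    have hPm := hle_hom P hPh hP.ne_top
    have hPs : (⟨P, hP⟩ : PrimeSpectrum R) ∈ Module.support R X := Module.mem_support_iff.2 hPnt
    have h1 := Groth.Agent.H29.CodepthOpen.codepth_generization X P m.toIdeal hPm hPs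
    have h2 := depth_le_supportDim (A := Localization.AtPrime P)
      (M := LocalizedModule P.primeCompl X)
    obtain ⟨a, ha⟩ := exists_nat_supportDim (A := Localization.AtPrime P)
      (M := LocalizedModule P.primeCompl X)
    obtain ⟨b, hb⟩ := exists_nat_depth (A := Localization.AtPrime P)
      (M := LocalizedModule P.primeCompl X)
    obtain ⟨c, hc⟩ := exists_nat_depth (A := Localization.AtPrime m.toIdeal)
      (M := LocalizedModule m.toIdeal.primeCompl X)
    rw [isCM_def] at hA ⊢
    exact cm_arith ha hb hc h1 hA h2 rfl rfl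
  intro q hq
  by_cases hqs : Subsingleton (LocalizedModule q.primeCompl X)
  · exact Or.inl hqs
  right
  rw [not_subsingleton_iff_nontrivial] at hqs
  by_cases hqh : q.IsHomogeneous 𝒜
  · exact hhom q hqh hqs
  · haveI hcore : (Ideal.homogeneousCore 𝒜 q).toIdeal.IsPrime := hq.homogeneousCore
    have hker : RingHom.ker (Ideal.Quotient.mk (Ideal.homogeneousCore 𝒜 q).toIdeal) ≤ q := by
      rw [Ideal.mk_ker]
      exact Ideal.toIdeal_homogeneousCore_le 𝒜 q
    have hPbar_prime :
        (q.map (Ideal.Quotient.mk (Ideal.homogeneousCore 𝒜 q).toIdeal)).IsPrime :=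
      Ideal.map_isPrime_of_surjective Ideal.Quotient.mk_surjective hker
    have hfin : (q.map (Ideal.Quotient.mk (Ideal.homogeneousCore 𝒜 q).toIdeal)).height ≠ ⊤ :=
      Ideal.height_ne_top hPbar_prime.ne_top
    obtain ⟨d, hd⟩ := ENat.ne_top_iff_exists.1 hfin
    have h1 := Groth.Agent.S13232.result R 𝒜 X 𝒳 q d hd.symm hqs
    have h2 := Groth.Agent.S13234.result R 𝒜 X 𝒳 q d hd.symm
    have hcnt : Nontrivial (LocalizedModule (Ideal.homogeneousCore 𝒜 q).toIdeal.primeCompl X) := by
      by_contra hn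
      rw [not_nontrivial_iff_subsingleton] at hn
      have h0 : Module.supportDim (Localization.AtPrime (Ideal.homogeneousCore 𝒜 q).toIdeal)
          (LocalizedModule (Ideal.homogeneousCore 𝒜 q).toIdeal.primeCompl X) = ⊥ :=
        Module.supportDim_eq_bot_of_subsingleton _ _
      rw [h0, WithBot.bot_add] at h1
      exact Module.supportDim_ne_bot_of_nontrivial _ _ h1
    have h3 := hhom _ (Ideal.homogeneousCore 𝒜 q).isHomogeneous hcnt
    rw [isCM_def] at h3 ⊢
    rw [h1, h2, h3]
    push_cast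
    rfl

end Groth.Agent.H98.Seg
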