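import Groth.Prelude.Def_CAlg
import Groth.Prelude.Def_Wider
import Groth.Agent.S0318
import Groth.Agent.S5152
import Groth.Agent.H29.CM
import Groth.Agent.H29.CM2
import Groth.Agent.H29.DepthFinite

/-!
# Helper library (helper98): a finite module whose local cohomology at a maximal ideal vanishes
below the dimension of its localization is Cohen–Macaulay there (module version of
`H58.SegCM_CM2.cmLocal_of_vanishing`).
-/

set_option autoImplicit false
universe u

namespace Groth.Agent.H98.Seg

theorem cmModule_of_vanishing {T : Type u} [CommRing T] [IsNoetherianRing T] (m : Ideal T)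
    [hm : m.IsMaximal] (X : Type u) [AddCommGroup X] [Module T X] [Module.Finite T X]
    (hIM : m • (⊤ : Submodule T X) ≠ ⊤) (d : ℕ)
    (hd : Module.supportDim (Localization.AtPrime m) (LocalizedModule m.primeCompl X) = d)
    (hvan : ∀ i, i < d → Subsingleton (LocCoh.H m i X)) :
    LocCoh.IsCohenMacaulayModule (Localization.AtPrime m) (LocalizedModule m.primeCompl X) := by
  -- step 1: d ≤ idealDepth m X
  have h1 : (d : ℕ∞) ≤ LocCoh.idealDepth m X := by
    by_contra hlt
    rw [not_le] at hlt
    have hne : LocCoh.idealDepth m X ≠ ⊤ := ne_top_of_lt hlt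
    obtain ⟨n, hn⟩ := ENat.ne_top_iff_exists.1 hne
    have hnd : n < d := by
      rw [← hn] at hlt
      exact_mod_cast hlt
    have h := (Groth.Agent.S0318.result T m X hIM n).1 hn.symm
    haveI := hvan n hnd
    haveI := h.2
    exact false_of_nontrivial_of_subsingleton (LocCoh.H m n X)
  -- step 2: idealDepth m X ≤ depth of the localization
  have h2 : LocCoh.idealDepth m X ≤
      LocCoh.depth (Localization.AtPrime m) (LocalizedModule m.primeCompl X) := by
    rw [Groth.Agent.S5152.result T m X]
    exact iInf₂_le (⟨m, inferInstance⟩ : PrimeSpectrum T) (le_refl m)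
  haveI : Nontrivial (LocalizedModule m.primeCompl X) :=
    (Module.supportDim_ne_bot_iff_nontrivial (Localization.AtPrime m) _).1 (by
      rw [hd]; exact WithBot.coe_ne_bot)
  unfold LocCoh.IsCohenMacaulayModule
  refine le_antisymm ?_ Groth.Agent.H29.CM.depth_le_supportDim
  rw [hd]
  exact WithBot.coe_le_coe.2 (h1.trans h2)

end Groth.Agent.H98.Seg
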