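import Groth.Agent.H98.GrCat
import Groth.Agent.H98.GrHt
import Groth.Agent.H98.GrArt
import Groth.Prelude.Def_CAlg
import Groth.Prelude.Def_Wider
import Groth.Agent.H29.SemiLocCplDim
import Groth.Agent.H29.FinDimDepth
import Groth.Agent.S13232

/-!
# Helper library (helper98): for a finitely generated graded module `X` over a positively graded
Noetherian *local ring `(R, m)`, `dim X_m = dim X`.
-/

set_option autoImplicit false
universe u

namespace Groth.Agent.H98.Seg

open Groth.Agent.H29.GenDepth Groth.Agent.H98.GrCat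

section Core

variable {R : Type u} [CommRing R] (𝒜 : ℤ → AddSubgroup R) [GradedRing 𝒜]

/-- the height of a prime over its homogeneous core is at most one -/
theorem height_map_core_le_one (P : Ideal R) [hP : P.IsPrime]
    [hc : (Ideal.homogeneousCore 𝒜 P).toIdeal.IsPrime] :
    (P.map (Ideal.Quotient.mk (Ideal.homogeneousCore 𝒜 P).toIdeal)).height ≤ 1 := by
  classical
  have hcP : (Ideal.homogeneousCore 𝒜 P).toIdeal ≤ P := Ideal.toIdeal_homogeneousCore_le 𝒜 P
  have hker : RingHom.ker (Ideal.Quotient.mk (Ideal.homogeneousCore 𝒜 P).toIdeal) ≤ P := by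
    rw [Ideal.mk_ker]
    exact hcP
  haveI hPbar : (P.map (Ideal.Quotient.mk (Ideal.homogeneousCore 𝒜 P).toIdeal)).IsPrime :=
    Ideal.map_isPrime_of_surjective Ideal.Quotient.mk_surjective hker
  have h1 : ((1 : ℕ) : ℕ∞) = 1 := rfl
  rw [← h1, Ideal.height_le_iff]
  intro Qb hQb hlt
  -- the preimage of `Qb`
  have hQprime : (Qb.comap (Ideal.Quotient.mk (Ideal.homogeneousCore 𝒜 P).toIdeal)).IsPrime :=
    Ideal.comap_isPrime _ _
  have hcQ : (Ideal.homogeneousCore 𝒜 P).toIdeal ≤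
      Qb.comap (Ideal.Quotient.mk (Ideal.homogeneousCore 𝒜 P).toIdeal) := by
    intro x hx
    rw [Ideal.mem_comap, Ideal.Quotient.eq_zero_iff_mem.2 hx]
    exact zero_mem _
  have hcomapP : (P.map (Ideal.Quotient.mk (Ideal.homogeneousCore 𝒜 P).toIdeal)).comap
      (Ideal.Quotient.mk (Ideal.homogeneousCore 𝒜 P).toIdeal) = P := by
    rw [Ideal.comap_map_of_surjective _ Ideal.Quotient.mk_surjective, ← RingHom.ker_eq_comap_bot,
      Ideal.mk_ker, sup_eq_left.mpr hcP]
  have hQP : Qb.comap (Ideal.Quotient.mk (Ideal.homogeneousCore 𝒜 P).toIdeal) < P := by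
    refine lt_of_le_of_ne ?_ ?_
    · exact (Ideal.comap_mono hlt.le).trans (le_of_eq hcomapP)
    · intro h
      apply hlt.ne
      rw [← Ideal.map_comap_of_surjective _ Ideal.Quotient.mk_surjective Qb, h]
  have hcore : ∀ (e : ℤ) (s : R), s ∈ 𝒜 e → s ∈ P → s ∈ (Ideal.homogeneousCore 𝒜 P).toIdeal :=
    fun e s hs hsP => HomogeneousIdeal.mem_iff.2
      (Ideal.mem_homogeneousCore_of_homogeneous_of_mem ⟨e, hs⟩ hsP)
  have hQle := Groth.Agent.H98.GrHt.le_of_lt_of_core 𝒜 hc (Ideal.homogeneousCore 𝒜 P).isHomogeneous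
    hP hQprime hcQ hQP hcore
  have hQb : Qb = ⊥ := by
    rw [← Ideal.map_comap_of_surjective _ Ideal.Quotient.mk_surjective Qb, eq_bot_iff]
    rw [Ideal.map_le_iff_le_comap]
    intro x hx
    rw [Ideal.mem_comap, Ideal.Quotient.eq_zero_iff_mem.2 (hQle hx)]
    exact zero_mem _
  rw [hQb]
  haveI : IsDomain (R ⧸ (Ideal.homogeneousCore 𝒜 P).toIdeal) := Ideal.Quotient.isDomain _
  rw [Ideal.height_bot]
  exact zero_lt_one

end Core

section Dim

variable {R : Type u} [CommRing R] [IsNoetherianRing R] (𝒜 : ℤ → AddSubgroup R) [GradedRing 𝒜]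

theorem supportDim_atStarMax (hpos : ∀ n : ℤ, n < 0 → 𝒜 n = ⊥) (m : HomogeneousIdeal 𝒜)
    (hm : GrLC.IsStarLocal 𝒜 m) [hmp : m.toIdeal.IsPrime]
    (X : Type u) [AddCommGroup X] [Module R X] (𝒳 : ℤ → AddSubgroup X) [DirectSum.Decomposition 𝒳]
    [SetLike.GradedSMul 𝒜 𝒳] [Module.Finite R X] :
    Module.supportDim (Localization.AtPrime m.toIdeal) (LocalizedModule m.toIdeal.primeCompl X) =
      Module.supportDim R X := by
  classical
  haveI hmax : m.toIdeal.IsMaximal := isMaximal_of_isCoatom 𝒜 hpos m hm.1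
  have hle_hom : ∀ (P : Ideal R), P.IsHomogeneous 𝒜 → P ≠ ⊤ → P ≤ m.toIdeal := by
    intro P hPh hPt
    have h1 : (⟨P, hPh⟩ : HomogeneousIdeal 𝒜) ≤ m := by
      apply Groth.Agent.H98.GrHt.le_of_isStarLocal 𝒜 m hm
      intro h
      apply hPt
      have h2 := congrArg HomogeneousIdeal.toIdeal h
      rwa [HomogeneousIdeal.toIdeal_top] at h2
    exact h1
  apply le_antisymm
  · exact Groth.Agent.H29.SemiLocCplDim.sdim_le_supportDim X m.toIdeal
  · apply Groth.Agent.H29.SemiLocCplDim.supportDim_le_of_forall_maximal X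
    intro 𝔫 h𝔫
    haveI h𝔫p : 𝔫.IsPrime := h𝔫.isPrime
    by_cases hs : Subsingleton (LocalizedModule 𝔫.primeCompl X)
    · show Module.supportDim _ _ ≤ _
      rw [Module.supportDim_eq_bot_of_subsingleton]
      exact bot_le
    rw [not_subsingleton_iff_nontrivial] at hs
    by_cases hh : 𝔫.IsHomogeneous 𝒜
    · have h1 : 𝔫 = m.toIdeal := h𝔫.eq_of_le hmp.ne_top (hle_hom 𝔫 hh h𝔫p.ne_top)
      exact le_of_eq (sdim_congr X 𝔫 m.toIdeal h1)
    · haveI hcore : (Ideal.homogeneousCore 𝒜 𝔫).toIdeal.IsPrime := h𝔫p.homogeneousCore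
      have hd1 := height_map_core_le_one 𝒜 𝔫
      have hker : RingHom.ker (Ideal.Quotient.mk (Ideal.homogeneousCore 𝒜 𝔫).toIdeal) ≤ 𝔫 := by
        rw [Ideal.mk_ker]
        exact Ideal.toIdeal_homogeneousCore_le 𝒜 𝔫
      have hPbar_prime :
          (𝔫.map (Ideal.Quotient.mk (Ideal.homogeneousCore 𝒜 𝔫).toIdeal)).IsPrime :=
        Ideal.map_isPrime_of_surjective Ideal.Quotient.mk_surjective hker
      have hfin : (𝔫.map (Ideal.Quotient.mk (Ideal.homogeneousCore 𝒜 𝔫).toIdeal)).height ≠ ⊤ :=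
        Ideal.height_ne_top hPbar_prime.ne_top
      obtain ⟨d, hd⟩ := ENat.ne_top_iff_exists.1 hfin
      have hd1' : d ≤ 1 := by
        rw [← hd] at hd1
        exact_mod_cast hd1
      have h1 := Groth.Agent.S13232.result R 𝒜 X 𝒳 𝔫 d hd.symm hs
      have hcnt : Nontrivial
          (LocalizedModule (Ideal.homogeneousCore 𝒜 𝔫).toIdeal.primeCompl X) := by
        by_contra hn
        rw [not_nontrivial_iff_subsingleton] at hn
        have h0 : Module.supportDim (Localization.AtPrime (Ideal.homogeneousCore 𝒜 𝔫).toIdeal)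
            (LocalizedModule (Ideal.homogeneousCore 𝒜 𝔫).toIdeal.primeCompl X) = ⊥ :=
          Module.supportDim_eq_bot_of_subsingleton _ _
        rw [h0, WithBot.bot_add] at h1
        exact Module.supportDim_ne_bot_of_nontrivial _ _ h1
      have hcm : (Ideal.homogeneousCore 𝒜 𝔫).toIdeal ≤ m.toIdeal :=
        hle_hom _ (Ideal.homogeneousCore 𝒜 𝔫).isHomogeneous hcore.ne_top
      have hcne : (Ideal.homogeneousCore 𝒜 𝔫).toIdeal ≠ m.toIdeal := by
        intro h
        have h2 : m.toIdeal ≤ 𝔫 := h ▸ Ideal.toIdeal_homogeneousCore_le 𝒜 𝔫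
        have h3 : m.toIdeal = 𝔫 := hmax.eq_of_le h𝔫p.ne_top h2
        exact hh (h3 ▸ m.isHomogeneous)
      have hcs : (⟨(Ideal.homogeneousCore 𝒜 𝔫).toIdeal, hcore⟩ : PrimeSpectrum R) ∈
          Module.support R X := Module.mem_support_iff.2 hcnt
      have hms : (⟨m.toIdeal, hmp⟩ : PrimeSpectrum R) ∈ Module.support R X :=
        Module.mem_support_mono (show (⟨(Ideal.homogeneousCore 𝒜 𝔫).toIdeal, hcore⟩ :
          PrimeSpectrum R) ≤ ⟨m.toIdeal, hmp⟩ from hcm) hcs
      have e1 := Groth.Agent.H29.FinDimDepth.supportDim_atPrime_eq_height (M := X)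
        ⟨(Ideal.homogeneousCore 𝒜 𝔫).toIdeal, hcore⟩ hcs
      have e2 := Groth.Agent.H29.FinDimDepth.supportDim_atPrime_eq_height (M := X)
        ⟨m.toIdeal, hmp⟩ hms
      have hlt : (⟨⟨(Ideal.homogeneousCore 𝒜 𝔫).toIdeal, hcore⟩, hcs⟩ : ↥(Module.support R X)) <
          ⟨⟨m.toIdeal, hmp⟩, hms⟩ := lt_of_le_of_ne hcm (fun h => hcne (by
            have := congrArg (fun z : ↥(Module.support R X) => z.1.asIdeal) h
            exact this))
      have h4 := Order.height_add_one_le hlt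
      show Module.supportDim _ _ ≤ Module.supportDim _ _
      simp only at e1 e2
      rw [h1, e1, e2]
      have h5 : ((Order.height (⟨⟨(Ideal.homogeneousCore 𝒜 𝔫).toIdeal, hcore⟩, hcs⟩ :
          ↥(Module.support R X)) : ℕ∞) : WithBot ℕ∞) + (d : WithBot ℕ∞) ≤
          ((Order.height (⟨⟨(Ideal.homogeneousCore 𝒜 𝔫).toIdeal, hcore⟩, hcs⟩ :
          ↥(Module.support R X)) + 1 : ℕ∞) : WithBot ℕ∞) := by
        rw [WithBot.coe_add]
        gcongr
        exact_mod_cast hd1'
      exact h5.trans (WithBot.coe_le_coe.2 h4)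

end Dim

end Groth.Agent.H98.Seg
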