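import Groth.Agent.H98.SegCMR

/-!
# Helper library (helper98): module version of `SegCMR`: for a graded module `M` with a homogeneous
`M`-regular element `f` of positive degree such that a power of the irrelevant ideal maps `M` into
`f M`, the quotient `M_f / M` is torsion and its pieces vanish exactly where those of `H^1_m(M)` do.
-/

set_option autoImplicit false
universe u
open scoped TensorProduct
open DirectSum

namespace Groth.Agent.H98.Seg

open Groth.Agent.H98.GrCat Groth.Agent.H98.GrConv Groth.Agent.H98.GrHt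

section RSideMod

variable {k : Type u} [Field k] {R : Type u} [CommRing R] [Algebra k R]
  (𝒜 : ℤ → Submodule k R) [GradedAlgebra 𝒜]
  (hpos : ∀ n : ℤ, n < 0 → 𝒜 n = ⊥) (h0 : 𝒜 0 = Submodule.span k {(1 : R)})
  (mR : HomogeneousIdeal 𝒜)
  (hmR : mR.toIdeal = Ideal.span (⋃ n ∈ Set.Ioi (0 : ℤ), (𝒜 n : Set R)))
  {M : Type u} [AddCommGroup M] [Module R M] (ℳ : ℤ → AddSubgroup M) [Decomposition ℳ]
  [SetLike.GradedSMul 𝒜 ℳ]

/-- a graded module over the converted ring -/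
noncomputable def convM : GrLC.GMod.{u} (toAS 𝒜) := { carrier := M, gr := toAS ℳ }

variable (e : ℤ) (he : 0 < e) (f : R) (hf : f ∈ 𝒜 e)
  (X : GrLC.GMod.{u} (toAS 𝒜)) (ι : M →ₗ[R] X.carrier) (hι : GrLC.IsGrHom (toAS ℳ) X.gr ι)
  (hinj : Function.Injective ι) (hbij : Function.Bijective (fun x : X.carrier => f • x))
  (hloc : ∀ x : X.carrier, ∃ j : ℕ, f ^ j • x ∈ LinearMap.range ι)

omit [GradedAlgebra 𝒜] [Decomposition ℳ] [SetLike.GradedSMul 𝒜 ℳ] in
theorem pow_smul_exists (I : Ideal R) (N : ℕ)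
    (htor : ∀ r ∈ I ^ N, ∀ x : M, ∃ y : M, r • x = f • y) (j : ℕ) :
    ∀ r ∈ I ^ (N * j), ∀ x : M, ∃ y : M, r • x = f ^ j • y := by
  induction j with
  | zero =>
    intro r _ x
    exact ⟨r • x, by rw [pow_zero, one_smul]⟩
  | succ j ih =>
    intro r hr x
    rw [Nat.mul_succ, pow_add] at hr
    revert x
    refine Submodule.mul_induction_on hr ?_ ?_
    · intro a ha b hb x
      obtain ⟨y₁, hy₁⟩ := htor b hb x
      obtain ⟨y₂, hy₂⟩ := ih a ha y₁
      refine ⟨y₂, ?_⟩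
      rw [mul_smul, hy₁, smul_comm a f y₁, hy₂, pow_succ, mul_smul, smul_comm]
    · intro a b ha hb x
      obtain ⟨y₁, hy₁⟩ := ha x
      obtain ⟨y₂, hy₂⟩ := hb x
      exact ⟨y₁ + y₂, by rw [add_smul, hy₁, hy₂, smul_add]⟩

include hbij hloc in
/-- `M_f / M` is torsion -/
theorem gam_quot_eq_top_mod
    (htor : ∃ N : ℕ, ∀ r ∈ mR.toIdeal ^ N, ∀ x : M, ∃ y : M, r • x = f • y) :
    GrLC.gam mR.toIdeal
      (quotG (toAS 𝒜) X.gr (LinearMap.range ι) (range_isHomogeneous (toAS ℳ) X.gr hι)).carrier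
      = ⊤ := by
  rw [eq_top_iff]
  intro q _
  obtain ⟨x, rfl⟩ := (LinearMap.range ι).mkQ_surjective q
  obtain ⟨j, y₀, hy₀⟩ := hloc x
  obtain ⟨N, hN⟩ := htor
  refine ⟨N * j, fun r hr => ?_⟩
  obtain ⟨y', hy'⟩ := pow_smul_exists f mR.toIdeal N hN j r hr y₀
  have hfj : ∀ i : ℕ, Function.Injective (fun z : X.carrier => f ^ i • z) := by
    intro i
    induction i with
    | zero =>
      intro a b h
      simpa using h
    | succ i ih =>
      intro a b h
      apply ih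
      apply hbij.1
      show f • f ^ i • a = f • f ^ i • b
      rw [← mul_smul, ← mul_smul, ← pow_succ']
      exact h
  have h1 : r • x = ι y' := by
    apply hfj j
    show f ^ j • r • x = f ^ j • ι y'
    rw [smul_comm, ← hy₀, ← map_smul, hy', map_smul]
  have h2 : r • (LinearMap.range ι).mkQ x = (LinearMap.range ι).mkQ (r • x) :=
    (map_smul (LinearMap.range ι).mkQ r x).symm
  refine h2.trans ((Submodule.Quotient.mk_eq_zero _).2 ?_)
  rw [h1]
  exact ⟨y', rfl⟩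

include hpos h0 hmR he hf hbij hinj in
/-- the pieces of `M_f / M` vanish exactly where those of `H^1_m(M)` do -/
theorem quot_piece_eq_bot_iff_mod [IsNoetherianRing R] [Nontrivial R]
    (hQtor : GrLC.gam mR.toIdeal
      (quotG (toAS 𝒜) X.gr (LinearMap.range ι) (range_isHomogeneous (toAS ℳ) X.gr hι)).carrier
      = ⊤)
    (I : GrLC.StarInjRes 𝒜 ℳ) (n : ℤ) :
    I.Hcomp mR 1 n = ⊥ ↔
      (quotG (toAS 𝒜) X.gr (LinearMap.range ι) (range_isHomogeneous (toAS ℳ) X.gr hι)).gr n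
        = ⊥ := by
  classical
  have hstar := isStarLocal_convI 𝒜 hpos h0 mR hmR
  have hX : ∀ q n, HV (convI mR) X q n := by
    intro q n E
    exact vn_of_subsingleton E _ q (Groth.Agent.S18662.result R (toAS 𝒜) (hpos_toAS 𝒜 hpos)
      (isField_deg0_toAS 𝒜 h0) (convI mR) hstar (convI_span 𝒜 mR hmR) X.carrier X.gr e he f hf
      hbij E q) n
  rw [Hcomp_eq_bot_iff_vn]
  obtain ⟨g, hgdef⟩ : ∃ g : X.carrier →ₗ[R] (quotG (toAS 𝒜) X.gr (LinearMap.range ι)
      (range_isHomogeneous (toAS ℳ) X.gr hι)).carrier,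
      ∀ v, g v = (LinearMap.range ι).mkQ v := ⟨(LinearMap.range ι).mkQ, fun _ => rfl⟩
  obtain ⟨j, hj⟩ : ∃ j : (convM 𝒜 ℳ).carrier →ₗ[R] X.carrier, ∀ t, j t = ι t :=
    ⟨ι, fun _ => rfl⟩
  have hjgr : GrLC.IsGrHom (convM 𝒜 ℳ).gr X.gr j := by
    intro m t ht
    rw [hj]
    exact hι m t ht
  have hggr : GrLC.IsGrHom X.gr (quotG (toAS 𝒜) X.gr (LinearMap.range ι)
      (range_isHomogeneous (toAS ℳ) X.gr hι)).gr g :=
    fun m z hz => ⟨z, hz, (hgdef z).symm⟩
  have hjinj : Function.Injective j := by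
    intro t t' h
    rw [hj, hj] at h
    exact hinj h
  have hgsurj : Function.Surjective g := by
    intro q
    obtain ⟨v, hv⟩ := (LinearMap.range ι).mkQ_surjective q
    exact ⟨v, by rw [hgdef]; exact hv⟩
  have hexact : ∀ b, g b = 0 → ∃ a', j a' = b := by
    intro b hb
    rw [hgdef] at hb
    obtain ⟨t, ht⟩ := (Submodule.Quotient.mk_eq_zero _).1 hb
    exact ⟨t, by rw [hj]; exact ht⟩
  have hgj : ∀ a', g (j a') = 0 := by
    intro t
    rw [hgdef, hj]
    exact (Submodule.Quotient.mk_eq_zero _).2 ⟨t, rfl⟩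
  constructor
  · intro h
    have h1 : HV (convI mR) (convM 𝒜 ℳ) 1 n :=
      hv_of_vn (convRes I : GrLC.StarInjRes (toAS 𝒜) (toAS ℳ)) h
    have h2 := hv_right j g hjgr hggr hjinj hgsurj hexact hgj (convI mR) 0 n (hX 0 n) h1
    exact piece_eq_bot_of_vn_zero (starInjRes (toAS 𝒜) _) (convI mR) n hQtor (h2 _)
  · intro h
    have h1 : HV (convI mR) (quotG (toAS 𝒜) X.gr (LinearMap.range ι)
        (range_isHomogeneous (toAS ℳ) X.gr hι)) 0 n :=
      hv_of_vn (starInjRes (toAS 𝒜) _) (vn_zero_of_piece_eq_bot _ (convI mR) n h)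
    exact hv_left j g hjgr hggr hjinj hgsurj hexact hgj (convI mR) 0 n h1 (hX 1 n)
      (convRes I : GrLC.StarInjRes (toAS 𝒜) (toAS ℳ))

end RSideMod

end Groth.Agent.H98.Seg
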