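import Groth.Agent.H98.SegModA
import Groth.Agent.H98.SegModR
import Groth.Agent.H98.SegCMA
import Groth.Agent.H29.CM3
import Groth.Agent.H29.LocQuot
import Groth.Agent.H26.DepthLib
import Groth.Agent.H98.SegModM1
import Groth.Agent.H98.SegModM2
import Groth.Agent.H98.SegModM3

/-!
# Helper library (helper98): a finitely generated graded module over a graded ring over a field is
Cohen–Macaulay iff its graded local cohomology vanishes below its dimension; homogeneous regular
elements on modules.
-/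

set_option autoImplicit false
universe u
open scoped TensorProduct
open DirectSum

namespace Groth.Agent.H98.Seg

open Groth.Agent.H98.GrCat Groth.Agent.H98.GrConv Groth.Agent.H98.GrHt

section Depth

variable {R : Type u} [CommRing R] [IsNoetherianRing R] (𝒜 : ℤ → AddSubgroup R) [GradedRing 𝒜]
  (hpos : ∀ n : ℤ, n < 0 → 𝒜 n = ⊥) (m : HomogeneousIdeal 𝒜) (hm : GrLC.IsStarLocal 𝒜 m)
  (X : Type u) [AddCommGroup X] [Module R X] (𝒳 : ℤ → AddSubgroup X) [Decomposition 𝒳]
  [SetLike.GradedSMul 𝒜 𝒳] [Module.Finite R X]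

include hpos hm 𝒳 in
/-- for a Cohen–Macaulay graded module the depth with respect to the *maximal ideal is at least
the dimension -/
theorem le_idealDepth_of_cm_mod
    (hcm : ∀ (q : Ideal R) [q.IsPrime], Subsingleton (LocalizedModule q.primeCompl X) ∨
      LocCoh.IsCohenMacaulayModule (Localization.AtPrime q) (LocalizedModule q.primeCompl X))
    (d : ℕ) (hd : Module.supportDim R X = d) :
    (d : ℕ∞) ≤ LocCoh.idealDepth m.toIdeal X := by
  haveI hmax : m.toIdeal.IsMaximal := isMaximal_of_isCoatom 𝒜 hpos m hm.1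
  haveI hprime : m.toIdeal.IsPrime := hmax.isPrime
  have hdimm := supportDim_atStarMax 𝒜 hpos m hm X 𝒳
  rw [hd] at hdimm
  have key : ∀ (q : Ideal R) [q.IsPrime], q = m.toIdeal →
      (d : ℕ∞) ≤ LocCoh.depth (Localization.AtPrime q) (LocalizedModule q.primeCompl X) := by
    intro q hq h
    subst h
    rcases hcm m.toIdeal with hsub | hCM
    · exfalso
      have h1 : Module.supportDim (Localization.AtPrime m.toIdeal)
          (LocalizedModule m.toIdeal.primeCompl X) = ⊥ :=
        Module.supportDim_eq_bot_of_subsingleton _ _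
      rw [hdimm] at h1
      exact WithBot.coe_ne_bot h1
    · unfold LocCoh.IsCohenMacaulayModule at hCM
      rw [hdimm] at hCM
      have h2 : ((d : ℕ∞) : WithBot ℕ∞) = ((LocCoh.depth (Localization.AtPrime m.toIdeal)
          (LocalizedModule m.toIdeal.primeCompl X) : ℕ∞) : WithBot ℕ∞) := hCM
      exact le_of_eq (WithBot.coe_injective h2)
  rw [Groth.Agent.H29.LocQuot.idealDepth_eq_iInf]
  refine le_iInf₂ (fun p hp => ?_)
  exact key p.asIdeal (hmax.eq_of_le p.2.ne_top hp).symm

include hpos hm 𝒳 in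
/-- the *maximal ideal is in the support of a nonzero graded module -/
theorem smul_top_ne_top_of_dim (d : ℕ) (hd : Module.supportDim R X = d) :
    m.toIdeal • (⊤ : Submodule R X) ≠ ⊤ := by
  haveI hmax : m.toIdeal.IsMaximal := isMaximal_of_isCoatom 𝒜 hpos m hm.1
  haveI hprime : m.toIdeal.IsPrime := hmax.isPrime
  have hdimm := supportDim_atStarMax 𝒜 hpos m hm X 𝒳
  rw [hd] at hdimm
  have hnt : Nontrivial (LocalizedModule m.toIdeal.primeCompl X) := by
    by_contra hn
    rw [not_nontrivial_iff_subsingleton] at hn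
    have h1 : Module.supportDim (Localization.AtPrime m.toIdeal)
        (LocalizedModule m.toIdeal.primeCompl X) = ⊥ :=
      Module.supportDim_eq_bot_of_subsingleton _ _
    rw [hdimm] at h1
    exact WithBot.coe_ne_bot h1
  exact Groth.Agent.H29.CM.smul_top_ne_top_of_mem_support (⟨m.toIdeal, hprime⟩ : PrimeSpectrum R)
    le_rfl (Module.mem_support_iff.2 hnt)

end Depth

section Crit

variable {k : Type u} [Field k] {T : Type u} [CommRing T] [Algebra k T]
  (𝒯 : ℤ → Submodule k T) [GradedAlgebra 𝒯]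
  {P : Type u} [AddCommGroup P] [Module T P] (𝒬 : ℤ → AddSubgroup P) [Decomposition 𝒬]
  [SetLike.GradedSMul (toAS 𝒯) 𝒬]

theorem modcm_iff_hv [IsNoetherianRing T] [Nontrivial T] [Module.Finite T P]
    (hpos : ∀ n : ℤ, n < 0 → 𝒯 n = ⊥) (h0 : 𝒯 0 = Submodule.span k {(1 : T)})
    (mT : HomogeneousIdeal 𝒯)
    (hmT : mT.toIdeal = Ideal.span (⋃ n ∈ Set.Ioi (0 : ℤ), (𝒯 n : Set T)))
    (s : ℕ) (hdim : Module.supportDim T P = s) :
    (∀ (q : Ideal T) [q.IsPrime], Subsingleton (LocalizedModule q.primeCompl P) ∨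
      LocCoh.IsCohenMacaulayModule (Localization.AtPrime q) (LocalizedModule q.primeCompl P)) ↔
      ∀ i, i < s → ∀ n, HV (convI mT) (bundG 𝒯 𝒬) i n := by
  classical
  have hstar := isStarLocal_convI 𝒯 hpos h0 mT hmT
  have hposT := hpos_toAS 𝒯 hpos
  haveI hmax : (convI mT).toIdeal.IsMaximal := isMaximal_of_isCoatom (toAS 𝒯) hposT _ hstar.1
  haveI hprime : (convI mT).toIdeal.IsPrime := hmax.isPrime
  have hIM := smul_top_ne_top_of_dim (toAS 𝒯) hposT (convI mT) hstar P 𝒬 s hdim
  constructor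
  · intro hcm i hi n E
    have hdep := le_idealDepth_of_cm_mod (toAS 𝒯) hposT (convI mT) hstar P 𝒬 hcm s hdim
    obtain ⟨eq⟩ := nonempty_H_equiv E (convI mT) i
    have hs : Subsingleton (LocCoh.H (convI mT).toIdeal i P) :=
      Groth.Agent.H58.LC.subsingleton_H_of_lt_idealDepth (convI mT).toIdeal P s hdep hIM i hi
    exact vn_of_subsingleton E (convI mT) i (@Equiv.subsingleton _ _ eq.toEquiv hs) n
  · intro h
    have hvan : ∀ i, i < s → Subsingleton (LocCoh.H (convI mT).toIdeal i P) := by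
      intro i hi
      obtain ⟨E, -⟩ : ∃ E : GrLC.StarInjRes (toAS 𝒯) (bundG 𝒯 𝒬).gr, True :=
        ⟨starInjRes (toAS 𝒯) _, trivial⟩
      haveI := subsingleton_H_of_forall_vn E (convI mT) i (fun n => h i hi n E)
      obtain ⟨eq⟩ := nonempty_H_equiv E (convI mT) i
      exact eq.symm.toEquiv.subsingleton
    have hdimm := supportDim_atStarMax (toAS 𝒯) hposT (convI mT) hstar P 𝒬
    rw [hdim] at hdimm
    have hloc := cmModule_of_vanishing (convI mT).toIdeal P hIM s hdimm hvan
    exact cmModule_of_cm_loc (toAS 𝒯) (convI mT) hstar P 𝒬 hloc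

end Crit

end Groth.Agent.H98.Seg
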