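import Groth.Agent.H21.GrInt
import Groth.Agent.H26.DepthLib

/-!
# Helper library (helper98): homogeneous regular elements of positive degree on a finitely generated
module over a graded ring over a field (module version of `H21.GrInt.exists_homogeneous_regular`).
-/

set_option autoImplicit false
universe u

namespace Groth.Agent.H98.Seg

open Groth.Agent.H21.SegreDim Groth.Agent.H21.GrInt

section Reg

variable {k : Type u} [Field k] {R : Type u} [CommRing R] [Algebra k R]
  (𝒜 : ℤ → Submodule k R) [GradedAlgebra 𝒜]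
  (hneg : ∀ n : ℤ, n < 0 → 𝒜 n = ⊥) (h0 : 𝒜 0 = Submodule.span k {(1 : R)})
  (M : Type u) [AddCommGroup M] [Module R M]

include h0 in
/-- If the irrelevant ideal is not an associated prime of the finite module `M`, there is a
homogeneous `M`-regular element of positive degree. -/
theorem exists_homogeneous_regular_module [IsNoetherianRing R] [Nontrivial R] [Module.Finite R M]
    (hass : irrel 𝒜 hneg ∉ associatedPrimes R M) :
    ∃ (e : ℤ) (a : R), 0 < e ∧ a ∈ 𝒜 e ∧ IsSMulRegular M a := by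
  classical
  haveI hmax : (irrel 𝒜 hneg).IsMaximal := irrel_isMaximal 𝒜 hneg h0
  obtain ⟨S, hSdef⟩ : ∃ S : Finset (Ideal R), S = (associatedPrimes.finite R M).toFinset.image
      (fun p => (p.homogeneousCore 𝒜).toIdeal) := ⟨_, rfl⟩
  have hS : ∀ p ∈ S, p.IsPrime ∧ p.IsHomogeneous 𝒜 ∧
      ∃ (d : ℤ) (v : R), 0 < d ∧ v ∈ 𝒜 d ∧ v ∉ p := by
    intro p hp
    rw [hSdef] at hp
    obtain ⟨p₀, hp₀, rfl⟩ := Finset.mem_image.1 hp
    rw [Set.Finite.mem_toFinset] at hp₀
    have hprime : p₀.IsPrime := hp₀.isPrime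
    refine ⟨Ideal.IsPrime.homogeneousCore hprime, (p₀.homogeneousCore 𝒜).isHomogeneous, ?_⟩
    have hnle : ¬ irrel 𝒜 hneg ≤ p₀ := by
      intro hle
      have heq : irrel 𝒜 hneg = p₀ := hmax.eq_of_le hprime.ne_top hle
      exact hass (heq ▸ hp₀)
    obtain ⟨r, hr, hrp⟩ := SetLike.not_le_iff_exists.1 hnle
    by_contra hall
    push Not at hall
    apply hrp
    rw [← DirectSum.sum_support_decompose 𝒜 r]
    refine Ideal.sum_mem _ fun i _ => ?_
    by_cases hi : i ≤ 0
    · rw [hr i hi]
      exact zero_mem _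
    · have h1 := hall i ((DirectSum.decompose 𝒜 r i : 𝒜 i) : R) (by omega) (SetLike.coe_mem _)
      exact Ideal.toIdeal_homogeneousCore_le 𝒜 p₀ h1
  obtain ⟨e, x, he, hx, hxS⟩ := homogeneous_prime_avoidance_int 𝒜 hneg S.card S rfl hS
  refine ⟨e, x, he, hx, ?_⟩
  by_contra hreg
  have h5 : x ∈ ({r : R | IsSMulRegular M r}ᶜ : Set R) := hreg
  rw [← biUnion_associatedPrimes_eq_compl_regular R M] at h5
  obtain ⟨p₀, hp₀, hxp⟩ := Set.mem_iUnion₂.1 h5
  have h6 : (p₀.homogeneousCore 𝒜).toIdeal ∈ S := by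
    rw [hSdef]
    exact Finset.mem_image.2 ⟨p₀, (Set.Finite.mem_toFinset _).2 hp₀, rfl⟩
  exact hxS (p₀.homogeneousCore 𝒜).toIdeal h6 (HomogeneousIdeal.mem_iff.2
    (Ideal.mem_homogeneousCore_of_homogeneous_of_mem ⟨e, hx⟩ hxp))

end Reg

section Ass

variable {R : Type u} [CommRing R] [IsNoetherianRing R] (M : Type u) [AddCommGroup M] [Module R M]

/-- an ideal containing an `M`-regular element is not an associated prime of `M` -/
theorem notMem_associatedPrimes_of_regular (I : Ideal R) (r : R) (hr : r ∈ I)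
    (hreg : IsSMulRegular M r) : I ∉ associatedPrimes R M := by
  intro h
  obtain ⟨hprime, f, hf⟩ := (isAssociatedPrime_iff_exists_injective_linearMap I M).1 h
  have h1 : r • f 1 = 0 := by
    rw [← map_smul]
    have h2 : r • (1 : R ⧸ I) = 0 := by
      have h3 : r • (1 : R ⧸ I) = Ideal.Quotient.mk I r := by
        rw [Algebra.smul_def, mul_one]
        rfl
      rw [h3]
      exact Ideal.Quotient.eq_zero_iff_mem.2 hr
    rw [h2, map_zero]
  have h4 : f 1 = 0 := hreg (by
    show r • f 1 = r • 0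
    rw [h1, smul_zero])
  have h5 : (1 : R ⧸ I) = 0 := hf (by rw [h4, map_zero])
  have h6 : (1 : R) ∈ I := Ideal.Quotient.eq_zero_iff_mem.1 h5
  exact hprime.ne_top ((Ideal.eq_top_iff_one I).2 h6)

/-- positive depth keeps the ideal out of the associated primes -/
theorem notMem_associatedPrimes_of_depth (I : Ideal R)
    (hdep : ((1 : ℕ) : ℕ∞) ≤ LocCoh.idealDepth I M) (hIM : I • (⊤ : Submodule R M) ≠ ⊤) :
    I ∉ associatedPrimes R M := by
  obtain ⟨rs, hlen, hreg, hmem⟩ := Groth.Agent.H26.DepthLib.exists_of_le_idealDepth I 1 hdep hIM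
  obtain ⟨r, rfl⟩ : ∃ r, rs = [r] := List.length_eq_one_iff.1 hlen
  have hr : r ∈ I := hmem r List.mem_cons_self
  have hreg' : IsSMulRegular M r := by
    have := (RingTheory.Sequence.isWeaklyRegular_cons_iff M r []).1 hreg
    exact this.1
  exact notMem_associatedPrimes_of_regular M I r hr hreg'

end Ass

end Groth.Agent.H98.Seg
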