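import Groth.Agent.H98.GrCat
import Groth.Prelude.Def_CAlg
import Groth.Prelude.Def_GrSeg
import Groth.Prelude.Def_Wider

/-!
# (M5) for S19756: the ℤ-graded localisation `M_f` of a graded module as a bundled graded module
(module mirror of `Groth.Agent.Lead.SegCM_LOC`).
-/

set_option autoImplicit false
set_option linter.style.haveILetI false
set_option linter.unusedSectionVars false
set_option warn.classDefReducibility false
universe u
open DirectSum

namespace Groth.Agent.H98.Seg.ModLOC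

section Loc

variable {R : Type u} [CommRing R] (𝒜 : ℤ → AddSubgroup R) [GradedRing 𝒜]
  {M : Type u} [AddCommGroup M] [Module R M] (ℳ : ℤ → AddSubgroup M)
  [DirectSum.Decomposition ℳ] [SetLike.GradedSMul 𝒜 ℳ]
  (e : ℤ) (f : R)

local notation "S" => LocalizedModule (Submonoid.powers f) M
local notation "φ" => LocalizedModule.mkLinearMap (Submonoid.powers f) M

/-- `f^j` as an element of the submonoid of powers -/
def pw (j : ℕ) : Submonoid.powers f := ⟨f ^ j, j, rfl⟩

/-- `a / f^j` -/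
noncomputable def mk (a : M) (j : ℕ) : S := IsLocalizedModule.mk' φ a (pw f j)

theorem pow_smul_mk (a : M) (j : ℕ) : f ^ j • mk f a j = φ a :=
  IsLocalizedModule.mk'_cancel' φ a (pw f j)

theorem mk_zero_right (a : M) : mk f a 0 = φ a := by
  unfold mk
  have h1 : pw f 0 = 1 := Subtype.ext (pow_zero f)
  rw [h1, IsLocalizedModule.mk'_one]

theorem exists_mk (x : S) : ∃ (a : M) (j : ℕ), x = mk f a j := by
  obtain ⟨⟨a, ⟨_, j, rfl⟩⟩, rfl⟩ := IsLocalizedModule.mk'_surjective (Submonoid.powers f) φ x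
  exact ⟨a, j, rfl⟩

theorem mk_eq_of_eq {a b : M} {j l : ℕ} (h : f ^ l • a = f ^ j • b) : mk f a j = mk f b l := by
  unfold mk
  rw [IsLocalizedModule.mk'_eq_mk'_iff]
  refine ⟨1, ?_⟩
  rw [one_smul, one_smul]
  exact h.symm

variable (hreg : IsSMulRegular M f)

include hreg in
theorem mkLinearMap_injective : Function.Injective φ := by
  intro a b hab
  rw [← sub_eq_zero, ← map_sub] at hab
  have h1 := (IsLocalizedModule.eq_zero_iff (Submonoid.powers f) φ).1 hab
  obtain ⟨⟨_, k, rfl⟩, hk⟩ := h1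
  have hk' : f ^ k • (a - b) = f ^ k • (0 : M) := by rw [smul_zero]; exact hk
  exact sub_eq_zero.1 ((hreg.pow k) hk')

include hreg in
theorem eq_of_mk_eq {a b : M} {j l : ℕ} (h : mk f a j = mk f b l) : f ^ l • a = f ^ j • b := by
  apply mkLinearMap_injective f hreg
  rw [map_smul, map_smul, ← pow_smul_mk f a j, ← pow_smul_mk f b l, h, smul_smul, smul_smul,
    mul_comm]

theorem mk_add (a b : M) (j : ℕ) : mk f a j + mk f b j = mk f (a + b) j :=
  (IsLocalizedModule.mk'_add φ a b (pw f j)).symm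

theorem mk_raise (a : M) (j l : ℕ) : mk f a j = mk f (f ^ l • a) (j + l) :=
  mk_eq_of_eq f (by rw [pow_add, mul_smul])

theorem smul_mk (r : R) (a : M) (j : ℕ) : r • mk f a j = mk f (r • a) j :=
  (IsLocalizedModule.mk'_smul φ r a (pw f j)).symm

theorem mk_zero_left (j : ℕ) : mk f (0 : M) j = 0 := IsLocalizedModule.mk'_zero φ (pw f j)

theorem mk_neg (a : M) (j : ℕ) : mk f (-a) j = - mk f a j :=
  IsLocalizedModule.mk'_neg φ a (pw f j)

variable {𝒜 ℳ e f}

theorem pow_mem (hf : f ∈ 𝒜 e) (l : ℕ) : f ^ l ∈ 𝒜 (l * e) := by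
  have h1 := SetLike.pow_mem_graded l hf
  rwa [nsmul_eq_mul] at h1

theorem pow_smul_mem (hf : f ∈ 𝒜 e) {a : M} {m : ℤ} (ha : a ∈ ℳ m) (l : ℕ) :
    f ^ l • a ∈ ℳ (m + l * e) := by
  have h2 := SetLike.GradedSMul.smul_mem (A := 𝒜) (B := ℳ) (pow_mem hf l) ha
  have h3 : ((l : ℤ) * e) +ᵥ m = m + l * e := by rw [vadd_eq_add]; ring
  rwa [h3] at h2

variable (𝒜 ℳ)

theorem coe_decompose_congr (z : M) {n n' : ℤ} (h : n = n') :
    ((DirectSum.decompose ℳ z n : ℳ n) : M) = ((DirectSum.decompose ℳ z n' : ℳ n') : M) := by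
  subst h; rfl

/-- component of (homogeneous scalar) • (arbitrary element). -/
theorem coe_decompose_smul_left {d : ℤ} {a : R} (ha : a ∈ 𝒜 d) (y : M) (n : ℤ) :
    ((DirectSum.decompose ℳ (a • y) (d + n) : ℳ (d + n)) : M) =
      a • ((DirectSum.decompose ℳ y n : ℳ n) : M) := by
  classical
  induction y using DirectSum.Decomposition.inductionOn ℳ with
  | zero => simp
  | @homogeneous l y =>
    have h1 : a • (y : M) ∈ ℳ (d + l) := by
      have := SetLike.GradedSMul.smul_mem (A := 𝒜) (B := ℳ) ha y.2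
      rwa [vadd_eq_add] at this
    by_cases hl : l = n
    · subst hl
      rw [DirectSum.decompose_of_mem_same ℳ h1, DirectSum.decompose_of_mem_same ℳ y.2]
    · have hne : d + l ≠ d + n := fun h => hl (add_left_cancel h)
      rw [DirectSum.decompose_of_mem_ne ℳ h1 hne, DirectSum.decompose_of_mem_ne ℳ y.2 hl,
        smul_zero]
  | add y y' hy hy' =>
    rw [smul_add, DirectSum.decompose_add, DirectSum.add_apply, AddMemClass.coe_add, hy, hy',
      DirectSum.decompose_add, DirectSum.add_apply, AddMemClass.coe_add, smul_add]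

variable (e f)

/-- the pieces of `M_f` -/
def gr (hf : f ∈ 𝒜 e) (n : ℤ) : AddSubgroup S where
  carrier := {x | ∃ (j : ℕ) (a : M), a ∈ ℳ (n + j * e) ∧ x = mk f a j}
  zero_mem' := ⟨0, 0, zero_mem _, (mk_zero_left f 0).symm⟩
  add_mem' := by
    rintro _ _ ⟨j, a, ha, rfl⟩ ⟨l, b, hb, rfl⟩
    refine ⟨j + l, f ^ l • a + f ^ j • b, add_mem ?_ ?_, ?_⟩
    · have := pow_smul_mem (𝒜 := 𝒜) hf ha l
      have h3 : n + j * e + l * e = n + ((j + l : ℕ) : ℤ) * e := by push_cast; ring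
      rwa [h3] at this
    · have := pow_smul_mem (𝒜 := 𝒜) hf hb j
      have h3 : n + l * e + j * e = n + ((j + l : ℕ) : ℤ) * e := by push_cast; ring
      rwa [h3] at this
    · rw [← mk_add, ← mk_raise, add_comm j l, ← mk_raise]
  neg_mem' := by
    rintro _ ⟨j, a, ha, rfl⟩
    exact ⟨j, -a, neg_mem ha, (mk_neg f a j).symm⟩

/-- the `n`-th component of `a / f^j` -/
noncomputable def cmp (n : ℤ) (a : M) (j : ℕ) : S :=
  mk f ((decompose ℳ a (n + j * e) : ℳ (n + j * e)) : M) j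

theorem cmp_add (n : ℤ) (a b : M) (j : ℕ) :
    cmp ℳ e f n (a + b) j = cmp ℳ e f n a j + cmp ℳ e f n b j := by
  unfold cmp
  rw [decompose_add, DirectSum.add_apply, AddMemClass.coe_add, ← mk_add]

theorem cmp_congr (hreg : IsSMulRegular M f) (hf : f ∈ 𝒜 e) {a b : M} {j l : ℕ}
    (h : mk f a j = mk f b l) (n : ℤ) : cmp ℳ e f n a j = cmp ℳ e f n b l := by
  have h1 := eq_of_mk_eq f hreg h
  apply mk_eq_of_eq
  have e1 : ((decompose ℳ (f ^ l • a) ((l : ℤ) * e + (n + j * e)) :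
      ℳ ((l : ℤ) * e + (n + j * e))) : M) =
      f ^ l • ((decompose ℳ a (n + j * e) : ℳ (n + j * e)) : M) :=
    coe_decompose_smul_left 𝒜 ℳ (pow_mem hf l) a _
  have e2 : ((decompose ℳ (f ^ j • b) ((j : ℤ) * e + (n + l * e)) :
      ℳ ((j : ℤ) * e + (n + l * e))) : M) =
      f ^ j • ((decompose ℳ b (n + l * e) : ℳ (n + l * e)) : M) :=
    coe_decompose_smul_left 𝒜 ℳ (pow_mem hf j) b _
  rw [← e1, ← e2, h1]
  have hidx : (l : ℤ) * e + (n + j * e) = (j : ℤ) * e + (n + l * e) := by ring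
  exact coe_decompose_congr ℳ _ hidx

/-- a chosen numerator -/
noncomputable def num (x : S) : M := Classical.choose (exists_mk f x)
/-- a chosen exponent -/
noncomputable def ex (x : S) : ℕ := Classical.choose (Classical.choose_spec (exists_mk f x))

theorem mk_num_ex (x : S) : mk f (num f x) (ex f x) = x :=
  (Classical.choose_spec (Classical.choose_spec (exists_mk f x))).symm

/-- the component maps, as functions -/
noncomputable def piFun (n : ℤ) (x : S) : S := cmp ℳ e f n (num f x) (ex f x)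

theorem piFun_mk (hreg : IsSMulRegular M f) (hf : f ∈ 𝒜 e) (n : ℤ) (a : M) (j : ℕ) :
    piFun ℳ e f n (mk f a j) = cmp ℳ e f n a j :=
  cmp_congr 𝒜 ℳ e f hreg hf (mk_num_ex f _) n

/-- the component maps -/
noncomputable def π (hreg : IsSMulRegular M f) (hf : f ∈ 𝒜 e) (n : ℤ) : S →+ S where
  toFun := piFun ℳ e f n
  map_zero' := by
    rw [← mk_zero_left f 0, piFun_mk 𝒜 ℳ e f hreg hf]
    unfold cmp
    rw [decompose_zero, DirectSum.zero_apply, ZeroMemClass.coe_zero]
  map_add' x y := by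
    obtain ⟨a, j, rfl⟩ := exists_mk f x
    obtain ⟨b, l, rfl⟩ := exists_mk f y
    rw [mk_raise f a j l, mk_raise f b l j, add_comm l j, mk_add,
      piFun_mk 𝒜 ℳ e f hreg hf, piFun_mk 𝒜 ℳ e f hreg hf, piFun_mk 𝒜 ℳ e f hreg hf, cmp_add]

theorem π_mk (hreg : IsSMulRegular M f) (hf : f ∈ 𝒜 e) (n : ℤ) (a : M) (j : ℕ) :
    π 𝒜 ℳ e f hreg hf n (mk f a j) = cmp ℳ e f n a j := piFun_mk 𝒜 ℳ e f hreg hf n a j

end Loc

section Facts

variable {R : Type u} [CommRing R] (𝒜 : ℤ → AddSubgroup R) [GradedRing 𝒜]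
  {M : Type u} [AddCommGroup M] [Module R M] (ℳ : ℤ → AddSubgroup M)
  [DirectSum.Decomposition ℳ] [SetLike.GradedSMul 𝒜 ℳ]
  (e : ℤ) (f : R) (hreg : IsSMulRegular M f) (hf : f ∈ 𝒜 e)

local notation "S" => LocalizedModule (Submonoid.powers f) M

theorem mk_sum {α : Type*} (s : Finset α) (g : α → M) (j : ℕ) :
    mk f (∑ i ∈ s, g i) j = ∑ i ∈ s, mk f (g i) j := by
  classical
  induction s using Finset.induction_on with
  | empty => simp [mk_zero_left]
  | insert a s ha ih => rw [Finset.sum_insert ha, Finset.sum_insert ha, ← mk_add, ih]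

theorem π_mem (n : ℤ) (x : S) : π 𝒜 ℳ e f hreg hf n x ∈ gr 𝒜 ℳ e f hf n := by
  obtain ⟨a, j, rfl⟩ := exists_mk f x
  rw [π_mk]
  exact ⟨j, _, (decompose ℳ a _).2, rfl⟩

open Classical in
/-- a finite support for the components -/
noncomputable def supp (x : S) : Finset ℤ :=
  ((decompose ℳ (num f x)).support).image (fun m => m - (ex f x : ℤ) * e)

theorem π_eq_zero_of_not_mem (x : S) (n : ℤ) (hn : n ∉ supp ℳ e f x) :
    π 𝒜 ℳ e f hreg hf n x = 0 := by
  classical
  show cmp ℳ e f n (num f x) (ex f x) = 0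
  have h0 : decompose ℳ (num f x) (n + (ex f x : ℤ) * e) = 0 := by
    by_contra hne
    apply hn
    unfold supp
    rw [Finset.mem_image]
    exact ⟨n + (ex f x : ℤ) * e, DFinsupp.mem_support_iff.2 hne, by ring⟩
  unfold cmp
  rw [h0, ZeroMemClass.coe_zero, mk_zero_left]

theorem sum_π (x : S) : ∑ n ∈ supp ℳ e f x, π 𝒜 ℳ e f hreg hf n x = x := by
  classical
  have hinj : Function.Injective (fun m : ℤ => m - (ex f x : ℤ) * e) := fun a b h => by
    simpa using h
  unfold supp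
  rw [Finset.sum_image (fun a _ b _ h => hinj h)]
  have h1 : ∀ m : ℤ, π 𝒜 ℳ e f hreg hf (m - (ex f x : ℤ) * e) x =
      mk f ((decompose ℳ (num f x) m : ℳ m) : M) (ex f x) := by
    intro m
    show cmp ℳ e f (m - (ex f x : ℤ) * e) (num f x) (ex f x) = _
    unfold cmp
    have hidx : m - (ex f x : ℤ) * e + (ex f x : ℤ) * e = m := by ring
    exact congrArg (fun z => mk f z (ex f x)) (coe_decompose_congr ℳ _ hidx)
  rw [Finset.sum_congr rfl (fun m _ => h1 m), ← mk_sum, sum_support_decompose, mk_num_ex]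

theorem π_self (n : ℤ) (x : S) (hx : x ∈ gr 𝒜 ℳ e f hf n) : π 𝒜 ℳ e f hreg hf n x = x := by
  obtain ⟨j, a, ha, rfl⟩ := hx
  rw [π_mk]
  unfold cmp
  rw [decompose_of_mem_same ℳ ha]

theorem π_other (n m : ℤ) (x : S) (hnm : n ≠ m) (hx : x ∈ gr 𝒜 ℳ e f hf m) :
    π 𝒜 ℳ e f hreg hf n x = 0 := by
  obtain ⟨j, a, ha, rfl⟩ := hx
  rw [π_mk]
  unfold cmp
  have hne : m + (j : ℤ) * e ≠ n + (j : ℤ) * e := fun h => hnm (by linarith)
  rw [decompose_of_mem_ne ℳ ha hne, mk_zero_left]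

/-- the decomposition of `M_f` -/
noncomputable def dec : DirectSum.Decomposition (gr 𝒜 ℳ e f hf) :=
  Groth.Agent.H98.GrCat.decompOfProj (gr 𝒜 ℳ e f hf) (π 𝒜 ℳ e f hreg hf) (supp ℳ e f)
    (π_mem 𝒜 ℳ e f hreg hf) (π_eq_zero_of_not_mem 𝒜 ℳ e f hreg hf) (sum_π 𝒜 ℳ e f hreg hf)
    (π_self 𝒜 ℳ e f hreg hf) (fun i j x hij hx => π_other 𝒜 ℳ e f hreg hf i j x hij hx)

theorem gsmul : SetLike.GradedSMul 𝒜 (gr 𝒜 ℳ e f hf) := by
  constructor
  rintro i n r _ hr ⟨j, a, ha, rfl⟩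
  refine ⟨j, r • a, ?_, smul_mk f r a j⟩
  have h1 := SetLike.GradedSMul.smul_mem (A := 𝒜) (B := ℳ) hr ha
  have h2 : i +ᵥ (n + (j : ℤ) * e) = (i +ᵥ n) + (j : ℤ) * e := by
    rw [vadd_eq_add, vadd_eq_add, add_assoc]
  rwa [h2] at h1

end Facts

/-- (M5) -/
theorem exists_graded_away_module {R : Type u} [CommRing R] (𝒜 : ℤ → AddSubgroup R) [GradedRing 𝒜]
    (M : GrLC.GMod.{u} 𝒜) (e : ℤ) (f : R) (hf : f ∈ 𝒜 e) (hreg : IsSMulRegular M.carrier f) :
    ∃ (X : GrLC.GMod.{u} 𝒜) (ι : M.carrier →ₗ[R] X.carrier), GrLC.IsGrHom M.gr X.gr ι ∧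
      Function.Injective ι ∧ Function.Bijective (fun x : X.carrier => f • x) ∧
      ∀ x : X.carrier, ∃ j : ℕ, f ^ j • x ∈ LinearMap.range ι := by
  letI := dec 𝒜 M.gr e f hreg hf
  letI := gsmul 𝒜 M.gr e f hf
  refine ⟨{ carrier := LocalizedModule (Submonoid.powers f) M.carrier, gr := gr 𝒜 M.gr e f hf },
    LocalizedModule.mkLinearMap (Submonoid.powers f) M.carrier, ?_, ?_, ?_, ?_⟩
  · intro g m hm
    refine ⟨0, m, ?_, ?_⟩
    · simpa using hm
    · rw [mk_zero_right]
  · exact mkLinearMap_injective f hreg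
  · have hu := IsLocalizedModule.map_units
      (LocalizedModule.mkLinearMap (Submonoid.powers f) M.carrier) (pw f 1)
    have h1 := (Module.End.isUnit_iff _).1 hu
    have h2 : (fun x : LocalizedModule (Submonoid.powers f) M.carrier => f • x) =
        ⇑((algebraMap R (Module.End R (LocalizedModule (Submonoid.powers f) M.carrier)))
          ((pw f 1 : Submonoid.powers f) : R)) := by
      funext x
      show f • x = (f ^ 1) • x
      rw [pow_one]
    show Function.Bijective (fun x : LocalizedModule (Submonoid.powers f) M.carrier => f • x)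
    rw [h2]
    exact h1
  · intro x
    obtain ⟨a, j, rfl⟩ := exists_mk f (x : LocalizedModule (Submonoid.powers f) M.carrier)
    exact ⟨j, a, (pow_smul_mk f a j).symm⟩

end Groth.Agent.H98.Seg.ModLOC
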