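import Mathlib
import Groth.Prelude.Def_GrSeg
import Groth.Prelude.Def_CAlg
import Groth.Agent.H15.CMCat
import Groth.Agent.H15.Depth
import Groth.Agent.H29.CM2
import Groth.Agent.H29.FlatDepthMod
import Groth.Agent.H71.CMField

/-!
# Helper library (helper98): the Segre product `k[X] # k[Y_1..Y_s]` and its shifted modules.
-/

set_option autoImplicit false
universe u
open scoped TensorProduct

namespace Groth.Agent.H98.SegPoly1

attribute [local instance] MvPolynomial.weightedGradedAlgebra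

section Basic

variable (k : Type u) [Field k]

/-- weights: all variables of weight `1 : ℤ`. -/
abbrev gr (s : ℕ) : ℤ → Submodule k (MvPolynomial (Fin s) k) :=
  MvPolynomial.weightedHomogeneousSubmodule k (fun _ : Fin s => (1 : ℤ))

theorem weight_nonneg (s : ℕ) (d : Fin s →₀ ℕ) :
    0 ≤ Finsupp.weight (fun _ : Fin s => (1 : ℤ)) d := by
  rw [Finsupp.weight_apply, Finsupp.sum]
  apply Finset.sum_nonneg
  intro i _
  simp

theorem eq_zero_of_mem_neg (s : ℕ) (m : ℤ) (hm : m < 0) (y : MvPolynomial (Fin s) k)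
    (hy : y ∈ gr k s m) : y = 0 := by
  rw [MvPolynomial.mem_weightedHomogeneousSubmodule] at hy
  by_contra hne
  obtain ⟨d, hd⟩ := MvPolynomial.ne_zero_iff.mp hne
  have := hy hd
  have h2 := weight_nonneg s d
  omega

theorem weight_fin_one (d : Fin 1 →₀ ℕ) :
    Finsupp.weight (fun _ : Fin 1 => (1 : ℤ)) d = (d 0 : ℤ) := by
  rw [Finsupp.weight_apply, Finsupp.sum_fintype _ _ (by intro i; simp)]
  simp

theorem eq_smul_pow_of_mem (m : ℤ) (a : MvPolynomial (Fin 1) k) (ha : a ∈ gr k 1 m) :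
    ∃ c : k, a = c • (MvPolynomial.X 0 : MvPolynomial (Fin 1) k) ^ m.toNat := by
  rw [MvPolynomial.mem_weightedHomogeneousSubmodule] at ha
  refine ⟨MvPolynomial.coeff (Finsupp.single 0 m.toNat) a, ?_⟩
  ext d
  rw [MvPolynomial.coeff_smul, MvPolynomial.coeff_X_pow]
  by_cases hd : Finsupp.single 0 m.toNat = d
  · rw [if_pos hd, smul_eq_mul, mul_one, hd]
  · rw [if_neg hd, smul_zero]
    by_contra hne
    have h1 := ha hne
    rw [weight_fin_one] at h1
    apply hd
    rw [Finsupp.unique_single d]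
    have : (default : Fin 1) = 0 := rfl
    rw [this]
    congr 1
    omega

theorem X_pow_mem (s : ℕ) (i : Fin s) (n : ℕ) (m : ℤ) (hm : m = n) :
    (MvPolynomial.X i : MvPolynomial (Fin s) k) ^ n ∈ gr k s m := by
  rw [MvPolynomial.mem_weightedHomogeneousSubmodule]
  have := (MvPolynomial.isWeightedHomogeneous_X k (fun _ : Fin s => (1 : ℤ)) i).pow n
  rw [hm]
  simpa using this

theorem mul_mem_gr (s : ℕ) {m m' m'' : ℤ} {y y' : MvPolynomial (Fin s) k} (hy : y ∈ gr k s m)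
    (hy' : y' ∈ gr k s m') (h : m'' = m + m') : y * y' ∈ gr k s m'' := by
  rw [h]
  exact SetLike.GradedMul.mul_mem hy hy'

end Basic

section Tensor

variable (k : Type u) [Field k] (s : ℕ)

/-- the variable of `k[X]`. -/
noncomputable abbrev xx : MvPolynomial (Fin 1) k := MvPolynomial.X 0

/-- evaluate `X ↦ c` on the first factor. -/
noncomputable def ev (c : k) :
    MvPolynomial (Fin 1) k ⊗[k] MvPolynomial (Fin s) k →ₐ[k] MvPolynomial (Fin s) k :=
  Algebra.TensorProduct.lift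
    (MvPolynomial.aeval (fun _ : Fin 1 => algebraMap k (MvPolynomial (Fin s) k) c))
    (AlgHom.id k (MvPolynomial (Fin s) k)) (fun _ _ => Commute.all _ _)

theorem ev_pow_tmul (c : k) (n : ℕ) (y : MvPolynomial (Fin s) k) :
    ev k s c (((xx k) ^ n) ⊗ₜ[k] y) = c ^ n • y := by
  rw [ev, Algebra.TensorProduct.lift_tmul, map_pow, MvPolynomial.aeval_X, AlgHom.id_apply,
    ← map_pow, Algebra.smul_def]

theorem act_eq_mul (u v : MvPolynomial (Fin 1) k ⊗[k] MvPolynomial (Fin s) k) :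
    GrSeg.act k (MvPolynomial (Fin 1) k) (MvPolynomial (Fin s) k) (MvPolynomial (Fin 1) k)
      (MvPolynomial (Fin s) k) u v = u * v := by
  induction u using TensorProduct.induction_on with
  | zero => rw [map_zero, LinearMap.zero_apply, zero_mul]
  | add u u' h h' => rw [map_add, LinearMap.add_apply, h, h', add_mul]
  | tmul r y =>
    induction v using TensorProduct.induction_on with
    | zero => rw [map_zero, mul_zero]
    | add v v' h h' => rw [map_add, h, h', mul_add]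
    | tmul r' y' =>
      rw [GrSeg.act_tmul, Algebra.TensorProduct.tmul_mul_tmul, smul_eq_mul, smul_eq_mul]

/-- structure of the pieces: elements of `span {a ⊗ y | a ∈ R_m, y ∈ S_m'}`. -/
theorem span_piece (m m' : ℤ) (z : MvPolynomial (Fin 1) k ⊗[k] MvPolynomial (Fin s) k)
    (hz : z ∈ Submodule.span k {z : MvPolynomial (Fin 1) k ⊗[k] MvPolynomial (Fin s) k |
      ∃ a ∈ gr k 1 m, ∃ y ∈ gr k s m', z = a ⊗ₜ[k] y}) :
    (m < 0 → z = 0) ∧ ∃ y ∈ gr k s m', z = ((xx k) ^ m.toNat) ⊗ₜ[k] y := by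
  induction hz using Submodule.span_induction with
  | mem z hz =>
    obtain ⟨a, ha, y, hy, rfl⟩ := hz
    constructor
    · intro hm
      rw [eq_zero_of_mem_neg k 1 m hm a ha, TensorProduct.zero_tmul]
    · obtain ⟨c, rfl⟩ := eq_smul_pow_of_mem k m a ha
      exact ⟨c • y, Submodule.smul_mem _ _ hy, by rw [TensorProduct.smul_tmul]⟩
  | zero => exact ⟨fun _ => rfl, 0, zero_mem _, by rw [TensorProduct.tmul_zero]⟩
  | add z z' _ _ h h' =>
    obtain ⟨h1, y, hy, rfl⟩ := h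
    obtain ⟨h1', y', hy', rfl⟩ := h'
    refine ⟨fun hm => by rw [h1 hm, h1' hm, add_zero], y + y', add_mem hy hy', ?_⟩
    rw [TensorProduct.tmul_add]
  | smul c z _ h =>
    obtain ⟨h1, y, hy, rfl⟩ := h
    refine ⟨fun hm => by rw [h1 hm, smul_zero], c • y, Submodule.smul_mem _ _ hy, ?_⟩
    rw [TensorProduct.tmul_smul]

theorem pow_tmul_mem (m m' : ℤ) (hm : 0 ≤ m) (y : MvPolynomial (Fin s) k) (hy : y ∈ gr k s m') :
    ((xx k) ^ m.toNat) ⊗ₜ[k] y ∈ Submodule.span k
      {z : MvPolynomial (Fin 1) k ⊗[k] MvPolynomial (Fin s) k |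
        ∃ a ∈ gr k 1 m, ∃ y ∈ gr k s m', z = a ⊗ₜ[k] y} :=
  Submodule.subset_span ⟨_, X_pow_mem k 1 0 m.toNat m (Int.toNat_of_nonneg hm).symm, y, hy, rfl⟩

end Tensor

section Generic

theorem injective_of_graded {P S : Type*} [AddCommGroup P] [AddCommGroup S] {σP σS : Type*}
    [SetLike σP P] [AddSubgroupClass σP P] [SetLike σS S] [AddSubgroupClass σS S]
    (𝒬 : ℤ → σP) [DirectSum.Decomposition 𝒬] (ℬ : ℤ → σS) [DirectSum.Decomposition ℬ]
    (G : P →+ S) (b : ℤ) (h1 : ∀ n p, p ∈ 𝒬 n → G p ∈ ℬ (n + b))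
    (h2 : ∀ n p, p ∈ 𝒬 n → G p = 0 → p = 0) : Function.Injective G := by
  classical
  have key : ∀ p n, ((DirectSum.decompose ℬ (G p) (n + b) : ℬ (n + b)) : S) =
      G ((DirectSum.decompose 𝒬 p n : 𝒬 n) : P) := by
    intro p
    induction p using DirectSum.Decomposition.inductionOn 𝒬 with
    | zero =>
      intro n
      rw [map_zero, DirectSum.decompose_zero, DirectSum.decompose_zero, DirectSum.zero_apply,
        DirectSum.zero_apply, ZeroMemClass.coe_zero, ZeroMemClass.coe_zero, map_zero]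
    | homogeneous m =>
      rename_i i
      intro n
      by_cases h : i = n
      · subst h
        rw [DirectSum.decompose_of_mem_same ℬ (h1 i m m.2),
          DirectSum.decompose_of_mem_same 𝒬 m.2]
      · rw [DirectSum.decompose_of_mem_ne ℬ (h1 i m m.2) (by omega : i + b ≠ n + b),
          DirectSum.decompose_of_mem_ne 𝒬 m.2 h, map_zero]
    | add p p' hp hp' =>
      intro n
      rw [map_add, DirectSum.decompose_add, DirectSum.decompose_add, DirectSum.add_apply,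
        DirectSum.add_apply, AddMemClass.coe_add, AddMemClass.coe_add, hp, hp', map_add]
  rw [injective_iff_map_eq_zero]
  intro p hp
  have h3 : ∀ n, ((DirectSum.decompose 𝒬 p n : 𝒬 n) : P) = 0 := by
    intro n
    refine h2 n _ (SetLike.coe_mem _) ?_
    rw [← key, hp, DirectSum.decompose_zero, DirectSum.zero_apply, ZeroMemClass.coe_zero]
  apply (DirectSum.decompose 𝒬).injective
  rw [DirectSum.decompose_zero]
  ext n
  rw [DirectSum.zero_apply, ZeroMemClass.coe_zero]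
  exact h3 n

end Generic

section Main

variable {k : Type u} [Field k] {s : ℕ} {T : Type u} [CommRing T] [Algebra k T]
  (𝒯 : ℤ → Submodule k T) [GradedAlgebra 𝒯]
  (ψ : T →ₐ[k] MvPolynomial (Fin 1) k ⊗[k] MvPolynomial (Fin s) k)
  (hT : GrSeg.IsSegreRing (gr k 1) (gr k s) 𝒯 ψ)

/-- the ring map `T → S`, `X ↦ 1`. -/
noncomputable def sig : T →ₐ[k] MvPolynomial (Fin s) k := (ev k s 1).comp ψ

include hT in
theorem hom_T (n : ℤ) (u : T) (hu : u ∈ 𝒯 n) :
    (n < 0 → u = 0) ∧ sig ψ u ∈ gr k s n ∧ ψ u = ((xx k) ^ n.toNat) ⊗ₜ[k] sig ψ u := by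
  have h0 : ψ u ∈ GrSeg.segrePiece k (gr k 1) (gr k s) n := by
    rw [← hT.2 n]
    exact Submodule.mem_map_of_mem hu
  obtain ⟨h1, y, hy, hψ⟩ := span_piece k s n n (ψ u) h0
  have h2 : sig ψ u = y := by
    rw [sig, AlgHom.comp_apply, hψ, ev_pow_tmul, one_pow, one_smul]
  refine ⟨fun hn => ?_, by rw [h2]; exact hy, by rw [h2]; exact hψ⟩
  apply hT.1
  rw [h1 hn, map_zero]

include hT in
theorem exists_T (n : ℤ) (hn : 0 ≤ n) (y : MvPolynomial (Fin s) k) (hy : y ∈ gr k s n) :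
    ∃ u ∈ 𝒯 n, ψ u = ((xx k) ^ n.toNat) ⊗ₜ[k] y ∧ sig ψ u = y := by
  have h0 : ((xx k) ^ n.toNat) ⊗ₜ[k] y ∈ GrSeg.segrePiece k (gr k 1) (gr k s) n :=
    pow_tmul_mem k s n n hn y hy
  rw [← hT.2 n] at h0
  obtain ⟨u, hu, hψ⟩ := h0
  refine ⟨u, hu, hψ, ?_⟩
  rw [sig, AlgHom.comp_apply]
  rw [show ψ u = ((xx k) ^ n.toNat) ⊗ₜ[k] y from hψ, ev_pow_tmul, one_pow, one_smul]

include hT in
theorem sig_injective : Function.Injective (sig ψ) := by
  refine injective_of_graded 𝒯 (gr k s) (sig ψ : T →+ MvPolynomial (Fin s) k) 0 ?_ ?_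
  · intro n u hu
    rw [add_zero]
    exact (hom_T 𝒯 ψ hT n u hu).2.1
  · intro n u hu h0
    apply hT.1
    have h0' : sig ψ u = 0 := h0
    rw [(hom_T 𝒯 ψ hT n u hu).2.2, h0', TensorProduct.tmul_zero, map_zero]

include hT in
theorem sig_surjective : Function.Surjective (sig ψ) := by
  classical
  intro y
  induction y using DirectSum.Decomposition.inductionOn (gr k s) with
  | zero => exact ⟨0, map_zero _⟩
  | homogeneous y =>
    rename_i n
    by_cases hn : 0 ≤ n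
    · obtain ⟨u, -, -, hu⟩ := exists_T 𝒯 ψ hT n hn y y.2
      exact ⟨u, hu⟩
    · refine ⟨0, ?_⟩
      rw [map_zero, eq_zero_of_mem_neg k s n (by omega) y y.2]
  | add y y' h h' =>
    obtain ⟨u, rfl⟩ := h
    obtain ⟨u', rfl⟩ := h'
    exact ⟨u + u', map_add _ _ _⟩

/-- `T ≃ k[Y_1..Y_s]`. -/
noncomputable def sigEquiv : T ≃ₐ[k] MvPolynomial (Fin s) k :=
  AlgEquiv.ofBijective (sig ψ) ⟨sig_injective 𝒯 ψ hT, sig_surjective 𝒯 ψ hT⟩

include hT in
theorem isCM_T : LocCoh.IsCohenMacaulayRing T := by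
  haveI := Groth.Agent.H71.CMField.isCMRing_of_field k
  exact Groth.Agent.S4744.isCMRing_of_ringEquiv (sigEquiv 𝒯 ψ hT).symm.toRingEquiv
    (Groth.Agent.H15.CMCat.isCMRing_mvPolynomial k s)

end Main

section Mod

variable {k : Type u} [Field k] {s : ℕ} {T : Type u} [CommRing T] [Algebra k T]
  (𝒯 : ℤ → Submodule k T) [GradedAlgebra 𝒯]
  (ψ : T →ₐ[k] MvPolynomial (Fin 1) k ⊗[k] MvPolynomial (Fin s) k)
  (hT : GrSeg.IsSegreRing (gr k 1) (gr k s) 𝒯 ψ)
  (a b : ℤ) {P : Type u} [AddCommGroup P] [Module T P] [Module k P] [IsScalarTower k T P]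
  (𝒬 : ℤ → AddSubgroup P) [DirectSum.Decomposition 𝒬]
  (φ : P →ₗ[k] MvPolynomial (Fin 1) k ⊗[k] MvPolynomial (Fin s) k)
  (hP : GrSeg.IsSegreMod ψ (fun n : ℤ => gr k 1 (n + a)) (fun n : ℤ => gr k s (n + b)) 𝒬 φ)

/-- `P → S`, `X ↦ c`. -/
noncomputable def lam (c : k) : P →ₗ[k] MvPolynomial (Fin s) k := (ev k s c).toLinearMap ∘ₗ φ

include hP in
theorem lam_smul (c : k) (t : T) (p : P) :
    lam φ c (t • p) = ev k s c (ψ t) * lam φ c p := by
  rw [lam, LinearMap.comp_apply, hP.map_smul, act_eq_mul]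
  exact map_mul (ev k s c) _ _

include hP in
theorem hom_P (n : ℤ) (p : P) (hp : p ∈ 𝒬 n) :
    (n + a < 0 → p = 0) ∧ lam φ 1 p ∈ gr k s (n + b) ∧
      φ p = ((xx k) ^ (n + a).toNat) ⊗ₜ[k] lam φ 1 p := by
  have h0 : φ p ∈ (GrSeg.segrePiece k (fun n : ℤ => gr k 1 (n + a))
      (fun n : ℤ => gr k s (n + b)) n : Set _) := by
    rw [← hP.image_piece n]
    exact ⟨p, hp, rfl⟩
  obtain ⟨h1, y, hy, hφ⟩ := span_piece k s (n + a) (n + b) (φ p) h0
  have h2 : lam φ 1 p = y := by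
    rw [lam, LinearMap.comp_apply, hφ]
    exact (ev_pow_tmul k s 1 _ y).trans (by rw [one_pow, one_smul])
  refine ⟨fun hn => ?_, by rw [h2]; exact hy, by rw [h2]; exact hφ⟩
  apply hP.injective
  rw [h1 hn, map_zero]

include hP in
theorem exists_P (n : ℤ) (hn : 0 ≤ n + a) (y : MvPolynomial (Fin s) k) (hy : y ∈ gr k s (n + b)) :
    ∃ p ∈ 𝒬 n, φ p = ((xx k) ^ (n + a).toNat) ⊗ₜ[k] y := by
  have h0 : ((xx k) ^ (n + a).toNat) ⊗ₜ[k] y ∈ (GrSeg.segrePiece k (fun n : ℤ => gr k 1 (n + a))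
      (fun n : ℤ => gr k s (n + b)) n : Set _) :=
    pow_tmul_mem k s (n + a) (n + b) hn y hy
  rw [← hP.image_piece n] at h0
  obtain ⟨p, hp, hφ⟩ := h0
  exact ⟨p, hp, hφ⟩

include hP in
theorem lam_injective : Function.Injective (lam φ 1) := by
  refine injective_of_graded 𝒬 (gr k s) ((lam φ 1 : P →ₗ[k] MvPolynomial (Fin s) k) : P →+ _) b ?_ ?_
  · intro n p hp
    exact (hom_P ψ a b 𝒬 φ hP n p hp).2.1
  · intro n p hp h0
    apply hP.injective
    have h0' : lam φ 1 p = 0 := h0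
    rw [(hom_P ψ a b 𝒬 φ hP n p hp).2.2, h0', TensorProduct.tmul_zero, map_zero]

include hT hP in
theorem lam_one_smul (t : T) (p : P) : lam φ 1 (t • p) = sig ψ t * lam φ 1 p :=
  lam_smul ψ a b 𝒬 φ hP 1 t p

include hT hP in
theorem exists_linearEquiv (hab : b ≤ a) : Nonempty (T ≃ₗ[T] P) := by
  classical
  obtain ⟨p₀, hp₀, hφ₀⟩ := exists_P ψ a b 𝒬 φ hP (-b) (by omega) 1 (by
    have h : (-b + b) = 0 := by omega
    rw [h]
    exact SetLike.GradedOne.one_mem)
  have hlam₀ : lam φ 1 p₀ = 1 := by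
    rw [lam, LinearMap.comp_apply, hφ₀]
    exact (ev_pow_tmul k s 1 _ 1).trans (by rw [one_pow, one_smul])
  refine ⟨LinearEquiv.ofBijective (LinearMap.toSpanSingleton T P p₀) ⟨?_, ?_⟩⟩
  · rw [← LinearMap.ker_eq_bot, LinearMap.ker_eq_bot']
    intro t ht
    rw [LinearMap.toSpanSingleton_apply] at ht
    have h1 := lam_one_smul 𝒯 ψ hT a b 𝒬 φ hP t p₀
    rw [ht, map_zero, hlam₀, mul_one] at h1
    exact sig_injective 𝒯 ψ hT (by rw [← h1, map_zero])
  · intro p
    induction p using DirectSum.Decomposition.inductionOn 𝒬 with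
    | zero => exact ⟨0, map_zero _⟩
    | homogeneous p =>
      rename_i n
      obtain ⟨h1, h2, h3⟩ := hom_P ψ a b 𝒬 φ hP n p p.2
      by_cases hn : 0 ≤ n + b
      · obtain ⟨u, hu, hψu, -⟩ := exists_T 𝒯 ψ hT (n + b) hn _ h2
        refine ⟨u, ?_⟩
        apply hP.injective
        rw [LinearMap.toSpanSingleton_apply, hP.map_smul, act_eq_mul, hψu, hφ₀, h3,
          Algebra.TensorProduct.tmul_mul_tmul, mul_one, ← pow_add]
        congr 2
        omega
      · refine ⟨0, ?_⟩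
        rw [map_zero]
        have h4 : lam φ 1 (p : P) = 0 := eq_zero_of_mem_neg k s (n + b) (by omega) _ h2
        apply hP.injective
        rw [h3, h4, TensorProduct.tmul_zero, map_zero]
    | add p p' h h' =>
      obtain ⟨t, rfl⟩ := h
      obtain ⟨t', rfl⟩ := h'
      exact ⟨t + t', map_add _ _ _⟩

include hT hP in
theorem cm_of_le (hab : b ≤ a) (q : Ideal T) [q.IsPrime] :
    LocCoh.IsCohenMacaulayModule (Localization.AtPrime q) (LocalizedModule q.primeCompl P) := by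
  obtain ⟨e⟩ := exists_linearEquiv 𝒯 ψ hT a b 𝒬 φ hP hab
  have hCM := isCM_T 𝒯 ψ hT
  have hq := hCM.isCohenMacaulayLocalRing_localization q
  have h1 : LocCoh.IsCohenMacaulayModule (Localization.AtPrime q) (Localization.AtPrime q) :=
    hq.supportDim_eq_depth
  let e' : Localization.AtPrime q ≃ₗ[Localization.AtPrime q] LocalizedModule q.primeCompl P :=
    IsLocalizedModule.mapEquiv q.primeCompl (Algebra.linearMap T (Localization.AtPrime q))
      (LocalizedModule.mkLinearMap q.primeCompl P) (Localization.AtPrime q) e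
  haveI := hq
  haveI : IsNoetherianRing (Localization.AtPrime q) := inferInstance
  exact Groth.Agent.H29.CM.isCM_of_equiv e' h1

theorem sigEquiv_apply (t : T) : sigEquiv 𝒯 ψ hT t = sig ψ t := rfl

include hT hP in
theorem depth_of_lt (h2s : 2 ≤ s) (hab : a < b) (I : Ideal T)
    (hI : I = Ideal.span (⋃ n ∈ Set.Ioi (0 : ℤ), (𝒯 n : Set T))) :
    LocCoh.idealDepth I P = (1 : ℕ∞) := by
  classical
  have hCM := isCM_T 𝒯 ψ hT
  haveI := hCM
  haveI : IsNoetherianRing T := inferInstance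
  set Y0 : MvPolynomial (Fin s) k := MvPolynomial.X ⟨0, by omega⟩ with hY0
  set Y1 : MvPolynomial (Fin s) k := MvPolynomial.X ⟨1, by omega⟩ with hY1
  have hY0ne : Y0 ≠ 0 := MvPolynomial.X_ne_zero _
  have hY1ne : Y1 ≠ 0 := MvPolynomial.X_ne_zero _
  obtain ⟨c, hc⟩ : ∃ c : ℕ, b - a = (c : ℤ) + 1 := ⟨(b - a - 1).toNat, by omega⟩
  have hY0mem : Y0 ∈ gr k s 1 := by
    have := X_pow_mem k s ⟨0, by omega⟩ 1 1 rfl
    rwa [pow_one] at this
  -- `X ↦ 0` kills `T_+`
  have hτ : ∀ t ∈ I, ev k s 0 (ψ t) = 0 := by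
    intro t ht
    rw [hI] at ht
    induction ht using Submodule.span_induction with
    | mem u hu =>
      simp only [Set.mem_iUnion, Set.mem_Ioi, SetLike.mem_coe] at hu
      obtain ⟨n, hn, hu⟩ := hu
      rw [(hom_T 𝒯 ψ hT n u hu).2.2, ev_pow_tmul, zero_pow (by omega), zero_smul]
    | zero => rw [map_zero, map_zero]
    | add t t' _ _ h h' => rw [map_add, map_add, h, h', add_zero]
    | smul r t _ h => rw [smul_eq_mul, map_mul, map_mul, h, mul_zero]
  have hlam0 : ∀ p ∈ I • (⊤ : Submodule T P), lam φ 0 p = 0 := by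
    intro p hp
    refine Submodule.smul_induction_on hp ?_ ?_
    · intro t ht p _
      rw [lam_smul ψ a b 𝒬 φ hP, hτ t ht, zero_mul]
    · intro p p' h h'
      rw [map_add, h, h', add_zero]
  have hzero : (-a + a).toNat = 0 := by omega
  have hlam0_eq : ∀ (u : P) (y : MvPolynomial (Fin s) k),
      φ u = ((xx k) ^ (-a + a).toNat) ⊗ₜ[k] y → lam φ 0 u = y := by
    intro u y hu
    rw [lam, LinearMap.comp_apply, hu]
    exact (ev_pow_tmul k s 0 _ y).trans (by rw [hzero, pow_zero, one_smul])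
  -- `T_+ P ≠ P`
  have hY0c : Y0 ^ (c + 1) ∈ gr k s (-a + b) := X_pow_mem k s _ (c + 1) _ (by push_cast; omega)
  obtain ⟨u₀, hu₀, hφu₀⟩ := exists_P ψ a b 𝒬 φ hP (-a) (by omega) (Y0 ^ (c + 1)) hY0c
  have hIM : I • (⊤ : Submodule T P) ≠ ⊤ := by
    intro htop
    have h1 : lam φ 0 u₀ = 0 := hlam0 u₀ (by rw [htop]; trivial)
    rw [hlam0_eq u₀ _ hφu₀] at h1
    exact pow_ne_zero _ hY0ne h1
  -- the regular element
  obtain ⟨t₁, ht₁, hψt₁, hσt₁⟩ := exists_T 𝒯 ψ hT 1 (by omega) Y0 hY0mem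
  have ht₁I : t₁ ∈ I := by
    rw [hI]
    exact Ideal.subset_span (Set.mem_biUnion (show (1 : ℤ) ∈ Set.Ioi 0 by simp) ht₁)
  have hreg : IsSMulRegular P t₁ := by
    intro p p' h
    apply lam_injective ψ a b 𝒬 φ hP
    have h1 : lam φ 1 (t₁ • p) = lam φ 1 (t₁ • p') := congrArg (lam φ 1) h
    rw [lam_one_smul 𝒯 ψ hT a b 𝒬 φ hP, lam_one_smul 𝒯 ψ hT a b 𝒬 φ hP, hσt₁] at h1
    exact mul_left_cancel₀ hY0ne h1
  -- finiteness
  haveI : Module.Finite T P := by
    let j : P →ₗ[T] T :=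
      { toFun := fun p => (sigEquiv 𝒯 ψ hT).symm (lam φ 1 p)
        map_add' := fun p p' => by rw [map_add, map_add]
        map_smul' := fun t p => by
          rw [lam_one_smul 𝒯 ψ hT a b 𝒬 φ hP, map_mul, ← sigEquiv_apply 𝒯 ψ hT,
            AlgEquiv.symm_apply_apply, RingHom.id_apply, smul_eq_mul] }
    have hj : Function.Injective j := by
      intro p p' h
      apply lam_injective ψ a b 𝒬 φ hP
      exact (sigEquiv 𝒯 ψ hT).symm.injective h
    exact Module.Finite.of_injective j hj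
  -- the socle element of `P / t₁ P`
  have hY : Y0 * Y1 ^ c ∈ gr k s (-a + b) :=
    mul_mem_gr k s hY0mem (X_pow_mem k s _ c (c : ℤ) rfl) (by omega)
  obtain ⟨u₁, hu₁, hφu₁⟩ := exists_P ψ a b 𝒬 φ hP (-a) (by omega) _ hY
  have hsoc : Groth.Agent.H15.Depth.HasSocle I (QuotSMulTop t₁ P) := by
    refine ⟨Submodule.Quotient.mk u₁, ?_, ?_⟩
    · intro h0
      rw [Submodule.Quotient.mk_eq_zero] at h0
      obtain ⟨p, -, hp⟩ := (Submodule.mem_smul_pointwise_iff_exists _ _ _).mp h0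
      have h1 : lam φ 0 (t₁ • p) = 0 := by
        rw [lam_smul ψ a b 𝒬 φ hP, hτ t₁ ht₁I, zero_mul]
      rw [hp, hlam0_eq u₁ _ hφu₁] at h1
      exact mul_ne_zero hY0ne (pow_ne_zero _ hY1ne) h1
    · intro t ht
      rw [← Submodule.Quotient.mk_smul, Submodule.Quotient.mk_eq_zero]
      rw [hI] at ht
      induction ht using Submodule.span_induction with
      | mem u hu =>
        simp only [Set.mem_iUnion, Set.mem_Ioi, SetLike.mem_coe] at hu
        obtain ⟨n, hn, hu⟩ := hu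
        obtain ⟨-, hσu, hψu⟩ := hom_T 𝒯 ψ hT n u hu
        obtain ⟨p, hp, hφp⟩ := exists_P ψ a b 𝒬 φ hP (n - 1 - a) (by omega) (sig ψ u * Y1 ^ c)
          (mul_mem_gr k s hσu (X_pow_mem k s _ c (c : ℤ) rfl) (by omega))
        refine (Submodule.mem_smul_pointwise_iff_exists _ _ _).mpr ⟨p, trivial, ?_⟩
        apply hP.injective
        rw [hP.map_smul, hP.map_smul, act_eq_mul, act_eq_mul, hψu, hφu₁, hψt₁, hφp,
          Algebra.TensorProduct.tmul_mul_tmul, Algebra.TensorProduct.tmul_mul_tmul, ← pow_add,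
          ← pow_add]
        have e1 : (1 : ℤ).toNat + (n - 1 - a + a).toNat = n.toNat + (-a + a).toNat := by omega
        rw [e1]
        congr 1
        ring
      | zero => rw [zero_smul]; exact zero_mem _
      | add t t' _ _ h h' => rw [add_smul]; exact add_mem h h'
      | smul r t _ h => rw [smul_eq_mul, mul_smul]; exact Submodule.smul_mem _ r h
  have h0 := Groth.Agent.H29.FlatDepthMod.idealDepth_eq_zero_of_hasSocle
    (Groth.Agent.H15.Depth.smul_top_quotSMulTop_ne_top ht₁I hIM) hsoc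
  have h1 := Groth.Agent.H15.Depth.idealDepth_quotSMulTop_add_one hIM ht₁I hreg
  rw [h0, zero_add] at h1
  exact h1.symm

end Mod

end Groth.Agent.H98.SegPoly1
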