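import Groth.Agent.H98.SegMod

/-!
# Helper library (helper98): the Segre product `E^• # N` of a *injective resolution `E^•` of `M`
with a graded `S`-module `N`, as a graded resolution of `M # N` over the Segre ring.
-/

set_option autoImplicit false
universe u
open scoped TensorProduct
open DirectSum

namespace Groth.Agent.H98.Seg

open Groth.Agent.H98.GrCat Groth.Agent.H98.GrConv

section KMod

variable {k : Type u} [Field k] {R : Type u} [CommRing R] [Algebra k R]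
  {𝒜 : ℤ → Submodule k R} [GradedAlgebra 𝒜]

/-- the `k`-structure of a bundled graded `R`-module -/
@[reducible] noncomputable def kModG (Y : GrLC.GMod.{u} 𝒜) : Module k Y.carrier :=
  Module.compHom Y.carrier (algebraMap k R)

theorem kTowerG (Y : GrLC.GMod.{u} 𝒜) :
    @IsScalarTower k R Y.carrier _ _ (kModG Y).toSMul :=
  letI := kModG (k := k) Y
  ⟨fun c r y => by
    show (c • r) • y = algebraMap k R c • (r • y)
    rw [Algebra.smul_def, mul_smul]⟩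

end KMod

section Res

variable {k : Type u} [Field k]
  {R : Type u} [CommRing R] [Algebra k R] (𝒜 : ℤ → Submodule k R) [GradedAlgebra 𝒜]
  {S : Type u} [CommRing S] [Algebra k S] (ℬ : ℤ → Submodule k S) [GradedAlgebra ℬ]
  {T : Type u} [CommRing T] [Algebra k T] (𝒯 : ℤ → Submodule k T) [GradedAlgebra 𝒯]
  (ψ : T →ₐ[k] R ⊗[k] S) (hT : GrSeg.IsSegreRing 𝒜 ℬ 𝒯 ψ)
  {M : Type u} [AddCommGroup M] [Module R M] [Module k M] [IsScalarTower k R M]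
  (ℳ : ℤ → AddSubgroup M) [Decomposition ℳ] [SetLike.GradedSMul 𝒜 ℳ]
  {N : Type u} [AddCommGroup N] [Module S N] [Module k N] [IsScalarTower k S N]
  (𝒩 : ℤ → AddSubgroup N) [Decomposition 𝒩] [SetLike.GradedSMul ℬ 𝒩]
  {P : Type u} [AddCommGroup P] [Module T P] [Module k P] [IsScalarTower k T P]
  (𝒬 : ℤ → AddSubgroup P) [Decomposition 𝒬] [SetLike.GradedSMul (toAS 𝒯) 𝒬]
  (φ : P →ₗ[k] M ⊗[k] N) (hP : GrSeg.IsSegreMod ψ ℳ 𝒩 𝒬 φ)
  (E : GrLC.StarInjRes 𝒜 ℳ)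

attribute [local instance] kModG kTowerG

include hP in
theorem phi_mem_pc {n : ℤ} {p : P} (hp : p ∈ 𝒬 n) : φ p ∈ pc k ℳ 𝒩 n := by
  have h1 : φ p ∈ φ '' (𝒬 n : Set P) := ⟨p, hp, rfl⟩
  rw [hP.image_piece n] at h1
  exact h1

include hP in
theorem phi_mem (p : P) : φ p ∈ segSub k ℳ 𝒩 := by
  classical
  induction p using DirectSum.Decomposition.inductionOn 𝒬 with
  | zero => rw [map_zero]; exact zero_mem _
  | @homogeneous n p => exact pc_le_segSub ℳ 𝒩 n (phi_mem_pc ψ ℳ 𝒩 𝒬 φ hP p.2)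
  | add p p' h h' => rw [map_add]; exact add_mem h h'

include hP in
theorem exists_phi_eq {w : M ⊗[k] N} (hw : w ∈ segSub k ℳ 𝒩) : ∃ p : P, φ p = w := by
  unfold segSub at hw
  induction hw using Submodule.iSup_induction' with
  | mem n w hw =>
    have h1 : w ∈ (pc k ℳ 𝒩 n : Set (M ⊗[k] N)) := hw
    rw [← hP.image_piece n] at h1
    obtain ⟨p, -, hp⟩ := h1
    exact ⟨p, hp⟩
  | zero => exact ⟨0, map_zero _⟩
  | add w w' _ _ h h' =>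
    obtain ⟨p, rfl⟩ := h
    obtain ⟨p', rfl⟩ := h'
    exact ⟨p + p', map_add _ _ _⟩

local notation "SX(" i ")" => segG 𝒜 ℬ 𝒯 ψ hT (GrLC.GMod.gr (GrLC.StarInjRes.X E i)) 𝒩
local notation "sι(" i ")" => sι 𝒜 ℬ 𝒯 ψ hT (GrLC.GMod.gr (GrLC.StarInjRes.X E i)) 𝒩

/-- the augmentation -/
noncomputable def segEps : P →ₗ[T] (SX(0)).carrier where
  toFun p := sMk 𝒜 ℬ 𝒯 ψ hT (E.X 0).gr 𝒩 (fT k N E.ε (φ p))
    (fT_mem_segSub ℳ (E.X 0).gr 𝒩 E.ε E.ε_grHom (phi_mem ψ ℳ 𝒩 𝒬 φ hP p))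
  map_add' p p' := Subtype.ext (by
    show fT k N E.ε (φ (p + p')) = _
    rw [map_add, map_add]; rfl)
  map_smul' t p := Subtype.ext (by
    show fT k N E.ε (φ (t • p)) = _
    rw [hP.map_smul, fT_act]; rfl)

theorem sι_segEps (p : P) :
    sι(0) (segEps 𝒜 ℬ 𝒯 ψ hT ℳ 𝒩 𝒬 φ hP E p) = fT k N E.ε (φ p) := rfl

/-- the Segre product of the resolution -/
noncomputable def segRes : GRes (toAS 𝒯) 𝒬 where
  X := fun i => SX(i)
  d := fun i => segMap 𝒜 ℬ 𝒯 ψ hT (E.X i).gr (E.X (i + 1)).gr 𝒩 (E.d i) (E.d_grHom i)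
  ε := segEps 𝒜 ℬ 𝒯 ψ hT ℳ 𝒩 𝒬 φ hP E
  d_grHom := fun i => segMap_isGrHom 𝒜 ℬ 𝒯 ψ hT (E.X i).gr (E.X (i + 1)).gr 𝒩 (E.d i)
    (E.d_grHom i)
  ε_grHom := fun n p hp =>
    fT_mem_pc ℳ (E.X 0).gr 𝒩 E.ε E.ε_grHom (phi_mem_pc ψ ℳ 𝒩 𝒬 φ hP hp)
  ε_injective := by
    intro p p' h
    apply hP.injective
    apply fT_injective (N := N) E.ε E.ε_injective
    exact congrArg (sι(0)) h
  exact_zero := by
    ext v
    rw [LinearMap.mem_ker, LinearMap.mem_range]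
    constructor
    · intro hv
      have h1 : fT k N (E.d 0) (sι(0) v) = 0 := congrArg (sι(1)) hv
      obtain ⟨w, hw, hwv⟩ := exists_of_exact 𝒜 ℬ ℳ (E.X 0).gr 𝒩 E.ε E.ε_grHom (E.d 0)
        (LinearMap.exact_iff.2 E.exact_zero) (sι_mem 𝒜 ℬ 𝒯 ψ hT (E.X 0).gr 𝒩 v) h1
      obtain ⟨p, rfl⟩ := exists_phi_eq ψ ℳ 𝒩 𝒬 φ hP hw
      exact ⟨p, Subtype.ext hwv⟩
    · rintro ⟨p, rfl⟩
      apply sι_injective 𝒜 ℬ 𝒯 ψ hT (E.X 1).gr 𝒩
      rw [sι_segMap, sι_segEps, map_zero]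
      refine fT_comp_eq_zero E.ε (E.d 0) (fun x => ?_) _
      have h2 : E.ε x ∈ LinearMap.ker (E.d 0) := by rw [E.exact_zero]; exact ⟨x, rfl⟩
      exact h2
  exact_succ := by
    intro i
    ext v
    rw [LinearMap.mem_ker, LinearMap.mem_range]
    constructor
    · intro hv
      have h1 : fT k N (E.d (i + 1)) (sι(i + 1) v) = 0 := congrArg (sι(i + 1 + 1)) hv
      obtain ⟨w, hw, hwv⟩ := exists_of_exact 𝒜 ℬ (E.X i).gr (E.X (i + 1)).gr 𝒩 (E.d i)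
        (E.d_grHom i) (E.d (i + 1)) (LinearMap.exact_iff.2 (E.exact_succ i))
        (sι_mem 𝒜 ℬ 𝒯 ψ hT (E.X (i + 1)).gr 𝒩 v) h1
      exact ⟨sMk 𝒜 ℬ 𝒯 ψ hT (E.X i).gr 𝒩 w hw, Subtype.ext hwv⟩
    · rintro ⟨w, rfl⟩
      apply sι_injective 𝒜 ℬ 𝒯 ψ hT (E.X (i + 1 + 1)).gr 𝒩
      rw [sι_segMap, sι_segMap, map_zero]
      refine fT_comp_eq_zero (E.d i) (E.d (i + 1)) (fun x => ?_) _
      have h2 : E.d i x ∈ LinearMap.ker (E.d (i + 1)) := by rw [E.exact_succ i]; exact ⟨x, rfl⟩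
      exact h2

end Res

end Groth.Agent.H98.Seg
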