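import Groth.Agent.H98.SegFinal
import Groth.Agent.H98.GrRes

/-!
# Helper library (helper98): the Segre product with the factors exchanged; vanishing of the
graded local cohomology of `X # S` when a homogeneous element of positive degree of `R` acts
bijectively on `X`.
-/

set_option autoImplicit false
universe u
open scoped TensorProduct
open DirectSum

namespace Groth.Agent.H98.Seg

open Groth.Agent.H98.GrCat Groth.Agent.H98.GrConv Groth.Agent.H98.TensRange

section Unconv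

variable {T : Type u} [CommRing T] {σ : Type u} [SetLike σ T] [AddSubgroupClass σ T]
  {𝒯 : ℤ → σ} [GradedRing 𝒯]
  {P : Type u} [AddCommGroup P] [Module T P] {𝒬 : ℤ → AddSubgroup P} [Decomposition 𝒬]
  [SetLike.GradedSMul 𝒯 𝒬] [SetLike.GradedSMul (toAS 𝒯) 𝒬]

theorem isStarInj_unconv (h : GrLC.IsStarInj (toAS 𝒯) 𝒬) : GrLC.IsStarInj 𝒯 𝒬 := by
  intro A B f hf hinj g hg
  exact h (convG A) (convG B) f hf hinj g hg

/-- a *injective resolution over the converted ring, seen over the original ring -/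
noncomputable def unconvRes (E : GrLC.StarInjRes (toAS 𝒯) 𝒬) : GrLC.StarInjRes 𝒯 𝒬 where
  X := fun n => unconvG (E.X n)
  d := E.d
  ε := E.ε
  d_grHom := E.d_grHom
  ε_grHom := E.ε_grHom
  ε_injective := E.ε_injective
  exact_zero := E.exact_zero
  exact_succ := E.exact_succ
  starInj := fun n => by
    haveI : SetLike.GradedSMul 𝒯 (E.X n).gr := gsmul_unconv 𝒯 (E.X n).gr
    exact isStarInj_unconv (𝒯 := 𝒯) (𝒬 := (E.X n).gr) (E.starInj n)

end Unconv

section Swap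

variable {k : Type u} [Field k]
  {R : Type u} [CommRing R] [Algebra k R] {S : Type u} [CommRing S] [Algebra k S]
  {X : Type u} [AddCommGroup X] [Module R X] [Module k X] [IsScalarTower k R X]
  {N : Type u} [AddCommGroup N] [Module S N] [Module k N] [IsScalarTower k S N]

theorem comm_act (u : R ⊗[k] S) (z : X ⊗[k] N) :
    TensorProduct.comm k X N (GrSeg.act k R S X N u z) =
      GrSeg.act k S R N X (Algebra.TensorProduct.comm k R S u) (TensorProduct.comm k X N z) := by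
  induction z using TensorProduct.induction_on with
  | zero => simp
  | add z z' h h' => simp only [map_add, h, h']
  | tmul x y =>
    induction u using TensorProduct.induction_on with
    | zero => simp
    | add u u' h h' => simp only [map_add, LinearMap.add_apply, h, h']
    | tmul a b =>
      rw [GrSeg.act_tmul, TensorProduct.comm_tmul, Algebra.TensorProduct.comm_tmul,
        TensorProduct.comm_tmul, GrSeg.act_tmul]

theorem comm_segrePiece {τ τ' : Type u} [SetLike τ X] [SetLike τ' N] (𝒳 : ℤ → τ) (𝒩 : ℤ → τ')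
    (n : ℤ) :
    (GrSeg.segrePiece k 𝒳 𝒩 n).map (TensorProduct.comm k X N).toLinearMap =
      GrSeg.segrePiece k 𝒩 𝒳 n := by
  unfold GrSeg.segrePiece
  rw [Submodule.map_span]
  congr 1
  ext z
  constructor
  · rintro ⟨_, ⟨x, hx, y, hy, rfl⟩, rfl⟩
    exact ⟨y, hy, x, hx, rfl⟩
  · rintro ⟨y, hy, x, hx, rfl⟩
    exact ⟨x ⊗ₜ[k] y, ⟨x, hx, y, hy, rfl⟩, rfl⟩

end Swap

section Vanish

variable {k : Type u} [Field k]
  {R : Type u} [CommRing R] [Algebra k R] (𝒜 : ℤ → Submodule k R) [GradedAlgebra 𝒜]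
  {S : Type u} [CommRing S] [Algebra k S] (ℬ : ℤ → Submodule k S) [GradedAlgebra ℬ]
  {T : Type u} [CommRing T] [Algebra k T] (𝒯 : ℤ → Submodule k T) [GradedAlgebra 𝒯]
  (ψ : T →ₐ[k] R ⊗[k] S) (hT : GrSeg.IsSegreRing 𝒜 ℬ 𝒯 ψ)

/-- the ring as a graded module over itself -/
instance gsmul_self_toAS : SetLike.GradedSMul ℬ (toAS ℬ) where
  smul_mem := fun _ _ _ _ hr hx => SetLike.GradedMul.mul_mem hr hx

/-- the swapped presentation -/
noncomputable def ψs : T →ₐ[k] S ⊗[k] R :=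
  (Algebra.TensorProduct.comm k R S).toAlgHom.comp ψ

theorem ψs_apply (t : T) : ψs ψ t = Algebra.TensorProduct.comm k R S (ψ t) := rfl

include hT in
theorem isSegreRing_swap : GrSeg.IsSegreRing ℬ 𝒜 𝒯 (ψs ψ) := by
  refine ⟨(Algebra.TensorProduct.comm k R S).injective.comp hT.1, fun n => ?_⟩
  have h1 : (ψs ψ).toLinearMap = (TensorProduct.comm k R S).toLinearMap ∘ₗ ψ.toLinearMap := by
    ext t
    rfl
  rw [h1, Submodule.map_comp, hT.2 n]
  exact comm_segrePiece 𝒜 ℬ n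

attribute [local instance] kModG kTowerG

include hT in
/-- if a homogeneous element of positive degree of `R` acts bijectively on `X`, the graded local
cohomology of `X # S` vanishes wherever that of `S` does -/
theorem H_subsingleton_segG_of_bijective [IsNoetherianRing S] [IsNoetherianRing T]
    {X : Type u} [AddCommGroup X] [Module R X] [Module k X] [IsScalarTower k R X]
    (𝒳 : ℤ → AddSubgroup X) [Decomposition 𝒳] [SetLike.GradedSMul 𝒜 𝒳]
    (nS : HomogeneousIdeal ℬ)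
    (hnS : nS.toIdeal = Ideal.span (⋃ n ∈ Set.Ioi (0 : ℤ), (ℬ n : Set S)))
    (mT : HomogeneousIdeal 𝒯)
    (hmT : mT.toIdeal = Ideal.span (⋃ n ∈ Set.Ioi (0 : ℤ), (𝒯 n : Set T)))
    (e : ℕ) (he : 0 < e) (f : R) (hf : f ∈ 𝒜 (e : ℤ))
    (hfX : Function.Bijective (fun x : X => f • x))
    (ES : GrLC.StarInjRes ℬ (toAS ℬ)) (q : ℕ) (hq : Subsingleton (ES.H nS q))
    (F : GrLC.StarInjRes (toAS 𝒯) (segG 𝒜 ℬ 𝒯 ψ hT 𝒳 (toAS ℬ)).gr) :
    Subsingleton (F.H (convI mT) q) := by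
  classical
  have hT' := isSegreRing_swap 𝒜 ℬ 𝒯 ψ hT
  letI instPk : Module k (segG 𝒜 ℬ 𝒯 ψ hT 𝒳 (toAS ℬ)).carrier :=
    (inferInstance : Module k ↥(segSub k 𝒳 (toAS ℬ)))
  haveI instPt : IsScalarTower k T (segG 𝒜 ℬ 𝒯 ψ hT 𝒳 (toAS ℬ)).carrier :=
    ⟨fun c t v => Subtype.ext (by
      show GrSeg.act k R S X S (ψ (c • t)) v.1 = c • GrSeg.act k R S X S (ψ t) v.1
      rw [map_smul, map_smul, LinearMap.smul_apply])⟩
  obtain ⟨φ', hφ'⟩ : ∃ φ' : (segG 𝒜 ℬ 𝒯 ψ hT 𝒳 (toAS ℬ)).carrier →ₗ[k] S ⊗[k] X,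
      ∀ v, φ' v = TensorProduct.comm k X S (sι 𝒜 ℬ 𝒯 ψ hT 𝒳 (toAS ℬ) v) :=
    ⟨(TensorProduct.comm k X S).toLinearMap ∘ₗ (segSub k 𝒳 (toAS ℬ)).subtype, fun _ => rfl⟩
  have hP' : GrSeg.IsSegreMod (ψs ψ) (toAS ℬ) 𝒳 (segG 𝒜 ℬ 𝒯 ψ hT 𝒳 (toAS ℬ)).gr φ' := by
    refine ⟨?_, ?_, ?_⟩
    · intro v w h
      rw [hφ', hφ'] at h
      exact sι_injective 𝒜 ℬ 𝒯 ψ hT 𝒳 (toAS ℬ) ((TensorProduct.comm k X S).injective h)
    · intro n
      ext z
      constructor
      · rintro ⟨v, hv, rfl⟩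
        rw [hφ']
        have h1 : TensorProduct.comm k X S (sι 𝒜 ℬ 𝒯 ψ hT 𝒳 (toAS ℬ) v) ∈
            (GrSeg.segrePiece k 𝒳 (toAS ℬ) n).map (TensorProduct.comm k X S).toLinearMap :=
          ⟨_, hv, rfl⟩
        rw [comm_segrePiece] at h1
        exact h1
      · intro hz
        have hz' : z ∈ (GrSeg.segrePiece k 𝒳 (toAS ℬ) n).map
            (TensorProduct.comm k X S).toLinearMap := by
          rw [comm_segrePiece]
          exact hz
        obtain ⟨w, hw, rfl⟩ := hz'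
        refine ⟨sMk 𝒜 ℬ 𝒯 ψ hT 𝒳 (toAS ℬ) w (pc_le_segSub 𝒳 (toAS ℬ) n hw), hw, ?_⟩
        rw [hφ']
        rfl
    · intro t v
      rw [hφ', hφ', sι_smul, comm_act]
      rfl
  letI instHk : Module k (ES.H nS q) := Module.compHom _ (algebraMap k S)
  haveI instHt : IsScalarTower k S (ES.H nS q) := ⟨fun c r y => by
    show (c • r) • y = algebraMap k S c • (r • y)
    rw [Algebra.smul_def, mul_smul]⟩
  letI instFk : Module k (F.H (convI mT) q) := Module.compHom _ (algebraMap k T)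
  haveI instFt : IsScalarTower k T (F.H (convI mT) q) := ⟨fun c r y => by
    show (c • r) • y = algebraMap k T c • (r • y)
    rw [Algebra.smul_def, mul_smul]⟩
  obtain ⟨φ'', hinj, -, -⟩ := exists_linearMap_segre_H (instHk := instHk) (instHt := instHt)
    (instFk := instFk) (instFt := instFt) ℬ 𝒜 𝒯 (ψs ψ) hT' (toAS ℬ) 𝒳
    (segG 𝒜 ℬ 𝒯 ψ hT 𝒳 (toAS ℬ)).gr φ' hP' ES F nS (convI mT) q
    (fun i p => seg_acyclic ℬ 𝒜 𝒯 (ψs ψ) hT' (ES.X i).gr 𝒳 nS mT (ES.starInj i) hnS hmT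
      e he f hf hfX p)
    (fun i v => mem_gam_iff ℬ 𝒜 𝒯 (ψs ψ) hT' (ES.X i).gr 𝒳 nS mT hnS hmT e he f hf hfX v)
  have hz : ∀ z : (ES.H nS q) ⊗[k] X, z = 0 := by
    intro z
    induction z using TensorProduct.induction_on with
    | zero => rfl
    | tmul h x => rw [Subsingleton.elim h 0, TensorProduct.zero_tmul]
    | add a b ha hb => rw [ha, hb, add_zero]
  exact ⟨fun a b => hinj (by rw [hz (φ'' a), hz (φ'' b)])⟩

end Vanish

end Groth.Agent.H98.Seg
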