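import Mathlib
import Groth.Prelude.Def_GrLC

/-!
# Helper library (helper98): a standard graded ring over a field with `dim R_1 ≥ 2` and without
`R_+`-torsion has no one-dimensional piece in positive degree.
-/

set_option autoImplicit false
universe u

namespace Groth.Agent.H98.StdHilb

variable {R : Type u} [CommRing R] (𝒜 : ℤ → AddSubgroup R) [GradedRing 𝒜]

/-- powers of the ideal generated by `R_1` lie in the ideal generated by `R_c` -/
theorem span_one_pow_le (c : ℕ) :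
    (Ideal.span ((𝒜 1 : AddSubgroup R) : Set R)) ^ c ≤
      Ideal.span ((𝒜 (c : ℤ) : AddSubgroup R) : Set R) := by
  induction c with
  | zero =>
    rw [pow_zero, Ideal.one_eq_top]
    intro x _
    have h1 : (1 : R) ∈ Ideal.span ((𝒜 ((0 : ℕ) : ℤ) : AddSubgroup R) : Set R) :=
      Ideal.subset_span (by
        rw [Nat.cast_zero]
        exact SetLike.GradedOne.one_mem (A := 𝒜))
    have h2 := Ideal.mul_mem_left _ x h1
    rwa [mul_one] at h2
  | succ c ih =>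
    rw [pow_succ]
    refine le_trans (Ideal.mul_mono ih le_rfl) ?_
    rw [Ideal.span_mul_span', Ideal.span_le]
    rintro _ ⟨s, hs, t, ht, rfl⟩
    apply Ideal.subset_span
    have h1 := SetLike.GradedMul.mul_mem (A := 𝒜) hs ht
    have e1 : ((c : ℤ) + 1) = ((c + 1 : ℕ) : ℤ) := by push_cast; ring
    rw [e1] at h1
    exact h1

theorem pow_mem_nat {x : R} (hx : x ∈ 𝒜 1) (c : ℕ) : x ^ c ∈ 𝒜 (c : ℤ) := by
  have h1 := SetLike.pow_mem_graded (A := 𝒜) c hx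
  rwa [nsmul_eq_mul, mul_one] at h1

theorem std_contra [IsNoetherianRing R] [Nontrivial R] (a : Ideal R)
    (hstd : a = Ideal.span ((𝒜 1 : AddSubgroup R) : Set R))
    (hΓ : ∀ z : R, (∃ N : ℕ, ∀ r ∈ a ^ N, r * z = 0) → z = 0)
    (c : ℕ) (hc : 0 < c)
    (hRc : ∀ v ∈ 𝒜 (c : ℤ), v ≠ 0 → ∀ w ∈ 𝒜 (c : ℤ), ∃ k ∈ 𝒜 0, k * v = w)
    (hR1 : ∀ x ∈ 𝒜 1, ∃ y ∈ 𝒜 1, ∀ k ∈ 𝒜 0, y ≠ k * x) : False := by
  by_cases hA : ∀ x ∈ 𝒜 1, x ^ c = 0
  · have hle : a ≤ nilradical R := by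
      rw [hstd, Ideal.span_le]
      intro x hx
      exact ⟨c, hA x hx⟩
    obtain ⟨N, hN⟩ := (Ideal.FG.isNilpotent_iff_le_nilradical (IsNoetherian.noetherian a)).2 hle
    have h1 : (1 : R) = 0 := hΓ 1 ⟨N, fun r hr => by
      rw [hN] at hr
      have hr0 : r = 0 := hr
      rw [hr0, zero_mul]⟩
    exact one_ne_zero h1
  · push Not at hA
    obtain ⟨x, hx, hxc⟩ := hA
    obtain ⟨y, hy, hyx⟩ := hR1 x hx
    obtain ⟨c', rfl⟩ := Nat.exists_eq_succ_of_ne_zero hc.ne'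
    have hxcm : x ^ (c' + 1) ∈ 𝒜 ((c' + 1 : ℕ) : ℤ) := pow_mem_nat 𝒜 hx (c' + 1)
    have hmem : x ^ c' * y ∈ 𝒜 ((c' + 1 : ℕ) : ℤ) := by
      have h1 := SetLike.GradedMul.mul_mem (A := 𝒜) (pow_mem_nat 𝒜 hx c') hy
      have e1 : ((c' : ℤ) + 1) = ((c' + 1 : ℕ) : ℤ) := by push_cast; ring
      rw [e1] at h1
      exact h1
    obtain ⟨γ, hγ, hγe⟩ := hRc _ hxcm hxc _ hmem
    have hz0 : y - γ * x ≠ 0 := fun h => hyx γ hγ (sub_eq_zero.1 h)
    have hz : x ^ c' * (y - γ * x) = 0 := by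
      have e1 : x ^ c' * (y - γ * x) = x ^ c' * y - γ * x ^ (c' + 1) := by ring
      rw [e1, hγe, sub_self]
    apply hz0
    apply hΓ
    refine ⟨c' + 1, fun r hr => ?_⟩
    rw [hstd] at hr
    have hr' := span_one_pow_le 𝒜 (c' + 1) hr
    refine Submodule.span_induction (p := fun r _ => r * (y - γ * x) = 0) ?_ ?_ ?_ ?_ hr'
    · intro w hw
      obtain ⟨k, -, hk⟩ := hRc _ hxcm hxc w hw
      have e1 : w * (y - γ * x) = k * x * (x ^ c' * (y - γ * x)) := by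
        rw [← hk]
        ring
      rw [e1, hz, mul_zero]
    · exact zero_mul _
    · intro r s _ _ hr hs
      rw [add_mul, hr, hs, add_zero]
    · intro s r _ hr
      rw [smul_eq_mul, mul_assoc, hr, mul_zero]

end Groth.Agent.H98.StdHilb
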