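import Groth.Agent.H18.TildeTwistTensor
import Groth.Agent.H8.TensorQCoh

/-! # Restricted multiplication `M(k)~ ⊗ O(n) → M(k+n)~` over an open of `Proj` with local unit fractions (for S9578; on top of helper18's `H18.TildeTwistTensor`) -/

set_option autoImplicit false
universe u

namespace Groth.Agent.H98.TwRes

open CategoryTheory AlgebraicGeometry Opposite TopologicalSpace MonoidalCategory
open Groth.Agent.H18.TildeTwistTensor Groth.Agent.H18
open scoped TensorProduct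

variable {R A : Type u} [CommRing R] [CommRing A] [Algebra R A] (𝒜 : ℕ → Submodule R A)
  [GradedAlgebra 𝒜]
  {M : Type u} [AddCommGroup M] [Module R M] [Module A M] (ℳ : ℕ → Submodule R M)
  [SetLike.GradedSMul 𝒜 ℳ]

set_option backward.isDefEq.respectTransparency false in
/-- The multiplication `M(k)~|_W ⊗ O(n)|_W ⟶ M(k+n)~|_W` as a morphism of presheaves of modules. -/
noncomputable def smulHomRes (W : (Proj 𝒜).Opens) (k n : ℤ) :
    TensorModIso.tensorPre' ((GrTilde.tilde 𝒜 ℳ k).restrict W.ι) ((Twist.twist 𝒜 n).restrict W.ι) ⟶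
      (PresheafOfModules.restrictScalars (𝟙 (W : Scheme.{u}).ringCatSheaf.obj)).obj
        ((GrTilde.tilde 𝒜 ℳ (k + n)).restrict W.ι).val where
  app U := ModuleCat.MonoidalCategory.tensorLift
    (R := ↑(((W : Scheme.{u}).sheaf.obj ⋙ forget₂ CommRingCat RingCat).obj U))
    (M₁ := ((GrTilde.tilde 𝒜 ℳ k).restrict W.ι).val.obj U)
    (M₂ := ((Twist.twist 𝒜 n).restrict W.ι).val.obj U)
    (M₃ := ((PresheafOfModules.restrictScalars (𝟙 (W : Scheme.{u}).ringCatSheaf.obj)).obj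
        ((GrTilde.tilde 𝒜 ℳ (k + n)).restrict W.ι).val).obj U)
    (fun (z : GrTilde.sect 𝒜 ℳ k (op (W.ι ''ᵁ U.unop)))
      (a : Twist.sectN (𝒜 := 𝒜) n (op (W.ι ''ᵁ U.unop))) => smulSect 𝒜 ℳ z a)
    (fun z z' a => smulSect_add_left 𝒜 ℳ z z' a)
    (fun r z a => smulSect_smul_left 𝒜 ℳ _ z a)
    (fun z a a' => smulSect_add_right 𝒜 ℳ z a a')
    (fun r z a => smulSect_smul_right 𝒜 ℳ _ z a)
  naturality _ := ModuleCat.MonoidalCategory.tensor_ext (fun _ _ => rfl)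

set_option backward.isDefEq.respectTransparency false in
/-- The restricted multiplication map is bijective over opens with a unit fraction of degree `n`. -/
theorem bijective_smulHomRes_app (W : (Proj 𝒜).Opens) (k n : ℤ) (V : (W : Scheme.{u}).Opens)
    {p q : ℕ} {u v : A} (hu : u ∈ 𝒜 p) (hv : v ∈ 𝒜 q) (hpq : (p : ℤ) = q + n)
    (hux : ∀ x : (W.ι ''ᵁ V : (Proj 𝒜).Opens), u ∉ x.1.asHomogeneousIdeal)
    (hvx : ∀ x : (W.ι ''ᵁ V : (Proj 𝒜).Opens), v ∉ x.1.asHomogeneousIdeal) :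
    Function.Bijective ((smulHomRes 𝒜 ℳ W k n).app (op V)).hom := by
  refine bijective_lift_of_generator_right
    (R := ↑(((W : Scheme.{u}).sheaf.obj ⋙ forget₂ CommRingCat RingCat).obj (op V)))
    (M := ((GrTilde.tilde 𝒜 ℳ k).restrict W.ι).val.obj (op V))
    (N := ((Twist.twist 𝒜 n).restrict W.ι).val.obj (op V))
    (P := ((PresheafOfModules.restrictScalars (𝟙 (W : Scheme.{u}).ringCatSheaf.obj)).obj
        ((GrTilde.tilde 𝒜 ℳ (k + n)).restrict W.ι).val).obj (op V))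
    ((smulHomRes 𝒜 ℳ W k n).app (op V)).hom
    (TwistRestrict.fracSection 𝒜 hu hv hpq hvx) ?_ ?_
  · intro t
    obtain ⟨r, hr⟩ := (TwistRestrict.bijective_smul_of_fraction 𝒜 hu hv hpq hux hvx
      (TwistRestrict.fracSection 𝒜 hu hv hpq hvx) (fun x => rfl)).2 t
    refine ⟨(W.ι.appIso V).hom.hom r, ?_⟩
    refine Eq.trans ?_ hr
    have : (W.ι.appIso V).inv.hom ((W.ι.appIso V).hom.hom r) = r := by
      rw [← CommRingCat.comp_apply, Iso.hom_inv_id]; rfl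
    show ((W.ι.appIso V).inv.hom ((W.ι.appIso V).hom.hom r) : Twist.O (𝒜 := 𝒜) (op (W.ι ''ᵁ V))) •
      (TwistRestrict.fracSection 𝒜 hu hv hpq hvx : Twist.sectN (𝒜 := 𝒜) n (op (W.ι ''ᵁ V))) = _
    rw [this]
  · exact bijective_smulSect_fraction 𝒜 ℳ k hu hv hpq hux hvx _ (fun x => rfl)

set_option backward.isDefEq.respectTransparency false in
/-- `(M(k)~ ⊗ O(n))|_W ≅ M(k+n)~|_W` over an open `W` on which `O(n)` has local unit fractions. -/
theorem nonempty_restrict_iso (W : (Proj 𝒜).Opens) (k n : ℤ)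
    (h : ∀ x : Proj 𝒜, x ∈ W → ∃ (p q : ℕ) (u v : A), u ∈ 𝒜 p ∧ v ∈ 𝒜 q ∧ (p : ℤ) = q + n ∧
      u ∉ x.asHomogeneousIdeal ∧ v ∉ x.asHomogeneousIdeal) :
    Nonempty ((CohB1.tensorMod (GrTilde.tilde 𝒜 ℳ k) (Twist.twist 𝒜 n)).restrict W.ι ≅
      (GrTilde.tilde 𝒜 ℳ (k + n)).restrict W.ι) := by
  obtain ⟨e1⟩ := Groth.Agent.H8.nonempty_restrict_tensorMod W.ι
    (GrTilde.tilde 𝒜 ℳ k) (Twist.twist 𝒜 n)
  suffices hloc : ∀ (U : (W : Scheme.{u}).Opens) (x : (W : Scheme.{u})), x ∈ U →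
      ∃ V : (W : Scheme.{u}).Opens, ∃ _ : V ≤ U, x ∈ V ∧
        Function.Bijective ((smulHomRes 𝒜 ℳ W k n).app (op V)).hom by
    obtain ⟨e2⟩ := TensorModIso.nonempty_tensorMod_iso _ _ _ (smulHomRes 𝒜 ℳ W k n) hloc
    exact ⟨e1 ≪≫ e2⟩
  intro U x hxU
  obtain ⟨p, q, u, v, hu, hv, hpq, hux, hvx⟩ := h (W.ι x) x.2
  refine ⟨U ⊓ W.ι ⁻¹ᵁ (Proj.basicOpen 𝒜 u ⊓ Proj.basicOpen 𝒜 v), inf_le_left,
    ⟨hxU, hux, hvx⟩, ?_⟩
  refine bijective_smulHomRes_app 𝒜 ℳ W k n _ hu hv hpq ?_ ?_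
  · rintro ⟨y, z, hz, rfl⟩
    exact hz.2.1
  · rintro ⟨y, z, hz, rfl⟩
    exact hz.2.2

end Groth.Agent.H98.TwRes
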