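import Groth.Agent.H98.GrVerIso
import Groth.Agent.H98.GrCanon3
import Groth.Agent.H98.VerSetup

/-!
# Helper library (helper98): the *canonical module of a Veronese subring,
`K_{R^(q)} = (K_R)^(q)`, for a graded ring over a field.
-/

set_option autoImplicit false
universe u

open DirectSum

namespace Groth.Agent.H98.VerCanon

open Groth.Agent.H98.GrCat Groth.Agent.H98.GrHt Groth.Agent.H98.GrCanon Groth.Agent.H98.VerSetup

section LinAlg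

/-- transposition of an element along semilinear identifications of the two other factors of a
pair of pairings -/
theorem exists_transpose {K K' : Type u} [CommRing K] [CommRing K'] (s : K' → K)
    (hs : Function.Surjective s)
    {W V L : Type u} [AddCommGroup W] [Module K W] [AddCommGroup V] [Module K V]
    [AddCommGroup L] [Module K L]
    {W' V' L' : Type u} [AddCommGroup W'] [Module K' W'] [AddCommGroup V'] [Module K' V']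
    [AddCommGroup L'] [Module K' L']
    (B : W →ₗ[K] V →ₗ[K] L) (hB : Function.Surjective B)
    (B' : W' →ₗ[K'] V' →ₗ[K'] L')
    (Sg : V' ≃+ V) (hSg : ∀ (κ : K') (y : V'), Sg (κ • y) = s κ • Sg y)
    (τ : L' ≃+ L) (hτ : ∀ (κ : K') (l : L'), τ (κ • l) = s κ • τ l) (w' : W') :
    ∃ w : W, ∀ y : V', B w (Sg y) = τ (B' w' y) := by
  have hsymm : ∀ (κ : K') (x : V), Sg.symm (s κ • x) = κ • Sg.symm x := by
    intro κ x
    apply Sg.injective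
    rw [AddEquiv.apply_symm_apply, hSg, AddEquiv.apply_symm_apply]
  obtain ⟨lam, hlam⟩ : ∃ lam : V →ₗ[K] L, ∀ x, lam x = τ (B' w' (Sg.symm x)) :=
    ⟨{ toFun := fun x => τ (B' w' (Sg.symm x))
       map_add' := fun x x' => by
         show τ (B' w' (Sg.symm (x + x'))) = τ (B' w' (Sg.symm x)) + τ (B' w' (Sg.symm x'))
         rw [map_add, map_add, map_add]
       map_smul' := fun κ x => by
         obtain ⟨κ', rfl⟩ := hs κ
         show τ (B' w' (Sg.symm (s κ' • x))) = s κ' • τ (B' w' (Sg.symm x))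
         rw [hsymm, map_smul, hτ] }, fun _ => rfl⟩
  obtain ⟨w, hw⟩ := hB lam
  refine ⟨w, fun y => ?_⟩
  rw [hw, hlam, AddEquiv.symm_apply_apply]

end LinAlg

section Hull

variable {R : Type u} [CommRing R] (𝒜 : ℤ → AddSubgroup R) [GradedRing 𝒜]
  (hpos : ∀ n : ℤ, n < 0 → 𝒜 n = ⊥)
variable {E' : Type u} [AddCommGroup E'] [Module R E'] (𝓔 : ℤ → AddSubgroup E')
  [DirectSum.Decomposition 𝓔] [SetLike.GradedSMul 𝒜 𝓔]
  (e : (R ⧸ (irr 𝒜).toIdeal) →ₗ[R] E')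
  (he : GrLC.IsStarInjHull 𝒜 (GrLC.quotGr 𝒜 (irr 𝒜)) 𝓔 e)

include hpos he in
theorem smul_eps_eq_zero [Nontrivial R] (h0 : IsField (GrLC.deg0 𝒜)) {κ : R} (hκ : κ ∈ 𝒜 0)
    (h : κ • e (Ideal.Quotient.mk (irr 𝒜).toIdeal 1) = 0) : κ = 0 := by
  by_contra hne
  have hne' : (⟨κ, hκ⟩ : GrLC.deg0 𝒜) ≠ 0 := fun h1 => hne (congrArg Subtype.val h1)
  obtain ⟨t, ht⟩ := h0.mul_inv_cancel hne'
  have ht' : κ * (t : R) = 1 := congrArg Subtype.val ht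
  apply e_one_ne_zero 𝒜 hpos 𝓔 e he
  have h1 : e (Ideal.Quotient.mk (irr 𝒜).toIdeal 1) =
      ((t : R) * κ) • e (Ideal.Quotient.mk (irr 𝒜).toIdeal 1) := by
    rw [mul_comm, ht', one_smul]
  rw [h1, mul_smul, h, smul_zero]

end Hull

section Main

variable {R : Type u} [CommRing R] [IsNoetherianRing R] (𝒜 : ℤ → AddSubgroup R) [GradedRing 𝒜]
  (hpos : ∀ n : ℤ, n < 0 → 𝒜 n = ⊥) (h0 : IsField (GrLC.deg0 𝒜))

include hpos h0 in
/-- **the *canonical module of a Veronese subring**: `K_{R^(q)} = (K_R)^(q)` -/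
theorem canon_ver (n : ℕ) (I : GrLC.StarInjRes 𝒜 𝒜)
    {E' : Type u} [AddCommGroup E'] [Module R E'] (𝓔 : ℤ → AddSubgroup E')
    [DirectSum.Decomposition 𝓔] [SetLike.GradedSMul 𝒜 𝓔]
    (e : (R ⧸ (irr 𝒜).toIdeal) →ₗ[R] E')
    (he : GrLC.IsStarInjHull 𝒜 (GrLC.quotGr 𝒜 (irr 𝒜)) 𝓔 e)
    {C : Type u} [AddCommGroup C] [Module R C] (𝒞 : ℤ → AddSubgroup C)
    [DirectSum.Decomposition 𝒞] [SetLike.GradedSMul 𝒜 𝒞]
    (hC : GrLC.IsStarCanonical 𝒜 𝒞 𝓔 (irr 𝒜) n I)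
    (q : ℕ) (hq : 0 < q) {R' : Type u} [CommRing R'] (𝒜' : ℤ → AddSubgroup R') [GradedRing 𝒜']
    (φ : R' →+* R) (hφ : Function.Injective φ)
    (hdeg : ∀ j : ℤ, (𝒜' j).map (φ : R' →+ R) = 𝒜 (j * q))
    (I' : GrLC.StarInjRes 𝒜' 𝒜')
    {E'' : Type u} [AddCommGroup E''] [Module R' E''] (𝓔'' : ℤ → AddSubgroup E'')
    [DirectSum.Decomposition 𝓔''] [SetLike.GradedSMul 𝒜' 𝓔'']
    (e' : (R' ⧸ (irr 𝒜').toIdeal) →ₗ[R'] E'')
    (he' : GrLC.IsStarInjHull 𝒜' (GrLC.quotGr 𝒜' (irr 𝒜')) 𝓔'' e')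
    {C' : Type u} [AddCommGroup C'] [Module R' C'] (𝒞' : ℤ → AddSubgroup C')
    [DirectSum.Decomposition 𝒞'] [SetLike.GradedSMul 𝒜' 𝒞']
    (hC' : GrLC.IsStarCanonical 𝒜' 𝒞' 𝓔'' (irr 𝒜') n I') :
    ∃ g : C' →ₛₗ[φ] C, Function.Injective g ∧
      ∀ j : ℤ, (𝒞' j).map (g : C' →+ C) = 𝒞 (j * q) := by
  classical
  haveI : IsNoetherianRing R' :=
    Groth.Agent.H98.GrVer.isNoetherianRing_ver 𝒜 𝒜' φ q hq hdeg hφ
  haveI : Nontrivial R := by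
    obtain ⟨x, y, hxy⟩ := h0.exists_pair_ne
    exact ⟨⟨(x : R), (y : R), fun h => hxy (Subtype.ext h)⟩⟩
  have hpos' := hpos_ver 𝒜 𝒜' φ q hq hφ hdeg hpos
  have h0' := h0_ver 𝒜 𝒜' φ q hφ hdeg h0
  haveI : Nontrivial R' := by
    obtain ⟨x, y, hxy⟩ := h0'.exists_pair_ne
    exact ⟨⟨(x : R'), (y : R'), fun h => hxy (Subtype.ext h)⟩⟩
  have hqZ : (0 : ℤ) < (q : ℤ) := by exact_mod_cast hq
  obtain ⟨hCfin, φC, hφC⟩ := hC
  obtain ⟨hC'fin, φC', hφC'⟩ := hC'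
  haveI := hCfin
  haveI := hC'fin
  have hφC2 : ∀ (c0 : ℤ) (g : C →ₗ[R] E'), GrLC.IsGrHomDeg 𝒞 𝓔 g c0 →
      φC g ∈ I.Hgr (irr 𝒜) n c0 := fun c0 g hg => hφC c0 g hg
  have hφC'2 : ∀ (c0 : ℤ) (g : C' →ₗ[R'] E''), GrLC.IsGrHomDeg 𝒞' 𝓔'' g c0 →
      φC' g ∈ I'.Hgr (irr 𝒜') n c0 := fun c0 g hg => hφC' c0 g hg
  letI := HDec I' (irr 𝒜') n
  haveI := HGSMul I' (irr 𝒜') n
  -- the Veronese isomorphisms on local cohomology
  have hφ' := Groth.Agent.H98.GrVer.hφ_of_hdeg 𝒜 𝒜' φ q hdeg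
  have hle := Groth.Agent.H98.GrVer.map_le_irr 𝒜 𝒜' φ q hq hdeg (irr 𝒜').toIdeal
    (irr 𝒜).toIdeal (irr_toIdeal 𝒜) (irr_toIdeal 𝒜')
  have hrad := Groth.Agent.H98.GrVer.radical_map_eq 𝒜 𝒜' φ q hq hdeg (irr 𝒜').toIdeal
    (irr 𝒜).toIdeal (irr_toIdeal 𝒜) (irr_toIdeal 𝒜')
  obtain ⟨Sg, hSgc⟩ := Groth.Agent.H98.GrVer.exists_sigma 𝒜 𝒜' φ q hφ' hq 𝒜 𝒜'
    (φ : R' →+ R) (fun r x => map_mul φ r x) hφ hdeg I I' (irr 𝒜) (irr 𝒜') hle hrad n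
  have hsurj0 : ∀ x ∈ 𝒜 0, ∃ r ∈ 𝒜' 0, φ r = x := by
    intro x hx
    have h3 : x ∈ 𝒜 ((0 : ℤ) * q) := by rwa [zero_mul]
    exact exists_preimage 𝒜 𝒜' φ q hdeg h3
  -- the identification of the fields
  have hσmem : ∀ r : GrLC.deg0 𝒜', φ (r : R') ∈ 𝒜 0 := by
    intro r
    have h := hφ' 0 r r.2
    rwa [zero_mul] at h
  obtain ⟨σ, hσdef⟩ : ∃ σ : GrLC.deg0 𝒜' → GrLC.deg0 𝒜, ∀ r, ((σ r : GrLC.deg0 𝒜) : R) =
      φ (r : R') := ⟨fun r => ⟨φ (r : R'), hσmem r⟩, fun _ => rfl⟩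
  have hσ : Function.Bijective σ := by
    constructor
    · intro r s h
      have h1 := congrArg Subtype.val h
      rw [hσdef, hσdef] at h1
      exact Subtype.ext (hφ h1)
    · rintro ⟨x, hx⟩
      obtain ⟨r, hr, hrx⟩ := hsurj0 x hx
      refine ⟨⟨r, hr⟩, Subtype.ext ?_⟩
      rw [hσdef]
      exact hrx
  obtain ⟨s', hs'def⟩ : ∃ s' : GrLC.deg0 𝒜 → GrLC.deg0 𝒜', ∀ κ, σ (s' κ) = κ :=
    ⟨Function.surjInv hσ.2, Function.surjInv_eq hσ.2⟩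
  have hs'surj : Function.Surjective s' := by
    intro κ'
    exact ⟨σ κ', hσ.1 (hs'def (σ κ'))⟩
  -- the identification of the lines `(*E)_0`
  obtain ⟨ε, hεdef⟩ : ∃ ε : E', ε = e (Ideal.Quotient.mk (irr 𝒜).toIdeal 1) := ⟨_, rfl⟩
  have hε0 : ε ∈ 𝓔 0 := by
    rw [hεdef]
    exact e_mem_zero 𝒜 hpos 𝓔 e he _
  obtain ⟨ε', hε'def⟩ : ∃ ε' : E'', ε' = e' (Ideal.Quotient.mk (irr 𝒜').toIdeal 1) := ⟨_, rfl⟩
  have hε'0 : ε' ∈ 𝓔'' 0 := by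
    rw [hε'def]
    exact e_mem_zero 𝒜' hpos' 𝓔'' e' he' _
  have hf₁mem : ∀ κ : GrLC.deg0 𝒜', φ (κ : R') • ε ∈ GrLC.comp 𝒜 𝓔 0 := by
    intro κ
    have h := gsmul_mem 𝒜 𝓔 (hσmem κ) hε0
    rwa [add_zero] at h
  have hf₂mem : ∀ κ : GrLC.deg0 𝒜', (κ : R') • ε' ∈ GrLC.comp 𝒜' 𝓔'' 0 := by
    intro κ
    have h := gsmul_mem 𝒜' 𝓔'' (show (κ : R') ∈ 𝒜' 0 from κ.2) hε'0
    rwa [add_zero] at h
  obtain ⟨f₁, hf₁⟩ : ∃ f₁ : GrLC.deg0 𝒜' → GrLC.comp 𝒜 𝓔 0,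
      ∀ κ, ((f₁ κ : GrLC.comp 𝒜 𝓔 0) : E') = φ (κ : R') • ε :=
    ⟨fun κ => ⟨_, hf₁mem κ⟩, fun _ => rfl⟩
  obtain ⟨f₂, hf₂⟩ : ∃ f₂ : GrLC.deg0 𝒜' → GrLC.comp 𝒜' 𝓔'' 0,
      ∀ κ, ((f₂ κ : GrLC.comp 𝒜' 𝓔'' 0) : E'') = (κ : R') • ε' :=
    ⟨fun κ => ⟨_, hf₂mem κ⟩, fun _ => rfl⟩
  have hf₂surj : Function.Surjective f₂ := by
    intro l
    obtain ⟨k, hk, hkl⟩ := exists_smul_eq_of_mem_zero 𝒜' hpos' 𝓔'' e' he' h0'
      (show (l : E'') ∈ 𝓔'' 0 from l.2)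
    refine ⟨⟨k, hk⟩, Subtype.ext ?_⟩
    rw [hf₂, hε'def]
    exact hkl
  have hτex : ∃ τ : GrLC.comp 𝒜' 𝓔'' 0 ≃+ GrLC.comp 𝒜 𝓔 0, ∀ κ, τ (f₂ κ) = f₁ κ := by
    refine Groth.Agent.H98.GrVer.exists_addEquiv_of_corr f₁ f₂ ?_ ?_ ?_ hf₂surj ?_
    · intro a b
      apply Subtype.ext
      rw [Submodule.coe_add, hf₁, hf₁, hf₁]
      show φ ((a : R') + (b : R')) • ε = _
      rw [map_add, add_smul]
    · intro a b
      apply Subtype.ext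
      rw [Submodule.coe_add, hf₂, hf₂, hf₂]
      show ((a : R') + (b : R')) • ε' = _
      rw [add_smul]
    · intro l
      obtain ⟨k, hk, hkl⟩ := exists_smul_eq_of_mem_zero 𝒜 hpos 𝓔 e he h0
        (show (l : E') ∈ 𝓔 0 from l.2)
      obtain ⟨κ', hκ', hκ'k⟩ := hsurj0 k hk
      refine ⟨⟨κ', hκ'⟩, Subtype.ext ?_⟩
      rw [hf₁]
      show φ κ' • ε = (l : E')
      rw [hκ'k, hεdef]
      exact hkl
    · intro κ
      constructor
      · intro h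
        have h1 : φ (κ : R') • ε = 0 := by
          rw [← hf₁, h]
          rfl
        rw [hεdef] at h1
        have h2 := smul_eps_eq_zero 𝒜 hpos 𝓔 e he h0 (hσmem κ) h1
        have h3 : (κ : R') = 0 := hφ (h2.trans (map_zero φ).symm)
        apply Subtype.ext
        rw [hf₂, h3, zero_smul]
        rfl
      · intro h
        have h1 : (κ : R') • ε' = 0 := by
          rw [← hf₂, h]
          rfl
        rw [hε'def] at h1
        have h2 := smul_eps_eq_zero 𝒜' hpos' 𝓔'' e' he' h0' κ.2 h1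
        apply Subtype.ext
        rw [hf₁, h2, map_zero, zero_smul]
        rfl
  obtain ⟨τ, hτ0⟩ := hτex
  have hτ : ∀ (κ : GrLC.deg0 𝒜') (l : GrLC.comp 𝒜' 𝓔'' 0), τ (κ • l) = σ κ • τ l := by
    intro κ l
    obtain ⟨κ2, rfl⟩ := hf₂surj l
    have h1 : κ • f₂ κ2 = f₂ (κ * κ2) := by
      apply Subtype.ext
      rw [hf₂]
      show (κ : R') • ((f₂ κ2 : GrLC.comp 𝒜' 𝓔'' 0) : E'') = ((κ : R') * (κ2 : R')) • ε'
      rw [hf₂, mul_smul]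
    rw [h1, hτ0, hτ0]
    apply Subtype.ext
    rw [hf₁]
    show φ ((κ : R') * (κ2 : R')) • ε = ((σ κ : GrLC.deg0 𝒜) : R) •
      ((f₁ κ2 : GrLC.comp 𝒜 𝓔 0) : E')
    rw [hf₁, map_mul, mul_smul, hσdef]
  -- the perfect pairings
  have hBex : ∀ j : ℤ, ∃ B : GrLC.comp 𝒜 𝒞 (j * q) →ₗ[GrLC.deg0 𝒜]
      I.Hcomp (irr 𝒜) n ((-j) * q) →ₗ[GrLC.deg0 𝒜] GrLC.comp 𝒜 𝓔 0,
      (∀ w x, ((B w x : GrLC.comp 𝒜 𝓔 0) : E') = (φC.symm (x : I.H (irr 𝒜) n)) (w : C)) ∧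
      Function.Bijective B := fun j =>
    exists_dual_pairing 𝒜 hpos h0 𝓔 e he 𝒞 I n φC hφC2 (j * q) ((-j) * q) (by ring)
  choose B hB hBbij using hBex
  have hB'ex : ∀ j : ℤ, ∃ B' : GrLC.comp 𝒜' 𝒞' j →ₗ[GrLC.deg0 𝒜']
      I'.Hcomp (irr 𝒜') n (-j) →ₗ[GrLC.deg0 𝒜'] GrLC.comp 𝒜' 𝓔'' 0,
      (∀ w x, ((B' w x : GrLC.comp 𝒜' 𝓔'' 0) : E'') =
        (φC'.symm (x : I'.H (irr 𝒜') n)) (w : C')) ∧
      Function.Bijective B' := fun j =>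
    exists_dual_pairing 𝒜' hpos' h0' 𝓔'' e' he' 𝒞' I' n φC' hφC'2 j (-j) (add_neg_cancel j)
  choose B' hB' hB'bij using hB'ex
  have hSg : ∀ (j : ℤ) (κ : GrLC.deg0 𝒜') (y : I'.Hcomp (irr 𝒜') n j),
      Sg j (κ • y) = σ κ • Sg j y := by
    intro j κ y
    apply Subtype.ext
    have h1 := hSgc 0 j j (zero_add j) (κ : R') κ.2 y (κ • y) rfl
    rw [h1]
    show φ (κ : R') • ((Sg j y : I.Hcomp (irr 𝒜) n (j * q)) : I.H (irr 𝒜) n) =
      ((σ κ : GrLC.deg0 𝒜) : R) • ((Sg j y : I.Hcomp (irr 𝒜) n (j * q)) : I.H (irr 𝒜) n)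
    rw [hσdef]
  have hSg' : ∀ (j : ℤ) (κ : GrLC.deg0 𝒜) (x : I.Hcomp (irr 𝒜) n (j * q)),
      (Sg j).symm (κ • x) = s' κ • (Sg j).symm x := by
    intro j κ x
    apply (Sg j).injective
    rw [AddEquiv.apply_symm_apply, hSg, hs'def, AddEquiv.apply_symm_apply]
  have hτ' : ∀ (κ : GrLC.deg0 𝒜) (l : GrLC.comp 𝒜 𝓔 0), τ.symm (κ • l) = s' κ • τ.symm l := by
    intro κ l
    apply τ.injective
    rw [AddEquiv.apply_symm_apply, hτ, hs'def, AddEquiv.apply_symm_apply]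
  -- the pieces of the map
  have hgex : ∀ (j : ℤ) (c' : GrLC.comp 𝒜' 𝒞' j), ∃ c : GrLC.comp 𝒜 𝒞 (j * q),
      ∀ y : I'.Hcomp (irr 𝒜') n (-j), B j c (Sg (-j) y) = τ (B' j c' y) := fun j c' =>
    exists_transpose σ hσ.2 (B j) (hBbij j).2 (B' j) (Sg (-j)) (hSg (-j)) τ hτ c'
  choose gj hgj using hgex
  have huniq : ∀ (j : ℤ) (c' : GrLC.comp 𝒜' 𝒞' j) (c : GrLC.comp 𝒜 𝒞 (j * q)),
      (∀ y : I'.Hcomp (irr 𝒜') n (-j), B j c (Sg (-j) y) = τ (B' j c' y)) → c = gj j c' := by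
    intro j c' c hc
    apply (hBbij j).1
    refine LinearMap.ext fun x => ?_
    obtain ⟨y, rfl⟩ := (Sg (-j)).surjective x
    rw [hc, hgj]
  have hgadd : ∀ (j : ℤ) (c1 c2 : GrLC.comp 𝒜' 𝒞' j), gj j (c1 + c2) = gj j c1 + gj j c2 := by
    intro j c1 c2
    symm
    apply huniq
    intro y
    rw [map_add, LinearMap.add_apply, hgj, hgj, map_add, LinearMap.add_apply, map_add]
  have hginj : ∀ (j : ℤ) (c' : GrLC.comp 𝒜' 𝒞' j), gj j c' = 0 → c' = 0 := by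
    intro j c' h
    apply (hB'bij j).1
    rw [map_zero]
    refine LinearMap.ext fun y => ?_
    have h1 := hgj j c' y
    rw [h, map_zero, LinearMap.zero_apply] at h1
    rw [LinearMap.zero_apply]
    exact (AddEquiv.map_eq_zero_iff τ).1 h1.symm
  have hgsurj : ∀ (j : ℤ) (c : GrLC.comp 𝒜 𝒞 (j * q)), ∃ c', gj j c' = c := by
    intro j c
    obtain ⟨c', hc'⟩ := exists_transpose s' hs'surj (B' j) (hB'bij j).2 (B j) (Sg (-j)).symm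
      (hSg' (-j)) τ.symm hτ' c
    refine ⟨c', (huniq j c' c fun y => ?_).symm⟩
    have h1 := hc' (Sg (-j) y)
    rw [AddEquiv.symm_apply_apply] at h1
    rw [h1, AddEquiv.apply_symm_apply]
  have hgsemi : ∀ (i j l : ℤ), i + j = l → ∀ (r : R'), r ∈ 𝒜' i →
      ∀ (c' : GrLC.comp 𝒜' 𝒞' j) (c2' : GrLC.comp 𝒜' 𝒞' l), (c2' : C') = r • (c' : C') →
      ((gj l c2' : GrLC.comp 𝒜 𝒞 (l * q)) : C) =
        φ r • ((gj j c' : GrLC.comp 𝒜 𝒞 (j * q)) : C) := by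
    intro i j l hl r hr c' c2' hc2
    have hmem : φ r • ((gj j c' : GrLC.comp 𝒜 𝒞 (j * q)) : C) ∈ GrLC.comp 𝒜 𝒞 (l * q) := by
      have h := gsmul_mem 𝒜 𝒞 (hφ' i r hr)
        (show ((gj j c' : GrLC.comp 𝒜 𝒞 (j * q)) : C) ∈ 𝒞 (j * q) from (gj j c').2)
      rwa [← add_mul, hl] at h
    have h1 : (⟨_, hmem⟩ : GrLC.comp 𝒜 𝒞 (l * q)) = gj l c2' := by
      apply huniq
      intro y
      have hy3mem : r • (y : I'.H (irr 𝒜') n) ∈ I'.Hcomp (irr 𝒜') n (-j) := by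
        have h := gsmul_mem 𝒜' (I'.Hgr (irr 𝒜') n) hr
          (show (y : I'.H (irr 𝒜') n) ∈ I'.Hgr (irr 𝒜') n (-l) from y.2)
        have e1 : i + -l = -j := by omega
        rwa [e1] at h
      have hS := hSgc i (-l) (-j) (by omega) r hr y ⟨_, hy3mem⟩ rfl
      have hB'eq : B' l c2' y = B' j c' ⟨_, hy3mem⟩ := by
        apply Subtype.ext
        rw [hB', hB', hc2]
        show (φC'.symm (y : I'.H (irr 𝒜') n)) (r • (c' : C')) =
          (φC'.symm (r • (y : I'.H (irr 𝒜') n))) (c' : C')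
        rw [map_smul, map_smul, LinearMap.smul_apply]
      rw [hB'eq, ← hgj]
      apply Subtype.ext
      rw [hB, hB, hS]
      show (φC.symm ((Sg (-l) y : I.Hcomp (irr 𝒜) n ((-l) * q)) : I.H (irr 𝒜) n))
          (φ r • ((gj j c' : GrLC.comp 𝒜 𝒞 (j * q)) : C)) =
        (φC.symm (φ r • ((Sg (-l) y : I.Hcomp (irr 𝒜) n ((-l) * q)) : I.H (irr 𝒜) n)))
          ((gj j c' : GrLC.comp 𝒜 𝒞 (j * q)) : C)
      rw [map_smul, map_smul, LinearMap.smul_apply]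
    rw [← h1]
  -- assembling the map
  obtain ⟨gh, hgh⟩ : ∃ gh : ∀ j : ℤ, ↥(𝒞' j) →+ C, ∀ (j : ℤ) (x : ↥(𝒞' j)),
      gh j x = ((gj j ⟨(x : C'), x.2⟩ : GrLC.comp 𝒜 𝒞 (j * q)) : C) :=
    ⟨fun j => AddMonoidHom.mk'
      (fun x => ((gj j ⟨(x : C'), x.2⟩ : GrLC.comp 𝒜 𝒞 (j * q)) : C)) (fun x y => by
        have h := hgadd j ⟨(x : C'), x.2⟩ ⟨(y : C'), y.2⟩
        exact congrArg Subtype.val h), fun _ _ => rfl⟩
  obtain ⟨G, hG⟩ : ∃ G : C' →+ C, ∀ (j : ℤ) (x : C') (hx : x ∈ 𝒞' j),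
      G x = ((gj j ⟨x, hx⟩ : GrLC.comp 𝒜 𝒞 (j * q)) : C) := by
    refine ⟨(DirectSum.toAddMonoid gh).comp (DirectSum.decomposeAddEquiv 𝒞').toAddMonoidHom,
      fun j x hx => ?_⟩
    show DirectSum.toAddMonoid gh (DirectSum.decompose 𝒞' x) = _
    rw [DirectSum.decompose_of_mem 𝒞' hx, DirectSum.toAddMonoid_of, hgh]
  have hGmem : ∀ (j : ℤ) (x : C'), x ∈ 𝒞' j → G x ∈ 𝒞 (j * q) := by
    intro j x hx
    rw [hG j x hx]
    exact (gj j ⟨x, hx⟩).2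
  have hGsemi : ∀ (r : R') (x : C'), G (r • x) = φ r • G x := by
    intro r x
    induction x using DirectSum.Decomposition.inductionOn 𝒞' with
    | zero => rw [smul_zero, map_zero, smul_zero]
    | @homogeneous j x =>
      induction r using DirectSum.Decomposition.inductionOn 𝒜' with
      | zero => rw [zero_smul, map_zero, map_zero, zero_smul]
      | @homogeneous i r =>
        have hrx : (r : R') • (x : C') ∈ 𝒞' (i + j) := gsmul_mem 𝒜' 𝒞' r.2 x.2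
        rw [hG (i + j) _ hrx, hG j _ x.2]
        exact hgsemi i j (i + j) rfl r r.2 ⟨x, x.2⟩ ⟨_, hrx⟩ rfl
      | add r r' hr hr' => rw [add_smul, map_add, hr, hr', map_add, add_smul]
    | add x y hx hy => rw [smul_add, map_add, hx, hy, map_add, smul_add]
  obtain ⟨g, hg⟩ : ∃ g : C' →ₛₗ[φ] C, ∀ x, g x = G x :=
    ⟨{ toFun := G, map_add' := G.map_add, map_smul' := hGsemi }, fun _ => rfl⟩
  have hproj : ∀ (x : C') (j : ℤ), ((decompose 𝒞 (G x) (j * q) : 𝒞 (j * q)) : C) =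
      G ((decompose 𝒞' x j : 𝒞' j) : C') := by
    intro x j
    induction x using DirectSum.Decomposition.inductionOn 𝒞' with
    | zero =>
      rw [map_zero, decompose_zero, decompose_zero, DirectSum.zero_apply, DirectSum.zero_apply,
        ZeroMemClass.coe_zero, ZeroMemClass.coe_zero, map_zero]
    | @homogeneous i x =>
      by_cases hij : i = j
      · subst hij
        rw [decompose_of_mem_same 𝒞 (hGmem i _ x.2), decompose_of_mem_same 𝒞' x.2]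
      · have hne : i * (q : ℤ) ≠ j * q := fun h => hij (mul_right_cancel₀ hqZ.ne' h)
        rw [decompose_of_mem_ne 𝒞 (hGmem i _ x.2) hne, decompose_of_mem_ne 𝒞' x.2 hij, map_zero]
    | add x y hx hy =>
      rw [map_add, decompose_add, decompose_add, DirectSum.add_apply, DirectSum.add_apply,
        AddMemClass.coe_add, AddMemClass.coe_add, hx, hy, map_add]
  refine ⟨g, ?_, ?_⟩
  · rw [injective_iff_map_eq_zero]
    intro x hx
    rw [hg] at hx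
    have hall : ∀ j, ((decompose 𝒞' x j : 𝒞' j) : C') = 0 := by
      intro j
      have h1 := hproj x j
      rw [hx, decompose_zero, DirectSum.zero_apply, ZeroMemClass.coe_zero,
        hG j _ (decompose 𝒞' x j).2] at h1
      have h2 := hginj j ⟨_, (decompose 𝒞' x j).2⟩ (Subtype.ext h1.symm)
      exact congrArg Subtype.val h2
    rw [← DirectSum.sum_support_decompose 𝒞' x]
    exact Finset.sum_eq_zero fun j _ => hall j
  · intro j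
    ext c
    constructor
    · rintro ⟨x, hx, rfl⟩
      show g x ∈ 𝒞 (j * q)
      rw [hg]
      exact hGmem j x hx
    · intro hc
      obtain ⟨c', hc'⟩ := hgsurj j ⟨c, hc⟩
      refine ⟨(c' : C'), c'.2, ?_⟩
      show g (c' : C') = c
      rw [hg, hG j _ c'.2]
      show ((gj j c' : GrLC.comp 𝒜 𝒞 (j * q)) : C) = c
      rw [hc']

end Main

end Groth.Agent.H98.VerCanon
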