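import Groth.Agent.H98.GrGorFacts
import Groth.Agent.H98.StdHilb
import Groth.Agent.H98.GrVerMain
import Groth.Agent.H98.GrStd
import Groth.Agent.H98.GrRes

/-!
# Helper library (helper98): if `R` (standard graded Gorenstein over a field, `dim R_1 ≥ 2`,
`dim R ≥ 1`) has a Gorenstein Veronese subring `R^(q)` then `q ∣ a(R)`.
-/

set_option autoImplicit false
universe u

open DirectSum

namespace Groth.Agent.H98.VerGor

open Groth.Agent.H98.GrCat Groth.Agent.H98.GrHt Groth.Agent.H98.GrCanon Groth.Agent.H98.GrSoc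
  Groth.Agent.H98.VerSetup Groth.Agent.H98.GrGorFacts

theorem eq_of_endDeg {X : Type u} [AddCommGroup X] (𝒢 : ℤ → AddSubgroup X) (a : ℤ)
    (ha : GrLC.endDeg 𝒢 = ((a : WithTop ℤ) : WithBot (WithTop ℤ))) :
    𝒢 a ≠ ⊥ ∧ ∀ j, a < j → 𝒢 j = ⊥ := by
  have h1 := (Groth.Agent.H98.GrConv.endDeg_le_iff 𝒢 a).1 (le_of_eq ha)
  refine ⟨fun hbot => ?_, h1⟩
  have h2 : GrLC.endDeg 𝒢 ≤ (((a - 1 : ℤ) : WithTop ℤ) : WithBot (WithTop ℤ)) := by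
    rw [Groth.Agent.H98.GrConv.endDeg_le_iff]
    intro j hj
    by_cases hja : j = a
    · rw [hja]
      exact hbot
    · exact h1 j (by omega)
  rw [ha, WithBot.coe_le_coe, WithTop.coe_le_coe] at h2
  omega

/-- the shift of the homogeneous isomorphism is the a-invariant -/
theorem shift_eq {R : Type u} [CommRing R] (𝒜 : ℤ → AddSubgroup R) [GradedRing 𝒜]
    (hpos : ∀ n : ℤ, n < 0 → 𝒜 n = ⊥)
    {E' : Type u} [AddCommGroup E'] [Module R E'] (𝓔 : ℤ → AddSubgroup E')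
    [DirectSum.Decomposition 𝓔] [SetLike.GradedSMul 𝒜 𝓔]
    (e : (R ⧸ (irr 𝒜).toIdeal) →ₗ[R] E')
    (he : GrLC.IsStarInjHull 𝒜 (GrLC.quotGr 𝒜 (irr 𝒜)) 𝓔 e)
    {C : Type u} [AddCommGroup C] [Module R C] (𝒞 : ℤ → AddSubgroup C)
    {g : C →ₗ[R] E'} (hgb : Function.Bijective g) {a₀ : ℤ} (hg : GrLC.IsGrHomDeg 𝒞 𝓔 g (-a₀))
    {y : C} (hy : y ∈ 𝒞 a₀) (hy0 : y ≠ 0) (a : ℤ)
    (ha : GrLC.endDeg 𝒞 = ((a : WithTop ℤ) : WithBot (WithTop ℤ))) : a₀ = a := by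
  obtain ⟨hHa, hHgt⟩ := eq_of_endDeg 𝒞 a ha
  apply le_antisymm
  · by_contra hlt
    push Not at hlt
    have h1 := hHgt a₀ hlt
    rw [h1] at hy
    exact hy0 (AddSubgroup.mem_bot.1 hy)
  · obtain ⟨x, hx, hx0⟩ : ∃ x ∈ 𝒞 a, x ≠ 0 := by
      by_contra hc
      push Not at hc
      exact hHa (eq_bot_iff.2 fun x hx => AddSubgroup.mem_bot.2 (hc x hx))
    have hgx : g x ∈ 𝓔 (a + -a₀) := hg a x hx
    have hgx0 : g x ≠ 0 := fun h => hx0 (hgb.1 (h.trans (map_zero g).symm))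
    obtain ⟨r, hr, hr0, -⟩ := exists_smul_mem_range 𝒜 hpos 𝓔 e he hgx hgx0
    by_contra hlt
    push Not at hlt
    rw [hpos _ (by omega)] at hr
    apply hr0
    rw [AddSubgroup.mem_bot.1 hr, zero_smul]

theorem dvd_of_gor {R : Type u} [CommRing R] [LocCoh.IsGorensteinRing R]
    (𝒜 : ℤ → AddSubgroup R) [GradedRing 𝒜]
    (hpos : ∀ n : ℤ, n < 0 → 𝒜 n = ⊥) (h0 : IsField (GrLC.deg0 𝒜))
    (hstd : (irr 𝒜).toIdeal = Ideal.span ((𝒜 1 : AddSubgroup R) : Set R))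
    (hR1 : 2 ≤ Module.finrank (GrLC.deg0 𝒜) (GrLC.comp 𝒜 𝒜 1))
    (n : ℕ) (hn : ringKrullDim R = n) (h1 : 1 ≤ n) (I : GrLC.StarInjRes 𝒜 𝒜) (a : ℤ)
    (ha : GrLC.endDeg (I.Hgr (irr 𝒜) n) = ((a : WithTop ℤ) : WithBot (WithTop ℤ)))
    (q : ℕ) (hq : 0 < q) {R' : Type u} [CommRing R'] [LocCoh.IsGorensteinRing R']
    (𝒜' : ℤ → AddSubgroup R') [GradedRing 𝒜'] (φ : R' →+* R) (hφ : Function.Injective φ)
    (hdeg : ∀ j : ℤ, (𝒜' j).map (φ : R' →+ R) = 𝒜 (j * q)) : (q : ℤ) ∣ a := by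
  classical
  haveI : IsNoetherianRing R := inferInstance
  haveI : IsNoetherianRing R' := inferInstance
  haveI := nontrivial_of_h0 𝒜 h0
  have hpos' := hpos_ver 𝒜 𝒜' φ q hq hφ hdeg hpos
  have h0' := h0_ver 𝒜 𝒜' φ q hφ hdeg h0
  haveI := nontrivial_of_h0 𝒜' h0'
  have hm' := isStarLocal_irr 𝒜' hpos' h0'
  obtain ⟨n', hn'⟩ : ∃ n' : ℕ, ringKrullDim R' = n' := by
    haveI hmax' : (irr 𝒜').toIdeal.IsMaximal := isMaximal_of_isCoatom 𝒜' hpos' (irr 𝒜') hm'.1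
    have hne : (irr 𝒜').toIdeal.height ≠ ⊤ := Ideal.height_ne_top hmax'.ne_top
    refine ⟨(irr 𝒜').toIdeal.height.toNat, ?_⟩
    rw [← height_eq_ringKrullDim 𝒜' hpos' (irr 𝒜') hm']
    exact congrArg (fun x : ℕ∞ => (x : WithBot ℕ∞)) (ENat.coe_toNat hne).symm
  obtain ⟨X, e, he⟩ := exists_hull 𝒜 (irr 𝒜)
  obtain ⟨X', e', he'⟩ := exists_hull 𝒜' (irr 𝒜')
  obtain ⟨I', -⟩ : ∃ I' : GrLC.StarInjRes 𝒜' 𝒜', True := ⟨starInjRes 𝒜' 𝒜', trivial⟩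
  obtain ⟨hvan, a₀, g, hgb, hg, y, hy, hy0⟩ := gor_facts 𝒜 hpos h0 X.gr e he n hn I
  obtain ⟨-, a'', g', hgb', hg', -, -, -⟩ := gor_facts 𝒜' hpos' h0' X'.gr e' he' n' hn' I'
  have haa : a₀ = a := shift_eq 𝒜 hpos X.gr e he (I.Hgr (irr 𝒜) n) hgb hg hy hy0 a ha
  subst haa
  -- the piece of degree `a''` of `H^{n'}_{m'}(R')` is a line
  letI := HDec I' (irr 𝒜') n'
  haveI := HGSMul I' (irr 𝒜') n'
  obtain ⟨P'⟩ := nonempty_pieceEquiv 𝒜' (I'.Hgr (irr 𝒜') n') X'.gr hgb' hg' a''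
  have hcomp' : ∀ j, GrLC.comp 𝒜' (I'.Hgr (irr 𝒜') n') j = I'.Hcomp (irr 𝒜') n' j :=
    fun j => Submodule.ext fun _ => Iff.rfl
  have hE0' : Module.finrank (GrLC.deg0 𝒜') (GrLC.comp 𝒜' X'.gr (a'' + -a'')) = 1 := by
    have hε : e' (Ideal.Quotient.mk (irr 𝒜').toIdeal 1) ∈ X'.gr (a'' + -a'') := by
      rw [add_neg_cancel]
      exact e_mem_zero 𝒜' hpos' X'.gr e' he' _
    refine @finrank_eq_one_of_span (GrLC.deg0 𝒜') h0'.toField _ _ _ ⟨_, hε⟩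
      (fun h => e_one_ne_zero 𝒜' hpos' X'.gr e' he' (congrArg Subtype.val h)) (fun w => ?_)
    obtain ⟨w0, hw0⟩ := w
    have hw : w0 ∈ X'.gr 0 := by
      have h2 : w0 ∈ X'.gr (a'' + -a'') := hw0
      rw [add_neg_cancel] at h2
      exact h2
    obtain ⟨k, hk, hkw⟩ := exists_smul_eq_of_mem_zero 𝒜' hpos' X'.gr e' he' h0' hw
    exact ⟨⟨k, hk⟩, Subtype.ext hkw⟩
  have hN1 : Module.finrank (GrLC.deg0 𝒜') (I'.Hcomp (irr 𝒜') n' a'') = 1 := by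
    rw [← hcomp', P'.finrank_eq, hE0']
  -- transfer to `R`
  have hφ' := Groth.Agent.H98.GrVer.hφ_of_hdeg 𝒜 𝒜' φ q hdeg
  have hle := Groth.Agent.H98.GrVer.map_le_irr 𝒜 𝒜' φ q hq hdeg (irr 𝒜').toIdeal
    (irr 𝒜).toIdeal (irr_toIdeal 𝒜) (irr_toIdeal 𝒜')
  have hrad := Groth.Agent.H98.GrVer.radical_map_eq 𝒜 𝒜' φ q hq hdeg (irr 𝒜').toIdeal
    (irr 𝒜).toIdeal (irr_toIdeal 𝒜) (irr_toIdeal 𝒜')
  have hsurj0 : ∀ x ∈ 𝒜 0, ∃ r ∈ 𝒜' 0, φ r = x := by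
    intro x hx
    have h2 : x ∈ 𝒜 ((0 : ℤ) * q) := by rwa [zero_mul]
    exact exists_preimage 𝒜 𝒜' φ q hdeg h2
  have hver := Groth.Agent.H98.GrVer.finrank_Hcomp_ver 𝒜 𝒜' φ q hφ' hq 𝒜 𝒜' (φ : R' →+ R)
    (fun r x => map_mul φ r x) hφ hdeg I I' (irr 𝒜) (irr 𝒜') hle hrad hφ hsurj0 n' a''
  have hN2 : Module.finrank (GrLC.deg0 𝒜) (I.Hcomp (irr 𝒜) n' (a'' * q)) = 1 := by
    rw [← hver, hN1]
  have hnn : n' = n := by
    by_contra hne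
    haveI := hvan n' hne
    have h3 : Module.finrank (GrLC.deg0 𝒜) (I.Hcomp (irr 𝒜) n' (a'' * q)) = 0 :=
      Module.finrank_zero_of_subsingleton
    omega
  subst hnn
  letI := HDec I (irr 𝒜) n'
  haveI := HGSMul I (irr 𝒜) n'
  obtain ⟨P⟩ := nonempty_pieceEquiv 𝒜 (I.Hgr (irr 𝒜) n') X.gr hgb hg (a'' * q)
  have hcomp : ∀ j, GrLC.comp 𝒜 (I.Hgr (irr 𝒜) n') j = I.Hcomp (irr 𝒜) n' j :=
    fun j => Submodule.ext fun _ => Iff.rfl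
  obtain ⟨c, hcdef⟩ : ∃ c : ℤ, c = a₀ - a'' * q := ⟨_, rfl⟩
  have hidx : a'' * q + -a₀ = -c := by rw [hcdef]; ring
  have hN3 : Module.finrank (GrLC.deg0 𝒜) (GrLC.comp 𝒜 X.gr (-c)) = 1 := by
    rw [← hidx, ← P.finrank_eq, hcomp, hN2]
  rcases lt_trichotomy c 0 with hc | hc | hc
  · exfalso
    obtain ⟨x, hx0⟩ := @exists_ne_zero_of_finrank_eq_one (GrLC.deg0 𝒜) h0.toField _ _ _ hN3
    have hx0' : (x : X.carrier) ≠ 0 := fun h => hx0 (Subtype.ext h)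
    obtain ⟨r, hr, hr0, -⟩ := exists_smul_mem_range 𝒜 hpos X.gr e he
      (show (x : X.carrier) ∈ X.gr (-c) from x.2) hx0'
    rw [neg_neg, hpos c hc] at hr
    apply hr0
    rw [AddSubgroup.mem_bot.1 hr, zero_smul]
  · exact ⟨a'', by rw [mul_comm]; linarith⟩
  · exfalso
    obtain ⟨hlen, hfinE, hfinA⟩ := length_hull_eq 𝒜 hpos h0 X.gr e he c
    have hN4 : Module.finrank (GrLC.deg0 𝒜) (GrLC.comp 𝒜 𝒜 c) = 1 := by
      rw [← hN3]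
      exact @finrank_eq_of_length_eq (GrLC.deg0 𝒜) h0.toField _ _ _ _ _ _ hfinA hfinE hlen.symm
    have hcn : ((c.toNat : ℕ) : ℤ) = c := Int.toNat_of_nonneg hc.le
    have hΓ : ∀ z : R, (∃ N : ℕ, ∀ r ∈ (irr 𝒜).toIdeal ^ N, r * z = 0) → z = 0 := by
      rintro z ⟨N, hN⟩
      haveI := hvan 0 (by omega)
      have hker : I.ε z ∈ LinearMap.ker (I.d 0) := by
        rw [I.exact_zero]
        exact LinearMap.mem_range_self _ z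
      have hzc : I.ε z ∈ I.cocyc (irr 𝒜) 0 := Submodule.mem_inf.2 ⟨⟨N, fun r hr => by
        rw [← map_smul, smul_eq_mul, hN r hr, map_zero]⟩, hker⟩
      have h2 : I.toH (irr 𝒜) 0 ⟨I.ε z, hzc⟩ = 0 := Subsingleton.elim _ _
      have h3 : (⟨I.ε z, hzc⟩ : I.cocyc (irr 𝒜) 0) ∈
          (I.cobdy (irr 𝒜) 0).comap (I.cocyc (irr 𝒜) 0).subtype :=
        (Submodule.Quotient.mk_eq_zero _).1 h2
      have h4 : I.ε z ∈ (⊥ : Submodule R (I.X 0).carrier) := h3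
      exact I.ε_injective (((Submodule.mem_bot R).1 h4).trans (map_zero _).symm)
    refine Groth.Agent.H98.StdHilb.std_contra 𝒜 (irr 𝒜).toIdeal hstd hΓ c.toNat (by omega) ?_ ?_
    · rw [hcn]
      intro v hv hv0 w hw
      obtain ⟨k, hk⟩ := @exists_smul_of_finrank_eq_one (GrLC.deg0 𝒜) h0.toField _ _ _ hN4
        (⟨v, hv⟩ : GrLC.comp 𝒜 𝒜 c) ⟨w, hw⟩ (fun h => hv0 (congrArg Subtype.val h))
      exact ⟨k, k.2, congrArg Subtype.val hk⟩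
    · intro x hx
      obtain ⟨w, hw⟩ := @exists_not_smul_of_two_le_finrank (GrLC.deg0 𝒜) h0.toField _ _ _ hR1
        (⟨x, hx⟩ : GrLC.comp 𝒜 𝒜 1)
      refine ⟨w, w.2, fun k hk h => hw ⟨k, hk⟩ (Subtype.ext h.symm)⟩

end Groth.Agent.H98.VerGor
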