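import Groth.Agent.H98.VerGor2b
import Groth.Agent.H98.VerGorDvd
import Groth.Agent.H98.GrVerRel
import Groth.Agent.H98.GrCMv
import Groth.Agent.H2.VerSeq
import Groth.Agent.H2.GrGor2

/-!
# Helper library (helper98): a Cohen–Macaulay standard graded ring of dimension `≥ 2` over a field
with a Gorenstein Veronese subring `R^(q)` is Gorenstein, and `q ∣ a(R)`.
-/

set_option autoImplicit false
universe u

open DirectSum
open scoped Pointwise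

namespace Groth.Agent.H98.VerGor2

open Groth.Agent.H98.GrCat Groth.Agent.H98.GrHt Groth.Agent.H98.GrCanon Groth.Agent.H98.GrSoc
  Groth.Agent.H98.VerSetup Groth.Agent.H98.GrGorFacts Groth.Agent.H98.VerGor

section Field

theorem surjective_of_finrank_eq (K : Type u) [Field K] {X Y : Type u} [AddCommGroup X]
    [Module K X] [AddCommGroup Y] [Module K Y] (hX : IsFiniteLength K X)
    (hY : IsFiniteLength K Y) (f : X →ₗ[K] Y) (hf : Function.Injective f)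
    (h : Module.finrank K X = Module.finrank K Y) : Function.Surjective f := by
  haveI : IsNoetherian K X := (isFiniteLength_iff_isNoetherian_isArtinian.1 hX).1
  haveI : IsNoetherian K Y := (isFiniteLength_iff_isNoetherian_isArtinian.1 hY).1
  exact (LinearMap.injective_iff_surjective_of_finrank_eq_finrank h).1 hf

end Field

section Reg

/-- regularity of `g` on `R/fR`, in elementary form -/
theorem mem_span_of_mul_mem {R : Type u} [CommRing R] (f g : R)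
    (hg : IsSMulRegular (QuotSMulTop f R) g) (r : R) (h : g * r ∈ Ideal.span {f}) :
    r ∈ Ideal.span {f} := by
  have hmem : ∀ z : R, z ∈ (f • ⊤ : Submodule R R) ↔ z ∈ Ideal.span {f} := by
    intro z
    rw [Submodule.mem_smul_pointwise_iff_exists, Ideal.mem_span_singleton']
    constructor
    · rintro ⟨y, -, hy⟩
      exact ⟨y, by rw [← hy, smul_eq_mul, mul_comm]⟩
    · rintro ⟨y, hy⟩
      exact ⟨y, Submodule.mem_top, by rw [← hy, smul_eq_mul, mul_comm]⟩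
  have h1 : g • (Submodule.Quotient.mk r : QuotSMulTop f R) = g • (0 : QuotSMulTop f R) := by
    rw [smul_zero, ← Submodule.Quotient.mk_smul, Submodule.Quotient.mk_eq_zero, smul_eq_mul, hmem]
    exact h
  have h2 := hg h1
  rw [Submodule.Quotient.mk_eq_zero, hmem] at h2
  exact h2

theorem mem_span_of_pow_mul_mem {R : Type u} [CommRing R] (f g : R)
    (hg : IsSMulRegular (QuotSMulTop f R) g) (r : R) (N : ℕ)
    (h : g ^ N * r ∈ Ideal.span {f}) : r ∈ Ideal.span {f} := by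
  induction N with
  | zero => rwa [pow_zero, one_mul] at h
  | succ N ih =>
    apply ih
    apply mem_span_of_mul_mem f g hg
    rw [← mul_assoc, ← pow_succ']
    exact h

end Reg

section Main

theorem gor_of_ver_gor {R : Type u} [CommRing R] [LocCoh.IsCohenMacaulayRing R]
    (𝒜 : ℤ → AddSubgroup R) [GradedRing 𝒜]
    (hpos : ∀ n : ℤ, n < 0 → 𝒜 n = ⊥) (h0 : IsField (GrLC.deg0 𝒜))
    (hstd : (irr 𝒜).toIdeal = Ideal.span ((𝒜 1 : AddSubgroup R) : Set R))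
    (n : ℕ) (hn : ringKrullDim R = n) (h2 : 2 ≤ n) (I : GrLC.StarInjRes 𝒜 𝒜)
    (q : ℕ) (hq : 0 < q) {R' : Type u} [CommRing R'] [LocCoh.IsGorensteinRing R']
    (𝒜' : ℤ → AddSubgroup R') [GradedRing 𝒜'] (φ : R' →+* R) (hφ : Function.Injective φ)
    (hdeg : ∀ j : ℤ, (𝒜' j).map (φ : R' →+ R) = 𝒜 (j * q)) :
    LocCoh.IsGorensteinRing R ∧ ∃ a : ℤ,
      GrLC.endDeg (I.Hgr (irr 𝒜) n) = ((a : WithTop ℤ) : WithBot (WithTop ℤ)) ∧ (q : ℤ) ∣ a := by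
  classical
  haveI : IsNoetherianRing R := inferInstance
  haveI : IsNoetherianRing R' := inferInstance
  haveI := nontrivial_of_h0 𝒜 h0
  have hpos' := hpos_ver 𝒜 𝒜' φ q hq hφ hdeg hpos
  have h0' := h0_ver 𝒜 𝒜' φ q hφ hdeg h0
  haveI := nontrivial_of_h0 𝒜' h0'
  have hm := isStarLocal_irr 𝒜 hpos h0
  have hm' := isStarLocal_irr 𝒜' hpos' h0'
  haveI hmax : (irr 𝒜).toIdeal.IsMaximal := isMaximal_of_isCoatom 𝒜 hpos (irr 𝒜) hm.1
  haveI hprime : (irr 𝒜).toIdeal.IsPrime := hmax.isPrime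
  have hqZ : (0 : ℤ) < (q : ℤ) := by exact_mod_cast hq
  obtain ⟨n', hn'⟩ : ∃ n' : ℕ, ringKrullDim R' = n' := by
    haveI hmax' : (irr 𝒜').toIdeal.IsMaximal := isMaximal_of_isCoatom 𝒜' hpos' (irr 𝒜') hm'.1
    have hne : (irr 𝒜').toIdeal.height ≠ ⊤ := Ideal.height_ne_top hmax'.ne_top
    refine ⟨(irr 𝒜').toIdeal.height.toNat, ?_⟩
    rw [← height_eq_ringKrullDim 𝒜' hpos' (irr 𝒜') hm']
    exact congrArg (fun x : ℕ∞ => (x : WithBot ℕ∞)) (ENat.coe_toNat hne).symm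
  obtain ⟨X, e, he⟩ := exists_hull 𝒜 (irr 𝒜)
  obtain ⟨X', e', he'⟩ := exists_hull 𝒜' (irr 𝒜')
  obtain ⟨I', -⟩ : ∃ I' : GrLC.StarInjRes 𝒜' 𝒜', True := ⟨starInjRes 𝒜' 𝒜', trivial⟩
  have hE : InjHull.IsInjectiveHull e := Groth.Agent.S18637.result R 𝒜 (irr 𝒜) X.carrier X.gr e he
  obtain ⟨-, a', g', hgb', hg', -, -, -⟩ := gor_facts 𝒜' hpos' h0' X'.gr e' he' n' hn' I'
  -- vanishing for `R`
  have hvanR : ∀ i : ℕ, i ≠ n → Subsingleton (LocCoh.H (irr 𝒜).toIdeal i R) := by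
    intro i hi
    rcases lt_or_gt_of_ne hi with hlt | hgt
    · have hht := height_eq_ringKrullDim 𝒜 hpos (irr 𝒜) hm
      rw [hn] at hht
      have hht' : (irr 𝒜).toIdeal.height = (n : ℕ∞) := by exact_mod_cast hht
      have hdep : ((n : ℕ) : ℕ∞) ≤ LocCoh.idealDepth (irr 𝒜).toIdeal R := by
        rw [← hht']
        exact height_le_idealDepth_of_cm (irr 𝒜).toIdeal
      have hIM : (irr 𝒜).toIdeal • (⊤ : Submodule R R) ≠ ⊤ := by
        rw [smul_eq_mul, Ideal.mul_top]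
        exact hmax.ne_top
      exact Groth.Agent.H58.LC.subsingleton_H_of_lt_idealDepth (irr 𝒜).toIdeal R n hdep hIM i hlt
    · apply Groth.Agent.H58.LC.subsingleton_H_of_supportDim_lt
      refine lt_of_le_of_lt (Module.supportDim_le_ringKrullDim (R := R) (M := R)) ?_
      rw [hn]
      exact_mod_cast hgt
  have hvanI : ∀ i : ℕ, i ≠ n → Subsingleton (I.H (irr 𝒜) i) := by
    intro i hi
    obtain ⟨ψ₁⟩ := Groth.Agent.S13224.result R 𝒜 (irr 𝒜) R 𝒜 I i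
    haveI := hvanR i hi
    exact ψ₁.injective.subsingleton
  -- the line `H'_{a'}`
  letI := HDec I' (irr 𝒜') n'
  haveI := HGSMul I' (irr 𝒜') n'
  have hcomp' : ∀ j, GrLC.comp 𝒜' (I'.Hgr (irr 𝒜') n') j = I'.Hcomp (irr 𝒜') n' j :=
    fun j => Submodule.ext fun _ => Iff.rfl
  have hE0' : Module.finrank (GrLC.deg0 𝒜') (GrLC.comp 𝒜' X'.gr (a' + -a')) = 1 := by
    have hε : e' (Ideal.Quotient.mk (irr 𝒜').toIdeal 1) ∈ X'.gr (a' + -a') := by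
      rw [add_neg_cancel]
      exact e_mem_zero 𝒜' hpos' X'.gr e' he' _
    refine @finrank_eq_one_of_span (GrLC.deg0 𝒜') h0'.toField _ _ _ ⟨_, hε⟩
      (fun h => e_one_ne_zero 𝒜' hpos' X'.gr e' he' (congrArg Subtype.val h)) (fun w => ?_)
    obtain ⟨w0, hw0⟩ := w
    have hw : w0 ∈ X'.gr 0 := by
      have h2 : w0 ∈ X'.gr (a' + -a') := hw0
      rw [add_neg_cancel] at h2
      exact h2
    obtain ⟨k, hk, hkw⟩ := exists_smul_eq_of_mem_zero 𝒜' hpos' X'.gr e' he' h0' hw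
    exact ⟨⟨k, hk⟩, Subtype.ext hkw⟩
  have hN1 : Module.finrank (GrLC.deg0 𝒜') (I'.Hcomp (irr 𝒜') n' a') = 1 := by
    obtain ⟨P'⟩ := nonempty_pieceEquiv 𝒜' (I'.Hgr (irr 𝒜') n') X'.gr hgb' hg' a'
    rw [← hcomp', P'.finrank_eq, hE0']
  have hφ' := Groth.Agent.H98.GrVer.hφ_of_hdeg 𝒜 𝒜' φ q hdeg
  have hle := Groth.Agent.H98.GrVer.map_le_irr 𝒜 𝒜' φ q hq hdeg (irr 𝒜').toIdeal
    (irr 𝒜).toIdeal (irr_toIdeal 𝒜) (irr_toIdeal 𝒜')
  have hrad := Groth.Agent.H98.GrVer.radical_map_eq 𝒜 𝒜' φ q hq hdeg (irr 𝒜').toIdeal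
    (irr 𝒜).toIdeal (irr_toIdeal 𝒜) (irr_toIdeal 𝒜')
  have hsurj0 : ∀ x ∈ 𝒜 0, ∃ r ∈ 𝒜' 0, φ r = x := by
    intro x hx
    have h3 : x ∈ 𝒜 ((0 : ℤ) * q) := by rwa [zero_mul]
    exact exists_preimage 𝒜 𝒜' φ q hdeg h3
  have hver := Groth.Agent.H98.GrVer.finrank_Hcomp_ver 𝒜 𝒜' φ q hφ' hq 𝒜 𝒜' (φ : R' →+ R)
    (fun r x => map_mul φ r x) hφ hdeg I I' (irr 𝒜) (irr 𝒜') hle hrad hφ hsurj0
  have hN2 : Module.finrank (GrLC.deg0 𝒜) (I.Hcomp (irr 𝒜) n' (a' * q)) = 1 := by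
    rw [← hver, hN1]
  have hnn : n' = n := by
    by_contra hne
    haveI := hvanI n' hne
    have h3 : Module.finrank (GrLC.deg0 𝒜) (I.Hcomp (irr 𝒜) n' (a' * q)) = 0 :=
      Module.finrank_zero_of_subsingleton
    omega
  subst hnn
  letI := HDec I (irr 𝒜) n'
  haveI := HGSMul I (irr 𝒜) n'
  have hcomp : ∀ j, GrLC.comp 𝒜 (I.Hgr (irr 𝒜) n') j = I.Hcomp (irr 𝒜) n' j :=
    fun j => Submodule.ext fun _ => Iff.rfl
  -- the socle generator and the map `ψ`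
  obtain ⟨y0, hy0ne⟩ := @exists_ne_zero_of_finrank_eq_one (GrLC.deg0 𝒜) h0.toField _ _ _ hN2
  obtain ⟨y, hy, hy0, hyspan⟩ : ∃ y : I.H (irr 𝒜) n', y ∈ I.Hgr (irr 𝒜) n' (a' * q) ∧ y ≠ 0 ∧
      ∀ z ∈ I.Hgr (irr 𝒜) n' (a' * q), ∃ c ∈ 𝒜 0, c • y = z := by
    refine ⟨(y0 : I.H (irr 𝒜) n'), y0.2, fun h => hy0ne (Subtype.ext h), fun z hz => ?_⟩
    obtain ⟨c, hc⟩ := @exists_smul_of_finrank_eq_one (GrLC.deg0 𝒜) h0.toField _ _ _ hN2
      y0 ⟨z, hz⟩ hy0ne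
    exact ⟨c, c.2, congrArg Subtype.val hc⟩
  obtain ⟨ψ, hψ, hψy⟩ := exists_hom_ne_zero 𝒜 hpos X.gr e he (I.Hgr (irr 𝒜) n') h0 hy hy0
  obtain ⟨Rel, hR4, hR2, hR3⟩ := Groth.Agent.H98.GrVer.exists_rel 𝒜 𝒜' φ q hφ' hq 𝒜 𝒜'
    (φ : R' →+ R) (fun r x => map_mul φ r x) hφ hdeg I I' (irr 𝒜) (irr 𝒜') hle hrad n'
  -- P1: `ψ` is injective in the degrees divisible by `q`
  have P1 : ∀ (j : ℤ) (x : I.H (irr 𝒜) n'), x ∈ I.Hgr (irr 𝒜) n' (j * q) → ψ x = 0 → x = 0 := by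
    intro j x hx hψx
    by_contra hx0
    obtain ⟨x', hx'm, hrel⟩ := hR4 j x hx
    have hx'0 : x' ≠ 0 := fun h => hx0 ((hR2 j x x' hrel).2 h)
    have hgx' : g' x' ∈ X'.gr (j + -a') := hg' j x' hx'm
    have hgx'0 : g' x' ≠ 0 := fun h => hx'0 (hgb'.1 (h.trans (map_zero g').symm))
    obtain ⟨r', hr', hr'0, -⟩ := exists_smul_mem_range 𝒜' hpos' X'.gr e' he' hgx' hgx'0
    have hrx' : r' • x' ≠ 0 := by
      intro h
      apply hr'0
      rw [← map_smul, h, map_zero]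
    have hrel2 := hR3 j x x' hrel _ r' hr'
    have hrx : φ r' • x ≠ 0 := fun h => hrx' ((hR2 _ _ _ hrel2).1 h)
    have hmem : φ r' • x ∈ I.Hgr (irr 𝒜) n' (a' * q) := by
      have h1 := gsmul_mem 𝒜 (I.Hgr (irr 𝒜) n') (map_mem 𝒜 𝒜' φ q hdeg hr') hx
      have e1 : -(j + -a') * (q : ℤ) + j * q = a' * q := by ring
      rwa [e1] at h1
    obtain ⟨c, hc, hcy⟩ := hyspan _ hmem
    have hc0 : c ≠ 0 := by
      intro h
      apply hrx
      rw [← hcy, h, zero_smul]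
    obtain ⟨t, -, ht⟩ := exists_inv 𝒜 h0 hc hc0
    apply hψy
    have h1 : y = t • φ r' • x := by rw [← hcy, ← mul_smul, ht, one_smul]
    rw [h1, map_smul, map_smul, hψx, smul_zero, smul_zero]
  -- P2: `ψ` is surjective in the degrees divisible by `q`
  have P2 : ∀ (j : ℤ) (w : X.carrier), w ∈ X.gr (j * q + -(a' * q)) →
      ∃ x ∈ I.Hgr (irr 𝒜) n' (j * q), ψ x = w := by
    intro j w hw
    obtain ⟨P'⟩ := nonempty_pieceEquiv 𝒜' (I'.Hgr (irr 𝒜') n') X'.gr hgb' hg' j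
    obtain ⟨hlen', hfinE', hfinA'⟩ := length_hull_eq 𝒜' hpos' h0' X'.gr e' he' (a' - j)
    obtain ⟨hlen, hfinE, hfinA⟩ := length_hull_eq 𝒜 hpos h0 X.gr e he ((a' - j) * q)
    have e1 : -(a' - j) = j + -a' := by ring
    have e2 : -((a' - j) * (q : ℤ)) = j * q + -(a' * q) := by ring
    rw [e1] at hlen' hfinE'
    rw [e2] at hlen hfinE
    have hfr1 : Module.finrank (GrLC.deg0 𝒜') (GrLC.comp 𝒜' X'.gr (j + -a')) =
        Module.finrank (GrLC.deg0 𝒜') (GrLC.comp 𝒜' 𝒜' (a' - j)) :=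
      @finrank_eq_of_length_eq (GrLC.deg0 𝒜') h0'.toField _ _ _ _ _ _ hfinE' hfinA' hlen'
    have hfr2 : Module.finrank (GrLC.deg0 𝒜) (GrLC.comp 𝒜 X.gr (j * q + -(a' * q))) =
        Module.finrank (GrLC.deg0 𝒜) (GrLC.comp 𝒜 𝒜 ((a' - j) * q)) :=
      @finrank_eq_of_length_eq (GrLC.deg0 𝒜) h0.toField _ _ _ _ _ _ hfinE hfinA hlen
    have hfr : Module.finrank (GrLC.deg0 𝒜) (GrLC.comp 𝒜 (I.Hgr (irr 𝒜) n') (j * q)) =
        Module.finrank (GrLC.deg0 𝒜) (GrLC.comp 𝒜 X.gr (j * q + -(a' * q))) := by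
      rw [hcomp, ← hver n' j, ← hcomp', P'.finrank_eq, hfr1,
        finrank_ver_piece 𝒜 𝒜' φ q hφ hdeg (a' - j), ← hfr2]
    haveI hArt : IsArtinianRing (GrLC.deg0 𝒜) := by
      let _ := h0.toField
      infer_instance
    have hfinH : IsFiniteLength (GrLC.deg0 𝒜) (GrLC.comp 𝒜 (I.Hgr (irr 𝒜) n') (j * q)) := by
      rw [hcomp]
      exact finLen_Hcomp 𝒜 hpos R 𝒜 I n' (j * q)
    obtain ⟨gj, hgj⟩ : ∃ gj : GrLC.comp 𝒜 (I.Hgr (irr 𝒜) n') (j * q) →ₗ[GrLC.deg0 𝒜]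
        GrLC.comp 𝒜 X.gr (j * q + -(a' * q)),
        ∀ x, ((gj x : GrLC.comp 𝒜 X.gr (j * q + -(a' * q))) : X.carrier) =
          ψ (x : I.H (irr 𝒜) n') :=
      ⟨((ψ.restrictScalars (GrLC.deg0 𝒜)).domRestrict
        (GrLC.comp 𝒜 (I.Hgr (irr 𝒜) n') (j * q))).codRestrict
        (GrLC.comp 𝒜 X.gr (j * q + -(a' * q))) (fun x => hψ (j * q) _ x.2), fun _ => rfl⟩
    have hgjinj : Function.Injective gj := by
      rw [injective_iff_map_eq_zero]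
      intro x hx
      apply Subtype.ext
      apply P1 j _ x.2
      rw [← hgj, hx]
      rfl
    obtain ⟨x, hx⟩ := @surjective_of_finrank_eq (GrLC.deg0 𝒜) h0.toField _ _ _ _ _ _ hfinH hfinE
      gj hgjinj hfr ⟨w, hw⟩
    refine ⟨x, x.2, ?_⟩
    rw [← hgj, hx]
  obtain ⟨a, hadef⟩ : ∃ a : ℤ, a = a' * q := ⟨_, rfl⟩
  rw [← hadef] at hy hyspan hψ P2
  have hqa : (q : ℤ) ∣ a := ⟨a', by rw [hadef, mul_comm]⟩
  -- no `R_+`-torsion in `R`
  have hΓ : ∀ z : R, (∃ N : ℕ, ∀ r ∈ (irr 𝒜).toIdeal ^ N, r * z = 0) → z = 0 := by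
    rintro z ⟨N, hN⟩
    haveI := hvanI 0 (by omega)
    have hker : I.ε z ∈ LinearMap.ker (I.d 0) := by
      rw [I.exact_zero]
      exact LinearMap.mem_range_self _ z
    have hzc : I.ε z ∈ I.cocyc (irr 𝒜) 0 := Submodule.mem_inf.2 ⟨⟨N, fun r hr => by
      rw [← map_smul, smul_eq_mul, hN r hr, map_zero]⟩, hker⟩
    have h2 : I.toH (irr 𝒜) 0 ⟨I.ε z, hzc⟩ = 0 := Subsingleton.elim _ _
    have h3 : (⟨I.ε z, hzc⟩ : I.cocyc (irr 𝒜) 0) ∈
        (I.cobdy (irr 𝒜) 0).comap (I.cocyc (irr 𝒜) 0).subtype :=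
      (Submodule.Quotient.mk_eq_zero _).1 h2
    have h4 : I.ε z ∈ (⊥ : Submodule R (I.X 0).carrier) := h3
    exact I.ε_injective (((Submodule.mem_bot R).1 h4).trans (map_zero _).symm)
  -- surjectivity of `ψ`
  have hsurjhom : ∀ (t : ℤ) (w : X.carrier), w ∈ X.gr (t + -a) →
      ∃ x ∈ I.Hgr (irr 𝒜) n' t, ψ x = w := by
    intro t w hw
    obtain ⟨x, hx, -, hxw⟩ := lemA 𝒜 hpos h0 hstd X.gr e he (I.Hgr (irr 𝒜) n') ψ a hψ q hq hqa ⊥
      (Ideal.IsHomogeneous.bot 𝒜)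
      (fun r hr => by
        obtain ⟨N, hN⟩ := hr
        rw [Ideal.mem_bot]
        exact hΓ r ⟨N, fun s hs => Ideal.mem_bot.1 (hN s hs)⟩)
      (fun j w hw _ => by
        obtain ⟨x, hx, hxw⟩ := P2 j w hw
        refine ⟨x, hx, fun s hs => ?_, hxw⟩
        rw [Ideal.mem_bot.1 hs, zero_smul])
      t w hw (fun s hs => by rw [Ideal.mem_bot.1 hs, zero_smul])
    exact ⟨x, hx, hxw⟩
  have hψsurj : Function.Surjective ψ := by
    intro w
    induction w using DirectSum.Decomposition.inductionOn X.gr with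
    | zero => exact ⟨0, map_zero ψ⟩
    | @homogeneous i w =>
      obtain ⟨x, -, hx⟩ := hsurjhom (i + a) w (by rw [add_neg_cancel_right]; exact w.2)
      exact ⟨x, hx⟩
    | add w w' hw hw' =>
      obtain ⟨x, hx⟩ := hw
      obtain ⟨x', hx'⟩ := hw'
      exact ⟨x + x', by rw [map_add, hx, hx']⟩
  -- a regular sequence of length two from the Veronese subring
  obtain ⟨l', hlen, hl'deg, hreg⟩ := Groth.Agent.H2.VerSeq.exists_ver_seq 𝒜 𝒜' φ q hpos (irr 𝒜) hm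
    (irr_toIdeal 𝒜) n' hn I hdeg 2 h2
  obtain ⟨f', g₀', rfl⟩ := List.length_eq_two.1 hlen
  rw [List.map_cons, List.map_cons, List.map_nil,
    RingTheory.Sequence.isWeaklyRegular_cons_iff,
    RingTheory.Sequence.isWeaklyRegular_cons_iff] at hreg
  obtain ⟨hfreg, hgreg, -⟩ := hreg
  obtain ⟨d', hd'pos, hf'deg⟩ := hl'deg f' (by simp)
  obtain ⟨e₀, he₀pos, hg'deg⟩ := hl'deg g₀' (by simp)
  have hfdeg : φ f' ∈ 𝒜 (d' * q) := map_mem 𝒜 𝒜' φ q hdeg hf'deg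
  have hgirr : φ g₀' ∈ (irr 𝒜).toIdeal :=
    Ideal.subset_span (Set.mem_iUnion₂.2 ⟨e₀ * q, Set.mem_Ioi.2 (mul_pos he₀pos hqZ),
      map_mem 𝒜 𝒜' φ q hdeg hg'deg⟩)
  have hJhom : (Ideal.span {φ f'}).IsHomogeneous 𝒜 :=
    Ideal.homogeneous_span 𝒜 _ (by
      rintro _ hx
      rw [Set.mem_singleton_iff.1 hx]
      exact ⟨_, hfdeg⟩)
  have hJt : ∀ r : R, (∃ N : ℕ, ∀ s ∈ (irr 𝒜).toIdeal ^ N, s * r ∈ Ideal.span {φ f'}) →
      r ∈ Ideal.span {φ f'} := by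
    rintro r ⟨N, hN⟩
    exact mem_span_of_pow_mul_mem (φ f') (φ g₀') hgreg r N (hN _ (Ideal.pow_mem_pow hgirr N))
  have hJkill : ∀ {Y : Type u} [AddCommGroup Y] [Module R Y] (x : Y), φ f' • x = 0 →
      ∀ s ∈ Ideal.span {φ f'}, s • x = 0 := by
    intro Y _ _ x hx s hs
    obtain ⟨c, rfl⟩ := Ideal.mem_span_singleton'.1 hs
    rw [mul_smul, hx, smul_zero]
  have hfJ : φ f' ∈ Ideal.span {φ f'} := Ideal.mem_span_singleton_self _
  -- surjectivity onto the `f`-torsion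
  have hsurjF : ∀ (t : ℤ) (w : X.carrier), w ∈ X.gr (t + -a) → φ f' • w = 0 →
      ∃ x ∈ I.Hgr (irr 𝒜) n' t, φ f' • x = 0 ∧ ψ x = w := by
    intro t w hw hfw
    obtain ⟨x, hx, hxJ, hxw⟩ := lemA 𝒜 hpos h0 hstd X.gr e he (I.Hgr (irr 𝒜) n') ψ a hψ q hq hqa
      (Ideal.span {φ f'}) hJhom hJt
      (fun j w hw hwJ => by
        obtain ⟨x, hx, hxw⟩ := P2 j w hw
        refine ⟨x, hx, hJkill x ?_, hxw⟩
        have hmem : φ f' • x ∈ I.Hgr (irr 𝒜) n' ((d' + j) * q) := by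
          have h1 := gsmul_mem 𝒜 (I.Hgr (irr 𝒜) n') hfdeg hx
          rwa [← add_mul] at h1
        apply P1 (d' + j) _ hmem
        rw [map_smul, hxw]
        exact hwJ _ hfJ)
      t w hw (hJkill w hfw)
    exact ⟨x, hx, hxJ _ hfJ, hxw⟩
  -- elements of the kernel of `ψ` are killed by `f`
  have hstepa : ∀ (t : ℤ) (x : I.H (irr 𝒜) n'), x ∈ I.Hgr (irr 𝒜) n' t → ψ x = 0 →
      φ f' • x = 0 := by
    intro t x hx hψx
    obtain ⟨i₀, hi₀⟩ : ∃ i₀ : ℤ, i₀ = (-t) % (q : ℤ) := ⟨_, rfl⟩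
    have hi₀nn : 0 ≤ i₀ := by rw [hi₀]; exact Int.emod_nonneg _ hqZ.ne'
    have hi₀lt : i₀ < q := by rw [hi₀]; exact Int.emod_lt_of_pos _ hqZ
    have hdiv : i₀ + t = (-((-t) / (q : ℤ))) * q := by
      have h1 := Int.emod_add_mul_ediv (-t) (q : ℤ)
      rw [← hi₀] at h1
      linear_combination h1
    have hkill : ∀ r ∈ 𝒜 i₀, r • x = 0 := by
      intro r hr
      have hmem : r • x ∈ I.Hgr (irr 𝒜) n' ((-((-t) / (q : ℤ))) * q) := by
        have h1 := gsmul_mem 𝒜 (I.Hgr (irr 𝒜) n') hr hx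
        rwa [hdiv] at h1
      apply P1 _ _ hmem
      rw [map_smul, hψx, smul_zero]
    have hall := smul_eq_zero_of_le 𝒜 hstd x i₀ hi₀nn hkill (d' * q - i₀).toNat
    have hd'q : (q : ℤ) ≤ d' * q := le_mul_of_one_le_left hqZ.le hd'pos
    have e1 : i₀ + ((d' * q - i₀).toNat : ℤ) = d' * q := by
      rw [Int.toNat_of_nonneg (by omega)]
      ring
    rw [e1] at hall
    exact hall _ hfdeg
  -- divisibility of `H` by `f`
  obtain ⟨ψ₀⟩ := Groth.Agent.S13224.result R 𝒜 (irr 𝒜) R 𝒜 I n'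
  have hdivH : ∀ x : I.H (irr 𝒜) n', ∃ u : I.H (irr 𝒜) n', φ f' • u = x := by
    intro x
    obtain ⟨u, hu⟩ := smul_surjective_top R (irr 𝒜).toIdeal n' hn (by omega) (φ f') hfreg (ψ₀ x)
    refine ⟨ψ₀.symm u, ?_⟩
    rw [← map_smul, hu, LinearEquiv.symm_apply_apply]
  -- injectivity on homogeneous elements
  have hinjhom : ∀ (t : ℤ) (x : I.H (irr 𝒜) n'), x ∈ I.Hgr (irr 𝒜) n' t → ψ x = 0 → x = 0 := by
    intro t x hx hψx
    obtain ⟨u₀, hu₀⟩ := hdivH x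
    obtain ⟨u, hu⟩ : ∃ u : I.H (irr 𝒜) n',
        u = ((decompose (I.Hgr (irr 𝒜) n') u₀ (t - d' * q) : I.Hgr (irr 𝒜) n' (t - d' * q)) :
          I.H (irr 𝒜) n') := ⟨_, rfl⟩
    have hum : u ∈ I.Hgr (irr 𝒜) n' (t - d' * q) := by
      rw [hu]
      exact SetLike.coe_mem _
    have hfu : φ f' • u = x := by
      rw [hu, ← comp_smul 𝒜 (I.Hgr (irr 𝒜) n') hfdeg t u₀, hu₀]
      exact decompose_of_mem_same _ hx
    have hwm : ψ u ∈ X.gr (t - d' * q + -a) := hψ _ _ hum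
    have hfw : φ f' • ψ u = 0 := by rw [← map_smul, hfu, hψx]
    obtain ⟨v, hvm, hfv, hψv⟩ := hsurjF (t - d' * q) (ψ u) hwm hfw
    have hz := hstepa (t - d' * q) (u - v) (sub_mem hum hvm) (by rw [map_sub, hψv, sub_self])
    rw [smul_sub, hfu, hfv, sub_zero] at hz
    exact hz
  have hψinj : Function.Injective ψ := by
    rw [injective_iff_map_eq_zero]
    intro x hx
    apply eq_zero_of_comp_zero (I.Hgr (irr 𝒜) n')
    intro d
    apply hinjhom d _ (SetLike.coe_mem _)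
    rw [← grHomDeg_comp (I.Hgr (irr 𝒜) n') X.gr hψ x d, hx, decompose_zero, DirectSum.zero_apply,
      ZeroMemClass.coe_zero]
  -- conclusion
  have hG : LocCoh.IsGorensteinLocalRing (Localization.AtPrime (irr 𝒜).toIdeal) :=
    Groth.Agent.H98.GorLG.gor_of_global R (irr 𝒜).toIdeal n' hvanR X.carrier e hE
      (ψ₀.symm.trans (LinearEquiv.ofBijective ψ ⟨hψinj, hψsurj⟩))
  refine ⟨Groth.Agent.H2.GrGor2.gorRing 𝒜 (irr 𝒜) hm hG, a, ?_, hqa⟩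
  apply le_antisymm
  · rw [Groth.Agent.H98.GrConv.endDeg_le_iff]
    intro j hj
    rw [eq_bot_iff]
    intro x hx
    rw [AddSubgroup.mem_bot]
    apply hinjhom j x hx
    by_contra hne
    obtain ⟨r, hr, hr0, -⟩ := exists_smul_mem_range 𝒜 hpos X.gr e he (hψ j x hx) hne
    rw [hpos _ (by omega)] at hr
    apply hr0
    rw [AddSubgroup.mem_bot.1 hr, zero_smul]
  · have hne : I.Hgr (irr 𝒜) n' a ≠ ⊥ := by
      intro h
      rw [h] at hy
      exact hy0 (AddSubgroup.mem_bot.1 hy)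
    exact le_iSup₂ (f := fun (k : ℤ) (_ : I.Hgr (irr 𝒜) n' k ≠ ⊥) =>
      ((k : WithTop ℤ) : WithBot (WithTop ℤ))) a hne

end Main

end Groth.Agent.H98.VerGor2
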