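import Groth.Agent.H98.GrGorFacts
import Groth.Agent.H98.StdHilb
import Groth.Agent.H58.LCFG

/-!
# Helper library (helper98): tools for "Veronese Gorenstein ⇒ Gorenstein":
double annihilators in a perfect pairing, divisibility of top local cohomology by a nonzerodivisor,
standard graded rings, and the surjectivity lemma `lemA`.
-/

set_option autoImplicit false
universe u

open DirectSum

namespace Groth.Agent.H98.VerGor2

open Groth.Agent.H98.GrCat Groth.Agent.H98.GrHt Groth.Agent.H98.GrCanon Groth.Agent.H98.GrSoc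
  Groth.Agent.H98.VerSetup Groth.Agent.H98.GrGorFacts

section LinAlg

/-- double annihilator in a perfect pairing with values in a line -/
theorem mem_of_double_ann (K : Type u) [Field K] {W U L : Type u} [AddCommGroup W] [Module K W]
    [AddCommGroup U] [Module K U] [AddCommGroup L] [Module K L]
    (B : W →ₗ[K] U →ₗ[K] L) (hB : Function.Injective B) (ε : L) (hε : ε ≠ 0)
    (hspan : ∀ l : L, ∃ c : K, c • ε = l)
    (hW : IsFiniteLength K W) (hU : IsFiniteLength K U)
    (hdim : Module.length K U ≤ Module.length K W)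
    (V : Submodule K U) (w : U) (hw : ∀ r : W, (∀ v ∈ V, B r v = 0) → B r w = 0) : w ∈ V := by
  haveI : IsNoetherian K W := (isFiniteLength_iff_isNoetherian_isArtinian.1 hW).1
  haveI : IsNoetherian K U := (isFiniteLength_iff_isNoetherian_isArtinian.1 hU).1
  have hL1 : Module.finrank K L = 1 := (finrank_eq_one_iff_of_nonzero' ε hε).2 hspan
  haveI : Module.Finite K L := Module.finite_of_finrank_pos (by rw [hL1]; exact one_pos)
  have hdim' : Module.finrank K U ≤ Module.finrank K W := by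
    rw [Module.length_eq_finrank, Module.length_eq_finrank] at hdim
    exact_mod_cast hdim
  have hfr : Module.finrank K W = Module.finrank K (U →ₗ[K] L) := by
    apply le_antisymm
    · exact LinearMap.finrank_le_finrank_of_injective hB
    · rw [Module.finrank_linearMap, hL1, mul_one]
      exact hdim'
  have hBsurj : Function.Surjective B :=
    (LinearMap.injective_iff_surjective_of_finrank_eq_finrank hfr).1 hB
  by_contra hwV
  obtain ⟨lam, hlamw, hlamV⟩ := Submodule.exists_dual_map_eq_bot_of_notMem hwV inferInstance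
  obtain ⟨r, hr⟩ := hBsurj (lam.smulRight ε)
  have h1 : B r w = 0 := hw r (fun v hv => by
    rw [hr, LinearMap.smulRight_apply]
    have h3 : lam v = 0 := by
      have h2 : lam v ∈ V.map lam := Submodule.mem_map_of_mem hv
      rw [hlamV] at h2
      exact h2
    rw [h3, zero_smul])
  rw [hr, LinearMap.smulRight_apply] at h1
  rcases smul_eq_zero.1 h1 with h | h
  · exact hlamw h
  · exact hε h

end LinAlg

section Div

/-- the top local cohomology of a ring is divisible by every nonzerodivisor -/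
theorem smul_surjective_top (R : Type u) [CommRing R] [IsNoetherianRing R] (I : Ideal R) (n : ℕ)
    (hn : ringKrullDim R = n) (hn1 : 1 ≤ n) (f : R) (hf : IsSMulRegular R f)
    (y : LocCoh.H I n R) : ∃ u : LocCoh.H I n R, f • u = y := by
  obtain ⟨i, rfl⟩ := Nat.exists_eq_succ_of_ne_zero (by omega : n ≠ 0)
  have hf0 : f ∈ nonZeroDivisors R := by
    rw [mem_nonZeroDivisors_iff_right]
    intro x hx
    apply hf
    show f • x = f • 0
    rw [smul_zero, smul_eq_mul, mul_comm]
    exact hx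
  have hinj : Function.Injective (LinearMap.lsmul R R f) := hf
  have hsurj : Function.Surjective (Submodule.mkQ (Ideal.span {f})) := Submodule.mkQ_surjective _
  have hex : Function.Exact (LinearMap.lsmul R R f) (Submodule.mkQ (Ideal.span {f})) := by
    intro x
    rw [Submodule.mkQ_apply, Submodule.Quotient.mk_eq_zero, Ideal.mem_span_singleton']
    constructor
    · rintro ⟨c, hc⟩
      exact ⟨c, by rw [← hc, mul_comm]; rfl⟩
    · rintro ⟨c, hc⟩
      exact ⟨c, by rw [← hc, mul_comm]; rfl⟩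
  obtain ⟨δ, -, -, -, h4⟩ := Groth.Agent.H58.LC.les_mod I _ _ hinj hsurj hex i
  haveI : Subsingleton (LocCoh.H I (i + 1) (R ⧸ Ideal.span {f})) := by
    apply Groth.Agent.H58.LC.subsingleton_H_of_supportDim_lt
    rw [Module.supportDim_quotient_eq_ringKrullDim]
    have h5 := ringKrullDim_quotient_succ_le_of_nonZeroDivisor hf0
    rw [hn] at h5
    exact lt_of_add_one_le h5
  have h6 : Groth.Agent.H58.LC.Hmap I (i + 1) (Submodule.mkQ (Ideal.span {f})) y = 0 :=
    Subsingleton.elim _ _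
  obtain ⟨u, hu⟩ := (h4 y).1 h6
  refine ⟨u, ?_⟩
  have h0 : LinearMap.lsmul R R f = f • (LinearMap.id : R →ₗ[R] R) := by
    ext x
    rfl
  rw [h0, Groth.Agent.H58.LC.Hmap_smul, Groth.Agent.H58.LC.Hmap_id] at hu
  exact hu

end Div

section Std

variable {R : Type u} [CommRing R] (𝒜 : ℤ → AddSubgroup R) [GradedRing 𝒜]
  (hstd : (irr 𝒜).toIdeal = Ideal.span ((𝒜 1 : AddSubgroup R) : Set R))
variable {X : Type u} [AddCommGroup X] [Module R X]

include hstd in
/-- in a standard graded ring, `R_j x = 0` implies `R_{j+1} x = 0` -/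
theorem smul_eq_zero_succ (x : X) (j : ℤ) (hj : 0 ≤ j) (h : ∀ r ∈ 𝒜 j, r • x = 0) :
    ∀ r ∈ 𝒜 (j + 1), r • x = 0 := by
  classical
  intro r hr
  have hr1 : r ∈ (irr 𝒜).toIdeal :=
    Ideal.subset_span (Set.mem_iUnion₂.2 ⟨j + 1, Set.mem_Ioi.2 (by omega), hr⟩)
  rw [hstd] at hr1
  obtain ⟨k, c, l, hsum⟩ := Submodule.mem_span_set'.1 hr1
  have h1 : r = ∑ i, (l i : R) * cp 𝒜 (c i) j := by
    have h2 : r = cp 𝒜 r (j + 1) := by
      rw [cp_of_mem 𝒜 hr (j + 1), if_pos rfl]
    rw [h2, ← hsum]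
    show (GradedRing.proj 𝒜 (j + 1)) (∑ i, c i • (l i : R)) = _
    rw [map_sum]
    refine Finset.sum_congr rfl fun i _ => ?_
    show cp 𝒜 (c i • (l i : R)) (j + 1) = _
    rw [smul_eq_mul, mul_comm, cp_mul_left 𝒜 (l i).2 (c i) (j + 1), add_sub_cancel_right]
  rw [h1, Finset.sum_smul]
  refine Finset.sum_eq_zero fun i _ => ?_
  rw [mul_smul, h _ (cp_mem 𝒜 (c i) j), smul_zero]

include hstd in
theorem smul_eq_zero_of_le (x : X) (j : ℤ) (hj : 0 ≤ j) (h : ∀ r ∈ 𝒜 j, r • x = 0) (k : ℕ) :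
    ∀ r ∈ 𝒜 (j + k), r • x = 0 := by
  induction k with
  | zero =>
    rw [Nat.cast_zero, add_zero]
    exact h
  | succ k ih =>
    have h1 := smul_eq_zero_succ 𝒜 hstd x (j + k) (by omega) ih
    have e1 : j + ((k + 1 : ℕ) : ℤ) = j + k + 1 := by push_cast; ring
    rw [e1]
    exact h1

end Std

section VerPiece

variable {R : Type u} [CommRing R] (𝒜 : ℤ → AddSubgroup R) [GradedRing 𝒜]
variable {R' : Type u} [CommRing R'] (𝒜' : ℤ → AddSubgroup R') [GradedRing 𝒜']
variable (φ : R' →+* R) (q : ℕ) (hφ : Function.Injective φ)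
  (hdeg : ∀ j : ℤ, (𝒜' j).map (φ : R' →+ R) = 𝒜 (j * q))

include hφ hdeg in
/-- the pieces of the Veronese subring have the same dimension as those of the ring -/
theorem finrank_ver_piece (i : ℤ) :
    Module.finrank (GrLC.deg0 𝒜') (GrLC.comp 𝒜' 𝒜' i) =
      Module.finrank (GrLC.deg0 𝒜) (GrLC.comp 𝒜 𝒜 (i * q)) := by
  have hσmem : ∀ r : GrLC.deg0 𝒜', φ (r : R') ∈ 𝒜 0 := by
    intro r
    have h := map_mem 𝒜 𝒜' φ q hdeg r.2
    rwa [zero_mul] at h
  obtain ⟨σ, hσdef⟩ : ∃ σ : GrLC.deg0 𝒜' → GrLC.deg0 𝒜, ∀ r, ((σ r : GrLC.deg0 𝒜) : R) =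
      φ (r : R') := ⟨fun r => ⟨φ (r : R'), hσmem r⟩, fun _ => rfl⟩
  have hσ : Function.Bijective σ := by
    constructor
    · intro r s h
      have h1 := congrArg Subtype.val h
      rw [hσdef, hσdef] at h1
      exact Subtype.ext (hφ h1)
    · rintro ⟨x, hx⟩
      have hx' : x ∈ 𝒜 ((0 : ℤ) * q) := by rwa [zero_mul]
      obtain ⟨r, hr, hrx⟩ := exists_preimage 𝒜 𝒜' φ q hdeg hx'
      refine ⟨⟨r, hr⟩, Subtype.ext ?_⟩
      rw [hσdef]
      exact hrx
  let j0 : ↥(GrLC.comp 𝒜' 𝒜' i) →+ ↥(GrLC.comp 𝒜 𝒜 (i * q)) :=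
    { toFun := fun x => ⟨φ (x : R'), map_mem 𝒜 𝒜' φ q hdeg (show (x : R') ∈ 𝒜' i from x.2)⟩
      map_zero' := Subtype.ext (map_zero φ)
      map_add' := fun x y => Subtype.ext (map_add φ _ _) }
  have hj0 : Function.Bijective j0 := by
    constructor
    · intro x y hxy
      have h1 : φ (x : R') = φ (y : R') := congrArg Subtype.val hxy
      exact Subtype.ext (hφ h1)
    · rintro ⟨z, hz⟩
      obtain ⟨r, hr, hrz⟩ := exists_preimage 𝒜 𝒜' φ q hdeg (show z ∈ 𝒜 (i * q) from hz)
      exact ⟨⟨r, hr⟩, Subtype.ext hrz⟩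
  have hc : ∀ (r : GrLC.deg0 𝒜') (y : ↥(GrLC.comp 𝒜' 𝒜' i)),
      (AddEquiv.ofBijective j0 hj0) (r • y) = σ r • (AddEquiv.ofBijective j0 hj0) y := by
    intro r y
    apply Subtype.ext
    show φ ((r : R') * (y : R')) = ((σ r : GrLC.deg0 𝒜) : R) * φ (y : R')
    rw [map_mul, hσdef]
  unfold Module.finrank
  rw [rank_eq_of_equiv_equiv σ (AddEquiv.ofBijective j0 hj0) hσ hc]

end VerPiece

end Groth.Agent.H98.VerGor2
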