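import Groth.Agent.H98.VerGor2a
import Groth.Agent.H98.GrQuotG

/-!
# Helper library (helper98): the surjectivity lemma for "Veronese Gorenstein ⇒ Gorenstein":
a homogeneous map into the *hull of a standard graded ring which is onto the `J`-torsion in the
degrees divisible by `q` is onto the `J`-torsion in all degrees, when `R/J` has no `R_+`-torsion.
-/

set_option autoImplicit false
universe u

open DirectSum

namespace Groth.Agent.H98.VerGor2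

open Groth.Agent.H98.GrCat Groth.Agent.H98.GrHt Groth.Agent.H98.GrCanon Groth.Agent.H98.GrSoc
  Groth.Agent.H98.VerSetup Groth.Agent.H98.GrGorFacts

section LemA

variable {R : Type u} [CommRing R] [IsNoetherianRing R] (𝒜 : ℤ → AddSubgroup R) [GradedRing 𝒜]
  (hpos : ∀ n : ℤ, n < 0 → 𝒜 n = ⊥) (h0 : IsField (GrLC.deg0 𝒜))
  (hstd : (irr 𝒜).toIdeal = Ideal.span ((𝒜 1 : AddSubgroup R) : Set R))
variable {E' : Type u} [AddCommGroup E'] [Module R E'] (𝓔 : ℤ → AddSubgroup E')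
  [DirectSum.Decomposition 𝓔] [SetLike.GradedSMul 𝒜 𝓔]
  (e : (R ⧸ (irr 𝒜).toIdeal) →ₗ[R] E')
  (he : GrLC.IsStarInjHull 𝒜 (GrLC.quotGr 𝒜 (irr 𝒜)) 𝓔 e)
variable {C : Type u} [AddCommGroup C] [Module R C] (𝒞 : ℤ → AddSubgroup C)
  [SetLike.GradedSMul 𝒜 𝒞]

include hstd in
omit [IsNoetherianRing R] in
/-- an element all of whose multiples by `R_i` lie in `J` is torsion modulo `J` -/
theorem mem_of_piece_mul_mem (J : Ideal R)
    (hJt : ∀ r : R, (∃ N : ℕ, ∀ s ∈ (irr 𝒜).toIdeal ^ N, s * r ∈ J) → r ∈ J)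
    (r : R) (i : ℕ) (h : ∀ s ∈ 𝒜 (i : ℤ), s * r ∈ J) : r ∈ J := by
  apply hJt
  refine ⟨i, fun s hs => ?_⟩
  rw [hstd] at hs
  have hs' := Groth.Agent.H98.StdHilb.span_one_pow_le 𝒜 i hs
  refine Submodule.span_induction (p := fun s _ => s * r ∈ J) ?_ ?_ ?_ ?_ hs'
  · intro s hs
    exact h s hs
  · rw [zero_mul]
    exact zero_mem _
  · intro s s' _ _ hs hs'
    rw [add_mul]
    exact add_mem hs hs'
  · intro c s _ hs
    rw [smul_eq_mul, mul_assoc]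
    exact J.mul_mem_left c hs

include hpos h0 hstd he in
/-- **the surjectivity lemma** -/
theorem lemA (ψ : C →ₗ[R] E') (a : ℤ) (hψ : GrLC.IsGrHomDeg 𝒞 𝓔 ψ (-a)) (q : ℕ) (hq : 0 < q)
    (hqa : (q : ℤ) ∣ a) (J : Ideal R) (hJ : J.IsHomogeneous 𝒜)
    (hJt : ∀ r : R, (∃ N : ℕ, ∀ s ∈ (irr 𝒜).toIdeal ^ N, s * r ∈ J) → r ∈ J)
    (hver : ∀ (j : ℤ) (w : E'), w ∈ 𝓔 (j * q + -a) → (∀ s ∈ J, s • w = 0) →
      ∃ x ∈ 𝒞 (j * q), (∀ s ∈ J, s • x = 0) ∧ ψ x = w)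
    (t : ℤ) (w : E') (hw : w ∈ 𝓔 (t + -a)) (hwJ : ∀ s ∈ J, s • w = 0) :
    ∃ x ∈ 𝒞 t, (∀ s ∈ J, s • x = 0) ∧ ψ x = w := by
  classical
  haveI := nontrivial_of_h0 𝒜 h0
  obtain ⟨δ, hδ⟩ : ∃ δ : ℤ, δ = a - t := ⟨_, rfl⟩
  have htδ : t + -a = -δ := by rw [hδ]; ring
  rw [htδ] at hw
  obtain ⟨hlen, hfinE, hfinA⟩ := length_hull_eq 𝒜 hpos h0 𝓔 e he δ
  obtain ⟨B, hB⟩ := exists_pairing 𝒜 𝓔 δ (-δ)
  have hBinj : Function.Injective B := by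
    rw [injective_iff_map_eq_zero]
    intro r hr
    by_contra hne
    have hr0 : (r : R) ≠ 0 := fun h => hne (Subtype.ext h)
    obtain ⟨g, hg, hgr⟩ := exists_hom_ne_zero 𝒜 hpos 𝓔 e he 𝒜 h0
      (show (r : R) ∈ 𝒜 δ from r.2) hr0
    have hg1 : g 1 ∈ 𝓔 (-δ) := by
      have h3 := hg 0 1 (SetLike.GradedOne.one_mem (A := 𝒜))
      rwa [zero_add] at h3
    apply hgr
    have h3 := hB r ⟨g 1, hg1⟩
    rw [hr, LinearMap.zero_apply, ZeroMemClass.coe_zero] at h3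
    have h4 : g (r : R) = (r : R) • g 1 := by
      rw [← map_smul, smul_eq_mul, mul_one]
    rw [h4]
    exact h3.symm
  have hε : e (Ideal.Quotient.mk (irr 𝒜).toIdeal 1) ∈ 𝓔 (δ + -δ) := by
    rw [add_neg_cancel]
    exact e_mem_zero 𝒜 hpos 𝓔 e he _
  have hεne : (⟨_, hε⟩ : GrLC.comp 𝒜 𝓔 (δ + -δ)) ≠ 0 :=
    fun h => e_one_ne_zero 𝒜 hpos 𝓔 e he (congrArg Subtype.val h)
  have hspan' : ∀ l : GrLC.comp 𝒜 𝓔 (δ + -δ),
      ∃ c : GrLC.deg0 𝒜, c • (⟨_, hε⟩ : GrLC.comp 𝒜 𝓔 (δ + -δ)) = l := by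
    rintro ⟨l, hl⟩
    have hl0 : l ∈ 𝓔 0 := by
      have h2 : l ∈ 𝓔 (δ + -δ) := hl
      rwa [add_neg_cancel] at h2
    obtain ⟨c, hc, hcl⟩ := exists_smul_eq_of_mem_zero 𝒜 hpos 𝓔 e he h0 hl0
    exact ⟨⟨c, hc⟩, Subtype.ext hcl⟩
  obtain ⟨V, hV⟩ : ∃ V : Submodule (GrLC.deg0 𝒜) (GrLC.comp 𝒜 𝓔 (-δ)),
      ∀ u, u ∈ V ↔ ∃ x ∈ 𝒞 t, (∀ s ∈ J, s • x = 0) ∧ ψ x = (u : E') :=
    ⟨{ carrier := {u | ∃ x ∈ 𝒞 t, (∀ s ∈ J, s • x = 0) ∧ ψ x = (u : E')}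
       zero_mem' := ⟨0, zero_mem _, fun s _ => smul_zero s, map_zero ψ⟩
       add_mem' := by
         rintro u u' ⟨x, hx, hxJ, hxu⟩ ⟨x', hx', hxJ', hxu'⟩
         exact ⟨x + x', add_mem hx hx',
           fun s hs => by rw [smul_add, hxJ s hs, hxJ' s hs, add_zero],
           by rw [map_add, hxu, hxu']; rfl⟩
       smul_mem' := by
         rintro c u ⟨x, hx, hxJ, hxu⟩
         refine ⟨(c : R) • x, ?_, fun s hs => by rw [smul_comm, hxJ s hs, smul_zero], ?_⟩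
         · have h1 := gsmul_mem 𝒜 𝒞 (show (c : R) ∈ 𝒜 0 from c.2) hx
           rwa [zero_add] at h1
         · rw [map_smul, hxu]
           rfl }, fun _ => Iff.rfl⟩
  have hwann : ∀ r : GrLC.comp 𝒜 𝒜 δ, (∀ v ∈ V, B r v = 0) → B r ⟨w, hw⟩ = 0 := by
    intro r hrV
    apply Subtype.ext
    rw [hB, ZeroMemClass.coe_zero]
    by_cases hrJ : (r : R) ∈ J
    · exact hwJ _ hrJ
    exfalso
    have hrδ : (r : R) ∈ 𝒜 δ := r.2
    obtain ⟨i, k, hik⟩ : ∃ (i : ℕ) (k : ℤ), δ + i = q * k := by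
      have h1 : δ ≤ (δ.natAbs : ℤ) := Int.le_natAbs
      have h2 : (δ.natAbs : ℤ) ≤ (q : ℤ) * δ.natAbs :=
        le_mul_of_one_le_left (Int.natCast_nonneg _) (by exact_mod_cast hq)
      refine ⟨((q : ℤ) * δ.natAbs - δ).toNat, δ.natAbs, ?_⟩
      rw [Int.toNat_of_nonneg (by omega)]
      ring
    obtain ⟨s, hs, hsr⟩ : ∃ s ∈ 𝒜 (i : ℤ), s * (r : R) ∉ J := by
      by_contra hall
      push Not at hall
      exact hrJ (mem_of_piece_mul_mem 𝒜 hstd J hJt _ i hall)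
    have hsrm : s * (r : R) ∈ 𝒜 ((i : ℤ) + δ) := SetLike.GradedMul.mul_mem (A := 𝒜) hs hrδ
    have hJ' : (J : Submodule R R).IsHomogeneous 𝒜 := hJ
    obtain ⟨π, hπ⟩ : ∃ π : R →ₗ[R] (quotG 𝒜 𝒜 (J : Submodule R R) hJ').carrier,
        ∀ x, π x = (J : Submodule R R).mkQ x := ⟨(J : Submodule R R).mkQ, fun _ => rfl⟩
    have hπ0 : ∀ x, π x = 0 ↔ x ∈ J := by
      intro x
      rw [hπ]
      exact Submodule.Quotient.mk_eq_zero (J : Submodule R R)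
    have hc : π (s * (r : R)) ∈ (quotG 𝒜 𝒜 (J : Submodule R R) hJ').gr ((i : ℤ) + δ) :=
      ⟨_, hsrm, (hπ _).symm⟩
    have hc0 : π (s * (r : R)) ≠ 0 := fun h => hsr ((hπ0 _).1 h)
    obtain ⟨g, hg, hgc⟩ := exists_hom_ne_zero 𝒜 hpos 𝓔 e he
      (quotG 𝒜 𝒜 (J : Submodule R R) hJ').gr h0 hc hc0
    have hone : π (1 : R) ∈ (quotG 𝒜 𝒜 (J : Submodule R R) hJ').gr 0 :=
      ⟨1, SetLike.GradedOne.one_mem (A := 𝒜), (hπ _).symm⟩
    obtain ⟨a', ha'⟩ := hqa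
    have hidx : (0 : ℤ) + -((i : ℤ) + δ) = (a' - k) * q + -a := by
      rw [ha']
      linear_combination (-1 : ℤ) * hik
    have hw2 : g (π (1 : R)) ∈ 𝓔 ((a' - k) * q + -a) := by
      have h1 := hg 0 _ hone
      rwa [hidx] at h1
    have hmk : ∀ s' : R, s' • π (1 : R) = π s' := by
      intro s'
      rw [← map_smul, smul_eq_mul, mul_one]
    have hw2J : ∀ s' ∈ J, s' • g (π (1 : R)) = 0 := by
      intro s' hs'
      rw [← map_smul, hmk, (hπ0 s').2 hs', map_zero]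
    obtain ⟨x2, hx2, hx2J, hx2w⟩ := hver (a' - k) _ hw2 hw2J
    have hx3 : s • x2 ∈ 𝒞 t := by
      have h1 := gsmul_mem 𝒜 𝒞 hs hx2
      have e1 : (i : ℤ) + (a' - k) * q = t := by
        have h2 : t = a - δ := by rw [hδ]; ring
        rw [h2, ha']
        linear_combination hik
      rwa [e1] at h1
    have hsw : s • g (π (1 : R)) ∈ 𝓔 (-δ) := by
      have h1 := gsmul_mem 𝒜 𝓔 hs hw2
      have e1 : (i : ℤ) + ((a' - k) * q + -a) = -δ := by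
        rw [ha']
        linear_combination hik
      rwa [e1] at h1
    have hvV : (⟨_, hsw⟩ : GrLC.comp 𝒜 𝓔 (-δ)) ∈ V := by
      rw [hV]
      refine ⟨s • x2, hx3, fun s' hs' => by rw [smul_comm, hx2J s' hs', smul_zero], ?_⟩
      rw [map_smul, hx2w]
    have h5 := congrArg Subtype.val (hrV _ hvV)
    rw [hB, ZeroMemClass.coe_zero] at h5
    apply hgc
    have h6 : g (π (s * (r : R))) = (s * (r : R)) • g (π (1 : R)) := by
      rw [← map_smul, hmk]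
    rw [h6, mul_comm, mul_smul]
    exact h5
  have key := @mem_of_double_ann (GrLC.deg0 𝒜) h0.toField _ _ _ _ _ _ _ _ _ B hBinj
    ⟨_, hε⟩ hεne hspan' hfinA hfinE (le_of_eq hlen) V ⟨w, hw⟩ hwann
  rw [hV] at key
  obtain ⟨x, hx, hxJ, hxw⟩ := key
  exact ⟨x, hx, hxJ, hxw⟩

end LemA

end Groth.Agent.H98.VerGor2
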